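import Mathlib
import Cfsg.Prelude.Def_OddOrderLocal
import Cfsg.Prelude.Def_OddOrderChar
import Cfsg.Prelude.Def_OddOrder
import Cfsg.Agent.Lib.Helper11.BG1537Defs
import Cfsg.Agent.Lib.Helper97.BG144
import Cfsg.Agent.Lib.Helper55.BGHall

/-!
# (P3) of helper11's lemma server "BG1537" (S1537): coprimality of `|C_{N_σ}(a)|` and `|C_M(b)|`
-/

set_option autoImplicit false
set_option linter.unusedVariables false
set_option linter.unusedSectionVars false

namespace Cfsg.Agent.Helper25.BG1537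

open Subgroup Cfsg
open Cfsg.Agent.Helper11.BG1537 (Rows)

variable {G : Type*} [Group G] [Finite G]

/-- If `κ(M) = τ₂(M) = ∅`, every element of `C_M(b')`, `b' ∈ M_σ#`, is a `σ(M)`-element. -/
theorem prime_mem_sigma_of_centralizes (rows : Rows G)
    {M : Subgroup G} (hM : IsCoatom M) (hκ : kappa M = ∅) (hτ : tau2 M = ∅)
    {b' : G} (hb' : b' ∈ sigmaCore M) (hb'1 : b' ≠ 1)
    {c : G} (hc : c ∈ M ⊓ centralizer ({b'} : Set G))
    {q : ℕ} (hq : q.Prime) (hqc : q ∣ orderOf c) : q ∈ sigma M := by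
  by_contra hqσ
  obtain ⟨k, hk⟩ := hqc
  set c' := c ^ k with hc'def
  have hord : orderOf c' = q := by
    have hpos : 0 < orderOf c := orderOf_pos c
    have hk0 : k ≠ 0 := by
      rintro rfl
      rw [mul_zero] at hk
      omega
    have := orderOf_pow_of_dvd (x := c) hk0 ⟨q, by rw [hk]; ring⟩
    rw [hc'def, this, hk]
    exact Nat.mul_div_cancel _ (Nat.pos_of_ne_zero hk0)
  have hc'mem : c' ∈ M ⊓ centralizer ({b'} : Set G) := pow_mem hc k
  have hc'1 : c' ≠ 1 := by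
    intro h
    rw [h, orderOf_one] at hord
    exact hq.one_lt.ne hord
  have hσ : ∀ p : ℕ, p.Prime → p ∣ orderOf c' → p ∉ sigma M := by
    intro p hp hpd
    rw [hord] at hpd
    have : p = q := (Nat.prime_dvd_prime_iff_eq hp hq).1 hpd
    rw [this]; exact hqσ
  have hqq : q ∣ orderOf c' := by rw [hord]
  rcases rows.r1432 M hM b' hb' hb'1 c' hc'mem hc'1 hσ with h | h
  · have := h.1 q hq hqq
    rw [hκ] at this
    exact this
  · have := h.1 q hq hqq
    rw [hτ] at this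
    exact this

/-! ## (P3) coprimality -/
theorem coprime_support (hG : IsMinSimpleOddOrder G) (rows : Rows G)
    {M K U : Subgroup G} (hM : IsCoatom M) (hKU : IsSigmaDecomposition M K U)
    {a : G} (ha : a ∈ sigmaCore M) (ha1 : a ≠ 1) (haM : ¬ centralizer ({a} : Set G) ≤ M)
    {N : Subgroup G} (hN : IsCoatom N) (haN : centralizer ({a} : Set G) ≤ N)
    {b : G} (hb : b ∈ sigmaA0 M K) (hb1 : b ≠ 1) :
    (Nat.card ↥(sigmaCore N ⊓ centralizer ({a} : Set G))).Coprime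
      (Nat.card ↥(M ⊓ centralizer ({b} : Set G))) := by
  apply Nat.coprime_of_dvd
  intro p hp hp1 hp2
  have h50M := (rows.r1350 M hM).1
  have h50N := (rows.r1350 N hN).1
  -- `p ∈ σ(N)` and `p ∣ |M|`
  have hpσN : p ∈ sigma N :=
    h50N.2.1 p hp (hp1.trans (Subgroup.card_dvd_of_le inf_le_left))
  have hpM : p ∣ Nat.card M := hp2.trans (Subgroup.card_dvd_of_le inf_le_left)
  obtain ⟨hκ, hτ⟩ := (rows.r1436 M hM a ha ha1 haM N hN haN).1 ⟨p, hpσN, hpM⟩
  -- `b ∈ M_σ`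
  obtain ⟨⟨hbM, y, hy, hy1, hby⟩, -⟩ := hb
  have hbσ : b ∈ sigmaCore M := by
    apply Cfsg.Agent.Helper97.BG144.mem_sigmaCore_of_pi h50M hbM
    intro q hq hqb
    have hbc : b ∈ M ⊓ centralizer ({y} : Set G) := by
      refine Subgroup.mem_inf.2 ⟨hbM, ?_⟩
      rw [Subgroup.mem_centralizer_iff]
      intro z hz
      rw [Set.mem_singleton_iff] at hz
      rw [hz]; exact hby.symm
    exact prime_mem_sigma_of_centralizes rows hM hκ hτ hy hy1 hbc hq hqb
  -- `p ∈ σ(M)`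
  have hpσM : p ∈ sigma M := by
    have : Fact p.Prime := ⟨hp⟩
    obtain ⟨c, hc⟩ := exists_prime_orderOf_dvd_card' (G := ↥(M ⊓ centralizer ({b} : Set G))) p hp2
    have hcmem : (c : G) ∈ M ⊓ centralizer ({b} : Set G) := c.2
    have hord : orderOf (c : G) = p := by rw [Subgroup.orderOf_coe, hc]
    exact prime_mem_sigma_of_centralizes rows hM hκ hτ hbσ hb1 hcmem hp (by rw [hord])
  -- `N` is conjugate to `M`, so `σ(N) = σ(M)`
  obtain ⟨g, hg⟩ := rows.r1378.2 M N hM hN ⟨p, hpσM, hpσN⟩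
  have hσeq : sigma N = sigma M := by
    rw [hg]; exact Cfsg.Agent.Helper97.BG144.sigma_map_conj M g
  -- `a ∈ N_σ`
  have haNmem : a ∈ N := haN (by
    rw [Subgroup.mem_centralizer_iff]
    intro z hz
    rw [Set.mem_singleton_iff] at hz
    rw [hz])
  have haσN : a ∈ sigmaCore N := by
    apply Cfsg.Agent.Helper97.BG144.mem_sigmaCore_of_pi h50N haNmem
    intro q hq hqa
    rw [hσeq]
    apply h50M.2.1 q hq
    have h1 : orderOf a ∣ Nat.card (sigmaCore M) := by
      have := orderOf_dvd_natCard (⟨a, ha⟩ : sigmaCore M)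
      rwa [← Subgroup.orderOf_coe] at this
    exact hqa.trans h1
  -- but `a ∉ N_σ` by r1375
  obtain ⟨N', ⟨hN', haN'⟩, huniq, -, -, -, -, hdec⟩ := rows.r1375 M hM a ha ha1 haM
  have hNN' : N = N' := huniq N hN haN
  obtain ⟨⟨K', hK'⟩, hcyc⟩ := rows.r1351 N hN
  obtain ⟨⟨U', hKU'⟩, -⟩ := rows.r1352 N hN K' (hcyc K' hK') hK'
  have := (hdec K' U' (hNN' ▸ hKU')).2.2
  exact this (hNN' ▸ haσN)

end Cfsg.Agent.Helper25.BG1537
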