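import Mathlib
import Cfsg.Prelude.Def_OddOrderLocal
import Cfsg.Agent.Lib.Helper79.BG10.Conj

/-!
# Naturality under conjugation of the Bender-Glauberman vocabulary (helper25)

`cj g X = g X g⁻¹`.  We show `sigma (cj g M) = sigma M`, `sigmaCore (cj g M) = cj g (sigmaCore M)`,
`fittingHallOf (cj g M) = cj g (fittingHallOf M)` and
`supportR (cj g M) (g x g⁻¹) = cj g (supportR M x)`, plus characterisations of `supportR`.
-/

set_option autoImplicit false
set_option linter.unusedSectionVars false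
set_option linter.style.haveILetI false

namespace Cfsg.Agent.Helper25.BGNat

open Subgroup
open Cfsg.Agent.Helper79.BG10

universe u

section equiv

variable {H K : Type u} [Group H] [Group K]

theorem map_piCore_le (π : Set ℕ) (φ : H ≃* K) :
    (Cfsg.piCore π H).map φ.toMonoidHom ≤ Cfsg.piCore π K := by
  rw [Subgroup.map_le_iff_le_comap]
  unfold Cfsg.piCore
  apply sSup_le
  intro N hN
  rw [← Subgroup.map_le_iff_le_comap]
  apply le_sSup
  refine ⟨hN.1.map _ φ.surjective, ?_⟩
  intro p hp hdvd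
  apply hN.2 p hp
  rwa [Subgroup.card_map_of_injective φ.injective] at hdvd

theorem map_piCore (π : Set ℕ) (φ : H ≃* K) :
    (Cfsg.piCore π H).map φ.toMonoidHom = Cfsg.piCore π K := by
  apply le_antisymm (map_piCore_le π φ)
  have h := map_piCore_le π φ.symm
  intro x hx
  have h2 : φ.symm x ∈ Cfsg.piCore π H := h ⟨x, hx, rfl⟩
  exact ⟨φ.symm x, h2, by simp⟩

theorem map_fittingHall_le (φ : H ≃* K) :
    (Cfsg.fittingHall H).map φ.toMonoidHom ≤ Cfsg.fittingHall K := by
  rw [Subgroup.map_le_iff_le_comap]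
  unfold Cfsg.fittingHall
  apply sSup_le
  intro N hN
  rw [← Subgroup.map_le_iff_le_comap]
  apply le_sSup
  refine ⟨hN.1.map _ φ.surjective, ?_, ?_⟩
  · haveI := hN.2.1
    exact Group.nilpotent_of_mulEquiv (N.equivMapOfInjective φ.toMonoidHom φ.injective)
  · rw [Subgroup.card_map_of_injective φ.injective]
    have : (N.map φ.toMonoidHom).index = N.index := Subgroup.index_map_equiv N φ
    rw [this]
    exact hN.2.2

theorem map_fittingHall (φ : H ≃* K) :
    (Cfsg.fittingHall H).map φ.toMonoidHom = Cfsg.fittingHall K := by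
  apply le_antisymm (map_fittingHall_le φ)
  have h := map_fittingHall_le φ.symm
  intro x hx
  have h2 : φ.symm x ∈ Cfsg.fittingHall H := h ⟨x, hx, rfl⟩
  exact ⟨φ.symm x, h2, by simp⟩

end equiv

variable {G : Type u} [Group G]

/-- the conjugation isomorphism `M ≃* g M g⁻¹` -/
noncomputable def cjEquiv (g : G) (M : Subgroup G) : M ≃* cj g M :=
  M.equivMapOfInjective (MulAut.conj g).toMonoidHom
    (show Function.Injective (MulAut.conj g).toMonoidHom from (MulAut.conj g).injective)

theorem cjEquiv_coe (g : G) (M : Subgroup G) (x : M) :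
    ((cjEquiv g M x : cj g M) : G) = g * x * g⁻¹ := by
  unfold cjEquiv
  rw [Subgroup.coe_equivMapOfInjective_apply]
  rfl

/-- transport of a subgroup of `M` along conjugation, seen in `G` -/
theorem map_cjEquiv_map_subtype (g : G) (M : Subgroup G) (N : Subgroup M) :
    ((N.map (cjEquiv g M).toMonoidHom).map (cj g M).subtype) = cj g (N.map M.subtype) := by
  ext x
  constructor
  · rintro ⟨y, ⟨z, hz, rfl⟩, rfl⟩
    refine ⟨(z : G), ⟨z, hz, rfl⟩, ?_⟩
    exact (cjEquiv_coe g M z).symm
  · rintro ⟨y, ⟨z, hz, rfl⟩, rfl⟩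
    refine ⟨cjEquiv g M z, ⟨z, hz, rfl⟩, ?_⟩
    exact cjEquiv_coe g M z

theorem sigma_cj_subset [Finite G] (g : G) (M : Subgroup G) : Cfsg.sigma M ⊆ Cfsg.sigma (cj g M) := by
  rintro p ⟨hp, hdvd, P, hP⟩
  haveI : Fact p.Prime := ⟨hp⟩
  refine ⟨hp, by rwa [card_cj], P.mapSurjective (f := (cjEquiv g M).toMonoidHom)
    (show Function.Surjective (cjEquiv g M).toMonoidHom from (cjEquiv g M).surjective), ?_⟩
  rw [Sylow.coe_mapSurjective]
  have h1 : ((P : Subgroup M).map (cjEquiv g M).toMonoidHom).map (cj g M).subtype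
      = cj g ((P : Subgroup M).map M.subtype) := map_cjEquiv_map_subtype g M _
  rw [h1, normalizer_cj]
  exact cj_mono g hP

theorem sigma_cj [Finite G] (g : G) (M : Subgroup G) : Cfsg.sigma (cj g M) = Cfsg.sigma M := by
  apply Set.Subset.antisymm
  · have := sigma_cj_subset g⁻¹ (cj g M)
    rwa [cj_inv_cj] at this
  · exact sigma_cj_subset g M

theorem sigmaCore_cj [Finite G] (g : G) (M : Subgroup G) :
    Cfsg.sigmaCore (cj g M) = cj g (Cfsg.sigmaCore M) := by
  unfold Cfsg.sigmaCore
  rw [sigma_cj, ← map_piCore (Cfsg.sigma M) (cjEquiv g M)]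
  exact map_cjEquiv_map_subtype g M _

theorem fittingHallOf_cj (g : G) (M : Subgroup G) :
    Cfsg.fittingHallOf (cj g M) = cj g (Cfsg.fittingHallOf M) := by
  unfold Cfsg.fittingHallOf
  rw [← map_fittingHall (cjEquiv g M)]
  exact map_cjEquiv_map_subtype g M _

theorem isCoatom_cj {g : G} {L : Subgroup G} (hL : IsCoatom L) : IsCoatom (cj g L) := by
  have e : Subgroup G ≃o Subgroup G := (MulAut.conj g).mapSubgroup
  have : cj g L = (MulAut.conj g).mapSubgroup L := rfl
  rw [this]
  exact ((MulAut.conj g).mapSubgroup.isCoatom_iff L).mpr hL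

theorem centralizer_singleton_cj (g x : G) :
    centralizer ({g * x * g⁻¹} : Set G) = cj g (centralizer ({x} : Set G)) := by
  ext c
  rw [mem_cj, mem_centralizer_iff, mem_centralizer_iff]
  constructor
  · intro h y hy
    rw [Set.mem_singleton_iff] at hy
    subst hy
    have h1 := h (g * y * g⁻¹) rfl
    have e1 : y * (g⁻¹ * c * g) = g⁻¹ * ((g * y * g⁻¹) * c) * g := by group
    have e2 : g⁻¹ * c * g * y = g⁻¹ * (c * (g * y * g⁻¹)) * g := by group
    rw [e1, e2, h1]
  · intro h y hy
    rw [Set.mem_singleton_iff] at hy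
    subst hy
    have h1 := h x rfl
    have e1 : g * x * g⁻¹ * c = g * (x * (g⁻¹ * c * g)) * g⁻¹ := by group
    have e2 : c * (g * x * g⁻¹) = g * ((g⁻¹ * c * g) * x) * g⁻¹ := by group
    rw [e1, e2, h1]

/-! ### characterisations of `supportR` -/

theorem supportR_eq_bot_of_le {M : Subgroup G} {x : G}
    (h : centralizer ({x} : Set G) ≤ M) : Cfsg.supportR M x = ⊥ := by
  unfold Cfsg.supportR
  rw [dif_neg]
  intro h'
  exact h'.1 h

theorem supportR_eq_of_unique {M N : Subgroup G} {x : G}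
    (h : ¬ centralizer ({x} : Set G) ≤ M) (hN : IsCoatom N) (hxN : centralizer ({x} : Set G) ≤ N)
    (huniq : ∀ L : Subgroup G, IsCoatom L → centralizer ({x} : Set G) ≤ L → L = N) :
    Cfsg.supportR M x = Cfsg.fittingHallOf N ⊓ centralizer ({x} : Set G) := by
  unfold Cfsg.supportR
  have hex : ∃! L : Subgroup G, IsCoatom L ∧ centralizer ({x} : Set G) ≤ L :=
    ⟨N, ⟨hN, hxN⟩, fun L hL => huniq L hL.1 hL.2⟩
  rw [dif_pos ⟨h, hex⟩]
  have hc := Classical.choose_spec hex.exists
  rw [huniq _ hc.1 hc.2]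

theorem supportR_eq_bot_of_not_unique {M : Subgroup G} {x : G}
    (h : ¬ ∃! L : Subgroup G, IsCoatom L ∧ centralizer ({x} : Set G) ≤ L) :
    Cfsg.supportR M x = ⊥ := by
  unfold Cfsg.supportR
  rw [dif_neg]
  intro h'
  exact h h'.2

theorem supportR_le_centralizer (M : Subgroup G) (x : G) :
    Cfsg.supportR M x ≤ centralizer ({x} : Set G) := by
  unfold Cfsg.supportR
  split_ifs with h
  · exact inf_le_right
  · exact bot_le

/-- naturality of `supportR` under conjugation -/
theorem supportR_cj (g : G) (M : Subgroup G) (x : G) :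
    Cfsg.supportR (cj g M) (g * x * g⁻¹) = cj g (Cfsg.supportR M x) := by
  have hcent := centralizer_singleton_cj g x
  by_cases h1 : centralizer ({x} : Set G) ≤ M
  · rw [supportR_eq_bot_of_le h1, supportR_eq_bot_of_le]
    · simp
    · rw [hcent]; exact cj_mono g h1
  · have h1' : ¬ centralizer ({g * x * g⁻¹} : Set G) ≤ cj g M := by
      rw [hcent]
      intro hle
      apply h1
      have := cj_mono g⁻¹ hle
      rwa [cj_inv_cj, cj_inv_cj] at this
    by_cases h2 : ∃! L : Subgroup G, IsCoatom L ∧ centralizer ({x} : Set G) ≤ L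
    · obtain ⟨N, ⟨hN, hxN⟩, huniq⟩ := h2
      have huniq' : ∀ L : Subgroup G, IsCoatom L → centralizer ({x} : Set G) ≤ L → L = N :=
        fun L hL hxL => huniq L ⟨hL, hxL⟩
      rw [supportR_eq_of_unique h1 hN hxN huniq']
      rw [supportR_eq_of_unique h1' (isCoatom_cj hN) (by rw [hcent]; exact cj_mono g hxN)]
      · rw [fittingHallOf_cj, hcent]
        exact (Subgroup.map_inf _ _ _ (MulAut.conj g).injective).symm
      · intro L hL hxL
        have hL' : IsCoatom (cj g⁻¹ L) := isCoatom_cj hL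
        have hx' : centralizer ({x} : Set G) ≤ cj g⁻¹ L := by
          rw [hcent] at hxL
          have := cj_mono g⁻¹ hxL
          rwa [cj_inv_cj] at this
        have := huniq' _ hL' hx'
        rw [← this, cj_cj_inv]
    · rw [supportR_eq_bot_of_not_unique h2, supportR_eq_bot_of_not_unique]
      · simp
      · rintro ⟨N, ⟨hN, hxN⟩, huniq⟩
        apply h2
        refine ⟨cj g⁻¹ N, ⟨isCoatom_cj hN, ?_⟩, ?_⟩
        · rw [hcent] at hxN
          have := cj_mono g⁻¹ hxN
          rwa [cj_inv_cj] at this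
        · rintro L ⟨hL, hxL⟩
          have := huniq (cj g L) ⟨isCoatom_cj hL, by rw [hcent]; exact cj_mono g hxL⟩
          rw [← this, cj_inv_cj]

theorem conj_mem_supportR_cj {g : G} {M : Subgroup G} {x r : G} (hr : r ∈ Cfsg.supportR M x) :
    g * r * g⁻¹ ∈ Cfsg.supportR (cj g M) (g * x * g⁻¹) := by
  rw [supportR_cj]
  exact conj_mem_cj hr

theorem conj_mem_sigmaCore_cj [Finite G] {g : G} {M : Subgroup G} {x : G} (hx : x ∈ Cfsg.sigmaCore M) :
    g * x * g⁻¹ ∈ Cfsg.sigmaCore (cj g M) := by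
  rw [sigmaCore_cj]
  exact conj_mem_cj hx

end Cfsg.Agent.Helper25.BGNat
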