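import Mathlib
import Cfsg.Prelude.Def_OddOrderLocal
import Cfsg.Agent.Lib.Helper79.BG10.Conj
import Cfsg.Agent.Lib.Helper55.BGFit
import Cfsg.Agent.Lib.Helper45.FittingHall
import Cfsg.Agent.Lib.Helper23.FittingHall
import Cfsg.Agent.Lib.Helper25.BGNat
import Cfsg.Agent.Lib.Helper15.BGV.Basic

/-!
# General lemmas on `fittingHallOf` used for the Type II assembly (S1381, `⇐` direction)

* `le_fittingHallOf_of_hall` : a nilpotent Hall subgroup `N` of `M` normalized by `M` lies in `M_F`.
* `le_normalizer_fittingHallOf_of_le_normalizer` : `M ≤ N_G(D)` gives `M ≤ N_G(D_F)`.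
* `fittingHall_eq_subgroupOf` : `fittingHall ↥D = (fittingHallOf D).subgroupOf D`.
* `isNilpotent_fittingHallOf`.
-/

set_option autoImplicit false
set_option linter.unusedSectionVars false
set_option linter.unusedVariables false
set_option linter.style.haveILetI false

namespace Cfsg.Agent.Helper25.BGTypeII

open Subgroup Cfsg
open Cfsg.Agent.Helper79.BG10
open Cfsg.Agent.Helper55.BGB

variable {G : Type*} [Group G]

theorem fittingHall_eq_subgroupOf (D : Subgroup G) :
    Cfsg.fittingHall ↥D = (Cfsg.fittingHallOf D).subgroupOf D := by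
  unfold Cfsg.fittingHallOf Subgroup.subgroupOf
  exact (Subgroup.comap_map_eq_self_of_injective D.subtype_injective _).symm

theorem isNilpotent_fittingHallOf [Finite G] (D : Subgroup G) :
    Group.IsNilpotent ↥(Cfsg.fittingHallOf D) := by
  haveI : Group.IsNilpotent ↥(Cfsg.fittingHall ↥D) :=
    Cfsg.Agent.Helper45.FH.fittingHall_nilpotent
  unfold Cfsg.fittingHallOf
  exact Group.nilpotent_of_mulEquiv
    (Subgroup.equivMapOfInjective (Cfsg.fittingHall ↥D) D.subtype D.subtype_injective)

/-- a nilpotent Hall subgroup `N` of `M` normalized by `M` lies in `M_F`. -/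
theorem le_fittingHallOf_of_hall [Finite G] {M N : Subgroup G} (hNM : N ≤ M)
    (hn : M ≤ normalizer (N : Set G)) (hnil : Group.IsNilpotent ↥N)
    (hcop : (Nat.card N).Coprime (N.relIndex M)) : N ≤ Cfsg.fittingHallOf M := by
  haveI hnorm : (N.subgroupOf M).Normal := by
    rw [← Subgroup.normalizer_eq_top_iff, eq_top_iff]
    intro z _
    rw [Subgroup.mem_normalizer_iff]
    intro w
    have hz := hn z.2
    rw [Subgroup.mem_normalizer_iff] at hz
    simp only [Subgroup.mem_subgroupOf]
    exact hz w
  have hnil' : Group.IsNilpotent ↥(N.subgroupOf M) := by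
    haveI := hnil
    exact Group.nilpotent_of_mulEquiv (Subgroup.subgroupOfEquivOfLe hNM).symm
  have hcard : Nat.card ↥(N.subgroupOf M) = Nat.card N :=
    Nat.card_congr (Subgroup.subgroupOfEquivOfLe hNM).toEquiv
  have hcop' : (Nat.card ↥(N.subgroupOf M)).Coprime (N.subgroupOf M).index := by
    rw [hcard]; exact hcop
  have hle : N.subgroupOf M ≤ Cfsg.fittingHall ↥M := le_sSup ⟨hnorm, hnil', hcop'⟩
  have := Subgroup.map_mono (f := M.subtype) hle
  rw [Subgroup.map_subgroupOf_eq_of_le hNM] at this
  exact this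

/-- `M ≤ N_G(D)` gives `M ≤ N_G(D_F)`. -/
theorem le_normalizer_fittingHallOf_of_le_normalizer {M D : Subgroup G}
    (hD : M ≤ normalizer (D : Set G)) :
    M ≤ normalizer ((Cfsg.fittingHallOf D : Subgroup G) : Set G) := by
  intro m hm
  apply mem_normalizer_of_cj_eq
  have h1 : cj m D = D := cj_eq_self_of_mem_normalizer (hD hm)
  have h2 := Cfsg.Agent.Helper25.BGNat.fittingHallOf_cj m D
  rw [h1] at h2
  exact h2.symm

/-- `card (F_D)` is coprime to its index in `D`. -/
theorem coprime_card_relIndex_fittingHallOf [Finite G] (D : Subgroup G) :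
    (Nat.card ↥(Cfsg.fittingHallOf D)).Coprime ((Cfsg.fittingHallOf D).relIndex D) := by
  have h := Cfsg.Agent.Helper23.fittingHall_coprime ↥D
  rw [← Cfsg.Agent.Helper23.card_fittingHallOf] at h
  have : (Cfsg.fittingHallOf D).relIndex D = (Cfsg.fittingHall ↥D).index := by
    unfold Subgroup.relIndex
    rw [← fittingHall_eq_subgroupOf]
  rw [this]
  exact h

end Cfsg.Agent.Helper25.BGTypeII
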