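import Mathlib
import Cfsg.Prelude.Def_OddOrderLocal
import Cfsg.Agent.Lib.Helper25.BGTypeIIAux
import Cfsg.Agent.Lib.Helper55.BGDecomp

/-!
# Type-P data from the standard factorisation (hypothesis-parametrised), for S1381 `⇐`

`typeP_data` : with `W₁ := K`, `U' := U`, `W₂ := K* ` the structure `IsTypePWith M K U Ks` holds, given
the conclusions of the frozen rows S1354 S1356 S1357 S1363 S1364 S1365 S1368 S1370 as hypotheses.
-/

set_option autoImplicit false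
set_option linter.unusedSectionVars false
set_option linter.unusedVariables false
set_option linter.style.haveILetI false

namespace Cfsg.Agent.Helper25.BGTypeII

open Subgroup Cfsg
open Cfsg.Agent.Helper79.BG10
open Cfsg.Agent.Helper55.BGB
open Cfsg.Agent.Helper15.BGV

variable {G : Type*} [Group G] [Finite G]

/-- `M' ∩ K = 1`. -/
theorem derived_inf_K {M K U : Subgroup G} (hKU : IsSigmaDecomposition M K U)
    (h65a : ⁅M, M⁆ = U ⊔ sigmaCore M) : ⁅M, M⁆ ⊓ K = ⊥ := by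
  have hUM : U ≤ M := hKU.compl.1
  have hMσ : M ≤ normalizer ((sigmaCore M : Subgroup G) : Set G) := le_normalizer_sigmaCore M
  have hUKσ : U ⊓ (K ⊔ sigmaCore M) = ⊥ := hKU.compl.2.2.1
  have hKσ : K ⊓ sigmaCore M = ⊥ := K_inf_sigmaCore hKU
  rw [eq_bot_iff]
  intro x hx
  rw [Subgroup.mem_bot]
  have hx1 : x ∈ sigmaCore M ⊔ U := by
    have := hx.1
    rw [h65a, sup_comm] at this
    exact this
  obtain ⟨s, hs, u, hu, hxsu⟩ := mem_sup_decomp (hUM.trans hMσ) hx1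
  have hu' : u ∈ K ⊔ sigmaCore M := by
    have : u = s⁻¹ * x := by rw [hxsu]; group
    rw [this]
    exact mul_mem (inv_mem (le_sup_right (a := K) hs)) (le_sup_left (b := sigmaCore M) hx.2)
  have hu1 : u = 1 := by
    have : u ∈ U ⊓ (K ⊔ sigmaCore M) := ⟨hu, hu'⟩
    rw [hUKσ] at this
    exact Subgroup.mem_bot.mp this
  rw [hu1, mul_one] at hxsu
  have : x ∈ K ⊓ sigmaCore M := ⟨hx.2, hxsu ▸ hs⟩
  rw [hKσ] at this
  exact Subgroup.mem_bot.mp this

/-- `M = M' K`. -/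
theorem derived_mul_K {M K U : Subgroup G} (hKU : IsSigmaDecomposition M K U)
    (h65a : ⁅M, M⁆ = U ⊔ sigmaCore M) :
    ∀ m ∈ M, ∃ a ∈ ⁅M, M⁆, ∃ b ∈ K, m = a * b := by
  have hKM : K ≤ M := hKU.hall.1
  have hMσ : M ≤ normalizer ((sigmaCore M : Subgroup G) : Set G) := le_normalizer_sigmaCore M
  intro m hm
  obtain ⟨a, ha, b, hb, hmab⟩ := hKU.compl.2.2.2 m hm
  have hb' : b ∈ sigmaCore M ⊔ K := by rw [sup_comm]; exact hb
  obtain ⟨s, hs, k, hk, hbsk⟩ := mem_sup_decomp (hKM.trans hMσ) hb'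
  refine ⟨a * s, ?_, k, hk, ?_⟩
  · rw [h65a]
    exact mul_mem (le_sup_left (b := sigmaCore M) ha) (le_sup_right (a := U) hs)
  · rw [hmab, hbsk, mul_assoc]

/-- `W₁_compl`. -/
theorem isComplIn_derived_K {M K U : Subgroup G} (hKU : IsSigmaDecomposition M K U)
    (h65a : ⁅M, M⁆ = U ⊔ sigmaCore M) : IsComplIn ⁅M, M⁆ K M := by
  refine ⟨?_, hKU.hall.1, derived_inf_K hKU h65a, derived_mul_K hKU h65a⟩
  rw [h65a]
  exact sup_le hKU.compl.1 (sigmaCore_le M)

/-- `U_compl` (with `M_σ` in place of `M_F`). -/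
theorem isComplIn_sigmaCore_U {M K U : Subgroup G} (hKU : IsSigmaDecomposition M K U)
    (h65a : ⁅M, M⁆ = U ⊔ sigmaCore M) : IsComplIn (sigmaCore M) U ⁅M, M⁆ := by
  have hUM : U ≤ M := hKU.compl.1
  have hMσ : M ≤ normalizer ((sigmaCore M : Subgroup G) : Set G) := le_normalizer_sigmaCore M
  have hUKσ : U ⊓ (K ⊔ sigmaCore M) = ⊥ := hKU.compl.2.2.1
  refine ⟨?_, ?_, ?_, ?_⟩
  · rw [h65a]; exact le_sup_right
  · rw [h65a]; exact le_sup_left
  · rw [eq_bot_iff]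
    intro x hx
    have : x ∈ U ⊓ (K ⊔ sigmaCore M) := ⟨hx.2, le_sup_right (a := K) hx.1⟩
    rw [hUKσ] at this
    exact this
  · intro m hm
    have hm' : m ∈ sigmaCore M ⊔ U := by rw [sup_comm, ← h65a]; exact hm
    exact mem_sup_decomp (hUM.trans hMσ) hm'

/-- `K ≤ N(K*)` -/
theorem K_le_normalizer_Ks {K Ks : Subgroup G} (hKsC : Ks ≤ centralizer (K : Set G)) :
    K ≤ normalizer (Ks : Set G) := by
  intro k hk
  rw [Subgroup.mem_normalizer_iff]
  intro z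
  constructor
  · intro hz
    have h1 : k * z = z * k := (Subgroup.mem_centralizer_iff.mp (hKsC hz)) k hk
    have : k * z * k⁻¹ = z := by rw [h1]; group
    rw [this]; exact hz
  · intro hz
    have h1 : k * (k * z * k⁻¹) = (k * z * k⁻¹) * k :=
      (Subgroup.mem_centralizer_iff.mp (hKsC hz)) k hk
    have : z = k * z * k⁻¹ := by
      have h2 : k * (k * z * k⁻¹) * k⁻¹ = k * z * k⁻¹ := by rw [h1]; group
      have h3 : k * (k * z * k⁻¹) * k⁻¹ = k * (k * z * k⁻¹ ) * k⁻¹ := rfl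
      have h4 : k * z * k⁻¹ = k⁻¹ * (k * (k * z * k⁻¹) * k⁻¹) * k := by group
      rw [h2] at h4
      have h5 : k⁻¹ * (k * z * k⁻¹) * k = z := by group
      rw [h5] at h4
      exact h4.symm
    rw [this]; exact hz

/-- `W₂_centralizer`. -/
theorem derived_inf_centralizer {M K U Ks : Subgroup G} (hKU : IsSigmaDecomposition M K U)
    (hKsσ : Ks ≤ sigmaCore M) (hKsC : Ks ≤ centralizer (K : Set G))
    (h54 : ∀ k ∈ K, k ≠ 1 → M ⊓ centralizer ({k} : Set G) = K ⊔ Ks)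
    (h55c : sigmaCore M ≤ ⁅M, M⁆)
    (h65a : ⁅M, M⁆ = U ⊔ sigmaCore M) :
    ∀ x ∈ K, x ≠ 1 → ⁅M, M⁆ ⊓ centralizer ({x} : Set G) = Ks := by
  intro x hx hx1
  have hDM : ⁅M, M⁆ ≤ M := (isComplIn_derived_K hKU h65a).1
  apply le_antisymm
  · intro y hy
    have hy1 : y ∈ M ⊓ centralizer ({x} : Set G) := ⟨hDM hy.1, hy.2⟩
    rw [h54 x hx hx1, sup_comm] at hy1
    obtain ⟨z, hz, k, hk, hyzk⟩ := mem_sup_decomp (K_le_normalizer_Ks hKsC) hy1
    have hk' : k ∈ ⁅M, M⁆ := by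
      have : k = z⁻¹ * y := by rw [hyzk]; group
      rw [this]
      exact mul_mem (inv_mem (h55c (hKsσ hz))) hy.1
    have hk1 : k = 1 := by
      have : k ∈ ⁅M, M⁆ ⊓ K := ⟨hk', hk⟩
      rw [derived_inf_K hKU h65a] at this
      exact Subgroup.mem_bot.mp this
    rw [hk1, mul_one] at hyzk
    rw [hyzk]; exact hz
  · intro z hz
    refine ⟨h55c (hKsσ hz), ?_⟩
    have : centralizer (K : Set G) ≤ centralizer ({x} : Set G) :=
      Subgroup.centralizer_le (by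
        intro t ht
        rw [Set.mem_singleton_iff] at ht
        rw [ht]; exact hx)
    exact this (hKsC hz)

/-- the normalizer clause of `IsSelfNormalizingCyclic` from the TI-property of `Ẑ`. -/
theorem normalizer_subset_Zhat {K Ks : Subgroup G}
    (hcomm : ∀ a ∈ K ⊔ Ks, ∀ b ∈ K ⊔ Ks, a * b = b * a)
    (h70a : IsTISubset ((↑(K ⊔ Ks) : Set G) \ ((K : Set G) ∪ ↑Ks)))
    (h70b : normalizer ((↑(K ⊔ Ks) : Set G) \ ((K : Set G) ∪ ↑Ks)) = K ⊔ Ks)
    (X : Set G) (hX : X ⊆ (↑(K ⊔ Ks) : Set G) \ ((K : Set G) ∪ ↑Ks)) (hne : X.Nonempty) :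
    normalizer X = K ⊔ Ks := by
  apply le_antisymm
  · intro g hg
    obtain ⟨x, hx⟩ := hne
    have hgx : g * x * g⁻¹ ∈ X := (Subgroup.mem_set_normalizer_iff.mp hg x).mp hx
    by_contra hgZ
    have hgN : g ∉ normalizer ((↑(K ⊔ Ks) : Set G) \ ((K : Set G) ∪ ↑Ks)) := by
      rw [h70b]; exact hgZ
    have hx1 : x = 1 := h70a g hgN x (hX hx) (hX hgx)
    have hxK : x ∉ ((K : Set G) ∪ ↑Ks) := (hX hx).2
    apply hxK
    left
    rw [hx1]
    exact K.one_mem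
  · intro g hg
    rw [Subgroup.mem_set_normalizer_iff]
    intro x
    constructor
    · intro hx
      have h1 : g * x = x * g := hcomm g hg x (hX hx).1
      have : g * x * g⁻¹ = x := by rw [h1]; group
      rw [this]; exact hx
    · intro hx
      have h1 : g * (g * x * g⁻¹) = (g * x * g⁻¹) * g := hcomm g hg _ (hX hx).1
      have h2 : g * x * g⁻¹ = x := by
        have h3 : g⁻¹ * (g * (g * x * g⁻¹)) * g⁻¹ = g⁻¹ * ((g * x * g⁻¹) * g) * g⁻¹ := by rw [h1]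
        have h4 : g⁻¹ * (g * (g * x * g⁻¹)) * g⁻¹ = g * x * g⁻¹ * g⁻¹ := by group
        have h5 : g⁻¹ * ((g * x * g⁻¹) * g) * g⁻¹ = x * g⁻¹ := by group
        rw [h4, h5] at h3
        exact mul_right_cancel h3
      rw [h2] at hx; exact hx

/-- The type-P data `(K, U, K*)`. -/
theorem typeP_data {M K U Ks : Subgroup G} (hKU : IsSigmaDecomposition M K U)
    (hK : K ≠ ⊥)
    (hKsσ : Ks ≤ sigmaCore M) (hKsC : Ks ≤ centralizer (K : Set G))
    (h54 : ∀ k ∈ K, k ≠ 1 → M ⊓ centralizer ({k} : Set G) = K ⊔ Ks)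
    (h55c : sigmaCore M ≤ ⁅M, M⁆)
    (h56a : ⁅⁅M, M⁆, ⁅M, M⁆⁆ ≤ fittingOf M)
    (h56b : fittingOf M =
      (M ⊓ centralizer (fittingHallOf M : Set G)) ⊔ fittingHallOf M)
    (h56c : fittingOf M ≤ ⁅M, M⁆)
    (hFσ : fittingHallOf M = sigmaCore M)
    (h63a : IsMulCommutative U)
    (h64a : Ks ≠ ⊥) (h64b : Ks ≤ fittingHallOf M) (h64c : ¬ IsCyclic (fittingHallOf M))
    (h65a : ⁅M, M⁆ = U ⊔ sigmaCore M) (h65b : Ks ≤ ⁅⁅M, M⁆, ⁅M, M⁆⁆)
    (h68 : IsCyclic ↥(K ⊔ Ks))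
    (h70a : IsTISubset ((↑(K ⊔ Ks) : Set G) \ ((K : Set G) ∪ ↑Ks)))
    (h70b : normalizer ((↑(K ⊔ Ks) : Set G) \ ((K : Set G) ∪ ↑Ks)) = K ⊔ Ks) :
    IsTypePWith M K U Ks := by
  have hKσ : K ⊓ sigmaCore M = ⊥ := K_inf_sigmaCore hKU
  have hcomm : ∀ a ∈ K ⊔ Ks, ∀ b ∈ K ⊔ Ks, a * b = b * a := by
    intro a ha b hb
    haveI := h68
    have hc : ∀ x y : ↥(K ⊔ Ks), x * y = y * x := by
      obtain ⟨g, hg⟩ := IsCyclic.exists_generator (α := ↥(K ⊔ Ks))
      intro x y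
      obtain ⟨n, rfl⟩ := Subgroup.mem_zpowers_iff.mp (hg x)
      obtain ⟨m, rfl⟩ := Subgroup.mem_zpowers_iff.mp (hg y)
      rw [← zpow_add, ← zpow_add, add_comm]
    have := hc ⟨a, ha⟩ ⟨b, hb⟩
    exact congrArg Subtype.val this
  refine
    { W₁_ne := hK
      W₁_cyclic := hKU.cyclic
      W₁_hall := ?_
      W₁_compl := isComplIn_derived_K hKU h65a
      U_nilpotent := ?_
      U_normal := hKU.normal
      U_compl := ?_
      H_not_cyclic := h64c
      derived_two_le := ?_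
      fitting_eq := ?_
      fitting_le := h56c
      W₂_le := le_inf h64b h65b
      W₂_centralizer := derived_inf_centralizer hKU hKsσ hKsC h54 h55c h65a
      selfNormalizing := ?_ }
  · apply Nat.coprime_of_dvd
    intro p hp hp1 hp2
    exact hKU.hall.2.2 p hp (hKU.hall.2.1 p hp hp1) hp2
  · haveI := h63a
    letI : CommGroup ↥U := { (inferInstance : Group ↥U) with
      mul_comm := fun a b => IsMulCommutative.is_comm.comm a b }
    infer_instance
  · rw [hFσ]; exact isComplIn_sigmaCore_U hKU h65a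
  · rw [sup_comm, ← h56b]; exact h56a
  · rw [sup_comm, ← h56b]
  · refine ⟨hK, h64a, ?_, ?_, h68, normalizer_subset_Zhat hcomm h70a h70b⟩
    · rw [eq_bot_iff]
      intro x hx
      have : x ∈ K ⊓ sigmaCore M := ⟨hx.1, hKsσ hx.2⟩
      rw [hKσ] at this
      exact this
    · intro a ha b hb
      exact ((Subgroup.mem_centralizer_iff.mp (hKsC hb)) a ha)

end Cfsg.Agent.Helper25.BGTypeII
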