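import Mathlib
import Cfsg.Prelude.Def_OddOrderLocal
import Cfsg.Prelude.Def_OddOrderChar
import Cfsg.Prelude.Def_OddOrder
import Cfsg.Agent.Lib.Helper11.BG1537Defs
import Cfsg.Agent.Lib.Helper25.BGTypeIIP
import Cfsg.Agent.Lib.Helper68.BGTypeIIB1
import Cfsg.Agent.Lib.Helper52.Coprime

/-!
# (P4) of helper11's lemma server "BG1537" (S1537): Lean-Type III or IV forces `M' = M_σ`
-/

set_option autoImplicit false
set_option linter.unusedVariables false
set_option linter.unusedSectionVars false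

namespace Cfsg.Agent.Helper25.BG1537

open Subgroup Cfsg
open Cfsg.Agent.Helper11.BG1537 (Rows)

variable {G : Type*} [Group G] [Finite G]

/-- conjugating a subgroup by an element of `M` and the normalizer. -/
theorem normalizer_le_of_map_conj {M A B : Subgroup G} {n : G} (hn : n ∈ M)
    (hB : B = A.map (MulAut.conj n).toMonoidHom)
    (h : normalizer (B : Set G) ≤ M) : normalizer (A : Set G) ≤ M := by
  intro g hg
  have h1 : n * g * n⁻¹ ∈ normalizer (B : Set G) := by
    rw [hB, ← Subgroup.map_equiv_normalizer_eq]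
    exact ⟨g, hg, by simp [MulAut.conj_apply]⟩
  have h2 := h h1
  have e : g = n⁻¹ * (n * g * n⁻¹) * n := by group
  rw [e]
  exact mul_mem (mul_mem (inv_mem hn) h2) hn

/-- a coatom of a minimal simple group is solvable -/
theorem isSolvable_of_isCoatom (hG : IsMinSimpleOddOrder G) {M : Subgroup G} (hM : IsCoatom M) :
    Group.IsSolvable M := hG.2.2.2 M hM.1

/-- the core of (P4), with the type data made explicit. -/
theorem commutator_eq_sigmaCore_of_typeP (hG : IsMinSimpleOddOrder G) (rows : Rows G)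
    {M K U : Subgroup G} (hM : IsCoatom M) (hKU : IsSigmaDecomposition M K U)
    {W₁ U' W₂ : Subgroup G} (hP : IsTypePWith M W₁ U' W₂) (hU'1 : U' ≠ ⊥)
    (hprime : (Nat.card W₁).Prime) (hN : normalizer (U' : Set G) ≤ M) :
    ⁅M, M⁆ = sigmaCore M := by
  have h50 := (rows.r1350 M hM).1
  obtain ⟨-, h55b, h55c, -, -⟩ := rows.r1355 M hM
  -- `K ≠ ⊥`
  have hK : K ≠ ⊥ := by
    have hκ : Nat.card W₁ ∈ Cfsg.kappa M :=
      Cfsg.Agent.Helper68.BGTypeII.card_mem_kappa_of_typeP hP hprime h50 h55c h55b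
    intro hK
    have hdvd : Nat.card W₁ ∣ Nat.card M := hκ.2.1
    have hrel : Nat.card K * K.relIndex M = Nat.card M :=
      Cfsg.Agent.Helper55.BGB.card_mul_relIndex hKU.hall.1
    rw [hK, Subgroup.card_bot, one_mul] at hrel
    rw [← hrel] at hdvd
    exact hKU.hall.2.2 _ hprime hκ (hK ▸ hdvd)
  have h65 : ⁅M, M⁆ = U ⊔ sigmaCore M := (rows.r1365 M hM K U hKU hK).1
  by_cases hU : U = ⊥
  · rw [h65, hU, bot_sup_eq]
  exfalso
  -- `M_F = M_σ`
  have hF : fittingHallOf M = sigmaCore M := by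
    by_contra hne
    exact hU (rows.r1357 M hM K U hKU hne).1
  have h63 : ¬ normalizer (U : Set G) ≤ M := (rows.r1363 M hM K U hKU hK).2
  have hUM : U ≤ M := hKU.compl.1
  have hMσ : M ≤ normalizer ((sigmaCore M : Subgroup G) : Set G) :=
    Cfsg.Agent.Helper55.BGB.le_normalizer_sigmaCore M
  have hc1 : IsComplIn (sigmaCore M) U ⁅M, M⁆ :=
    Cfsg.Agent.Helper25.BGTypeII.isComplIn_sigmaCore_U hKU h65
  have hc2 : IsComplIn (sigmaCore M) U' ⁅M, M⁆ := hF ▸ hP.U_compl
  have hcard1 := Cfsg.Agent.Helper23.card_of_isComplIn hc1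
  have hcard2 := Cfsg.Agent.Helper23.card_of_isComplIn hc2
  have hcardU : Nat.card U' = Nat.card U := by
    have hpos : 0 < Nat.card (sigmaCore M) := Nat.card_pos
    apply Nat.eq_of_mul_eq_mul_left hpos
    rw [← hcard1, ← hcard2]
  have hcop : (Nat.card (sigmaCore M)).Coprime (Nat.card U) := by
    apply Nat.coprime_of_dvd
    intro q hq hq1 hq2
    exact (Cfsg.Agent.Helper55.BGB.U_prime_not_mem hKU h50 hq hq2).2
      (Cfsg.Agent.Helper55.BGB.isPi_sigmaCore M q hq hq1)
  have hsolM : Group.IsSolvable M := isSolvable_of_isCoatom hG hM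
  have hsol : Group.IsSolvable (sigmaCore M) := by
    have hle : sigmaCore M ≤ M := Cfsg.Agent.Helper55.BGB.sigmaCore_le M
    exact Group.isSolvable_of_isSolvable_injective (f := Subgroup.inclusion hle)
      (Subgroup.inclusion_injective hle)
  have hU'le : U' ≤ sigmaCore M ⊔ U := by
    rw [sup_comm, ← h65]; exact hc2.2.1
  obtain ⟨n, hn, hB⟩ := Cfsg.Agent.Helper52.sz_conj_internal (sigmaCore M) U U'
    (hUM.trans hMσ) (Or.inl hsol) hcop hcardU hU'le
  exact h63 (normalizer_le_of_map_conj (Cfsg.Agent.Helper55.BGB.sigmaCore_le M hn) hB hN)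

/-! ## (P4) Lean-Type III or IV forces M' = M_σ -/
theorem commutator_eq_sigmaCore_of_typeIII_IV (hG : IsMinSimpleOddOrder G) (rows : Rows G)
    {M K U : Subgroup G} (hM : IsCoatom M) (hKU : IsSigmaDecomposition M K U)
    (h : IsOfTypeIII M ∨ IsOfTypeIV M) : ⁅M, M⁆ = sigmaCore M := by
  rcases h with ⟨W₁, U', W₂, hP, hU'1, hprime, -, -, hN⟩ | ⟨W₁, U', W₂, hP, hU'1, hprime, -, -, hN⟩
  · exact commutator_eq_sigmaCore_of_typeP hG rows hM hKU hP hU'1 hprime hN
  · exact commutator_eq_sigmaCore_of_typeP hG rows hM hKU hP hU'1 hprime hN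

end Cfsg.Agent.Helper25.BG1537
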