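import Mathlib
import Cfsg.Prelude.Def_OddOrderLocal
import Cfsg.Agent.Lib.Helper1.Hall
import Cfsg.Agent.Lib.Helper69.PiParts

/-!
# Conjugating elements into Hall subgroups of solvable groups (helper25)
-/

set_option autoImplicit false
set_option linter.unusedSectionVars false
set_option linter.style.haveILetI false

namespace Cfsg.Agent.Helper25.BGHallConj

open Subgroup
open Cfsg.Agent.Helper1
open scoped Pointwise

universe u

/-- In a finite solvable group, an element of order prime to the index of a Hall subgroup `H` is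
conjugate into `H`. -/
theorem exists_conj_mem {C : Type u} [Group C] [Finite C] [Group.IsSolvable C] (H : Subgroup C) (n : ℕ)
    (hcard : Nat.card C = Nat.card H * n) (hcop : (Nat.card H).Coprime n) (y : C)
    (hy : (orderOf y).Coprime n) : ∃ c : C, c * y * c⁻¹ ∈ H := by
  obtain ⟨H0, hH0, hdom⟩ := hall_exists_dominant (Nat.card H) n hcard hcop
  obtain ⟨g, hg⟩ := hdom (zpowers y) (by rwa [Nat.card_zpowers])
  obtain ⟨g', hg'⟩ := hall_conj (Nat.card H) n hcard hcop H0 H hH0 rfl
  have hyg : y ∈ MulAut.conj g • H0 := hg (mem_zpowers y)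
  rw [mem_conj_smul] at hyg
  refine ⟨g' * g⁻¹, ?_⟩
  rw [← hg', mem_conj_smul]
  have e : g'⁻¹ * (g' * g⁻¹ * y * (g' * g⁻¹)⁻¹) * g' = g⁻¹ * y * g := by group
  rw [e]
  exact hyg

/-- Relative version for subgroups of an ambient group. -/
theorem exists_conj_mem_rel {G : Type u} [Group G] [Finite G] (C H : Subgroup G) (hHC : H ≤ C)
    (hsolv : Group.IsSolvable C) (n : ℕ) (hcard : Nat.card C = Nat.card H * n)
    (hcop : (Nat.card H).Coprime n) (y : G) (hyC : y ∈ C) (hy : (orderOf y).Coprime n) :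
    ∃ c ∈ C, c * y * c⁻¹ ∈ H := by
  haveI := hsolv
  have hcardH : Nat.card (H.subgroupOf C) = Nat.card H :=
    Nat.card_congr (Subgroup.subgroupOfEquivOfLe hHC).toEquiv
  obtain ⟨c, hc⟩ := exists_conj_mem (H.subgroupOf C) n (by rw [hcardH]; exact hcard)
    (by rw [hcardH]; exact hcop) (⟨y, hyC⟩ : C)
    (by
      have : orderOf (⟨y, hyC⟩ : C) = orderOf y := by
        rw [← Subgroup.orderOf_coe]
      rw [this]; exact hy)
  refine ⟨c, c.2, ?_⟩
  rw [Subgroup.mem_subgroupOf] at hc
  simpa using hc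

/-- A `π`-element of a solvable group `M` is conjugate (inside `M`) into any Hall `π`-subgroup. -/
theorem exists_conj_mem_of_isPiHallOf {G : Type u} [Group G] [Finite G] {π : Set ℕ} {K M : Subgroup G}
    (hK : Cfsg.IsPiHallOf π K M) (hsolv : Group.IsSolvable M) (y : G) (hyM : y ∈ M)
    (hy : ∀ q : ℕ, q.Prime → q ∣ orderOf y → q ∈ π) : ∃ m ∈ M, m * y * m⁻¹ ∈ K := by
  obtain ⟨hKM, hKπ, hKidx⟩ := hK
  have hcard : Nat.card M = Nat.card K * K.relIndex M := by
    have := Subgroup.relIndex_mul_relIndex ⊥ K M bot_le hKM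
    simpa [Subgroup.relIndex_bot_left] using this.symm
  apply exists_conj_mem_rel M K hKM hsolv (K.relIndex M) hcard
  · apply Nat.Coprime.symm
    apply Nat.coprime_of_dvd
    intro q hq hq1 hq2
    exact hKidx q hq (hKπ q hq hq2) hq1
  · exact hyM
  · apply Nat.Coprime.symm
    apply Nat.coprime_of_dvd
    intro q hq hq1 hq2
    exact hKidx q hq (hy q hq hq2) hq1

/-- An element of order prime to the index of a NORMAL Hall subgroup lies in it. -/
theorem mem_of_normal_hall {G : Type u} [Group G] [Finite G] (C R : Subgroup G) (hRC : R ≤ C)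
    (hnorm : C ≤ normalizer (R : Set G)) (hsolv : Group.IsSolvable C) (n : ℕ)
    (hcard : Nat.card C = Nat.card R * n) (hcop : (Nat.card R).Coprime n) (r : G) (hrC : r ∈ C)
    (hr : (orderOf r).Coprime n) : r ∈ R := by
  obtain ⟨c, hc, hcr⟩ := exists_conj_mem_rel C R hRC hsolv n hcard hcop r hrC hr
  have hcn : c⁻¹ ∈ normalizer (R : Set G) := inv_mem (hnorm hc)
  have := (mem_normalizer_iff.mp hcn (c * r * c⁻¹)).mp hcr
  have e : c⁻¹ * (c * r * c⁻¹) * c⁻¹⁻¹ = r := by group
  rwa [e] at this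

end Cfsg.Agent.Helper25.BGHallConj
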