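import Mathlib
import Cfsg.Agent.Lib.Helper97.FXDefs
import Cfsg.Agent.Lib.Helper48.SympRep
import Cfsg.Agent.Lib.Helper86.ESREC
import Cfsg.Agent.Lib.Helper8.FXSHIFT

/-!
# FX server (helper97, S3818): piece (SHC) `shift_case`
-/

set_option autoImplicit false

namespace Cfsg.Agent.Helper25.FX

open Cfsg.Agent.Helper97.FX Cfsg.Agent.Helper48.SympRep

universe u

theorem fx_conj_pow {R : Type*} [Monoid R] (P P' T : R) (hPP' : P * P' = 1) (hP'P : P' * P = 1)
    (n : ℕ) : (P * T * P') ^ n = P * T ^ n * P' := by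
  induction n with
  | zero => rw [pow_zero, pow_zero, mul_one, hPP']
  | succ n ih =>
    rw [pow_succ, ih, pow_succ]
    calc P * T ^ n * P' * (P * T * P') = P * T ^ n * (P' * P) * T * P' := by
          simp only [mul_assoc]
      _ = P * (T ^ n * T) * P' := by rw [hP'P, mul_one]; simp only [mul_assoc]

section SY
variable {K : Type*} [Field K] {M : Type u} [AddCommGroup M] [Module K M] [FiniteDimensional K M]
variable {Q : Type*} [Group Q] [Fintype Q]
variable {ρ : Q →* Module.End K M} {a : Q ≃* Q} {g g' : Module.End K M}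

/-- a scalar `κ` with `κ • 1 = 1` in a nontrivial endomorphism ring is `1` -/
theorem fx_scalar_eq_one {c : K} (hc : c • (1 : Module.End K M) = 1)
    (hnt : (1 : Module.End K M) ≠ 0) : c = 1 := by
  by_contra hne
  have h0 : (c - 1) • (1 : Module.End K M) = 0 := by rw [sub_smul, hc, one_smul, sub_self]
  rcases smul_eq_zero.mp h0 with h2 | h2
  · exact hne (sub_eq_zero.mp h2)
  · exact hnt h2

/-- **(SHC)** -/
theorem shift_case (h : Normalises ρ a g g') {p : ℕ} (hp : p.Prime) (hgp : g ^ p = 1) (m : Q)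
    (hm : a m * m⁻¹ ∈ scalarSubgroup ρ) (hne : ρ (a m * m⁻¹) ≠ 1) :
    p * fixDim g ≤ Module.finrank K M := by
  obtain ⟨κ, hκ⟩ := hm
  have hnt : (1 : Module.End K M) ≠ 0 := by
    intro h10
    apply hne
    rw [hκ, h10, smul_zero]
  have hκ1 : κ ≠ 1 := by
    rintro rfl
    exact hne (by rw [hκ, one_smul])
  have ham : ρ (a m) = κ • ρ m := by
    have h1 : ρ (a m) = ρ (a m * m⁻¹) * ρ m := by rw [← map_mul, inv_mul_cancel_right]
    rw [h1, hκ, smul_mul_assoc, one_mul]
  have hconj : ρ m⁻¹ * g * ρ m = κ • g := by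
    rw [mul_assoc, h.conj m, ham, smul_mul_assoc, mul_smul_comm, ← mul_assoc, rho_inv_mul,
      one_mul]
  have hκp : κ ^ p = 1 := by
    have h1 : (ρ m⁻¹ * g * ρ m) ^ p = 1 := by
      rw [fx_conj_pow _ _ _ (rho_inv_mul ρ m) (rho_mul_inv ρ m), hgp, mul_one, rho_inv_mul]
    rw [hconj, smul_pow, hgp] at h1
    exact fx_scalar_eq_one h1 hnt
  exact Cfsg.Agent.Helper8.FX.shift_bound g (ρ m⁻¹) (ρ m) (rho_inv_mul ρ m) (rho_mul_inv ρ m) κ hp hκ1 hκp hconj

end SY

end Cfsg.Agent.Helper25.FX
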