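import Mathlib

set_option autoImplicit false

/-!
# Sums of invariant functions over free orbits

If a finite group `P` acts freely on a finite set and `f` is an invariant function with
algebraic-integer values then `∑ f = |P| * α` with `α` an algebraic integer.  Specialised to the
conjugation action of a subgroup on an invariant subset of the group.
-/

namespace Cfsg.Agent.Helper25.FreeOrbit

theorem free_orbit_sum {P X : Type*} [Group P] [Fintype P] [Fintype X] [MulAction P X]
    (hfree : ∀ (g : P) (x : X), g • x = x → g = 1) (f : X → ℂ)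
    (hf : ∀ (g : P) (x : X), f (g • x) = f x) (hint : ∀ x, IsIntegral ℤ (f x)) :
    ∃ α : ℂ, IsIntegral ℤ α ∧ ∑ x, f x = (Fintype.card P : ℂ) * α := by
  classical
  refine ⟨∑ ω : Quotient (MulAction.orbitRel P X), f ω.out,
    IsIntegral.sum _ (fun ω _ => hint _), ?_⟩
  rw [← Finset.sum_fiberwise (Finset.univ)
    (fun x : X => (Quotient.mk (MulAction.orbitRel P X) x)) f, Finset.mul_sum]
  refine Finset.sum_congr rfl fun ω _ => ?_
  have hmem : ∀ x : X, Quotient.mk (MulAction.orbitRel P X) x = ω ↔
      x ∈ MulAction.orbit P ω.out := by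
    intro x
    rw [← MulAction.orbitRel_apply]
    constructor
    · intro hx
      exact Quotient.exact (hx.trans (Quotient.out_eq ω).symm)
    · intro hx
      exact (Quotient.sound hx).trans (Quotient.out_eq ω)
  have h1 : ∀ x ∈ Finset.univ.filter
      (fun x : X => Quotient.mk (MulAction.orbitRel P X) x = ω), f x = f ω.out := by
    intro x hx
    obtain ⟨g, hg⟩ := (hmem x).mp (Finset.mem_filter.mp hx).2
    rw [← hg]
    exact hf g _
  rw [Finset.sum_congr rfl h1, Finset.sum_const, nsmul_eq_mul]
  congr 1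
  have himg : Finset.univ.filter (fun x : X => Quotient.mk (MulAction.orbitRel P X) x = ω)
      = Finset.univ.image (fun g : P => g • ω.out) := by
    ext x
    simp only [Finset.mem_filter, Finset.mem_univ, true_and, Finset.mem_image]
    rw [hmem x]
    rfl
  have hinj : Function.Injective (fun g : P => g • ω.out) := by
    intro g h hgh
    have h2 : (h⁻¹ * g) • ω.out = ω.out := by
      rw [mul_smul]
      have h3 : g • ω.out = h • ω.out := hgh
      rw [h3, inv_smul_smul]
    have := hfree _ _ h2
    exact (inv_mul_eq_one.mp this).symm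
  rw [himg, Finset.card_image_of_injective _ hinj, Finset.card_univ]

section conj

variable {G : Type*} [Group G]

/-- The conjugation action of a subgroup on an invariant subset. -/
@[reducible] def conjSubAction (P : Subgroup G) (S : Set G)
    (hS : ∀ g ∈ P, ∀ y ∈ S, g * y * g⁻¹ ∈ S) : MulAction P S where
  smul g y := ⟨(g : G) * (y : G) * (g : G)⁻¹, hS g g.2 y y.2⟩
  one_smul y := Subtype.ext (by
    show ((1 : P) : G) * (y : G) * ((1 : P) : G)⁻¹ = (y : G)
    simp)
  mul_smul g h y := Subtype.ext (by
    show ((g * h : P) : G) * (y : G) * ((g * h : P) : G)⁻¹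
      = (g : G) * ((h : G) * (y : G) * (h : G)⁻¹) * (g : G)⁻¹
    simp [mul_assoc])

theorem conj_free_sum [Fintype G] (P : Subgroup G) (S : Set G) [DecidablePred (· ∈ S)]
    (hS : ∀ g ∈ P, ∀ y ∈ S, g * y * g⁻¹ ∈ S)
    (hfree : ∀ g ∈ P, ∀ y ∈ S, g * y * g⁻¹ = y → g = 1) (f : G → ℂ)
    (hf : ∀ g ∈ P, ∀ y ∈ S, f (g * y * g⁻¹) = f y) (hint : ∀ y, IsIntegral ℤ (f y)) :
    ∃ α : ℂ, IsIntegral ℤ α ∧
      ∑ y : G, (if y ∈ S then f y else 0) = (Nat.card P : ℂ) * α := by
  classical
  have _instP : Fintype P := Fintype.ofFinite P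
  let _inst : MulAction P S := conjSubAction P S hS
  have hsm : ∀ (g : P) (y : S), ((g • y : S) : G) = (g : G) * (y : G) * (g : G)⁻¹ :=
    fun _ _ => rfl
  obtain ⟨α, hα, hsum⟩ := free_orbit_sum (P := P) (X := S)
    (fun g y h => by
      have h1 : (g : G) * (y : G) * (g : G)⁻¹ = (y : G) := by
        rw [← hsm]; exact congrArg Subtype.val h
      exact Subtype.ext (hfree g g.2 y y.2 h1))
    (fun y => f (y : G))
    (fun g y => by rw [hsm]; exact hf g g.2 y y.2)
    (fun y => hint _)
  refine ⟨α, hα, ?_⟩
  rw [Nat.card_eq_fintype_card, ← hsum, ← Finset.sum_filter]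
  exact Finset.sum_subtype (Finset.univ.filter (· ∈ S)) (by simp) f

end conj

end Cfsg.Agent.Helper25.FreeOrbit
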