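import Mathlib
import Cfsg.Agent.S1523

set_option autoImplicit false

/-!
# The class-multiplication congruence for a TI normal Hall subgroup

Hall/TI version of `Cfsg.Agent.S1523`: if `H` is a TI-subset of `G` with normaliser `L`,
`gcd(|H|, |L:H|) = 1`, `z ∈ Z(H)^#` and `ψ ∈ Irr(G)` with `ψ z⁻¹ = ψ z`, then the sums of
`ψ (z * y)` over the `L`-classes of `z` and of `z⁻¹` are congruent modulo `|H|`.
-/

namespace Cfsg.Agent.Helper25.TIHall

open Cfsg Cfsg.Agent.Helper77 Cfsg.Agent.S1523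

/-- An element of `L` whose order divides `|H|` lies in the normal Hall subgroup `H` of `L`. -/
theorem mem_hall_of_orderOf_dvd {G : Type*} [Group G] [Finite G] (H L : Subgroup G)
    (hnorm : ∀ x ∈ L, ∀ h ∈ H, x * h * x⁻¹ ∈ H)
    (hcop : Nat.Coprime (Nat.card H) (H.relIndex L)) (x : G) (hx : x ∈ L)
    (hord : orderOf x ∣ Nat.card H) : x ∈ H := by
  have hN : (H.subgroupOf L).Normal := by
    constructor
    intro n hn g
    rw [Subgroup.mem_subgroupOf] at hn ⊢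
    exact hnorm g g.2 n hn
  have h1 : (⟨x, hx⟩ : L) ^ (H.subgroupOf L).index ∈ H.subgroupOf L :=
    Subgroup.pow_index_mem _ _
  have h2 : x ^ (H.relIndex L) ∈ H := by
    rw [Subgroup.mem_subgroupOf] at h1
    simpa [Subgroup.relIndex] using h1
  have h3 : x ^ (Nat.card H) = 1 := by
    obtain ⟨k, hk⟩ := hord
    rw [hk, pow_mul, pow_orderOf_eq_one, one_pow]
  have h4 : x ^ (1 : ℤ) ∈ H := by
    have hg : Nat.gcd (Nat.card H) (H.relIndex L) = 1 := hcop
    have hb := Nat.gcd_eq_gcd_ab (Nat.card H) (H.relIndex L)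
    rw [hg] at hb
    have hb' : (1 : ℤ) = ↑(Nat.card H) * Nat.gcdA (Nat.card H) (H.relIndex L)
        + ↑(H.relIndex L) * Nat.gcdB (Nat.card H) (H.relIndex L) := by exact_mod_cast hb
    rw [hb', zpow_add, zpow_mul, zpow_mul, zpow_natCast, zpow_natCast, h3, one_zpow, one_mul]
    exact H.zpow_mem h2 _
  simpa using h4

/-- Freeness of the conjugation action of a TI normal Hall subgroup `H` of its normaliser on the
conjugates, lying outside `H`, of a non-identity element of `H`. -/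
theorem free_of_TI_hall {G : Type*} [Group G] [Finite G] (H L : Subgroup G)
    (hTI : Cfsg.IsTISubset (H : Set G)) (hN : Subgroup.normalizer (H : Set G) = L)
    (hcop : Nat.Coprime (Nat.card H) (H.relIndex L))
    (w : G) (hw : w ∈ H) (hw1 : w ≠ 1) (y : G) (hy : IsConj w y) (hyH : y ∉ H)
    (g : G) (hg : g ∈ H) (hgy : g * y * g⁻¹ = y) : g = 1 := by
  by_contra hg1
  obtain ⟨c, hc⟩ := isConj_iff.mp hy
  have hcomm : (c⁻¹ * g * c) * w * (c⁻¹ * g * c)⁻¹ = w := by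
    have e1 : (c⁻¹ * g * c) * w * (c⁻¹ * g * c)⁻¹ = c⁻¹ * (g * (c * w * c⁻¹) * g⁻¹) * c := by
      group
    rw [e1, hc, hgy, ← hc]
    group
  have hhN : c⁻¹ * g * c ∈ Subgroup.normalizer (H : Set G) := by
    by_contra hh
    exact hw1 (hTI _ hh w hw (by rw [hcomm]; exact hw))
  have hnorm : ∀ x ∈ L, ∀ h ∈ H, x * h * x⁻¹ ∈ H := by
    intro x hx h hh
    rw [← hN] at hx
    exact (Subgroup.mem_set_normalizer_iff.mp hx h).mp hh
  have hord : orderOf (c⁻¹ * g * c) ∣ Nat.card H := by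
    have e : c⁻¹ * g * c = (MulAut.conj c⁻¹) g := by simp
    rw [e, MulEquiv.orderOf_eq]
    have := orderOf_dvd_natCard (⟨g, hg⟩ : H)
    rwa [Subgroup.orderOf_mk] at this
  have hhH : c⁻¹ * g * c ∈ H :=
    mem_hall_of_orderOf_dvd H L hnorm hcop _ (hN ▸ hhN) hord
  have hcN : c ∈ Subgroup.normalizer (H : Set G) := by
    by_contra hcN
    have h1 := hTI c hcN (c⁻¹ * g * c) hhH (by
      have e2 : c * (c⁻¹ * g * c) * c⁻¹ = g := by group
      rw [e2]
      exact hg)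
    apply hg1
    have e3 : g = c * (c⁻¹ * g * c) * c⁻¹ := by group
    rw [e3, h1]
    group
  exact hyH (hc ▸ hnorm c (hN ▸ hcN) w hw)

/-- For `w ∈ H^#`, `H` a TI-subset with normaliser `L`: the `G`-conjugates of `w` in `H` are the
`L`-conjugates of `w`. -/
theorem conj_mem_iff {G : Type*} [Group G] (H L : Subgroup G)
    (hTI : Cfsg.IsTISubset (H : Set G)) (hN : Subgroup.normalizer (H : Set G) = L)
    (w : G) (hw : w ∈ H) (hw1 : w ≠ 1) (y : G) :
    (IsConj w y ∧ y ∈ H) ↔ ∃ x ∈ L, x * w * x⁻¹ = y := by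
  constructor
  · rintro ⟨h1, h2⟩
    obtain ⟨c, hc⟩ := isConj_iff.mp h1
    refine ⟨c, ?_, hc⟩
    rw [← hN]
    by_contra hcN
    exact hw1 (hTI c hcN w hw (by rw [hc]; exact h2))
  · rintro ⟨x, hx, rfl⟩
    refine ⟨isConj_iff.mpr ⟨x, rfl⟩, ?_⟩
    rw [← hN] at hx
    exact (Subgroup.mem_set_normalizer_iff.mp hx w).mp hw

open Classical in
theorem ti_hall_congruence_aux {G : Type*} [Group G] [Fintype G] (H L : Subgroup G) (hHL : H ≤ L)
    (hTI : Cfsg.IsTISubset (H : Set G)) (hN : Subgroup.normalizer (H : Set G) = L)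
    (hcop : Nat.Coprime (Nat.card H) (H.relIndex L)) (ψ : G → ℂ)
    (hψ : Cfsg.IsIrrCharacter G ψ) (z : G) (hz : z ∈ H) (hzc : ∀ h ∈ H, z * h = h * z)
    (hz1 : z ≠ 1) (hzz : ψ z⁻¹ = ψ z) :
    ∃ α : ℂ, IsIntegral ℤ α ∧
      (∑ y : G, if (∃ x ∈ L, x * z * x⁻¹ = y) then ψ (z * y) else 0)
        - (∑ y : G, if (∃ x ∈ L, x * z⁻¹ * x⁻¹ = y) then ψ (z * y) else 0)
        = (Nat.card H : ℂ) * α := by
  classical
  have hcl : IsClassFunction G ψ := isClassFunction_of_isIrrCharacter hψ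
  have hint : ∀ g, IsIntegral ℤ (ψ g) := by
    obtain ⟨n, ρ, -, rfl⟩ := hψ
    exact fun g => Cfsg.Agent.Helper78.char_isIntegral ρ g
  have hzi : z⁻¹ ∈ H := H.inv_mem hz
  have hzi1 : z⁻¹ ≠ 1 := by simpa using hz1
  have hnorm : ∀ x ∈ L, ∀ h ∈ H, x * h * x⁻¹ ∈ H := by
    intro x hx h hh
    rw [← hN] at hx
    exact (Subgroup.mem_set_normalizer_iff.mp hx h).mp hh
  obtain ⟨F, hF⟩ : ∃ F : G → ℂ, F = fun w => ∑ y, classInd w y * ψ (z * y) := ⟨_, rfl⟩
  have hFeq : F z = F z⁻¹ := by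
    rw [hF]
    exact F_eq ψ hψ z hzz
  have hsplit : ∀ w ∈ H, w ≠ 1 →
      F w = (∑ y, if (∃ x ∈ L, x * w * x⁻¹ = y) then ψ (z * y) else 0)
       + ∑ y, if (IsConj w y ∧ y ∉ H) then ψ (z * y) else 0 := by
    intro w hw hw1
    rw [hF, ← Finset.sum_add_distrib]
    refine Finset.sum_congr rfl fun y _ => ?_
    have hiff := conj_mem_iff H L hTI hN w hw hw1 y
    unfold classInd
    by_cases h1 : IsConj w y
    · by_cases h2 : y ∈ H
      · rw [if_pos h1, if_pos (hiff.mp ⟨h1, h2⟩), if_neg (fun h => h.2 h2)]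
        ring
      · rw [if_pos h1, if_neg (fun h => h2 (hiff.mpr h).2), if_pos ⟨h1, h2⟩]
        ring
    · rw [if_neg h1, if_neg (fun h => h1 (hiff.mpr h).1), if_neg (fun h => h1 h.1)]
      ring
  have hfreeSum : ∀ w ∈ H, w ≠ 1 → ∃ α : ℂ, IsIntegral ℤ α ∧
      ∑ y, (if (IsConj w y ∧ y ∉ H) then ψ (z * y) else 0)
        = (Nat.card H : ℂ) * α := by
    intro w hw hw1
    obtain ⟨α, hα, hsum⟩ := Cfsg.Agent.Helper25.FreeOrbit.conj_free_sum H
      {y | IsConj w y ∧ y ∉ H}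
      (fun g hg y hy => by
        refine ⟨hy.1.trans (isConj_iff.mpr ⟨g, rfl⟩), fun h => hy.2 ?_⟩
        have h1 := hnorm g⁻¹ (L.inv_mem (hHL hg)) _ h
        have e1 : g⁻¹ * (g * y * g⁻¹) * g⁻¹⁻¹ = y := by group
        rwa [e1] at h1)
      (fun g hg y hy h => free_of_TI_hall H L hTI hN hcop w hw hw1 y hy.1 hy.2 g hg h)
      (fun y => ψ (z * y))
      (fun g hg y _ => by
        have e1 : z * (g * y * g⁻¹) = g * (z * y) * g⁻¹ := by
          calc z * (g * y * g⁻¹) = (z * g) * y * g⁻¹ := by group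
            _ = (g * z) * y * g⁻¹ := by rw [hzc g hg]
            _ = g * (z * y) * g⁻¹ := by group
        show ψ (z * (g * y * g⁻¹)) = ψ (z * y)
        rw [e1]
        exact hcl _ g)
      (fun y => hint _)
    refine ⟨α, hα, ?_⟩
    rw [← hsum]
    refine Finset.sum_congr rfl fun y _ => ?_
    by_cases h : IsConj w y ∧ y ∉ H
    · rw [if_pos h, if_pos (show y ∈ {y | IsConj w y ∧ y ∉ H} from h)]
    · rw [if_neg h, if_neg (show y ∉ {y | IsConj w y ∧ y ∉ H} from h)]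
  obtain ⟨α1, hα1, hs1⟩ := hfreeSum z hz hz1
  obtain ⟨α2, hα2, hs2⟩ := hfreeSum z⁻¹ hzi hzi1
  refine ⟨α2 - α1, hα2.sub hα1, ?_⟩
  have h := hFeq
  rw [hsplit z hz hz1, hsplit z⁻¹ hzi hzi1, hs1, hs2] at h
  linear_combination h

/-- **Hall/TI class-multiplication congruence** (any decidability instances). -/
theorem ti_hall_congruence {G : Type*} [Group G] [Fintype G] (H L : Subgroup G) (hHL : H ≤ L)
    (hTI : Cfsg.IsTISubset (H : Set G)) (hN : Subgroup.normalizer (H : Set G) = L)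
    (hcop : Nat.Coprime (Nat.card H) (H.relIndex L)) (ψ : G → ℂ)
    (hψ : Cfsg.IsIrrCharacter G ψ) (z : G) (hz : z ∈ H) (hzc : ∀ h ∈ H, z * h = h * z)
    (hz1 : z ≠ 1) (hzz : ψ z⁻¹ = ψ z)
    [DecidablePred fun y : G => ∃ x ∈ L, x * z * x⁻¹ = y]
    [DecidablePred fun y : G => ∃ x ∈ L, x * z⁻¹ * x⁻¹ = y] :
    ∃ α : ℂ, IsIntegral ℤ α ∧
      (∑ y : G, if (∃ x ∈ L, x * z * x⁻¹ = y) then ψ (z * y) else 0)
        - (∑ y : G, if (∃ x ∈ L, x * z⁻¹ * x⁻¹ = y) then ψ (z * y) else 0)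
        = (Nat.card H : ℂ) * α := by
  obtain ⟨α, hα, h⟩ := ti_hall_congruence_aux H L hHL hTI hN hcop ψ hψ z hz hzc hz1 hzz
  refine ⟨α, hα, ?_⟩
  rw [← h]
  congr 1 <;> exact Finset.sum_congr rfl fun y _ => by congr

end Cfsg.Agent.Helper25.TIHall
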