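import Mathlib
import Cfsg.Prelude.Def_OddOrderChar
import Cfsg.Agent.Lib.Helper81.CharInd
import Cfsg.Agent.Lib.Helper81.CharAbel

set_option autoImplicit false

namespace Cfsg.Agent.Helper25

open Cfsg Cfsg.Agent.Helper81
open scoped ComplexConjugate

universe u

variable {G : Type u} [Group G] [Fintype G]

/-- value of an induced function on a TI-subset `W ∖ S` of the abelian subgroup `W`. -/
theorem indFun_apply_of_TI_gen (W : Subgroup G) (hcomm : ∀ a b : W, a * b = b * a)
    (S : Set G)
    (hTI : ∀ w : G, w ∈ W → w ∉ S → ∀ x : G, x⁻¹ * w * x ∈ W → x⁻¹ * w * x ∉ S → x ∈ W)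
    (β : W → ℂ) (hβ : ∀ w : W, (w : G) ∈ S → β w = 0)
    (w : W) (hw : (w : G) ∉ S) : indFun W β (w : G) = β w := by
  classical
  rw [indFun_apply]
  have h1 : ∀ x : G, extendByZero W β (x⁻¹ * (w : G) * x)
      = if x ∈ W then β w else 0 := by
    intro x
    split_ifs with hx
    · have : x⁻¹ * (w : G) * x = (w : G) := by
        have := congrArg Subtype.val (hcomm w ⟨x, hx⟩)
        simp only [Subgroup.coe_mul] at this
        rw [mul_assoc, this, inv_mul_cancel_left]
      rw [this, extendByZero_apply_coe]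
    · by_cases hc : x⁻¹ * (w : G) * x ∈ W
      · rw [extendByZero_apply_mem _ _ hc]
        by_cases hc1 : x⁻¹ * (w : G) * x ∈ S
        · exact hβ ⟨_, hc⟩ hc1
        · exact absurd (hTI w w.2 hw x hc hc1) hx
      · exact extendByZero_apply_not_mem _ _ hc
  rw [Finset.sum_congr rfl (fun x _ => h1 x), Finset.sum_ite, Finset.sum_const, Finset.sum_const_zero,
    add_zero, nsmul_eq_mul]
  have hcard : (Finset.univ.filter (fun x : G => x ∈ W)).card = Nat.card W := by
    rw [Nat.card_eq_fintype_card]
    exact (Fintype.card_of_subtype _ (by simp)).symm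
  rw [hcard]
  have hne : (Nat.card W : ℂ) ≠ 0 := by
    exact_mod_cast (Nat.card_pos (α := W)).ne'
  rw [← mul_assoc, inv_mul_cancel₀ hne, one_mul]

/-- induction from a TI-subset is an isometry -/
theorem classInner_indFun_indFun_of_TI_gen (W : Subgroup G) [Fintype W]
    (hcomm : ∀ a b : W, a * b = b * a) (S : Set G)
    (hTI : ∀ w : G, w ∈ W → w ∉ S → ∀ x : G, x⁻¹ * w * x ∈ W → x⁻¹ * w * x ∉ S → x ∈ W)
    (α β : W → ℂ) (hα : ∀ w : W, (w : G) ∈ S → α w = 0) (hβ : ∀ w : W, (w : G) ∈ S → β w = 0) :
    classInner (indFun W α) (indFun W β) = classInner α β := by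
  classical
  rw [frobenius_reciprocity _ _ (indFun_isClassFunction _ _)]
  unfold classInner
  congr 1
  apply Finset.sum_congr rfl
  intro w _
  by_cases h1 : (w : G) ∈ S
  · rw [hα w h1, zero_mul, zero_mul]
  · show α w * conj (indFun W β (w : G)) = _
    rw [indFun_apply_of_TI_gen W hcomm S hTI β hβ w h1]

/-- an induced function vanishes at `1` if the original one does -/
theorem indFun_one_eq_zero (W : Subgroup G) (β : W → ℂ) (hβ : β 1 = 0) : indFun W β 1 = 0 := by
  rw [indFun_apply]
  have : ∀ x : G, extendByZero W β (x⁻¹ * 1 * x) = 0 := by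
    intro x
    have h1 : x⁻¹ * 1 * x = ((1 : W) : G) := by simp
    rw [h1, extendByZero_apply_coe, hβ]
  rw [Finset.sum_congr rfl (fun x _ => this x), Finset.sum_const_zero, mul_zero]

theorem indFun_sub (W : Subgroup G) (a b : W → ℂ) :
    indFun W (a - b) = indFun W a - indFun W b := by
  have h1 : a - b = a + (-1 : ℂ) • b := by
    funext w; simp [sub_eq_add_neg]
  rw [h1, indFun_add, indFun_smul]
  funext g; simp [sub_eq_add_neg]

end Cfsg.Agent.Helper25
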