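import Mathlib
import Cfsg.Prelude.Def_OddOrder
import Cfsg.Prelude.Def_OddOrderLocal
import Cfsg.Agent.S1409
import Cfsg.Agent.Lib.Helper54.BGTransitivity

/-!
# BG142 request (Q10) of helper54.
-/

set_option autoImplicit false
set_option linter.unusedSectionVars false
set_option linter.unusedVariables false
set_option linter.style.haveILetI false

namespace Cfsg.Agent.Helper25.BG142Req

open Subgroup

variable {G : Type*} [Group G] [Finite G]

theorem centralizer_singleton_le_normalizer_zpowers (x : G) :
    centralizer ({x} : Set G) ≤ normalizer ((zpowers x : Subgroup G) : Set G) := by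
  refine le_trans ?_ (Subgroup.centralizer_le_normalizer _)
  intro c hc
  rw [mem_centralizer_iff] at hc ⊢
  intro h hh
  obtain ⟨m, rfl⟩ := mem_zpowers_iff.mp hh
  have h1 : Commute x c := hc x rfl
  exact (h1.zpow_left m).eq

/-- **(Q10)** = (L9)(i) generalised. -/
theorem not_le_centralizer_of_inUniqueMaximal (hG : Cfsg.IsMinSimpleOddOrder G) (M : Subgroup G)
    (hM : IsCoatom M) (S : Subgroup G) (hS : Cfsg.InUniqueMaximal S) (hSM : S ≤ M) (x : G)
    (hx : (orderOf x).Prime) (hxσ : orderOf x ∉ Cfsg.sigma M)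
    (hr : Cfsg.PRankLE (orderOf x) 1 M) :
    ¬ S ≤ centralizer ({x} : Set G) := by
  intro hle
  haveI : IsSimpleGroup G := hG.2.1
  haveI : Fact (orderOf x).Prime := ⟨hx⟩
  have hx1 : x ≠ 1 := by
    intro h
    rw [h, orderOf_one] at hx
    exact Nat.not_prime_one hx
  have hXbot : zpowers x ≠ ⊥ := by
    intro hb
    have : x ∈ zpowers x := mem_zpowers x
    rw [hb, mem_bot] at this
    exact hx1 this
  have hXtop : zpowers x ≠ ⊤ := by
    intro htop
    apply Cfsg.Agent.Helper54.centralizer_singleton_ne_top hG.2.2.1 x hx1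
    rw [eq_top_iff]
    intro c _
    rw [mem_centralizer_iff]
    intro h hh
    rw [Set.mem_singleton_iff] at hh
    have hc : c ∈ zpowers x := by rw [htop]; trivial
    obtain ⟨m, rfl⟩ := mem_zpowers_iff.mp hc
    rw [hh]
    exact ((Commute.refl x).zpow_right m).eq
  have hNtop := Cfsg.Agent.Helper54.normalizer_ne_top_of_isSimpleGroup (zpowers x) hXbot hXtop
  rcases eq_top_or_exists_le_coatom (normalizer ((zpowers x : Subgroup G) : Set G)) with
    htop | ⟨H, hH, hNH⟩
  · exact hNtop htop
  have hSH : S ≤ H := (hle.trans (centralizer_singleton_le_normalizer_zpowers x)).trans hNH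
  have hHM : H = M := hS.unique ⟨hH, hSH⟩ ⟨hM, hSM⟩
  rw [hHM] at hNH
  have hcard : Nat.card (zpowers x) = orderOf x := Nat.card_zpowers x
  exact (Cfsg.Agent.S1409.result hG M hM (orderOf x) hxσ (zpowers x) hcard hNH).1.2 hr

end Cfsg.Agent.Helper25.BG142Req
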