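import Mathlib
import Cfsg.Prelude.Def_OddOrder
import Cfsg.Prelude.Def_OddOrderLocal
import Cfsg.Agent.Lib.Helper76.EqOrd1
import Cfsg.Agent.Lib.Helper79.BG10.Conj

/-!
# BG142 requests (Q17), (Q4), (Q2) of helper54 (pure consequences of the definition of `κ(M)`).
-/

set_option autoImplicit false
set_option linter.unusedSectionVars false
set_option linter.unusedVariables false
set_option linter.style.haveILetI false

namespace Cfsg.Agent.Helper25.BG142Req

open Subgroup
open Cfsg.Agent.Helper79.BG10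

variable {G : Type*} [Group G] [Finite G]

/-- a nontrivial subgroup contains an element of prime order -/
theorem exists_prime_order_mem' {A : Subgroup G} (hA : A ≠ ⊥) :
    ∃ y ∈ A, ∃ q : ℕ, q.Prime ∧ orderOf y = q := by
  obtain ⟨w, hw1⟩ := (Subgroup.ne_bot_iff_exists_ne_one.mp hA)
  have hw1' : (w : G) ≠ 1 := fun h => hw1 (Subtype.ext h)
  have hne : orderOf (w : G) ≠ 1 := fun h => hw1' (orderOf_eq_one_iff.mp h)
  obtain ⟨q, hq, hqd⟩ := Nat.exists_prime_and_dvd hne
  have h0 : orderOf (w : G) ≠ 0 := (orderOf_pos (w : G)).ne'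
  exact ⟨(w : G) ^ (orderOf (w : G) / q), pow_mem w.2 _, q, hq, orderOf_pow_orderOf_div h0 hqd⟩

theorem isCyclic_of_le' {A B : Subgroup G} (hB : IsCyclic B) (h : A ≤ B) : IsCyclic A := by
  have h4 : IsCyclic ↥(A.subgroupOf B) := inferInstance
  exact (Subgroup.subgroupOfEquivOfLe h).isCyclic.mp h4

/-- `p`-subgroups of `M` are cyclic for `p ∈ κ(M)`. -/
theorem isCyclic_of_mem_kappa {M A : Subgroup G} {p : ℕ} (hp : p ∈ Cfsg.kappa M) (hA : A ≤ M)
    (hAp : IsPGroup p A) : IsCyclic A := by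
  haveI : Fact p.Prime := ⟨hp.1⟩
  have hA' : IsPGroup p (A.subgroupOf M) := hAp.comap_subtype
  obtain ⟨S, hS⟩ := hA'.exists_le_sylow
  have hcyc : IsCyclic (S : Subgroup M) := (hp.2.2.2 S).1
  have h1 : IsCyclic ↥(A.subgroupOf M) := by
    have h4 : IsCyclic ↥((A.subgroupOf M).subgroupOf (S : Subgroup M)) := inferInstance
    exact (Subgroup.subgroupOfEquivOfLe hS).isCyclic.mp h4
  exact (Subgroup.subgroupOfEquivOfLe hA).isCyclic.mp h1

/-- two subgroups of the same order inside a cyclic subgroup are equal -/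
theorem eq_of_card_eq_of_le_cyclic {P X Y : Subgroup G} (hP : IsCyclic P) (hX : X ≤ P) (hY : Y ≤ P)
    (h : Nat.card X = Nat.card Y) : X = Y := by
  haveI := hP
  have h1 : X.subgroupOf P = Y.subgroupOf P := by
    apply Cfsg.Agent.Helper76.EqOrd.eq_of_card_eq_of_isCyclic
    rw [Nat.card_congr (Subgroup.subgroupOfEquivOfLe hX).toEquiv,
      Nat.card_congr (Subgroup.subgroupOfEquivOfLe hY).toEquiv, h]
  have h2 := congrArg (Subgroup.map P.subtype) h1
  rwa [Subgroup.map_subgroupOf_eq_of_le hX, Subgroup.map_subgroupOf_eq_of_le hY] at h2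

/-- **(Q17)** -/
theorem hall_inf_conj_eq_bot (M K N : Subgroup G) (hK : Cfsg.IsPiHallOf (Cfsg.kappa M) K M)
    (hnorm : ∀ X : Subgroup G, X ≤ K → (Nat.card X).Prime → M ⊓ normalizer (X : Set G) = K ⊔ N)
    (g : G) (hgM : g ∈ M) (hg : g ∉ K ⊔ N) :
    K ⊓ K.map (MulAut.conj g).toMonoidHom = ⊥ := by
  by_contra hne
  obtain ⟨k, hk, p, hp, hord⟩ := exists_prime_order_mem' hne
  haveI : Fact p.Prime := ⟨hp⟩
  have hkK : k ∈ K := hk.1
  have hk'K : g⁻¹ * k * g ∈ K := mem_cj.mp hk.2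
  have hord' : orderOf (g⁻¹ * k * g) = p := by
    have : g⁻¹ * k * g = MulAut.conj g⁻¹ k := by simp [MulAut.conj_apply]
    rw [this, MulEquiv.orderOf_eq, hord]
  have hXK : zpowers k ≤ K := by rw [zpowers_le]; exact hkK
  have hX'K : zpowers (g⁻¹ * k * g) ≤ K := by rw [zpowers_le]; exact hk'K
  have hcX : Nat.card (zpowers k) = p := by rw [Nat.card_zpowers, hord]
  have hcX' : Nat.card (zpowers (g⁻¹ * k * g)) = p := by rw [Nat.card_zpowers, hord']
  have hpκ : p ∈ Cfsg.kappa M :=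
    hK.2.1 p hp (by rw [← hord]; exact Subgroup.orderOf_dvd_natCard _ hkK)
  have hKNX : K ≤ normalizer ((zpowers k : Subgroup G) : Set G) := by
    have h1 := hnorm (zpowers k) hXK (by rw [hcX]; exact hp)
    have h2 : K ≤ M ⊓ normalizer ((zpowers k : Subgroup G) : Set G) := by rw [h1]; exact le_sup_left
    exact h2.trans inf_le_right
  have hKNX' : K ≤ normalizer ((zpowers (g⁻¹ * k * g) : Subgroup G) : Set G) := by
    have h1 := hnorm (zpowers (g⁻¹ * k * g)) hX'K (by rw [hcX']; exact hp)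
    have h2 : K ≤ M ⊓ normalizer ((zpowers (g⁻¹ * k * g) : Subgroup G) : Set G) := by
      rw [h1]; exact le_sup_left
    exact h2.trans inf_le_right
  have hpgX : IsPGroup p (zpowers k) := IsPGroup.of_card (n := 1) (by rw [hcX, pow_one])
  have hpgX' : IsPGroup p (zpowers (g⁻¹ * k * g)) :=
    IsPGroup.of_card (n := 1) (by rw [hcX', pow_one])
  have hP : IsPGroup p (zpowers k ⊔ zpowers (g⁻¹ * k * g) : Subgroup G) :=
    hpgX.to_sup_of_normal_right' hpgX' (hXK.trans hKNX')
  have hPM : zpowers k ⊔ zpowers (g⁻¹ * k * g) ≤ M := (sup_le hXK hX'K).trans hK.1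
  have hcyc : IsCyclic ↥(zpowers k ⊔ zpowers (g⁻¹ * k * g) : Subgroup G) :=
    isCyclic_of_mem_kappa hpκ hPM hP
  have heq : zpowers k = zpowers (g⁻¹ * k * g) :=
    eq_of_card_eq_of_le_cyclic hcyc le_sup_left le_sup_right (by rw [hcX, hcX'])
  -- g⁻¹ normalizes X
  have hginv : g⁻¹ ∈ normalizer ((zpowers k : Subgroup G) : Set G) := by
    have hcj : cj g⁻¹ (zpowers k) = zpowers k := by
      have h1 : cj g⁻¹ (zpowers k) = zpowers (g⁻¹ * k * g) := by
        have : cj g⁻¹ (zpowers k) = (zpowers k).map (MulAut.conj g⁻¹).toMonoidHom := rfl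
        rw [this, MonoidHom.map_zpowers]
        congr 1
        simp [MulAut.conj_apply]
      rw [h1, ← heq]
    exact mem_normalizer_of_cj_eq hcj
  have hgN : g ∈ normalizer ((zpowers k : Subgroup G) : Set G) := by
    have := inv_mem hginv
    rwa [inv_inv] at this
  apply hg
  rw [← hnorm (zpowers k) hXK (by rw [hcX]; exact hp)]
  exact Subgroup.mem_inf.mpr ⟨hgM, hgN⟩

/-- **(Q4)** pure: a Hall `κ`-subgroup equals any `κ`-subgroup of `M` containing it. -/
theorem eq_of_kappa_hall_le (M K F : Subgroup G) (hK : Cfsg.IsPiHallOf (Cfsg.kappa M) K M)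
    (hKF : K ≤ F) (hFM : F ≤ M) (hF : ∀ p : ℕ, p.Prime → p ∣ Nat.card F → p ∈ Cfsg.kappa M) :
    K = F := by
  apply Subgroup.eq_of_le_of_card_ge hKF
  -- card F = card K * relIndex K F, and relIndex K F = 1
  have h1 : K.relIndex F * F.relIndex M = K.relIndex M := Subgroup.relIndex_mul_relIndex K F M hKF hFM
  have h2 : K.relIndex F = 1 := by
    by_contra hne
    obtain ⟨p, hp, hpd⟩ := Nat.exists_prime_and_dvd hne
    have hpF : p ∣ Nat.card F := by
      have h3 := Subgroup.relIndex_mul_relIndex ⊥ K F bot_le hKF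
      rw [Subgroup.relIndex_bot_left, Subgroup.relIndex_bot_left] at h3
      rw [← h3]
      exact Dvd.dvd.mul_left hpd _
    have hpκ : p ∈ Cfsg.kappa M := hF p hp hpF
    apply hK.2.2 p hp hpκ
    rw [← h1]
    exact Dvd.dvd.mul_right hpd _
  have h3 := Subgroup.relIndex_mul_relIndex ⊥ K F bot_le hKF
  rw [Subgroup.relIndex_bot_left, Subgroup.relIndex_bot_left, h2, mul_one] at h3
  rw [h3]

/-- **(Q2)** = (L0): a subgroup of prime order of a Hall `κ(M)`-subgroup has fixed points on `M_σ`. -/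
theorem cent_ne_bot_of_le_kappa_hall (M : Subgroup G)
    (K : Subgroup G) (hK : Cfsg.IsPiHallOf (Cfsg.kappa M) K M) (X : Subgroup G) (hXK : X ≤ K)
    (hX : (Nat.card X).Prime) :
    Cfsg.sigmaCore M ⊓ centralizer (X : Set G) ≠ ⊥ := by
  set p := Nat.card X with hpdef
  haveI : Fact p.Prime := ⟨hX⟩
  have hpκ : p ∈ Cfsg.kappa M := hK.2.1 p hX (Subgroup.card_dvd_of_le hXK)
  have hXM : X ≤ M := hXK.trans hK.1
  have hXp : IsPGroup p X := IsPGroup.of_card (n := 1) (by rw [pow_one])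
  have hX' : IsPGroup p (X.subgroupOf M) := hXp.comap_subtype
  obtain ⟨S, hS⟩ := hX'.exists_le_sylow
  obtain ⟨hcyc, x0, hx0S, hx01, y, hy, hy1, hxy⟩ := hpκ.2.2.2 S
  -- the subgroup of order p of ⟨x0⟩ inside the cyclic S
  have hx0ne : orderOf x0 ≠ 1 := fun h => hx01 (orderOf_eq_one_iff.mp h)
  have hx0pow : ∃ n : ℕ, orderOf x0 = p ^ n := by
    obtain ⟨n, hn⟩ := (S.2 ⟨x0, hx0S⟩)
    have h1 : x0 ^ p ^ n = 1 := by
      have := congrArg Subtype.val hn
      simpa using this
    obtain ⟨m, -, hm⟩ := (Nat.dvd_prime_pow hX).mp (orderOf_dvd_of_pow_eq_one h1)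
    exact ⟨m, hm⟩
  obtain ⟨n, hn⟩ := hx0pow
  have hn0 : n ≠ 0 := by
    intro h
    rw [h, pow_zero] at hn
    exact hx0ne hn
  have hpd : p ∣ orderOf x0 := by rw [hn]; exact dvd_pow_self p hn0
  set x1 := x0 ^ (orderOf x0 / p) with hx1def
  have hord1 : orderOf x1 = p := orderOf_pow_orderOf_div (orderOf_pos x0).ne' hpd
  have hx1S : x1 ∈ (S : Subgroup M) := pow_mem hx0S _
  -- X.subgroupOf M and zpowers x1 are subgroups of the cyclic S of the same order
  have hcycS : IsCyclic ↥(S : Subgroup M) := hcyc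
  have hZ : zpowers x1 ≤ (S : Subgroup M) := by rw [zpowers_le]; exact hx1S
  have hcardX : Nat.card (X.subgroupOf M) = p :=
    Nat.card_congr (Subgroup.subgroupOfEquivOfLe hXM).toEquiv
  have hcardZ : Nat.card (zpowers x1) = p := by rw [Nat.card_zpowers, hord1]
  have heq : X.subgroupOf M = zpowers x1 := by
    haveI := hcycS
    have h1 : (X.subgroupOf M).subgroupOf (S : Subgroup M) = (zpowers x1).subgroupOf (S : Subgroup M) := by
      apply Cfsg.Agent.Helper76.EqOrd.eq_of_card_eq_of_isCyclic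
      rw [Nat.card_congr (Subgroup.subgroupOfEquivOfLe hS).toEquiv,
        Nat.card_congr (Subgroup.subgroupOfEquivOfLe hZ).toEquiv, hcardX, hcardZ]
    have h2 := congrArg (Subgroup.map (S : Subgroup M).subtype) h1
    rwa [Subgroup.map_subgroupOf_eq_of_le hS, Subgroup.map_subgroupOf_eq_of_le hZ] at h2
  -- y centralizes X
  intro hbot
  have hyC : y ∈ centralizer (X : Set G) := by
    rw [mem_centralizer_iff]
    intro w hw
    have hwM : w ∈ M := hXM hw
    have hw' : (⟨w, hwM⟩ : M) ∈ X.subgroupOf M := by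
      rw [Subgroup.mem_subgroupOf]; exact hw
    rw [heq] at hw'
    obtain ⟨m, hm⟩ := mem_zpowers_iff.mp hw'
    have hwx : w = ((x0 : G) ^ (orderOf x0 / p)) ^ m := by
      have := congrArg Subtype.val hm
      simp only [hx1def] at this
      rw [← this]
      simp
    have hc : Commute (x0 : G) y := hxy
    rw [hwx]
    exact (((hc.pow_left _).zpow_left m).eq)
  have : y ∈ Cfsg.sigmaCore M ⊓ centralizer (X : Set G) := Subgroup.mem_inf.mpr ⟨hy, hyC⟩
  rw [hbot, mem_bot] at this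
  exact hy1 this

end Cfsg.Agent.Helper25.BG142Req
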