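import Mathlib
import Cfsg.Agent.S1378
import Cfsg.Agent.S1433
import Cfsg.Agent.Lib.Helper25.BGNat
import Cfsg.Agent.Lib.Helper55.BGBasic

/-!
# Part (1) of S1379 (Bender–Glauberman 14.6), as a library (helper25)

`part1`: `M̃ ∩ Ñ = ∅` for non-conjugate maximal subgroups.
Formal consequence of the frozen rows S1378 and S1433 only (part (3b) is in `BG14Disj3b`).
-/

set_option autoImplicit false
set_option linter.unusedSectionVars false
set_option linter.unusedVariables false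
set_option linter.style.haveILetI false

namespace Cfsg.Agent.Helper25.BG14Disj

open Subgroup
open Cfsg.Agent.Helper79.BG10
open Cfsg.Agent.Helper25.BGNat
open Cfsg.Agent.Helper55.BGB

variable {G : Type*} [Group G]

theorem conj_ne_one' {x h : G} (hx : x ≠ 1) : h * x * h⁻¹ ≠ 1 := by
  intro e
  exact hx (conj_eq_one_iff.mp e)

theorem mem_centralizer_singleton' {x c : G} : c ∈ centralizer ({x} : Set G) ↔ x * c = c * x := by
  rw [mem_centralizer_iff]
  constructor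
  · intro h; exact h x rfl
  · intro h y hy
    rw [Set.mem_singleton_iff] at hy
    rw [hy]; exact h

theorem exists_prime_dvd_orderOf' [Finite G] {y : G} (hy : y ≠ 1) :
    ∃ p : ℕ, p.Prime ∧ p ∣ orderOf y := by
  apply Nat.exists_prime_and_dvd
  intro h
  exact hy (orderOf_eq_one_iff.mp h)

/-- primes dividing the order of an element of `M_σ` lie in `σ(M)` -/
theorem mem_sigma_of_dvd_orderOf [Finite G] {M : Subgroup G} {a : G} (ha : a ∈ Cfsg.sigmaCore M)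
    {p : ℕ} (hp : p.Prime) (hd : p ∣ orderOf a) : p ∈ Cfsg.sigma M :=
  isPi_sigmaCore M p hp (hd.trans (Subgroup.orderOf_dvd_natCard _ ha))

/-- **S1379 (1)**: `M̃ ∩ Ñ = ∅` for non-conjugate maximal subgroups `M`, `N`. -/
theorem part1 {G : Type*} [Group G] [Finite G] (hG : Cfsg.IsMinSimpleOddOrder G) :
    ∀ M N : Subgroup G, IsCoatom M → IsCoatom N →
      (∀ g : G, N ≠ M.map (MulAut.conj g).toMonoidHom) →
      Cfsg.tildeOf M ((Cfsg.sigmaCore M : Set G) \ {1}) ∩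
        Cfsg.tildeOf N ((Cfsg.sigmaCore N : Set G) \ {1}) = ∅ := by
  intro M N hM hN hne
  rw [Set.eq_empty_iff_forall_notMem]
  rintro u ⟨⟨a, ⟨ha, ha1⟩, r, hr, y1, rfl⟩, ⟨b, ⟨hb, hb1⟩, s, hs, y2, he⟩⟩
  have ha1' : a ≠ 1 := fun h => ha1 (by rw [h]; rfl)
  have hb1' : b ≠ 1 := fun h => hb1 (by rw [h]; rfl)
  have ha' : y1 * a * y1⁻¹ ∈ Cfsg.sigmaCore (cj y1 M) := conj_mem_sigmaCore_cj ha
  have hb' : y2 * b * y2⁻¹ ∈ Cfsg.sigmaCore (cj y2 N) := conj_mem_sigmaCore_cj hb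
  have hr' : y1 * r * y1⁻¹ ∈ Cfsg.supportR (cj y1 M) (y1 * a * y1⁻¹) := conj_mem_supportR_cj hr
  have hs' : y2 * s * y2⁻¹ ∈ Cfsg.supportR (cj y2 N) (y2 * b * y2⁻¹) := conj_mem_supportR_cj hs
  have hprod : (y1 * a * y1⁻¹) * (y1 * r * y1⁻¹) = (y2 * b * y2⁻¹) * (y2 * s * y2⁻¹) := by
    calc (y1 * a * y1⁻¹) * (y1 * r * y1⁻¹) = y1 * (a * r) * y1⁻¹ := by group
      _ = y2 * (b * s) * y2⁻¹ := he
      _ = (y2 * b * y2⁻¹) * (y2 * s * y2⁻¹) := by group
  by_cases hab : y1 * a * y1⁻¹ = y2 * b * y2⁻¹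
  · obtain ⟨p, hp, hpd⟩ := exists_prime_dvd_orderOf' (conj_ne_one' (h := y1) ha1')
    have h1 : p ∈ Cfsg.sigma M := by
      have := mem_sigma_of_dvd_orderOf ha' hp hpd
      rwa [sigma_cj] at this
    have h2 : p ∈ Cfsg.sigma N := by
      rw [hab] at hpd
      have := mem_sigma_of_dvd_orderOf hb' hp hpd
      rwa [sigma_cj] at this
    obtain ⟨g, hg⟩ := (Cfsg.Agent.S1378.result hG).2 M N hM hN ⟨p, h1, h2⟩
    exact hne g hg
  · exact Cfsg.Agent.S1433.result hG (cj y1 M) (cj y2 N) (isCoatom_cj hM) (isCoatom_cj hN)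
      (y1 * a * y1⁻¹) (y2 * b * y2⁻¹) ha' hb' (conj_ne_one' ha1') (conj_ne_one' hb1') hab
      (y1 * r * y1⁻¹) hr' (y2 * s * y2⁻¹) hs' hprod

end Cfsg.Agent.Helper25.BG14Disj
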