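import Mathlib
import Cfsg.Agent.S1350
import Cfsg.Agent.S1375
import Cfsg.Agent.S1378
import Cfsg.Agent.S1404
import Cfsg.Agent.S1430
import Cfsg.Agent.S1431
import Cfsg.Agent.Lib.Helper25.BGNat
import Cfsg.Agent.Lib.Helper55.BGBasic
import Cfsg.Agent.Lib.Helper55.BGHall
import Cfsg.Agent.Lib.Helper69.PiParts

/-!
# LEMMA T (helper95's request for S1351): for ANY Hall `κ(M)`-subgroup `K ≠ 1` (not nec. cyclic),
no conjugate of `k * y` (`k ∈ K#`, `y ∈ K*#`, `K* = C_{M_σ}(K)`) lies in any `Ñ`.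

Formal consequence of the frozen rows S1350, S1375, S1378, S1404, S1430, S1431 (imported EARLY).
-/

set_option autoImplicit false
set_option linter.unusedSectionVars false
set_option linter.unusedVariables false
set_option linter.style.haveILetI false

namespace Cfsg.Agent.Helper25.BG14T

open Subgroup
open Cfsg.Agent.Helper79.BG10
open Cfsg.Agent.Helper25.BGNat
open Cfsg.Agent.Helper55.BGB
open Cfsg.Agent.Helper69

variable {G : Type*} [Group G]

theorem conj_ne_one {x h : G} (hx : x ≠ 1) : h * x * h⁻¹ ≠ 1 := by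
  intro e
  exact hx (conj_eq_one_iff.mp e)

theorem mem_centralizer_singleton {x c : G} : c ∈ centralizer ({x} : Set G) ↔ x * c = c * x := by
  rw [mem_centralizer_iff]
  constructor
  · intro h; exact h x rfl
  · intro h y hy
    rw [Set.mem_singleton_iff] at hy
    rw [hy]; exact h

theorem exists_prime_dvd_orderOf [Finite G] {y : G} (hy : y ≠ 1) :
    ∃ p : ℕ, p.Prime ∧ p ∣ orderOf y := by
  apply Nat.exists_prime_and_dvd
  intro h
  exact hy (orderOf_eq_one_iff.mp h)

theorem mem_sigma_of_dvd_orderOf [Finite G] {M : Subgroup G} {a : G} (ha : a ∈ Cfsg.sigmaCore M)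
    {p : ℕ} (hp : p.Prime) (hd : p ∣ orderOf a) : p ∈ Cfsg.sigma M :=
  isPi_sigmaCore M p hp (hd.trans (Subgroup.orderOf_dvd_natCard _ ha))

theorem centralizer_le_centralizer_zpowers_pow (a : G) (n : ℕ) :
    centralizer ({a} : Set G) ≤ centralizer ((zpowers (a ^ n) : Subgroup G) : Set G) := by
  intro c hc
  rw [mem_centralizer_singleton] at hc
  rw [mem_centralizer_iff]
  intro h hh
  obtain ⟨m, rfl⟩ := mem_zpowers_iff.mp hh
  have h1 : Commute a c := hc
  exact ((h1.pow_left n).zpow_left m).eq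

/-- `C_G(y) ≤ M` for `y ∈ K*#` (from S1431(1)). -/
theorem centralizer_le_of_mem_Ks [Finite G] (hG : Cfsg.IsMinSimpleOddOrder G)
    (M K : Subgroup G) (hM : IsCoatom M) (hK : Cfsg.IsPiHallOf (Cfsg.kappa M) K M) (hK1 : K ≠ ⊥)
    (y : G) (hy : y ∈ Cfsg.sigmaCore M ⊓ centralizer (K : Set G)) (hy1 : y ≠ 1) :
    centralizer ({y} : Set G) ≤ M := by
  intro c hc
  by_contra hcM
  have h1 := (Cfsg.Agent.S1431.result hG M hM K hK hK1).1 c hcM
  have hyM : y ∈ M := sigmaCore_le M hy.1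
  have h2 : y ∈ (Cfsg.sigmaCore M ⊓ centralizer (K : Set G)) ⊓ M.map (MulAut.conj c).toMonoidHom := by
    refine Subgroup.mem_inf.mpr ⟨hy, ?_⟩
    rw [mem_cj]
    have hyc : y * c = c * y := mem_centralizer_singleton.mp hc
    have : c⁻¹ * y * c = y := by
      calc c⁻¹ * y * c = c⁻¹ * (y * c) := by group
        _ = c⁻¹ * (c * y) := by rw [hyc]
        _ = y := by group
    rw [this]; exact hyM
  rw [h1, mem_bot] at h2
  exact hy1 h2

/-- if `y ∈ K*#` lies in a conjugate `M^h` then `h ∈ M`. -/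
theorem mem_of_Ks_mem_cj [Finite G] (hG : Cfsg.IsMinSimpleOddOrder G)
    (M K : Subgroup G) (hM : IsCoatom M) (hK : Cfsg.IsPiHallOf (Cfsg.kappa M) K M) (hK1 : K ≠ ⊥)
    (y : G) (hy : y ∈ Cfsg.sigmaCore M ⊓ centralizer (K : Set G)) (hy1 : y ≠ 1) (h : G)
    (hyh : y ∈ cj h M) : h ∈ M := by
  by_contra hcM
  have h1 := (Cfsg.Agent.S1431.result hG M hM K hK hK1).1 h hcM
  have h2 : y ∈ (Cfsg.sigmaCore M ⊓ centralizer (K : Set G)) ⊓ M.map (MulAut.conj h).toMonoidHom :=
    Subgroup.mem_inf.mpr ⟨hy, hyh⟩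
  rw [h1, mem_bot] at h2
  exact hy1 h2

/-- Core: `k * y = x * r` with `x ∈ N_σ#`, `r ∈ R_N(x)` is impossible. -/
theorem T_aux [Finite G] (hG : Cfsg.IsMinSimpleOddOrder G)
    (M K : Subgroup G) (hM : IsCoatom M) (hK : Cfsg.IsPiHallOf (Cfsg.kappa M) K M) (hK1 : K ≠ ⊥)
    (k y : G) (hk : k ∈ K) (hk1 : k ≠ 1)
    (hy : y ∈ Cfsg.sigmaCore M ⊓ centralizer (K : Set G)) (hy1 : y ≠ 1)
    (N : Subgroup G) (hN : IsCoatom N) (x : G) (hx : x ∈ Cfsg.sigmaCore N) (hx1 : x ≠ 1)
    (r : G) (hr : r ∈ Cfsg.supportR N x) (hz : k * y = x * r) : False := by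
  haveI : IsSimpleGroup G := hG.2.1
  -- basic facts
  have hky : Commute k y := (mem_centralizer_iff.mp hy.2) k hk
  have hkκ : ∀ p : ℕ, p.Prime → p ∣ orderOf k → p ∈ Cfsg.kappa M := fun p hp hd =>
    hK.2.1 p hp (hd.trans (Subgroup.orderOf_dvd_natCard _ hk))
  have hyσ : IsPiElt (Cfsg.sigma M) y := fun p hp hd => mem_sigma_of_dvd_orderOf hy.1 hp hd
  have hkσ : IsPiElt (Cfsg.sigma M)ᶜ k := fun p hp hd =>
    not_mem_sigma_of_mem_kappa (hkκ p hp hd)
  have hk0 : orderOf k ≠ 0 := (orderOf_pos k).ne'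
  have hy0 : orderOf y ≠ 0 := (orderOf_pos y).ne'
  have hx0 : orderOf x ≠ 0 := (orderOf_pos x).ne'
  have hr0 : orderOf r ≠ 0 := (orderOf_pos r).ne'
  have hxr : Commute x r := mem_centralizer_singleton.mp (supportR_le_centralizer N x hr)
  have hzyk : x * r = y * k := by rw [← hz]; exact hky.eq
  obtain ⟨hpy, hpk⟩ := parts_unique (Cfsg.sigma M) hky.symm hyσ hkσ hy0 hk0
  -- y and k are powers of z
  have hyz : y ∈ zpowers (x * r) := by
    have h1 : piPart (Cfsg.sigma M) (y * k) ∈ zpowers (y * k) := piPart_mem_zpowers _ _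
    rw [hpy, ← hzyk] at h1
    exact h1
  have hkz : k ∈ zpowers (x * r) := by
    have h1 : piPart' (Cfsg.sigma M) (y * k) ∈ zpowers (y * k) := piPart'_mem_zpowers _ _
    rw [hpk, ← hzyk] at h1
    exact h1
  obtain ⟨t, ht, htd⟩ := exists_prime_dvd_orderOf hy1
  have htM : t ∈ Cfsg.sigma M := hyσ t ht htd
  obtain ⟨u, hu, hud⟩ := exists_prime_dvd_orderOf hk1
  have huκ : u ∈ Cfsg.kappa M := hkκ u hu hud
  by_cases hr1 : r = 1
  · -- z = x ∈ N_σ
    rw [hr1, mul_one] at hyz hkz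
    have hzN : zpowers x ≤ Cfsg.sigmaCore N := by rw [zpowers_le]; exact hx
    have htN : t ∈ Cfsg.sigma N := mem_sigma_of_dvd_orderOf (hzN hyz) ht htd
    have huN : u ∈ Cfsg.sigma N := mem_sigma_of_dvd_orderOf (hzN hkz) hu hud
    obtain ⟨h, hh⟩ := (Cfsg.Agent.S1378.result hG).2 M N hM hN ⟨t, htM, htN⟩
    rw [hh, sigma_cj] at huN
    exact not_mem_sigma_of_mem_kappa huκ huN
  · -- r ≠ 1
    have hnotN : ¬ centralizer ({x} : Set G) ≤ N := by
      intro hle
      have : r ∈ Cfsg.supportR N x := hr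
      rw [supportR_eq_bot_of_le hle, mem_bot] at this
      exact hr1 this
    obtain ⟨L, ⟨hL, hxL⟩, huniq, hσF, -, hcompl, -, -⟩ :=
      Cfsg.Agent.S1375.result hG N hN x hx hx1 hnotN
    have hR : Cfsg.supportR N x = Cfsg.sigmaCore L ⊓ centralizer ({x} : Set G) := by
      rw [supportR_eq_of_unique hnotN hL hxL huniq, hσF]
    have hrL : r ∈ Cfsg.sigmaCore L := by
      have : r ∈ Cfsg.supportR N x := hr
      rw [hR] at this
      exact this.1
    -- (B1) σ(N) ∩ σ(L) = ∅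
    have hB1 : ∀ q : ℕ, q ∈ Cfsg.sigma N → q ∈ Cfsg.sigma L → False := by
      intro q hqN hqL
      obtain ⟨h, hh⟩ := (Cfsg.Agent.S1378.result hG).2 N L hN hL ⟨q, hqN, hqL⟩
      obtain ⟨t', ht', ht'd⟩ := exists_prime_dvd_orderOf hx1
      set x0 := x ^ (orderOf x / t') with hx0def
      have hord : orderOf x0 = t' := orderOf_pow_orderOf_div hx0 ht'd
      have hx01 : x0 ≠ 1 := by
        intro h1
        rw [h1, orderOf_one] at hord
        exact ht'.one_lt.ne hord
      have ht'N : t' ∈ Cfsg.sigma N := mem_sigma_of_dvd_orderOf hx ht' ht'd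
      have ht'L : t' ∈ Cfsg.sigma L := by rw [hh, sigma_cj]; exact ht'N
      have hx0C : x0 ∈ centralizer ({x} : Set G) := by
        rw [mem_centralizer_singleton]
        exact ((Commute.refl x).pow_right _).eq
      have hx0L : zpowers x0 ≤ L := by
        rw [zpowers_le]; exact hxL hx0C
      have hpg : IsPGroup t' (zpowers x0) :=
        IsPGroup.of_card (n := 1) (by rw [Nat.card_zpowers, hord, pow_one])
      have hHall := (Cfsg.Agent.S1350.result hG L hL).1
      have hx0σ : x0 ∈ Cfsg.sigmaCore L :=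
        le_sigmaCore_of_isPGroup ht' hHall ht'L hx0L hpg (mem_zpowers x0)
      have hx0N : x0 ∈ N := sigmaCore_le N (pow_mem hx _)
      have : x0 ∈ (N ⊓ centralizer ({x} : Set G)) ⊓ (Cfsg.sigmaCore L ⊓ centralizer ({x} : Set G)) :=
        Subgroup.mem_inf.mpr ⟨Subgroup.mem_inf.mpr ⟨hx0N, hx0C⟩, Subgroup.mem_inf.mpr ⟨hx0σ, hx0C⟩⟩
      rw [hcompl.2.2.1, mem_bot] at this
      exact hx01 this
    have hxσN : ∀ q : ℕ, q.Prime → q ∣ orderOf x → q ∈ Cfsg.sigma N := fun q hq hd =>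
      mem_sigma_of_dvd_orderOf hx hq hd
    have hrσL : ∀ q : ℕ, q.Prime → q ∣ orderOf r → q ∈ Cfsg.sigma L := fun q hq hd =>
      mem_sigma_of_dvd_orderOf hrL hq hd
    -- t divides o(x) or o(r)
    have htz : t ∣ orderOf (x * r) := htd.trans (orderOf_dvd_of_mem_zpowers hyz)
    have htxr : t ∣ orderOf x * orderOf r := htz.trans hxr.orderOf_mul_dvd_mul_orderOf
    rcases (Nat.Prime.dvd_mul ht).mp htxr with htx | htr
    · -- N ~ M
      have htN : t ∈ Cfsg.sigma N := hxσN t ht htx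
      obtain ⟨h, hh⟩ := (Cfsg.Agent.S1378.result hG).2 M N hM hN ⟨t, htM, htN⟩
      have hσeq : Cfsg.sigma N = Cfsg.sigma M := by rw [hh, sigma_cj]
      have hxπ : IsPiElt (Cfsg.sigma M) x := fun q hq hd => by
        rw [← hσeq]; exact hxσN q hq hd
      have hrπ : IsPiElt (Cfsg.sigma M)ᶜ r := fun q hq hd hqM => by
        rw [← hσeq] at hqM
        exact hB1 q hqM (hrσL q hq hd)
      obtain ⟨hpx, -⟩ := parts_unique (Cfsg.sigma M) hxr hxπ hrπ hx0 hr0
      have hxy : x = y := by rw [← hpx, hzyk, hpy]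
      -- y ∈ N = M^h
      have hyN : y ∈ cj h M := by
        have h1 : y ∈ N := by rw [← hxy]; exact sigmaCore_le N hx
        rw [hh] at h1
        exact h1
      have hhM : h ∈ M := mem_of_Ks_mem_cj hG M K hM hK hK1 y hy hy1 h hyN
      have hNM : N = M := by rw [hh]; exact cj_eq_self_of_mem hhM
      apply hnotN
      rw [hxy, hNM]
      exact centralizer_le_of_mem_Ks hG M K hM hK hK1 y hy hy1
    · -- L ~ M
      have htL : t ∈ Cfsg.sigma L := hrσL t ht htr
      obtain ⟨h, hh⟩ := (Cfsg.Agent.S1378.result hG).2 M L hM hL ⟨t, htM, htL⟩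
      have hσeq : Cfsg.sigma L = Cfsg.sigma M := by rw [hh, sigma_cj]
      have hrπ : IsPiElt (Cfsg.sigma M) r := fun q hq hd => by
        rw [← hσeq]; exact hrσL q hq hd
      have hxπ : IsPiElt (Cfsg.sigma M)ᶜ x := fun q hq hd hqM => by
        rw [← hσeq] at hqM
        exact hB1 q (hxσN q hq hd) hqM
      obtain ⟨-, hpx⟩ := parts_unique (Cfsg.sigma M) hxr.symm hrπ hxπ hr0 hx0
      have hxk : x = k := by
        rw [← hpx, ← hxr.eq, hzyk, hpk]
      -- X of prime order u in K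
      set k0 := k ^ (orderOf k / u) with hk0def
      have hord : orderOf k0 = u := orderOf_pow_orderOf_div hk0 hud
      have hk01 : k0 ≠ 1 := by
        intro h1
        rw [h1, orderOf_one] at hord
        exact hu.one_lt.ne hord
      have hXK : zpowers k0 ≤ K := by
        rw [zpowers_le]; exact pow_mem hk _
      have hXcard : (Nat.card (zpowers k0)).Prime := by
        rw [Nat.card_zpowers, hord]; exact hu
      have hXbot : zpowers k0 ≠ ⊥ := by
        intro hb
        have : k0 ∈ zpowers k0 := mem_zpowers k0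
        rw [hb, mem_bot] at this
        exact hk01 this
      have hXtop : zpowers k0 ≠ ⊤ := by
        intro htop
        apply hM.1
        rw [eq_top_iff, ← htop]
        exact hXK.trans hK.1
      have hNtop : normalizer ((zpowers k0 : Subgroup G) : Set G) ≠ ⊤ :=
        Cfsg.Agent.Helper54.normalizer_ne_top_of_isSimpleGroup (zpowers k0) hXbot hXtop
      rcases eq_top_or_exists_le_coatom (normalizer ((zpowers k0 : Subgroup G) : Set G)) with
        htop | ⟨H, hH, hNH⟩
      · exact hNtop htop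
      have hXH : zpowers k0 ≤ Cfsg.sigmaCore H :=
        ((Cfsg.Agent.S1430.result hG M hM K hK hK1).2.2 (zpowers k0) hXK hXcard).2.2 H hH hNH
      have huH : u ∈ Cfsg.sigma H :=
        mem_sigma_of_dvd_orderOf (hXH (mem_zpowers k0)) hu (by rw [hord])
      have hk0N : k0 ∈ Cfsg.sigmaCore N := by
        rw [hk0def, ← hxk]; exact pow_mem hx _
      have huN : u ∈ Cfsg.sigma N := mem_sigma_of_dvd_orderOf hk0N hu (by rw [hord])
      obtain ⟨h', hh'⟩ := (Cfsg.Agent.S1378.result hG).2 H N hH hN ⟨u, huH, huN⟩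
      haveI : Fact u.Prime := ⟨hu⟩
      have hpg : IsPGroup u (zpowers k0) :=
        IsPGroup.of_card (n := 1) (by rw [Nat.card_zpowers, hord, pow_one])
      have hXleH : zpowers k0 ≤ H := hXH.trans (sigmaCore_le H)
      have hmap : (zpowers k0).map (MulAut.conj h'⁻¹).toMonoidHom ≤ H := by
        rintro _ ⟨w, hw, rfl⟩
        have hwN : w ∈ cj h' H := by
          have h2 : zpowers k0 ≤ Cfsg.sigmaCore N := by rw [zpowers_le]; exact hk0N
          have h1 : w ∈ N := sigmaCore_le N (h2 hw)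
          rw [hh'] at h1
          exact h1
        have := mem_cj.mp hwN
        simpa [MulAut.conj_apply] using this
      obtain ⟨m, hm, c, hc, hmc⟩ :=
        (Cfsg.Agent.S1404.result hG H hH u huH (zpowers k0) hpg hXbot hXleH).1 h'⁻¹ hmap
      have hcH : c ∈ H := hNH (Subgroup.centralizer_le_normalizer _ hc)
      have hh'H : h' ∈ H := by
        have h1 : h'⁻¹ ∈ H := by rw [hmc]; exact mul_mem hm hcH
        have := inv_mem h1
        rwa [inv_inv] at this
      have hNH' : N = H := by rw [hh']; exact cj_eq_self_of_mem hh'H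
      apply hnotN
      rw [hxk, hNH']
      exact ((centralizer_le_centralizer_zpowers_pow k _).trans
        (Subgroup.centralizer_le_normalizer _)).trans hNH

/-- **LEMMA T.** -/
theorem mul_not_mem_tilde {G : Type*} [Group G] [Finite G] (hG : Cfsg.IsMinSimpleOddOrder G)
    (M K : Subgroup G) (hM : IsCoatom M) (hK : Cfsg.IsPiHallOf (Cfsg.kappa M) K M) (hK1 : K ≠ ⊥)
    (k y : G) (hk : k ∈ K) (hk1 : k ≠ 1)
    (hy : y ∈ Cfsg.sigmaCore M ⊓ centralizer (K : Set G)) (hy1 : y ≠ 1)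
    (N : Subgroup G) (hN : IsCoatom N) (g : G) :
    g * (k * y) * g⁻¹ ∉ Cfsg.tildeOf N ((Cfsg.sigmaCore N : Set G) \ {1}) := by
  intro hmem
  obtain ⟨a, ⟨ha, ha1⟩, r, hr, d, he⟩ := hmem
  have ha1' : a ≠ 1 := fun h => ha1 (by rw [h]; rfl)
  set e := g⁻¹ * d with hedef
  have hz' : k * y = (e * a * e⁻¹) * (e * r * e⁻¹) := by
    have : k * y = g⁻¹ * (g * (k * y) * g⁻¹) * g := by group
    rw [this, he, hedef]; group
  exact T_aux hG M K hM hK hK1 k y hk hk1 hy hy1 (cj e N) (isCoatom_cj hN) (e * a * e⁻¹)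
    (conj_mem_sigmaCore_cj ha) (conj_ne_one ha1') (e * r * e⁻¹) (conj_mem_supportR_cj hr) hz'

end Cfsg.Agent.Helper25.BG14T
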