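import Mathlib
import Cfsg.Agent.Lib.Helper79.BG10.Conj

/-!
# An abstract counting lemma for unions of conjugates of cosets (helper25)

`S ⊴ M ≤ G`, and for `a ∈ S \ {1}` a normal complement `R a` of `C_M(a)` in `C_G(a)`, equivariant under
`M`, such that `M` controls fusion in `S` and the cosets `a R(a)` and all their conjugates are pairwise
disjoint.  Then the union of all conjugates of all `a R(a)` has `(|S| - 1) |G : M|` elements.
(Bender-Glauberman, counting argument of section 14.)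
-/

set_option autoImplicit false
set_option linter.unusedSectionVars false
set_option linter.style.haveILetI false

namespace Cfsg.Agent.Helper25.BGCount

open Subgroup
open Cfsg.Agent.Helper79.BG10

universe u

variable {G : Type u} [Group G]

structure Cover (M S : Subgroup G) (R : G → Subgroup G) : Prop where
  normal : ∀ m ∈ M, ∀ a ∈ S, m * a * m⁻¹ ∈ S
  equivar : ∀ m ∈ M, ∀ a ∈ S, a ≠ 1 → R (m * a * m⁻¹) = cj m (R a)
  le_cent : ∀ a ∈ S, a ≠ 1 → R a ≤ centralizer ({a} : Set G)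
  normal_cent : ∀ a ∈ S, a ≠ 1 → ∀ c ∈ centralizer ({a} : Set G), cj c (R a) = R a
  decomp : ∀ a ∈ S, a ≠ 1 → ∀ c ∈ centralizer ({a} : Set G), ∃ r ∈ R a, ∃ m ∈ M, c = r * m
  inf_bot : ∀ a ∈ S, a ≠ 1 → R a ⊓ M = ⊥
  fusion : ∀ a ∈ S, a ≠ 1 → ∀ z : G, z * a * z⁻¹ ∈ S → ∃ n ∈ M, n * a * n⁻¹ = z * a * z⁻¹
  disj : ∀ a ∈ S, a ≠ 1 → ∀ b ∈ S, b ≠ 1 → ∀ y : G, ∀ r ∈ R a, ∀ s ∈ R b,
    a * r = y * (b * s) * y⁻¹ → a = y * b * y⁻¹

namespace Cover

variable {M S : Subgroup G} {R : G → Subgroup G}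

theorem conj_ne_one {a z : G} (ha : a ≠ 1) : z * a * z⁻¹ ≠ 1 := by
  intro h
  apply ha
  have : a = z⁻¹ * (z * a * z⁻¹) * z := by group
  rw [this, h]; group

/-- `R` is equivariant under every conjugation keeping the element in `S`. -/
theorem wd (h : Cover M S R) {a : G} (ha : a ∈ S) (ha1 : a ≠ 1) {z : G} (hz : z * a * z⁻¹ ∈ S) :
    R (z * a * z⁻¹) = cj z (R a) := by
  obtain ⟨n, hn, hna⟩ := h.fusion a ha ha1 z hz
  rw [← hna, h.equivar n hn a ha ha1]
  have hc : n⁻¹ * z ∈ centralizer ({a} : Set G) := by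
    rw [mem_centralizer_iff]
    intro x hx
    rw [Set.mem_singleton_iff] at hx
    subst hx
    have e : n⁻¹ * z * x = n⁻¹ * (z * x * z⁻¹) * z := by group
    rw [e, ← hna]; group
  have h2 := h.normal_cent a ha ha1 _ hc
  have : z = n * (n⁻¹ * z) := by group
  conv_rhs => rw [this, cj_mul, h2]

theorem card_cj_filter [Fintype G] [DecidableEq G] (y : G) (A : Subgroup G)
    [DecidablePred (· ∈ A)] [DecidablePred (· ∈ cj y A)] :
    (Finset.univ.filter (· ∈ cj y A)).card = (Finset.univ.filter (· ∈ A)).card := by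
  apply Finset.card_bij' (fun x _ => y⁻¹ * x * y) (fun x _ => y * x * y⁻¹)
  · intro x hx
    simp only [Finset.mem_filter, Finset.mem_univ, true_and] at hx ⊢
    exact mem_cj.mp hx
  · intro x hx
    simp only [Finset.mem_filter, Finset.mem_univ, true_and] at hx ⊢
    exact conj_mem_cj hx
  · intro x _; group
  · intro x _; group

/-- the relation "the conjugate of `S` by the coset `c` contains `a'`" -/
def rel (M S : Subgroup G) (a' : G) (c : G ⧸ M) : Prop :=
  ∃ y : G, (QuotientGroup.mk y : G ⧸ M) = c ∧ y⁻¹ * a' * y ∈ S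

theorem rel_mk (h : Cover M S R) (a' y : G) :
    rel M S a' (QuotientGroup.mk y : G ⧸ M) ↔ y⁻¹ * a' * y ∈ S := by
  constructor
  · rintro ⟨y', hy', hS⟩
    have hy'' : y'⁻¹ * y ∈ M := QuotientGroup.eq.mp hy'
    have hm : (y'⁻¹ * y)⁻¹ ∈ M := M.inv_mem hy''
    have := h.normal _ hm _ hS
    have e : (y'⁻¹ * y)⁻¹ * (y'⁻¹ * a' * y') * (y'⁻¹ * y)⁻¹⁻¹ = y⁻¹ * a' * y := by group
    rwa [e] at this
  · intro hS
    exact ⟨y, rfl, hS⟩

theorem lemA (h : Cover M S R) {a r y a0 y0 : G} (haS : a ∈ S) (ha1 : a ≠ 1) (hr : r ∈ R a)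
    (h0S : a0 ∈ S) (he : y * a * y⁻¹ = y0 * a0 * y0⁻¹) :
    y * r * y⁻¹ ∈ cj y0 (R a0) := by
  have hz : (y0⁻¹ * y) * a * (y0⁻¹ * y)⁻¹ = a0 := by
    have : (y0⁻¹ * y) * a * (y0⁻¹ * y)⁻¹ = y0⁻¹ * (y * a * y⁻¹) * y0 := by group
    rw [this, he]; group
  have hw := h.wd haS ha1 (z := y0⁻¹ * y) (by rw [hz]; exact h0S)
  rw [hz] at hw
  rw [hw, ← cj_mul]
  have : y0 * (y0⁻¹ * y) = y := by group
  rw [this]
  exact conj_mem_cj hr

theorem lemB (h : Cover M S R) {a0 y0 a1 y1 r0 r1 : G} (h0S : a0 ∈ S) (h01 : a0 ≠ 1)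
    (h1S : a1 ∈ S) (h11 : a1 ≠ 1) (hr0 : r0 ∈ R a0) (hr1 : r1 ∈ R a1)
    (he : (y0 * a0 * y0⁻¹) * (y0 * r0 * y0⁻¹) = (y1 * a1 * y1⁻¹) * (y1 * r1 * y1⁻¹)) :
    y0 * a0 * y0⁻¹ = y1 * a1 * y1⁻¹ := by
  have key : a0 * r0 = (y0⁻¹ * y1) * (a1 * r1) * (y0⁻¹ * y1)⁻¹ := by
    have e1 : a0 * r0 = y0⁻¹ * ((y0 * a0 * y0⁻¹) * (y0 * r0 * y0⁻¹)) * y0 := by group
    have e2 : (y0⁻¹ * y1) * (a1 * r1) * (y0⁻¹ * y1)⁻¹
        = y0⁻¹ * ((y1 * a1 * y1⁻¹) * (y1 * r1 * y1⁻¹)) * y0 := by group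
    rw [e1, e2, he]
  have := h.disj _ h0S h01 _ h1S h11 _ r0 hr0 r1 hr1 key
  rw [this]; group

open Classical in
theorem lemC [Fintype G] (h : Cover M S R) {a0 y0 : G} (h0S : a0 ∈ S) (h01 : a0 ≠ 1) :
    (Finset.univ.filter (fun c : G ⧸ M => rel M S (y0 * a0 * y0⁻¹) c)).card
      = (Finset.univ.filter (· ∈ R a0)).card := by
  symm
  apply Finset.card_bij (fun r _ => (QuotientGroup.mk (y0 * r) : G ⧸ M))
  · intro r hr
    simp only [Finset.mem_filter, Finset.mem_univ, true_and] at hr ⊢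
    rw [h.rel_mk]
    have hrc := h.le_cent _ h0S h01 hr
    rw [mem_centralizer_iff] at hrc
    have hrc' := hrc _ rfl
    have e : (y0 * r)⁻¹ * (y0 * a0 * y0⁻¹) * (y0 * r) = r⁻¹ * (a0 * r) := by group
    rw [e, hrc']
    have e3 : r⁻¹ * (r * a0) = a0 := by group
    rw [e3]; exact h0S
  · intro r hr r' hr' heq
    simp only [Finset.mem_filter, Finset.mem_univ, true_and] at hr hr'
    have heq' : (y0 * r)⁻¹ * (y0 * r') ∈ M := QuotientGroup.eq.mp heq
    have e : (y0 * r)⁻¹ * (y0 * r') = r⁻¹ * r' := by group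
    rw [e] at heq'
    have hmem : r⁻¹ * r' ∈ R a0 ⊓ M :=
      Subgroup.mem_inf.mpr ⟨(R a0).mul_mem ((R a0).inv_mem hr) hr', heq'⟩
    rw [h.inf_bot _ h0S h01, mem_bot] at hmem
    exact inv_mul_eq_one.mp hmem
  · intro c hc
    simp only [Finset.mem_filter, Finset.mem_univ, true_and] at hc
    obtain ⟨y, rfl, hS⟩ := hc
    have hz : (y⁻¹ * y0) * a0 * (y⁻¹ * y0)⁻¹ = y⁻¹ * (y0 * a0 * y0⁻¹) * y := by group
    obtain ⟨n, hn, hna⟩ := h.fusion _ h0S h01 (y⁻¹ * y0) (by rw [hz]; exact hS)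
    have hc : (y⁻¹ * y0)⁻¹ * n ∈ centralizer ({a0} : Set G) := by
      rw [mem_centralizer_iff]
      intro x hx
      rw [Set.mem_singleton_iff] at hx
      subst hx
      have e : (y⁻¹ * y0)⁻¹ * n * x = (y⁻¹ * y0)⁻¹ * (n * x * n⁻¹) * n := by group
      rw [e, hna]; group
    obtain ⟨r, hr, m, hm, hrm⟩ := h.decomp _ h0S h01 _ hc
    refine ⟨r, by simpa using hr, ?_⟩
    apply QuotientGroup.eq.mpr
    have e : (y0 * r)⁻¹ * y = m * n⁻¹ := by
      have e1 : (y0 * r)⁻¹ * y = r⁻¹ * ((y⁻¹ * y0)⁻¹ * n) * n⁻¹ := by group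
      rw [e1, hrm]; group
    rw [e]
    exact mul_mem hm (inv_mem hn)

open Classical in
theorem lemD [Fintype G] (h : Cover M S R) (c : G ⧸ M) :
    ((Finset.univ.filter (fun a' : G => ∃ y : G, ∃ a : G, a ∈ S ∧ a ≠ 1 ∧ a' = y * a * y⁻¹)).filter
      (fun a' => rel M S a' c)).card = (Finset.univ.filter (fun a : G => a ∈ S ∧ a ≠ 1)).card := by
  obtain ⟨y, rfl⟩ := QuotientGroup.mk_surjective c
  symm
  apply Finset.card_bij (fun a _ => y * a * y⁻¹)
  · intro a ha
    simp only [Finset.mem_filter, Finset.mem_univ, true_and] at ha ⊢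
    refine ⟨⟨y, a, ha.1, ha.2, rfl⟩, ?_⟩
    rw [h.rel_mk]
    have e : y⁻¹ * (y * a * y⁻¹) * y = a := by group
    rw [e]; exact ha.1
  · intro a _ b _ hab
    have : a = y⁻¹ * (y * a * y⁻¹) * y := by group
    rw [this, hab]; group
  · intro a' ha'
    simp only [Finset.mem_filter, Finset.mem_univ, true_and] at ha'
    obtain ⟨⟨y', a, haS, ha1, rfl⟩, hr⟩ := ha'
    rw [h.rel_mk] at hr
    refine ⟨y⁻¹ * (y' * a * y'⁻¹) * y, ?_, by group⟩
    simp only [Finset.mem_filter, Finset.mem_univ, true_and]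
    refine ⟨hr, ?_⟩
    have := conj_ne_one (z := y⁻¹ * y') ha1
    intro h1
    apply this
    rw [← h1]; group

open Classical in
theorem ncard_eq [Finite G] (h : Cover M S R) :
    Set.ncard {u : G | ∃ a ∈ (S : Set G) \ {1}, ∃ r ∈ R a, ∃ y : G, u = y * (a * r) * y⁻¹}
      = (Nat.card S - 1) * M.index := by
  haveI : Fintype G := Fintype.ofFinite G
  -- the finsets
  let Sx : Finset G := Finset.univ.filter (fun a => a ∈ S ∧ a ≠ 1)
  let X : Finset G := Finset.univ.filter (fun a' => ∃ y : G, ∃ a : G, a ∈ S ∧ a ≠ 1 ∧ a' = y * a * y⁻¹)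
  let T : Finset G := Finset.univ.filter
    (fun u => ∃ a ∈ (S : Set G) \ {1}, ∃ r ∈ R a, ∃ y : G, u = y * (a * r) * y⁻¹)
  have hT : Set.ncard {u : G | ∃ a ∈ (S : Set G) \ {1}, ∃ r ∈ R a, ∃ y : G, u = y * (a * r) * y⁻¹}
      = T.card := by
    rw [← Set.ncard_coe_finset T]
    congr 1
    ext u
    simp [T]
  rw [hT]
  -- chosen representatives
  have hXspec : ∀ a' : G, a' ∈ X → ∃ p : G × G, p.2 ∈ S ∧ p.2 ≠ 1 ∧ a' = p.1 * p.2 * p.1⁻¹ := by
    intro a' ha'
    simp only [X, Finset.mem_filter, Finset.mem_univ, true_and] at ha'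
    obtain ⟨y, a, h1, h2, h3⟩ := ha'
    exact ⟨(y, a), h1, h2, h3⟩
  let rep : G → G × G := fun a' => if ha' : a' ∈ X then Classical.choose (hXspec a' ha') else (1, 1)
  have hrep : ∀ a' ∈ X, (rep a').2 ∈ S ∧ (rep a').2 ≠ 1 ∧ a' = (rep a').1 * (rep a').2 * (rep a').1⁻¹ := by
    intro a' ha'
    simp only [rep, dif_pos ha']
    exact Classical.choose_spec (hXspec a' ha')
  let piece : G → Finset G := fun a' =>
    (Finset.univ.filter (· ∈ cj (rep a').1 (R (rep a').2))).image (fun ρ => a' * ρ)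
  -- T is the union of the pieces
  have hTU : T = X.biUnion piece := by
    ext u
    simp only [T, Finset.mem_filter, Finset.mem_univ, true_and, Finset.mem_biUnion, piece,
      Finset.mem_image]
    constructor
    · rintro ⟨a, ⟨haS, ha1⟩, r, hr, y, rfl⟩
      have ha1' : a ≠ 1 := by simpa using ha1
      have haS' : a ∈ S := haS
      have hX : y * a * y⁻¹ ∈ X := by
        simp only [X, Finset.mem_filter, Finset.mem_univ, true_and]
        exact ⟨y, a, haS', ha1', rfl⟩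
      obtain ⟨h0S, h01, h0e⟩ := hrep _ hX
      exact ⟨y * a * y⁻¹, hX, y * r * y⁻¹, h.lemA haS' ha1' hr h0S h0e, by group⟩
    · rintro ⟨a', hX, ρ, hρ, rfl⟩
      obtain ⟨h0S, h01, h0e⟩ := hrep _ hX
      obtain ⟨r, hr, rfl⟩ := hρ
      refine ⟨(rep a').2, ⟨h0S, by simpa using h01⟩, r, hr, (rep a').1, ?_⟩
      have e : a' * ((MulAut.conj (rep a').1).toMonoidHom r)
          = ((rep a').1 * (rep a').2 * (rep a').1⁻¹) * ((MulAut.conj (rep a').1).toMonoidHom r) :=
        congrArg (· * ((MulAut.conj (rep a').1).toMonoidHom r)) h0e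
      rw [e]
      simp only [MulEquiv.toMonoidHom_eq_coe, MonoidHom.coe_coe, MulAut.conj_apply]
      group
  -- the pieces are pairwise disjoint
  have hdisj : ∀ a' ∈ X, ∀ a'' ∈ X, a' ≠ a'' → Disjoint (piece a') (piece a'') := by
    intro a' hX' a'' hX'' hne
    rw [Finset.disjoint_left]
    intro u hu' hu''
    simp only [piece, Finset.mem_image, Finset.mem_filter, Finset.mem_univ, true_and] at hu' hu''
    obtain ⟨ρ', ⟨r', hr', rfl⟩, rfl⟩ := hu'
    obtain ⟨ρ'', ⟨r'', hr'', rfl⟩, hu⟩ := hu''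
    obtain ⟨h0S', h01', h0e'⟩ := hrep _ hX'
    obtain ⟨h0S'', h01'', h0e''⟩ := hrep _ hX''
    apply hne
    simp only [MulEquiv.toMonoidHom_eq_coe, MonoidHom.coe_coe, MulAut.conj_apply] at hu
    have e1 : a' * ((rep a').1 * r' * (rep a').1⁻¹)
        = ((rep a').1 * (rep a').2 * (rep a').1⁻¹) * ((rep a').1 * r' * (rep a').1⁻¹) :=
      congrArg (· * ((rep a').1 * r' * (rep a').1⁻¹)) h0e'
    have e2 : a'' * ((rep a'').1 * r'' * (rep a'').1⁻¹)
        = ((rep a'').1 * (rep a'').2 * (rep a'').1⁻¹) * ((rep a'').1 * r'' * (rep a'').1⁻¹) :=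
      congrArg (· * ((rep a'').1 * r'' * (rep a'').1⁻¹)) h0e''
    have := h.lemB h0S' h01' h0S'' h01'' hr' hr'' (by rw [← e1, ← e2, hu])
    exact h0e'.trans (this.trans h0e''.symm)
  rw [hTU, Finset.card_biUnion hdisj]
  -- cardinality of a piece
  have hpiece : ∀ a' ∈ X, (piece a').card = (Finset.univ.filter (· ∈ R (rep a').2)).card := by
    intro a' _
    simp only [piece]
    rw [Finset.card_image_of_injective _ (mul_right_injective a')]
    exact card_cj_filter _ _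
  -- Claim 3: the number of cosets related to a' is |R a0|
  have hclaim3 : ∀ a' ∈ X, (Finset.univ.filter (fun c : G ⧸ M => rel M S a' c)).card
      = (Finset.univ.filter (· ∈ R (rep a').2)).card := by
    intro a' hX
    obtain ⟨h0S, h01, h0e⟩ := hrep _ hX
    have := h.lemC (y0 := (rep a').1) h0S h01
    rw [← h0e] at this
    exact this
  -- double counting
  have hsum : ∑ a' ∈ X, (piece a').card
      = ∑ a' ∈ X, (Finset.univ.filter (fun c : G ⧸ M => rel M S a' c)).card := by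
    apply Finset.sum_congr rfl
    intro a' ha'
    rw [hpiece a' ha', hclaim3 a' ha']
  rw [hsum]
  have hdc := Finset.sum_card_bipartiteAbove_eq_sum_card_bipartiteBelow
    (s := X) (t := (Finset.univ : Finset (G ⧸ M))) (rel M S)
  simp only [Finset.bipartiteAbove, Finset.bipartiteBelow] at hdc
  rw [hdc]
  rw [Finset.sum_congr rfl (fun c _ => h.lemD c)]
  rw [Finset.sum_const, smul_eq_mul, Finset.card_univ]
  have h1 : Fintype.card (G ⧸ M) = M.index := by
    rw [Subgroup.index_eq_card, Nat.card_eq_fintype_card]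
  have h2 : (Finset.univ.filter (fun a : G => a ∈ S ∧ a ≠ 1)).card = Nat.card S - 1 := by
    have hS : Nat.card S = (Finset.univ.filter (fun a : G => a ∈ S)).card := by
      rw [Nat.card_eq_fintype_card, Fintype.card_subtype]
    rw [hS]
    have : (Finset.univ.filter (fun a : G => a ∈ S ∧ a ≠ 1))
        = (Finset.univ.filter (fun a : G => a ∈ S)).erase 1 := by
      ext a
      simp only [Finset.mem_filter, Finset.mem_univ, true_and, Finset.mem_erase]
      tauto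
    rw [this, Finset.card_erase_of_mem]
    simp only [Finset.mem_filter, Finset.mem_univ, true_and]
    exact S.one_mem
  rw [h1, h2, mul_comm]

end Cover

end Cfsg.Agent.Helper25.BGCount
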