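import Mathlib
import Cfsg.Agent.Lib.Helper2.SS0
import Cfsg.Agent.Lib.Helper2.SRC0

/-!
# SS server (S2411), pieces Y5b (and the shared step lemma for Y5a): the order of `y`.
-/

set_option autoImplicit false

namespace Cfsg.Agent.Helper25.SS

open Matrix Cfsg Cfsg.Agent.Helper13 Cfsg.Agent.Helper84.SpRoot Cfsg.Agent.Helper5.SpAut
open Cfsg.Agent.Helper2.SR Cfsg.Agent.Helper2.SS

section Y
variable {F : Type*} [Field F] {m : ℕ}

theorem h25_w_wp (ξ : F) :
    Cfsg.sympForm (m + 2) F (wV (m := m)) (wpV (m := m) ξ) = -1 := by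
  unfold wV
  rw [sympForm_sub_left, (form_basis _ _).2.2.1, (form_basis _ _).2.2.1]
  simp [wpV, be, bf, jB]

theorem h25_wp_w (ξ : F) :
    Cfsg.sympForm (m + 2) F (wpV (m := m) ξ) (wV (m := m)) = 1 := by
  rw [sympForm_swap, h25_w_wp]; ring

/-- one application of `y` in terms of the two coordinates `ω(v,w)`, `ω(v,w')`. -/
theorem h25_step (α β ξ : F) (v : Fin (m + 2) ⊕ Fin (m + 2) → F) (a b : F)
    (ha : Cfsg.sympForm (m + 2) F v (wV (m := m)) = a)
    (hb : Cfsg.sympForm (m + 2) F v (wpV (m := m) ξ) = b) :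
    (yEl (m := m) α β ξ).val *ᵥ v = v + (α * (a + β * b)) • wV (m := m) + (β * b) • wpV (m := m) ξ ∧
    Cfsg.sympForm (m + 2) F ((yEl (m := m) α β ξ).val *ᵥ v) (wV (m := m)) = a + β * b ∧
    Cfsg.sympForm (m + 2) F ((yEl (m := m) α β ξ).val *ᵥ v) (wpV (m := m) ξ) =
      b - α * (a + β * b) := by
  have h1 : (yEl (m := m) α β ξ).val *ᵥ v =
      v + (α * (a + β * b)) • wV (m := m) + (β * b) • wpV (m := m) ξ := by
    unfold yEl
    rw [mul_act, sympT_act, sympT_act, sympForm_add_left, sympForm_smul_left, hb, ha, h25_wp_w]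
    module
  refine ⟨h1, ?_, ?_⟩
  · rw [h1, sympForm_add_left, sympForm_add_left, sympForm_smul_left, sympForm_smul_left, ha,
      sympForm_self, h25_wp_w]
    ring
  · rw [h1, sympForm_add_left, sympForm_add_left, sympForm_smul_left, sympForm_smul_left, hb,
      sympForm_self, h25_w_wp]
    ring

/-- (Y5b) on `W`: `y² = -1` -/
theorem y_pow_four (ξ : F) : yEl (m := m) 2 1 ξ ^ 4 = 1 := by
  apply sp_ext
  intro v
  rw [one_act, show (4 : ℕ) = 1 + 1 + 1 + 1 from rfl, pow_succ, pow_succ, pow_succ, pow_one,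
    mul_act, mul_act, mul_act]
  obtain ⟨e1, a1, b1⟩ := h25_step (m := m) 2 1 ξ v _ _ rfl rfl
  obtain ⟨e2, a2, b2⟩ := h25_step (m := m) 2 1 ξ _ _ _ a1 b1
  obtain ⟨e3, a3, b3⟩ := h25_step (m := m) 2 1 ξ _ _ _ a2 b2
  obtain ⟨e4, _, _⟩ := h25_step (m := m) 2 1 ξ _ _ _ a3 b3
  rw [e4, e3, e2, e1]
  module

end Y

end Cfsg.Agent.Helper25.SS
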