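import Mathlib
import Cfsg.Agent.Lib.Helper25.SSY5b

/-!
# SS server (S2411), piece Y5a: `y ^ 3 = 1` in characteristic 2 (`α = β = 1`).
-/

set_option autoImplicit false

namespace Cfsg.Agent.Helper25.SS

open Matrix Cfsg Cfsg.Agent.Helper13 Cfsg.Agent.Helper84.SpRoot Cfsg.Agent.Helper5.SpAut
open Cfsg.Agent.Helper2.SR Cfsg.Agent.Helper2.SS

section Y
variable {F : Type*} [Field F] {m : ℕ}

/-- (Y5a) characteristic 2: on `W = ⟨w, w'⟩` (`ω w w' = -1`) `y² + y + 1 = 0`, `y = 1` on `W^⊥` -/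
theorem y_pow_three (h2 : (2 : F) = 0) (ξ : F) : yEl (m := m) 1 1 ξ ^ 3 = 1 := by
  apply sp_ext
  intro v
  rw [one_act, show (3 : ℕ) = 1 + 1 + 1 from rfl, pow_succ, pow_succ, pow_one, mul_act, mul_act]
  obtain ⟨e1, a1, b1⟩ := h25_step (m := m) 1 1 ξ v _ _ rfl rfl
  obtain ⟨e2, a2, b2⟩ := h25_step (m := m) 1 1 ξ _ _ _ a1 b1
  obtain ⟨e3, _, _⟩ := h25_step (m := m) 1 1 ξ _ _ _ a2 b2
  rw [e3, e2, e1]
  trans v + ((2 : F) * Cfsg.sympForm (m + 2) F v (wpV (m := m) ξ)) • wV (m := m) +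
      ((2 : F) * (-Cfsg.sympForm (m + 2) F v (wV (m := m)))) • wpV (m := m) ξ
  · module
  · rw [h2, zero_mul, zero_mul, zero_smul, zero_smul, add_zero, add_zero]

end Y

end Cfsg.Agent.Helper25.SS
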