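import Mathlib
import Cfsg.Agent.Lib.Helper2.SS0
import Cfsg.Agent.Lib.Helper2.SRC0

/-!
# SS server (S2411), piece Y8a: the forms of `e_1`, `e_0`, `p` (`n ≥ 3`).
-/

set_option autoImplicit false

namespace Cfsg.Agent.Helper25.SS

open Matrix Cfsg Cfsg.Agent.Helper13 Cfsg.Agent.Helper84.SpRoot Cfsg.Agent.Helper5.SpAut
open Cfsg.Agent.Helper2.SR Cfsg.Agent.Helper2.SS

section Y
variable {F : Type*} [Field F] {m : ℕ}

/-- (Y8a) `form_basis` -/
theorem forms_ge (hm : 1 ≤ m) (β ξ : F) :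
    Cfsg.sympForm (m + 2) F (be 1) (be 0) = 0 ∧
    Cfsg.sympForm (m + 2) F (pGe (m := m) β ξ) (be 0) = 0 ∧
    Cfsg.sympForm (m + 2) F (be 1) (pGe (m := m) β ξ) = -(β * ξ) := by
  have h10 : (1 : Fin (m + 2)) ≠ 0 := by
    intro h
    have := congrArg Fin.val h
    simp at this
  have hB0 : (jB : Fin (m + 2)) ≠ 0 := by
    intro h
    have := congrArg Fin.val h
    simp [jB] at this
  have hB1 : (jB : Fin (m + 2)) ≠ 1 := by
    intro h
    have := congrArg Fin.val h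
    simp [jB] at this
    omega
  refine ⟨?_, ?_, ?_⟩
  · rw [(form_basis _ _).1]
    simp [be]
  · rw [(form_basis _ _).1]
    simp [pGe, wpV, be, bf, hB0.symm, h10.symm]
  · rw [(form_basis _ _).2.2.1]
    simp [pGe, wpV, be, bf, hB1.symm]

end Y

end Cfsg.Agent.Helper25.SS
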