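import Mathlib
import Cfsg.Agent.Lib.Helper2.SS0
import Cfsg.Agent.Lib.Helper2.SRC0

/-!
# SS server (S2411), piece Y8b: the forms of `e_1`, `e_0`, `p` (`n = 2`).
-/

set_option autoImplicit false

namespace Cfsg.Agent.Helper25.SS

open Matrix Cfsg Cfsg.Agent.Helper13 Cfsg.Agent.Helper84.SpRoot Cfsg.Agent.Helper5.SpAut
open Cfsg.Agent.Helper2.SR Cfsg.Agent.Helper2.SS

section Y
variable {F : Type*} [Field F] {m : ℕ}

/-- (Y8b) -/
theorem forms_two (α β ξ : F) :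
    Cfsg.sympForm (0 + 2) F (be 1) (be 0) = 0 ∧
    Cfsg.sympForm (0 + 2) F (pTwo α β ξ) (be 0) = 0 ∧
    Cfsg.sympForm (0 + 2) F (be 1) (pTwo α β ξ) = 1 - β * (ξ + α) := by
  refine ⟨?_, ?_, ?_⟩
  · rw [(form_basis _ _).1]
    simp [be]
  · rw [(form_basis _ _).1]
    simp [pTwo, wV, wpV, be, bf, jB]
  · rw [(form_basis _ _).2.2.1]
    simp [pTwo, wV, wpV, be, bf, jB]
    ring

end Y

end Cfsg.Agent.Helper25.SS
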