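import Mathlib
import Cfsg.Agent.S1366
import Cfsg.Agent.S1367
import Cfsg.Agent.S1378
import Cfsg.Agent.S1431
import Cfsg.Agent.S1434
import Cfsg.Agent.Lib.Helper25.BG14Disj

/-!
# Part (3b) of S1379 (Bender–Glauberman 14.7), as a library (helper25)

`part3b`: no conjugate of an element of `Ẑ` lies in any `Ñ`.
Formal consequence of the frozen rows S1366, S1367, S1378, S1431, S1434.
-/

set_option autoImplicit false
set_option linter.unusedSectionVars false
set_option linter.unusedVariables false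
set_option linter.style.haveILetI false

namespace Cfsg.Agent.Helper25.BG14Disj

open Subgroup
open Cfsg.Agent.Helper79.BG10
open Cfsg.Agent.Helper25.BGNat
open Cfsg.Agent.Helper55.BGB

variable {G : Type*} [Group G]

/-- elements of `K ⊔ K*` are products -/
theorem mem_sup_centralizer {K S : Subgroup G} {z : G} (hz : z ∈ K ⊔ (S ⊓ centralizer (K : Set G))) :
    ∃ k ∈ K, ∃ s ∈ S ⊓ centralizer (K : Set G), z = k * s := by
  have hLE : S ⊓ centralizer (K : Set G) ≤ normalizer (K : Set G) :=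
    inf_le_right.trans (Subgroup.centralizer_le_normalizer _)
  have h := Subgroup.coe_mul_of_right_le_normalizer_left K (S ⊓ centralizer (K : Set G)) hLE
  have hz' : z ∈ ((K ⊔ (S ⊓ centralizer (K : Set G)) : Subgroup G) : Set G) := hz
  rw [h, Set.mem_mul] at hz'
  obtain ⟨k, hk, s, hs, e⟩ := hz'
  exact ⟨k, hk, s, hs, e.symm⟩

/-- centralizer of an element is inside the centralizer of the powers of a power -/
theorem centralizer_le_centralizer_zpowers_pow (a : G) (n : ℕ) :
    centralizer ({a} : Set G) ≤ centralizer ((zpowers (a ^ n) : Subgroup G) : Set G) := by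
  intro c hc
  rw [mem_centralizer_singleton'] at hc
  rw [mem_centralizer_iff]
  intro h hh
  obtain ⟨m, rfl⟩ := mem_zpowers_iff.mp hh
  have h1 : Commute a c := hc
  exact ((h1.pow_left n).zpow_left m).eq

/-- core of (3b): `z = a * r` with `a ∈ N_σ#`, `r ∈ R(a)` is impossible for `z ∈ Ẑ`. -/
theorem part3b_aux {G : Type*} [Group G] [Finite G] (hG : Cfsg.IsMinSimpleOddOrder G)
    (M K U : Subgroup G) (hM : IsCoatom M) (hKU : Cfsg.IsSigmaDecomposition M K U) (hK1 : K ≠ ⊥)
    (z : G) (hzW : z ∈ K ⊔ (Cfsg.sigmaCore M ⊓ centralizer (K : Set G))) (hzK : z ∉ K)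
    (hzKs : z ∉ Cfsg.sigmaCore M ⊓ centralizer (K : Set G))
    (N : Subgroup G) (hN : IsCoatom N) (a : G) (ha : a ∈ Cfsg.sigmaCore N) (ha1 : a ≠ 1)
    (r : G) (hr : r ∈ Cfsg.supportR N a) (hz : z = a * r) : False := by
  obtain ⟨Mstar, ⟨hMstar, hKst, hKstH⟩, -⟩ := Cfsg.Agent.S1366.result hG M hM K U hKU hK1
  set Ks := Cfsg.sigmaCore M ⊓ centralizer (K : Set G) with hKs
  -- z = k * ks
  obtain ⟨k, hk, ks, hks, hzk⟩ := mem_sup_centralizer hzW
  have hk1 : k ≠ 1 := by
    intro h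
    apply hzKs
    rw [hzk, h, one_mul]; exact hks
  have hks1 : ks ≠ 1 := by
    intro h
    apply hzK
    rw [hzk, h, mul_one]; exact hk
  have hks' : ks ∈ Ks := hks
  have hKst' : K = Cfsg.sigmaCore Mstar ⊓ centralizer ((Ks : Subgroup G) : Set G) := hKst
  have hKs1 : Ks ≠ ⊥ := by
    intro h
    rw [h, mem_bot] at hks'
    exact hks1 hks'
  have hCz : centralizer ({z} : Set G) = K ⊔ Ks := by
    rw [hzk]
    exact ((Cfsg.Agent.S1434.result hG M hM K U hKU hK1 Mstar hMstar hKst hKstH).2.2.1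
      k hk hk1 ks hks hks1).2.2
  have hKKs : K ⊓ Ks = ⊥ :=
    inf_eq_bot_of_kappa_sigma (M := M) hKU.hall.2.1
      (fun p hp hd => isPi_sigmaCore M p hp (hd.trans (Subgroup.card_dvd_of_le inf_le_left)))
  -- a commutes with z
  have har : a * r = r * a := mem_centralizer_singleton'.mp (supportR_le_centralizer N a hr)
  have haW : a ∈ K ⊔ Ks := by
    rw [← hCz, mem_centralizer_singleton', hz]
    calc a * r * a = a * (r * a) := by group
      _ = a * (a * r) := by rw [har]
  obtain ⟨q, hq, hqd⟩ := exists_prime_dvd_orderOf' ha1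
  have hqN : q ∈ Cfsg.sigma N := mem_sigma_of_dvd_orderOf ha hq hqd
  have ha0 : orderOf a ≠ 0 := (orderOf_pos a).ne'
  set a0 := a ^ (orderOf a / q) with ha0def
  have hord : orderOf a0 = q := orderOf_pow_orderOf_div ha0 hqd
  have ha01 : a0 ≠ 1 := by
    intro h
    rw [h, orderOf_one] at hord
    exact hq.one_lt.ne hord
  have ha0W : a0 ∈ K ⊔ Ks := pow_mem haW _
  have ha0N : a0 ∈ Cfsg.sigmaCore N := pow_mem ha _
  have hcent : centralizer ({a} : Set G) ≤ centralizer ((zpowers a0 : Subgroup G) : Set G) :=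
    centralizer_le_centralizer_zpowers_pow a _
  have hcardX : (Nat.card (zpowers a0)).Prime := by
    rw [Nat.card_zpowers, hord]; exact hq
  -- z centralizes K and Ks
  have hzcent : ∀ w ∈ K ⊔ Ks, w * z = z * w := by
    intro w hw
    rw [← hCz, mem_centralizer_singleton'] at hw
    exact hw.symm
  -- final step common to both cases
  have hfinal : centralizer ({a} : Set G) ≤ N → z = a := by
    intro hle
    have : r ∈ Cfsg.supportR N a := hr
    rw [supportR_eq_bot_of_le hle, mem_bot] at this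
    rw [hz, this, mul_one]
  -- decompose a0
  obtain ⟨k0, hk0, ks0, hks0, ha0k⟩ := mem_sup_centralizer ha0W
  have hcomm0 : Commute k0 ks0 := by
    have := (mem_centralizer_iff.mp hks0.2) k0 hk0
    exact this
  have hpow : k0 ^ q * ks0 ^ q = 1 := by
    rw [← hcomm0.mul_pow, ← ha0k, ← hord, pow_orderOf_eq_one]
  have hk0q : k0 ^ q = 1 := by
    have h1 : k0 ^ q = (ks0 ^ q)⁻¹ := eq_inv_of_mul_eq_one_left hpow
    have h2 : k0 ^ q ∈ K ⊓ Ks :=
      Subgroup.mem_inf.mpr ⟨pow_mem hk0 _, by rw [h1]; exact inv_mem (pow_mem hks0 _)⟩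
    rw [hKKs, mem_bot] at h2
    exact h2
  have hks0q : ks0 ^ q = 1 := by
    rw [hk0q, one_mul] at hpow
    exact hpow
  have hcase : k0 = 1 ∨ ks0 = 1 := by
    by_contra hcon
    push Not at hcon
    haveI : Fact q.Prime := ⟨hq⟩
    have h1 : orderOf k0 = q := orderOf_eq_prime hk0q hcon.1
    have h2 : orderOf ks0 = q := orderOf_eq_prime hks0q hcon.2
    have h3 : q ∈ Cfsg.kappa M := hKU.hall.2.1 q hq (by rw [← h1]; exact Subgroup.orderOf_dvd_natCard _ hk0)
    have h4 : q ∈ Cfsg.sigma M := mem_sigma_of_dvd_orderOf hks0.1 hq (by rw [h2])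
    exact not_mem_sigma_of_mem_kappa h3 h4
  rcases hcase with hc | hc
  · -- a0 ∈ Ks
    have ha0Ks : a0 ∈ Ks := by rw [ha0k, hc, one_mul]; exact hks0
    have hqM : q ∈ Cfsg.sigma M := mem_sigma_of_dvd_orderOf ha0Ks.1 hq (by rw [hord])
    obtain ⟨e, he⟩ := (Cfsg.Agent.S1378.result hG).2 M N hM hN ⟨q, hqM, hqN⟩
    have heM : e ∈ M := by
      by_contra hcon
      have h1 := (Cfsg.Agent.S1431.result hG M hM K hKU.hall hK1).1 e hcon
      have h2 : a0 ∈ Ks ⊓ M.map (MulAut.conj e).toMonoidHom := by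
        refine Subgroup.mem_inf.mpr ⟨ha0Ks, ?_⟩
        rw [← he]
        exact sigmaCore_le N ha0N
      rw [h1, mem_bot] at h2
      exact ha01 h2
    have hNM : N = M := by
      rw [he]; exact cj_eq_self_of_mem heM
    have hXle : zpowers a0 ≤ Ks := by
      rw [zpowers_le]; exact ha0Ks
    have hC := ((Cfsg.Agent.S1367.result hG M hM K U hKU hK1 Mstar hMstar hKst hKstH).1
      (zpowers a0) hXle hcardX).1
    have hza : z = a := hfinal (by rw [hNM]; exact hcent.trans hC)
    apply hzKs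
    refine Subgroup.mem_inf.mpr ⟨?_, ?_⟩
    · rw [hza, ← hNM]; exact ha
    · rw [mem_centralizer_iff]
      intro w hw
      exact hzcent w (le_sup_left (a := K) (b := Ks) hw)
  · -- a0 ∈ K
    have ha0K : a0 ∈ K := by rw [ha0k, hc, mul_one]; exact hk0
    have hKle : K ≤ Cfsg.sigmaCore Mstar := by
      intro w hw
      rw [hKst'] at hw
      exact hw.1
    have hqM : q ∈ Cfsg.sigma Mstar := mem_sigma_of_dvd_orderOf (hKle ha0K) hq (by rw [hord])
    obtain ⟨e, he⟩ := (Cfsg.Agent.S1378.result hG).2 Mstar N hMstar hN ⟨q, hqM, hqN⟩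
    have heM : e ∈ Mstar := by
      by_contra hcon
      have h1 := (Cfsg.Agent.S1431.result hG Mstar hMstar Ks hKstH hKs1).1 e hcon
      rw [← hKst'] at h1
      have h2 : a0 ∈ K ⊓ Mstar.map (MulAut.conj e).toMonoidHom := by
        refine Subgroup.mem_inf.mpr ⟨ha0K, ?_⟩
        rw [← he]
        exact sigmaCore_le N ha0N
      rw [h1, mem_bot] at h2
      exact ha01 h2
    have hNM : N = Mstar := by
      rw [he]; exact cj_eq_self_of_mem heM
    have hXle : zpowers a0 ≤ K := by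
      rw [zpowers_le]; exact ha0K
    have hC := ((Cfsg.Agent.S1367.result hG M hM K U hKU hK1 Mstar hMstar hKst hKstH).2
      (zpowers a0) hXle hcardX).1
    have hza : z = a := hfinal (by rw [hNM]; exact hcent.trans hC)
    apply hzK
    rw [hKst']
    refine Subgroup.mem_inf.mpr ⟨?_, ?_⟩
    · rw [hza, ← hNM]; exact ha
    · rw [mem_centralizer_iff]
      intro w hw
      have hw' : w ∈ Ks := hw
      exact hzcent w (le_sup_right (a := K) (b := Ks) hw')

/-- **S1379 (3b)**: no conjugate of an element of `Ẑ` lies in any `Ñ`. -/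
theorem part3b {G : Type*} [Group G] [Finite G] (hG : Cfsg.IsMinSimpleOddOrder G) :
    ∀ (M K U : Subgroup G), IsCoatom M → Cfsg.IsSigmaDecomposition M K U → K ≠ ⊥ →
      ∀ N : Subgroup G, IsCoatom N → ∀ y : G,
        ∀ z ∈ ((↑(K ⊔ (Cfsg.sigmaCore M ⊓ Subgroup.centralizer (K : Set G))) : Set G) \
          ((K : Set G) ∪ ↑(Cfsg.sigmaCore M ⊓ Subgroup.centralizer (K : Set G)))),
        y * z * y⁻¹ ∉ Cfsg.tildeOf N ((Cfsg.sigmaCore N : Set G) \ {1}) := by
  intro M K U hM hKU hK1 N hN y z hz hmem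
  obtain ⟨hzW, hznot⟩ := hz
  have hzK : z ∉ K := fun h => hznot (Or.inl h)
  have hzKs : z ∉ Cfsg.sigmaCore M ⊓ centralizer (K : Set G) := fun h => hznot (Or.inr h)
  obtain ⟨a, ⟨ha, ha1⟩, r, hr, d, he⟩ := hmem
  have ha1' : a ≠ 1 := fun h => ha1 (by rw [h]; rfl)
  set e := y⁻¹ * d with hedef
  have hz' : z = (e * a * e⁻¹) * (e * r * e⁻¹) := by
    have : z = y⁻¹ * (y * z * y⁻¹) * y := by group
    rw [this, he, hedef]; group
  exact part3b_aux hG M K U hM hKU hK1 z hzW hzK hzKs (cj e N) (isCoatom_cj hN) (e * a * e⁻¹)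
    (conj_mem_sigmaCore_cj ha) (conj_ne_one' ha1') (e * r * e⁻¹) (conj_mem_supportR_cj hr) hz'

end Cfsg.Agent.Helper25.BG14Disj
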