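import Mathlib
import Cfsg.Agent.S1374
import Cfsg.Agent.S1375
import Cfsg.Agent.S1378
import Cfsg.Agent.S1425
import Cfsg.Agent.S1432
import Cfsg.Agent.Lib.Helper25.BGNat
import Cfsg.Agent.Lib.Helper25.BGHallConj
import Cfsg.Agent.Lib.Helper55.BGBasic
import Cfsg.Agent.Lib.Helper23.FittingHall
import Cfsg.Agent.Lib.Helper69.PiParts

/-!
# The "Main Lemma" behind Bender–Glauberman 14.6/14.7 (helper25)

Every `g ≠ 1` of a minimal simple group of odd order either lies in some `Ñ`, or is conjugate to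
`x * y` with `x ∈ M_σ#`, `C_G(x) ≤ M`, `y ∈ C_M(x)#` a `κ(M)`-element.
Formal consequence of the frozen rows S1374, S1375, S1378, S1425, S1432.
-/

set_option autoImplicit false
set_option linter.unusedSectionVars false
set_option linter.unusedVariables false
set_option linter.style.haveILetI false

namespace Cfsg.Agent.Helper25.BG14Main

open Subgroup
open Cfsg.Agent.Helper79.BG10
open Cfsg.Agent.Helper25.BGNat
open Cfsg.Agent.Helper25.BGHallConj
open Cfsg.Agent.Helper69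

variable {G : Type*} [Group G]

/-- conjugates of elements of `M̃` are in `M̃` -/
theorem tilde_conj {M : Subgroup G} {A : Set G} {u : G} (hu : u ∈ Cfsg.tildeOf M A) (c : G) :
    c * u * c⁻¹ ∈ Cfsg.tildeOf M A := by
  obtain ⟨a, ha, r, hr, y, rfl⟩ := hu
  exact ⟨a, ha, r, hr, c * y, by group⟩

theorem mem_tilde {M : Subgroup G} {a r : G} (ha : a ∈ Cfsg.sigmaCore M) (ha1 : a ≠ 1)
    (hr : r ∈ Cfsg.supportR M a) :
    a * r ∈ Cfsg.tildeOf M ((Cfsg.sigmaCore M : Set G) \ {1}) :=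
  ⟨a, ⟨ha, ha1⟩, r, hr, 1, by group⟩

theorem conj_ne_one {x h : G} (hx : x ≠ 1) : h * x * h⁻¹ ≠ 1 := by
  intro e
  exact hx (conj_eq_one_iff.mp e)

theorem orderOf_conj' (h x : G) : orderOf (h * x * h⁻¹) = orderOf x := by
  have : h * x * h⁻¹ = MulAut.conj h x := by simp [MulAut.conj_apply]
  rw [this, MulEquiv.orderOf_eq]

theorem mem_centralizer_singleton {x c : G} : c ∈ centralizer ({x} : Set G) ↔ x * c = c * x := by
  rw [mem_centralizer_iff]
  constructor
  · intro h; exact h x rfl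
  · intro h y hy
    rw [Set.mem_singleton_iff] at hy
    rw [hy]; exact h

/-- If `x ≠ 1` has a prime divisor of its order. -/
theorem exists_prime_dvd_orderOf [Finite G] {y : G} (hy : y ≠ 1) : ∃ p : ℕ, p.Prime ∧ p ∣ orderOf y := by
  apply Nat.exists_prime_and_dvd
  intro h
  exact hy (orderOf_eq_one_iff.mp h)

/-- The data of S1375 for a nonidentity element of `M_σ` whose centralizer is not in `M`. -/
theorem supportR_data [Finite G] (hG : Cfsg.IsMinSimpleOddOrder G)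
    (M : Subgroup G) (hM : IsCoatom M) (x : G) (hx : x ∈ Cfsg.sigmaCore M) (hx1 : x ≠ 1)
    (hxM : ¬ Subgroup.centralizer ({x} : Set G) ≤ M) :
    Subgroup.centralizer ({x} : Set G) ≤ Subgroup.normalizer ((Cfsg.supportR M x : Subgroup G) : Set G) ∧
      Cfsg.IsComplIn (M ⊓ Subgroup.centralizer ({x} : Set G)) (Cfsg.supportR M x)
        (Subgroup.centralizer ({x} : Set G)) ∧
      ∃ N : Subgroup G, IsCoatom N ∧ Subgroup.centralizer ({x} : Set G) ≤ N := by
  obtain ⟨N, ⟨hN, hxN⟩, huniq, hσF, hnorm, hcompl, -, -⟩ := Cfsg.Agent.S1375.result hG M hM x hx hx1 hxM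
  have hR : Cfsg.supportR M x = Cfsg.sigmaCore N ⊓ Subgroup.centralizer ({x} : Set G) := by
    rw [supportR_eq_of_unique hxM hN hxN huniq, hσF]
  rw [hR]
  exact ⟨hnorm, hcompl, N, hN, hxN⟩

/-- `R(x) ∩ M = 1`. -/
theorem supportR_inf [Finite G] (hG : Cfsg.IsMinSimpleOddOrder G)
    (M : Subgroup G) (hM : IsCoatom M) (x : G) (hx : x ∈ Cfsg.sigmaCore M) (hx1 : x ≠ 1) :
    Cfsg.supportR M x ⊓ M = ⊥ := by
  by_cases hle : Subgroup.centralizer ({x} : Set G) ≤ M
  · rw [supportR_eq_bot_of_le hle]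
    simp
  · obtain ⟨-, -, hbot, -⟩ := (supportR_data hG M hM x hx hx1 hle).2.1
    rw [eq_bot_iff]
    intro z hz
    rw [← hbot]
    exact ⟨⟨hz.2, supportR_le_centralizer M x hz.1⟩, hz.1⟩

/-- Splitting an element of `C_G(x)` (up to conjugacy in `C_G(x)`) as `r * y`, `r ∈ R(x)`,
`y ∈ C_M(x)`. -/
theorem split [Finite G] (hG : Cfsg.IsMinSimpleOddOrder G)
    (M : Subgroup G) (hM : IsCoatom M) (x : G) (hx : x ∈ Cfsg.sigmaCore M) (hx1 : x ≠ 1)
    (w : G) (hw : w ∈ centralizer ({x} : Set G)) :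
    ∃ c ∈ centralizer ({x} : Set G), ∃ r ∈ Cfsg.supportR M x,
      ∃ y ∈ M ⊓ centralizer ({x} : Set G), c * w * c⁻¹ = r * y ∧ Commute r y ∧
        orderOf y ∣ orderOf w := by
  by_cases hle : Subgroup.centralizer ({x} : Set G) ≤ M
  · exact ⟨1, one_mem _, 1, one_mem _, w, ⟨hle hw, hw⟩, by group, Commute.one_left w, dvd_rfl⟩
  · obtain ⟨hnorm, hcompl, N, hN, hCN⟩ := supportR_data hG M hM x hx hx1 hle
    set C := centralizer ({x} : Set G) with hC
    set R := Cfsg.supportR M x with hR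
    have hcop0 := (Cfsg.Agent.S1374.result hG M hM x hx hx1).1
    have hCtop : C ≠ ⊤ := by
      intro h
      apply hN.1
      rw [eq_top_iff, ← h]
      exact hCN
    have hsolv : Group.IsSolvable C := hG.2.2.2 C hCtop
    have hcard : Nat.card C = Nat.card (M ⊓ C : Subgroup G) * Nat.card R :=
      Cfsg.Agent.Helper23.card_of_isComplIn hcompl
    have hHC : M ⊓ C ≤ C := inf_le_right
    have hRC : R ≤ C := hcompl.2.1
    have hrel : (M ⊓ C).relIndex C = Nat.card R := by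
      have h1 := Subgroup.relIndex_mul_relIndex ⊥ (M ⊓ C) C bot_le hHC
      rw [Subgroup.relIndex_bot_left, Subgroup.relIndex_bot_left] at h1
      have hpos : 0 < Nat.card (M ⊓ C : Subgroup G) := Nat.card_pos
      have : Nat.card (M ⊓ C : Subgroup G) * (M ⊓ C).relIndex C
          = Nat.card (M ⊓ C : Subgroup G) * Nat.card R := by rw [h1, hcard]
      exact Nat.eq_of_mul_eq_mul_left hpos this
    have hcop : (Nat.card (M ⊓ C : Subgroup G)).Coprime (Nat.card R) := by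
      rw [← hrel]; exact hcop0
    -- the split
    set ρ : Set ℕ := {q | q.Prime ∧ q ∣ Nat.card R} with hρ
    have hw0 : orderOf w ≠ 0 := (orderOf_pos w).ne'
    set r := piPart ρ w with hr
    set y := piPart' ρ w with hy
    have hrw : r ∈ zpowers w := piPart_mem_zpowers ρ w
    have hyw : y ∈ zpowers w := piPart'_mem_zpowers ρ w
    have hwC : zpowers w ≤ C := by
      rw [zpowers_le]; exact hw
    have hrC : r ∈ C := hwC hrw
    have hyC : y ∈ C := hwC hyw
    have hrπ : IsPiElt ρ r := isPiElt_piPart ρ w hw0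
    have hyπ : IsPiElt ρᶜ y := isPiElt_piPart' ρ w hw0
    have hrcop : (orderOf r).Coprime (Nat.card (M ⊓ C : Subgroup G)) := by
      apply Nat.coprime_of_dvd
      intro q hq hq1 hq2
      have : q ∣ Nat.card R := (hrπ q hq hq1).2
      have h1 : q ∣ Nat.gcd (Nat.card (M ⊓ C : Subgroup G)) (Nat.card R) := Nat.dvd_gcd hq2 this
      rw [hcop] at h1
      exact hq.one_lt.ne' (Nat.dvd_one.mp h1)
    have hycop : (orderOf y).Coprime (Nat.card R) := by
      apply Nat.coprime_of_dvd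
      intro q hq hq1 hq2
      exact hyπ q hq hq1 ⟨hq, hq2⟩
    have hrR : r ∈ R :=
      mem_of_normal_hall C R hRC hnorm hsolv (Nat.card (M ⊓ C : Subgroup G))
        (by rw [hcard, mul_comm]) hcop.symm r hrC hrcop
    obtain ⟨c, hc, hcy⟩ := exists_conj_mem_rel C (M ⊓ C) hHC hsolv (Nat.card R) hcard hcop y hyC hycop
    have hcR : c * r * c⁻¹ ∈ R := by
      have := (mem_normalizer_iff.mp (hnorm hc) r).mp hrR
      exact this
    refine ⟨c, hc, c * r * c⁻¹, hcR, c * y * c⁻¹, hcy, ?_, ?_, ?_⟩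
    · have : r * y = w := piPart_mul_piPart' ρ w
      rw [← this]; group
    · have h0 : Commute r y := commute_piPart_piPart' ρ w
      have h1 : r * y = y * r := h0
      show c * r * c⁻¹ * (c * y * c⁻¹) = c * y * c⁻¹ * (c * r * c⁻¹)
      calc c * r * c⁻¹ * (c * y * c⁻¹) = c * (r * y) * c⁻¹ := by group
        _ = c * (y * r) * c⁻¹ := by rw [h1]
        _ = c * y * c⁻¹ * (c * r * c⁻¹) := by group
    · rw [orderOf_conj']
      exact orderOf_dvd_of_mem_zpowers hyw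

/-- The `τ₂`-case of S1432: `x * y` lies in `L̃`. -/
theorem tau2_case [Finite G] (hG : Cfsg.IsMinSimpleOddOrder G)
    (M : Subgroup G) (hM : IsCoatom M) (x : G) (hx : x ∈ Cfsg.sigmaCore M) (hx1 : x ≠ 1)
    (y : G) (hy1 : y ≠ 1) (hxy : x * y = y * x)
    (hσ : ∀ p : ℕ, p.Prime → p ∣ orderOf y → p ∉ Cfsg.sigma M)
    (L : Subgroup G) (hL : IsCoatom L) (hLσ : ∀ p : ℕ, p.Prime → p ∣ orderOf y → p ∈ Cfsg.sigma L)
    (hCM : centralizer ({y} : Set G) ≤ M)
    (huniq : ∀ L' : Subgroup G, IsCoatom L' → centralizer ({y} : Set G) ≤ L' → L' = M) :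
    x * y ∈ Cfsg.tildeOf L ((Cfsg.sigmaCore L : Set G) \ {1}) := by
  have hY1 : zpowers y ≠ ⊥ := by
    intro h
    apply hy1
    have : y ∈ zpowers y := mem_zpowers y
    rw [h, mem_bot] at this
    exact this
  obtain ⟨h, hh⟩ := Cfsg.Agent.S1425.result hG L hL (zpowers y) hY1
    (by intro p hp hd; rw [Nat.card_zpowers] at hd; exact hLσ p hp hd)
  set y' := h * y * h⁻¹ with hy'
  set x' := h * x * h⁻¹ with hx'
  have hy'L : y' ∈ Cfsg.sigmaCore L := hh ⟨y, mem_zpowers y, rfl⟩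
  have hy'1 : y' ≠ 1 := conj_ne_one hy1
  have hx'M : x' ∈ Cfsg.sigmaCore (cj h M) := conj_mem_sigmaCore_cj hx
  have hcent : centralizer ({y'} : Set G) = cj h (centralizer ({y} : Set G)) :=
    centralizer_singleton_cj h y
  have hM1 : IsCoatom (cj h M) := isCoatom_cj hM
  have hCM1 : centralizer ({y'} : Set G) ≤ cj h M := by
    rw [hcent]; exact cj_mono h hCM
  have huniq1 : ∀ L' : Subgroup G, IsCoatom L' → centralizer ({y'} : Set G) ≤ L' → L' = cj h M := by
    intro L' hL' hle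
    have h1 : centralizer ({y} : Set G) ≤ cj h⁻¹ L' := by
      rw [hcent, cj_le_iff] at hle
      exact hle
    have h2 := huniq (cj h⁻¹ L') (isCoatom_cj hL') h1
    rw [← h2, cj_cj_inv]
  have hnotL : ¬ centralizer ({y'} : Set G) ≤ L := by
    intro hle
    have hLM : L = cj h M := huniq1 L hL hle
    obtain ⟨p, hp, hpd⟩ := exists_prime_dvd_orderOf hy1
    have h1 : p ∈ Cfsg.sigma L := hLσ p hp hpd
    rw [hLM, sigma_cj] at h1
    exact hσ p hp hpd h1
  have hsupp : Cfsg.supportR L y' = Cfsg.fittingHallOf (cj h M) ⊓ centralizer ({y'} : Set G) :=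
    supportR_eq_of_unique hnotL hM1 hCM1 huniq1
  obtain ⟨N, ⟨hN, hyN⟩, -, hσF, -⟩ := Cfsg.Agent.S1375.result hG L hL y' hy'L hy'1 hnotL
  have hNM : N = cj h M := huniq1 N hN hyN
  rw [hNM] at hσF
  have hx'R : x' ∈ Cfsg.supportR L y' := by
    rw [hsupp, ← hσF]
    refine Subgroup.mem_inf.mpr ⟨hx'M, ?_⟩
    rw [mem_centralizer_singleton]
    show h * y * h⁻¹ * (h * x * h⁻¹) = h * x * h⁻¹ * (h * y * h⁻¹)
    calc h * y * h⁻¹ * (h * x * h⁻¹) = h * (y * x) * h⁻¹ := by group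
      _ = h * (x * y) * h⁻¹ := by rw [hxy]
      _ = h * x * h⁻¹ * (h * y * h⁻¹) := by group
  have hmem := mem_tilde hy'L hy'1 hx'R
  have := tilde_conj hmem h⁻¹
  have e : h⁻¹ * (y' * x') * h⁻¹⁻¹ = x * y := by
    rw [hy', hx']
    calc h⁻¹ * (h * y * h⁻¹ * (h * x * h⁻¹)) * h⁻¹⁻¹ = y * x := by group
      _ = x * y := hxy.symm
  rwa [e] at this

/-- The alternative (B) of the main lemma. -/
def AltB (g : G) : Prop :=
  ∃ M : Subgroup G, IsCoatom M ∧ ∃ x ∈ Cfsg.sigmaCore M, x ≠ 1 ∧ ∃ y ∈ M, y ≠ 1 ∧ x * y = y * x ∧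
    (∀ p : ℕ, p.Prime → p ∣ orderOf y → p ∈ Cfsg.kappa M) ∧ centralizer ({x} : Set G) ≤ M ∧
    ∃ c : G, g = c * (x * y) * c⁻¹

/-- The alternative (A) of the main lemma. -/
def AltA (g : G) : Prop :=
  ∃ N : Subgroup G, IsCoatom N ∧ g ∈ Cfsg.tildeOf N ((Cfsg.sigmaCore N : Set G) \ {1})

theorem AltA.conj {g : G} (h : AltA g) (c : G) : AltA (c * g * c⁻¹) := by
  obtain ⟨N, hN, hg⟩ := h
  exact ⟨N, hN, tilde_conj hg c⟩

theorem AltB.conj {g : G} (h : AltB g) (c : G) : AltB (c * g * c⁻¹) := by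
  obtain ⟨M, hM, x, hx, hx1, y, hy, hy1, hxy, hκ, hC, d, rfl⟩ := h
  exact ⟨M, hM, x, hx, hx1, y, hy, hy1, hxy, hκ, hC, c * d, by group⟩

theorem alt_of_conj {g : G} (c : G) (h : AltA (c * g * c⁻¹) ∨ AltB (c * g * c⁻¹)) :
    AltA g ∨ AltB g := by
  have e : c⁻¹ * (c * g * c⁻¹) * c⁻¹⁻¹ = g := by group
  rcases h with h | h
  · left; have := h.conj c⁻¹; rwa [e] at this
  · right; have := h.conj c⁻¹; rwa [e] at this

/-- Main lemma, for `g = x * w` with `x ∈ M_σ#` and `w ∈ C_G(x)` a `σ(M)'`-element. -/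
theorem main_aux [Finite G] (hG : Cfsg.IsMinSimpleOddOrder G)
    (M : Subgroup G) (hM : IsCoatom M) (x : G) (hx : x ∈ Cfsg.sigmaCore M) (hx1 : x ≠ 1)
    (w : G) (hw : w ∈ centralizer ({x} : Set G))
    (hwσ : ∀ p : ℕ, p.Prime → p ∣ orderOf w → p ∉ Cfsg.sigma M) :
    AltA (x * w) ∨ AltB (x * w) := by
  obtain ⟨c, hc, r, hr, y, hy, hcw, hry, hord⟩ := split hG M hM x hx hx1 w hw
  have hcx : c * x * c⁻¹ = x := by
    have : x * c = c * x := mem_centralizer_singleton.mp hc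
    calc c * x * c⁻¹ = (c * x) * c⁻¹ := rfl
      _ = (x * c) * c⁻¹ := by rw [this]
      _ = x := by group
  have hconj : c * (x * w) * c⁻¹ = x * (r * y) := by
    calc c * (x * w) * c⁻¹ = (c * x * c⁻¹) * (c * w * c⁻¹) := by group
      _ = x * (r * y) := by rw [hcx, hcw]
  apply alt_of_conj c
  rw [hconj]
  by_cases hy1 : y = 1
  · left
    refine ⟨M, hM, ?_⟩
    rw [hy1, mul_one]
    exact mem_tilde hx hx1 hr
  · have hyσ : ∀ p : ℕ, p.Prime → p ∣ orderOf y → p ∉ Cfsg.sigma M :=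
      fun p hp hd => hwσ p hp (hd.trans hord)
    have hxy : x * y = y * x := mem_centralizer_singleton.mp hy.2
    rcases Cfsg.Agent.S1432.result hG M hM x hx hx1 y hy hy1 hyσ with ⟨hκ, hCM⟩ | ⟨-, ⟨L, hL, hLσ⟩, hCy, huniq⟩
    · right
      have hr1 : r = 1 := by
        have : r ∈ Cfsg.supportR M x := hr
        rw [supportR_eq_bot_of_le hCM, mem_bot] at this
        exact this
      rw [hr1, one_mul]
      exact ⟨M, hM, x, hx, hx1, y, hy.1, hy1, hxy, hκ, hCM, 1, by group⟩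
    · left
      have hr1 : r = 1 := by
        have hrM : r ∈ M := by
          apply hCy
          rw [mem_centralizer_singleton]
          exact hry.eq.symm
        have : r ∈ Cfsg.supportR M x ⊓ M := Subgroup.mem_inf.mpr ⟨hr, hrM⟩
        rw [supportR_inf hG M hM x hx hx1, mem_bot] at this
        exact this
      rw [hr1, one_mul]
      exact ⟨L, hL, tau2_case hG M hM x hx hx1 y hy1 hxy hyσ L hL hLσ hCy huniq⟩

/-- **Main lemma.** -/
theorem main [Finite G] (hG : Cfsg.IsMinSimpleOddOrder G) (g : G) (hg : g ≠ 1) :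
    AltA g ∨ AltB g := by
  obtain ⟨p, hp, hpd⟩ := exists_prime_dvd_orderOf hg
  obtain ⟨M, hM, hpM⟩ := (Cfsg.Agent.S1378.result hG).1 p hp (hpd.trans (orderOf_dvd_natCard g))
  have hg0 : orderOf g ≠ 0 := (orderOf_pos g).ne'
  set x0 := piPart (Cfsg.sigma M) g with hx0
  set w0 := piPart' (Cfsg.sigma M) g with hw0
  have hxw : x0 * w0 = g := piPart_mul_piPart' (Cfsg.sigma M) g
  have hcomm : Commute x0 w0 := commute_piPart_piPart' (Cfsg.sigma M) g
  have hx0π : IsPiElt (Cfsg.sigma M) x0 := isPiElt_piPart (Cfsg.sigma M) g hg0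
  have hw0π : IsPiElt (Cfsg.sigma M)ᶜ w0 := isPiElt_piPart' (Cfsg.sigma M) g hg0
  have hx01 : x0 ≠ 1 := by
    intro h
    rw [h, one_mul] at hxw
    rw [← hxw] at hpd
    exact hw0π p hp hpd hpM
  have hY1 : zpowers x0 ≠ ⊥ := by
    intro h
    apply hx01
    have : x0 ∈ zpowers x0 := mem_zpowers x0
    rw [h, mem_bot] at this
    exact this
  obtain ⟨h, hh⟩ := Cfsg.Agent.S1425.result hG M hM (zpowers x0) hY1
    (by intro q hq hd; rw [Nat.card_zpowers] at hd; exact hx0π q hq hd)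
  have hxM : h * x0 * h⁻¹ ∈ Cfsg.sigmaCore M := hh ⟨x0, mem_zpowers x0, by simp [MulAut.conj_apply]⟩
  apply alt_of_conj h
  have e : h * g * h⁻¹ = (h * x0 * h⁻¹) * (h * w0 * h⁻¹) := by
    rw [← hxw]; group
  rw [e]
  apply main_aux hG M hM _ hxM (conj_ne_one hx01)
  · rw [mem_centralizer_singleton]
    have h1 : x0 * w0 = w0 * x0 := hcomm
    calc h * x0 * h⁻¹ * (h * w0 * h⁻¹) = h * (x0 * w0) * h⁻¹ := by group
      _ = h * (w0 * x0) * h⁻¹ := by rw [h1]
      _ = h * w0 * h⁻¹ * (h * x0 * h⁻¹) := by group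
  · intro q hq hd
    rw [orderOf_conj'] at hd
    exact hw0π q hq hd

end Cfsg.Agent.Helper25.BG14Main
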