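import Mathlib
import Cfsg.Agent.Lib.Helper25.BGNat

/-!
# `κ(M)` is invariant under conjugation (helper25)
-/

set_option autoImplicit false
set_option linter.unusedSectionVars false
set_option linter.unusedVariables false
set_option linter.style.haveILetI false

namespace Cfsg.Agent.Helper25.BGNat

open Subgroup
open Cfsg.Agent.Helper79.BG10

variable {G : Type*} [Group G]

theorem kappa_cj_subset [Finite G] (g : G) (M : Subgroup G) :
    Cfsg.kappa M ⊆ Cfsg.kappa (cj g M) := by
  rintro p ⟨hp, hdvd, hnσ, hP⟩
  haveI : Fact p.Prime := ⟨hp⟩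
  refine ⟨hp, by rwa [card_cj], by rwa [sigma_cj], ?_⟩
  intro P'
  -- transport P' to a Sylow subgroup of M
  set e := cjEquiv g M with he
  set P : Sylow p M := P'.mapSurjective (f := e.symm.toMonoidHom)
    (show Function.Surjective e.symm.toMonoidHom from e.symm.surjective) with hPdef
  have hPcoe : (P : Subgroup M) = (P' : Subgroup (cj g M)).map e.symm.toMonoidHom :=
    Sylow.coe_mapSurjective _ _
  obtain ⟨hcyc, x, hxP, hx1, y, hy, hy1, hxy⟩ := hP P
  constructor
  · -- P' ≃* P
    have f : (P' : Subgroup (cj g M)) ≃* ((P' : Subgroup (cj g M)).map e.symm.toMonoidHom) :=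
      e.symm.subgroupMap (P' : Subgroup (cj g M))
    have hcyc' : IsCyclic ((P' : Subgroup (cj g M)).map e.symm.toMonoidHom) := by
      rw [← hPcoe]; exact hcyc
    exact isCyclic_of_surjective f.symm f.symm.surjective
  · refine ⟨e x, ?_, ?_, g * y * g⁻¹, conj_mem_sigmaCore_cj hy, ?_, ?_⟩
    · rw [hPcoe] at hxP
      obtain ⟨x'', hx'', hxe⟩ := hxP
      have : e x = x'' := by
        rw [← hxe]
        exact e.apply_symm_apply x''
      rw [this]; exact hx''
    · intro h
      apply hx1
      have := congrArg e.symm h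
      simpa using this
    · intro h
      exact hy1 (conj_eq_one_iff.mp h)
    · rw [he, cjEquiv_coe]
      calc g * (x : G) * g⁻¹ * (g * y * g⁻¹) = g * ((x : G) * y) * g⁻¹ := by group
        _ = g * (y * (x : G)) * g⁻¹ := by rw [hxy]
        _ = g * y * g⁻¹ * (g * (x : G) * g⁻¹) := by group

theorem kappa_cj [Finite G] (g : G) (M : Subgroup G) : Cfsg.kappa (cj g M) = Cfsg.kappa M := by
  apply Set.Subset.antisymm
  · have := kappa_cj_subset g⁻¹ (cj g M)
    rwa [cj_inv_cj] at this
  · exact kappa_cj_subset g M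

end Cfsg.Agent.Helper25.BGNat
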