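import Mathlib
import Cfsg.Agent.S1430
import Cfsg.Agent.Lib.Helper25.BG14Main
import Cfsg.Agent.Lib.Helper25.BGNat2
import Cfsg.Agent.Lib.Helper25.BGHallConj

/-!
# Part (3a) of S1379 (helper25): the alternative (B) of the main lemma gives a conjugate of `Ẑ`,
provided the maximal subgroup involved is conjugate to `M` or to its partner `M*`.
-/

set_option autoImplicit false
set_option linter.unusedSectionVars false
set_option linter.unusedVariables false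
set_option linter.style.haveILetI false

namespace Cfsg.Agent.Helper25.BG14Three

open Subgroup
open Cfsg.Agent.Helper79.BG10
open Cfsg.Agent.Helper25.BGNat
open Cfsg.Agent.Helper25.BGHallConj
open Cfsg.Agent.Helper25.BG14Main
open Cfsg.Agent.Helper55.BGB

variable {G : Type*} [Group G]

theorem zhat_mem {K Ks : Subgroup G} (hKKs : K ⊓ Ks = ⊥) {k s : G} (hk : k ∈ K) (hk1 : k ≠ 1)
    (hs : s ∈ Ks) (hs1 : s ≠ 1) :
    k * s ∈ ((↑(K ⊔ Ks) : Set G) \ ((K : Set G) ∪ ↑Ks)) := by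
  refine ⟨mul_mem (le_sup_left (a := K) (b := Ks) hk) (le_sup_right (a := K) (b := Ks) hs), ?_⟩
  rintro (h | h)
  · have h1 : s ∈ K := by
      have : s = k⁻¹ * (k * s) := by group
      rw [this]; exact mul_mem (inv_mem hk) h
    have : s ∈ K ⊓ Ks := Subgroup.mem_inf.mpr ⟨h1, hs⟩
    rw [hKKs, mem_bot] at this
    exact hs1 this
  · have h1 : k ∈ Ks := by
      have : k = (k * s) * s⁻¹ := by group
      rw [this]; exact mul_mem h (inv_mem hs)
    have : k ∈ K ⊓ Ks := Subgroup.mem_inf.mpr ⟨hk, h1⟩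
    rw [hKKs, mem_bot] at this
    exact hk1 this

theorem normal_sigmaCore [Finite G] {M : Subgroup G} {m x : G} (hm : m ∈ M)
    (hx : x ∈ Cfsg.sigmaCore M) : m * x * m⁻¹ ∈ Cfsg.sigmaCore M := by
  have := conj_mem_sigmaCore_cj (g := m) hx
  rwa [cj_eq_self_of_mem hm] at this

/-- Conjugating a pair `(x, y)` with `x ∈ (A^t)_σ#`, `y ∈ C_{A^t}(x)#` a `κ`-element into
`(K_A^*, K_A)`. -/
theorem conj_into [Finite G] (hG : Cfsg.IsMinSimpleOddOrder G) (A KA : Subgroup G)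
    (hA : IsCoatom A) (hKA : Cfsg.IsPiHallOf (Cfsg.kappa A) KA A) (t : G)
    (x : G) (hx : x ∈ Cfsg.sigmaCore (cj t A)) (hx1 : x ≠ 1) (y : G) (hy : y ∈ cj t A) (hy1 : y ≠ 1)
    (hxy : x * y = y * x)
    (hκ : ∀ p : ℕ, p.Prime → p ∣ orderOf y → p ∈ Cfsg.kappa (cj t A)) :
    ∃ d : G, ∃ k ∈ KA, k ≠ 1 ∧ ∃ s ∈ Cfsg.sigmaCore A ⊓ centralizer (KA : Set G), s ≠ 1 ∧
      x * y = d * (k * s) * d⁻¹ := by
  have hx1A : t⁻¹ * x * t ∈ Cfsg.sigmaCore A := by
    rw [sigmaCore_cj] at hx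
    exact mem_cj.mp hx
  have hy1A : t⁻¹ * y * t ∈ A := mem_cj.mp hy
  have hord : orderOf (t⁻¹ * y * t) = orderOf y := by
    have := orderOf_conj' t⁻¹ y
    rwa [inv_inv] at this
  have hκ' : ∀ p : ℕ, p.Prime → p ∣ orderOf (t⁻¹ * y * t) → p ∈ Cfsg.kappa A := by
    intro p hp hd
    rw [hord] at hd
    have := hκ p hp hd
    rwa [kappa_cj] at this
  have hsolv : Group.IsSolvable A := hG.2.2.2 A hA.1
  obtain ⟨m, hm, hmk⟩ := exists_conj_mem_of_isPiHallOf hKA hsolv (t⁻¹ * y * t) hy1A hκ'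
  set k := m * (t⁻¹ * y * t) * m⁻¹ with hk
  set s := m * (t⁻¹ * x * t) * m⁻¹ with hs
  have hsA : s ∈ Cfsg.sigmaCore A := normal_sigmaCore hm hx1A
  have hk1 : k ≠ 1 := by
    apply conj_ne_one
    intro h
    apply hy1
    have : y = t * (t⁻¹ * y * t) * t⁻¹ := by group
    rw [this, h]; group
  have hs1 : s ≠ 1 := by
    apply conj_ne_one
    intro h
    apply hx1
    have : x = t * (t⁻¹ * x * t) * t⁻¹ := by group
    rw [this, h]; group
  have hKA1 : KA ≠ ⊥ := by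
    intro h
    rw [h, mem_bot] at hmk
    exact hk1 hmk
  have hks : k * s = s * k := by
    rw [hk, hs]
    calc m * (t⁻¹ * y * t) * m⁻¹ * (m * (t⁻¹ * x * t) * m⁻¹)
        = m * (t⁻¹ * (y * x) * t) * m⁻¹ := by group
      _ = m * (t⁻¹ * (x * y) * t) * m⁻¹ := by rw [hxy]
      _ = m * (t⁻¹ * x * t) * m⁻¹ * (m * (t⁻¹ * y * t) * m⁻¹) := by group
  have h30 := (Cfsg.Agent.S1430.result hG A hA KA hKA hKA1).1 k hmk hk1
  have hsKs : s ∈ Cfsg.sigmaCore A ⊓ centralizer (KA : Set G) := by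
    rw [← h30]
    exact Subgroup.mem_inf.mpr ⟨hsA, mem_centralizer_singleton.mpr hks⟩
  refine ⟨t * m⁻¹, k, hmk, hk1, s, hsKs, hs1, ?_⟩
  rw [hxy, hk, hs]
  group

/-- **(3a) core.** -/
theorem part3a_core [Finite G] (hG : Cfsg.IsMinSimpleOddOrder G)
    (M K U : Subgroup G) (hM : IsCoatom M) (hKU : Cfsg.IsSigmaDecomposition M K U) (hK1 : K ≠ ⊥)
    (Mstar : Subgroup G) (hMstar : IsCoatom Mstar)
    (hKst : K = Cfsg.sigmaCore Mstar ⊓
      Subgroup.centralizer ((Cfsg.sigmaCore M ⊓ Subgroup.centralizer (K : Set G)) : Set G))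
    (hKstH : Cfsg.IsPiHallOf (Cfsg.kappa Mstar)
      (Cfsg.sigmaCore M ⊓ Subgroup.centralizer (K : Set G)) Mstar)
    (H : Subgroup G) (hconj : (∃ t : G, H = cj t M) ∨ (∃ t : G, H = cj t Mstar))
    (x : G) (hx : x ∈ Cfsg.sigmaCore H) (hx1 : x ≠ 1) (y : G) (hy : y ∈ H) (hy1 : y ≠ 1)
    (hxy : x * y = y * x)
    (hκ : ∀ p : ℕ, p.Prime → p ∣ orderOf y → p ∈ Cfsg.kappa H) :
    ∃ d : G, ∃ z ∈ ((↑(K ⊔ (Cfsg.sigmaCore M ⊓ Subgroup.centralizer (K : Set G))) : Set G) \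
        ((K : Set G) ∪ ↑(Cfsg.sigmaCore M ⊓ Subgroup.centralizer (K : Set G)))),
      x * y = d * z * d⁻¹ := by
  have hKKs : K ⊓ (Cfsg.sigmaCore M ⊓ Subgroup.centralizer (K : Set G)) = ⊥ :=
    inf_eq_bot_of_kappa_sigma (M := M) hKU.hall.2.1
      (fun p hp hd => isPi_sigmaCore M p hp (hd.trans (Subgroup.card_dvd_of_le inf_le_left)))
  rcases hconj with ⟨t, rfl⟩ | ⟨t, rfl⟩
  · obtain ⟨d, k, hk, hk1, s, hs, hs1, he⟩ :=
      conj_into hG M K hM hKU.hall t x hx hx1 y hy hy1 hxy hκ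
    exact ⟨d, k * s, zhat_mem hKKs hk hk1 hs hs1, he⟩
  · obtain ⟨d, k, hk, hk1, s, hs, hs1, he⟩ :=
      conj_into hG Mstar _ hMstar hKstH t x hx hx1 y hy hy1 hxy hκ
    have hKst' : K = Cfsg.sigmaCore Mstar ⊓
        centralizer (((Cfsg.sigmaCore M ⊓ Subgroup.centralizer (K : Set G) : Subgroup G)) : Set G) :=
      hKst
    have hcomm : k * s = s * k := (mem_centralizer_iff.mp hs.2) k hk
    rw [← hKst'] at hs
    refine ⟨d, s * k, zhat_mem hKKs hs hs1 hk hk1, ?_⟩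
    rw [he, hcomm]

end Cfsg.Agent.Helper25.BG14Three
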