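import Mathlib
import Cfsg.Prelude.Def_OddOrder
import Cfsg.Prelude.Def_OddOrderLocal
import Cfsg.Agent.S1404
import Cfsg.Agent.S1425
import Cfsg.Agent.Lib.Helper25.BGNat
import Cfsg.Agent.Lib.Helper55.BGBasic

/-!
# BG142 request (Q16) of helper54: S1431 clauses (1) and (4) from `C_G(X) ≤ M` for `X ≤ K*` of prime order
(S1404 + S1425).
-/

set_option autoImplicit false
set_option linter.unusedSectionVars false
set_option linter.unusedVariables false
set_option linter.style.haveILetI false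

namespace Cfsg.Agent.Helper25.BG142Req

open Subgroup
open Cfsg.Agent.Helper79.BG10
open Cfsg.Agent.Helper25.BGNat
open Cfsg.Agent.Helper55.BGB

variable {G : Type*} [Group G] [Finite G]

/-- a nontrivial subgroup contains an element of prime order -/
theorem exists_prime_order_mem {A : Subgroup G} (hA : A ≠ ⊥) :
    ∃ y ∈ A, ∃ q : ℕ, q.Prime ∧ orderOf y = q := by
  obtain ⟨w, hw1⟩ := (Subgroup.ne_bot_iff_exists_ne_one.mp hA)
  have hw1' : (w : G) ≠ 1 := fun h => hw1 (Subtype.ext h)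
  have hne : orderOf (w : G) ≠ 1 := fun h => hw1' (orderOf_eq_one_iff.mp h)
  obtain ⟨q, hq, hqd⟩ := Nat.exists_prime_and_dvd hne
  have h0 : orderOf (w : G) ≠ 0 := (orderOf_pos (w : G)).ne'
  exact ⟨(w : G) ^ (orderOf (w : G) / q), pow_mem w.2 _, q, hq, orderOf_pow_orderOf_div h0 hqd⟩

/-- key step: if `X ≤ Ks` has prime order and a conjugate `X^g` lies in `M`, then `g ∈ M`. -/
theorem mem_of_map_le (hG : Cfsg.IsMinSimpleOddOrder G) (M : Subgroup G) (hM : IsCoatom M)
    (Ks : Subgroup G) (hKs : Ks ≤ Cfsg.sigmaCore M)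
    (huniq : ∀ X : Subgroup G, X ≤ Ks → (Nat.card X).Prime → centralizer (X : Set G) ≤ M)
    (y : G) (hy : y ∈ Ks) (q : ℕ) (hq : q.Prime) (hord : orderOf y = q) (g : G)
    (hg : (zpowers y).map (MulAut.conj g).toMonoidHom ≤ M) : g ∈ M := by
  haveI : Fact q.Prime := ⟨hq⟩
  have hXKs : zpowers y ≤ Ks := by rw [zpowers_le]; exact hy
  have hcard : Nat.card (zpowers y) = q := by rw [Nat.card_zpowers, hord]
  have hXprime : (Nat.card (zpowers y)).Prime := by rw [hcard]; exact hq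
  have hqσ : q ∈ Cfsg.sigma M :=
    isPi_sigmaCore M q hq (by rw [← hord]; exact Subgroup.orderOf_dvd_natCard _ (hKs hy))
  have hpg : IsPGroup q (zpowers y) := IsPGroup.of_card (n := 1) (by rw [hcard, pow_one])
  have hy1 : y ≠ 1 := by
    intro h
    rw [h, orderOf_one] at hord
    exact hq.one_lt.ne hord
  have hXbot : zpowers y ≠ ⊥ := by
    intro hb
    have : y ∈ zpowers y := mem_zpowers y
    rw [hb, mem_bot] at this
    exact hy1 this
  have hXM : zpowers y ≤ M := hXKs.trans (hKs.trans (sigmaCore_le M))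
  obtain ⟨m, hm, c, hc, hmc⟩ :=
    (Cfsg.Agent.S1404.result hG M hM q hqσ (zpowers y) hpg hXbot hXM).1 g hg
  rw [hmc]
  exact mul_mem hm (huniq (zpowers y) hXKs hXprime hc)

/-- **(Q16)** -/
theorem star_clauses (hG : Cfsg.IsMinSimpleOddOrder G) (M : Subgroup G) (hM : IsCoatom M)
    (Ks : Subgroup G) (hKs : Ks ≤ Cfsg.sigmaCore M)
    (huniq : ∀ X : Subgroup G, X ≤ Ks → (Nat.card X).Prime → centralizer (X : Set G) ≤ M) :
    (∀ g : G, g ∉ M → Ks ⊓ M.map (MulAut.conj g).toMonoidHom = ⊥) ∧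
      ∀ Y : Subgroup G, (∀ p : ℕ, p.Prime → p ∣ Nat.card Y → p ∈ Cfsg.sigma M) → Y ⊓ Ks ≠ ⊥ →
        Y ≤ Cfsg.sigmaCore M := by
  constructor
  · intro g hg
    by_contra hne
    obtain ⟨y, hy, q, hq, hord⟩ := exists_prime_order_mem hne
    apply hg
    have hginv : g⁻¹ ∈ M := by
      apply mem_of_map_le hG M hM Ks hKs huniq y hy.1 q hq hord g⁻¹
      rintro _ ⟨w, hw, rfl⟩
      obtain ⟨n, rfl⟩ := mem_zpowers_iff.mp hw
      have hyn : y ^ n ∈ cj g M := (cj g M).zpow_mem hy.2 n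
      have := mem_cj.mp hyn
      simpa [MulAut.conj_apply] using this
    have := inv_mem hginv
    rwa [inv_inv] at this
  · intro Y hY hne
    have hYbot : Y ≠ ⊥ := by
      intro h
      apply hne
      rw [h, bot_inf_eq]
    obtain ⟨g, hg⟩ := Cfsg.Agent.S1425.result hG M hM Y hYbot hY
    obtain ⟨y, hy, q, hq, hord⟩ := exists_prime_order_mem hne
    have hgM : g ∈ M := by
      apply mem_of_map_le hG M hM Ks hKs huniq y hy.2 q hq hord g
      have hle : zpowers y ≤ Y := by rw [zpowers_le]; exact hy.1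
      exact (Subgroup.map_mono hle).trans (hg.trans (sigmaCore_le M))
    -- Y ≤ cj g⁻¹ (sigmaCore M) = sigmaCore M
    intro w hw
    have h1 : g * w * g⁻¹ ∈ Cfsg.sigmaCore M := hg ⟨w, hw, by simp [MulAut.conj_apply]⟩
    have h2 := conj_mem_sigmaCore_cj (g := g⁻¹) h1
    rw [cj_eq_self_of_mem (inv_mem hgM)] at h2
    have e : g⁻¹ * (g * w * g⁻¹) * g⁻¹⁻¹ = w := by group
    rwa [e] at h2

end Cfsg.Agent.Helper25.BG142Req
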