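import Mathlib
import Cfsg.Prelude.Def_OddOrderLocal
import Cfsg.Agent.Lib.Helper25.BG142Q17
import Cfsg.Agent.Lib.Helper52.Coprime
import Cfsg.Agent.Lib.Helper57.BG161G
import Cfsg.Agent.Lib.Helper15.BGV.Basic

/-!
# (E1) of helper2's lemma server "BG157" (S1383)

A central product `P₁ ∘ P₂` (`P₁` of order `p ^ 3`, `P₂` cyclic with `Ω₁(P₂) = Z(P₁)`) normalized by a
`p'`-group `K` with `C_P(K)` central of order `p` is `P₁`.
-/

set_option autoImplicit false
set_option linter.unusedVariables false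
set_option linter.unusedSectionVars false

namespace Cfsg.Agent.Helper25.BG157

open Subgroup Cfsg

variable {G : Type*} [Group G] [Finite G]

/-! ## (E1) a central product P1 o P2 (P1 extraspecial p^3, P2 cyclic) with a coprime K, C_P(K) central of order p, is P1 -/
theorem card_eq_cube_of_struct {p : ℕ} [Fact p.Prime] (hp : p ≠ 2) (P K : Subgroup G) (hP : IsPGroup p P)
    (hstruct : ∃ P₁ P₂ : Subgroup G, P₁ ⊔ P₂ = P ∧ (∀ a ∈ P₁, ∀ b ∈ P₂, a * b = b * a) ∧
        ¬ IsMulCommutative P₁ ∧ Nat.card P₁ = p ^ 3 ∧ Monoid.exponent P₁ = p ∧ IsCyclic P₂ ∧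
        Subgroup.closure {x : G | x ∈ P₂ ∧ x ^ p = 1} = P₁ ⊓ Subgroup.centralizer (P₁ : Set G))
    (hKP : K ≤ normalizer (P : Set G)) (hcop : (Nat.card K).Coprime p)
    (hfix : Nat.card ↥(P ⊓ centralizer (K : Set G)) = p)
    (hfixc : P ⊓ centralizer (K : Set G) ≤ centralizer (P : Set G)) : Nat.card P = p ^ 3 := by
  obtain ⟨P₁, P₂, hsup, hcomm, hna, hc1, hexp, hcyc, hΩ⟩ := hstruct
  have hpp : p.Prime := Fact.out
  have hP₁P : P₁ ≤ P := hsup ▸ le_sup_left
  have hP₂P : P₂ ≤ P := hsup ▸ le_sup_right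
  -- `P₂` is commutative
  have hP₂c : ∀ a ∈ P₂, ∀ b ∈ P₂, a * b = b * a := by
    intro a ha b hb
    have := hcyc
    let _ := IsCyclic.commGroup (α := P₂)
    have h := mul_comm (⟨a, ha⟩ : P₂) ⟨b, hb⟩
    have h2 := congrArg Subtype.val h
    simpa using h2
  -- `P₂ ≤ Z(P)`
  have hP₂Z : P₂ ≤ centralizer (P : Set G) := by
    intro b hb
    rw [Subgroup.mem_centralizer_iff]
    intro x hx
    have hle : P ≤ centralizer ({b} : Set G) := by
      rw [← hsup]
      apply sup_le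
      · intro a ha
        rw [Subgroup.mem_centralizer_iff]
        intro z hz
        rw [Set.mem_singleton_iff] at hz
        rw [hz]; exact (hcomm a ha b hb).symm
      · intro a ha
        rw [Subgroup.mem_centralizer_iff]
        intro z hz
        rw [Set.mem_singleton_iff] at hz
        rw [hz]; exact hP₂c b hb a ha
    have := Subgroup.mem_centralizer_iff.1 (hle hx) b rfl
    exact this.symm
  -- `Z(P) ≤ P₂`
  have hΩle : closure {x : G | x ∈ P₂ ∧ x ^ p = 1} ≤ P₂ := by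
    rw [Subgroup.closure_le]
    intro x hx
    exact hx.1
  have hP₂n : P₂ ≤ normalizer (P₁ : Set G) := by
    intro b hb
    rw [Subgroup.mem_normalizer_iff]
    intro a
    constructor
    · intro ha
      have : b * a * b⁻¹ = a := by rw [← hcomm a ha b hb]; group
      rw [this]; exact ha
    · intro ha
      have h1 := hcomm _ ha b hb
      have : a = b * a * b⁻¹ := by
        have e : b * a = b * a * b⁻¹ * b := by group
        have : b * a * b⁻¹ * b = b * (b * a * b⁻¹) := h1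
        rw [← e] at this
        exact mul_left_cancel this
      rw [this]; exact ha
  have hZP₂ : P ⊓ centralizer (P : Set G) ≤ P₂ := by
    intro z hz
    have hzP : z ∈ P₁ ⊔ P₂ := hsup ▸ hz.1
    obtain ⟨a, ha, b, hb, rfl⟩ := Cfsg.Agent.Helper15.BGV.mem_sup_decomp hP₂n hzP
    have haZ : a ∈ centralizer (P : Set G) := by
      have : a = (a * b) * b⁻¹ := by group
      rw [this]
      exact mul_mem hz.2 (inv_mem (hP₂Z hb))
    have haZ₁ : a ∈ P₁ ⊓ centralizer (P₁ : Set G) :=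
      ⟨ha, Subgroup.centralizer_le (by exact_mod_cast hP₁P) haZ⟩
    rw [← hΩ] at haZ₁
    exact mul_mem (hΩle haZ₁) hb
  have hZeq : P ⊓ centralizer (P : Set G) = P₂ := le_antisymm hZP₂ (le_inf hP₂P hP₂Z)
  -- `K` normalizes `P₂ = Z(P)`
  have hconj : ∀ k ∈ normalizer (P : Set G), ∀ z ∈ P ⊓ centralizer (P : Set G),
      k * z * k⁻¹ ∈ P ⊓ centralizer (P : Set G) := by
    intro k hk z hz
    refine Subgroup.mem_inf.2 ⟨(Subgroup.mem_normalizer_iff.1 hk z).1 hz.1, ?_⟩
    rw [Subgroup.mem_centralizer_iff]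
    intro x hx
    have hx' : k⁻¹ * x * k ∈ P := by
      have := (Subgroup.mem_normalizer_iff.1 (inv_mem hk) x).1 hx
      simpa using this
    have h1 := Subgroup.mem_centralizer_iff.1 hz.2 _ hx'
    calc x * (k * z * k⁻¹) = k * ((k⁻¹ * x * k) * z) * k⁻¹ := by group
      _ = k * (z * (k⁻¹ * x * k)) * k⁻¹ := by rw [h1]
      _ = k * z * k⁻¹ * x := by group
  have hKP₂ : K ≤ normalizer (P₂ : Set G) := by
    intro k hk
    rw [Subgroup.mem_normalizer_iff]
    intro z
    constructor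
    · intro hz
      rw [← hZeq] at hz ⊢
      exact hconj k (hKP hk) z hz
    · intro hz
      rw [← hZeq] at hz ⊢
      have := hconj k⁻¹ (inv_mem (hKP hk)) _ hz
      have e : k⁻¹ * (k * z * k⁻¹) * k⁻¹⁻¹ = z := by group
      rwa [e] at this
  -- `C := C_P(K) = C_{P₂}(K)`
  have hCle : P ⊓ centralizer (K : Set G) ≤ P₂ := by
    rw [← hZeq]; exact le_inf inf_le_left hfixc
  have hCeq : P₂ ⊓ centralizer (K : Set G) = P ⊓ centralizer (K : Set G) :=
    le_antisymm (inf_le_inf_right _ hP₂P) (le_inf hCle inf_le_right)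
  -- coprimality
  have hP₂p : IsPGroup p P₂ := hP.to_le hP₂P
  obtain ⟨n, hn⟩ := IsPGroup.iff_card.mp hP₂p
  have hcop' : (Nat.card K).Coprime (Nat.card P₂) := by
    rw [hn]; exact Nat.Coprime.pow_right n hcop
  have hsolv : Group.IsSolvable P₂ :=
    Group.isSolvable_of_comm (fun a b => Subtype.ext (hP₂c a a.2 b b.2))
  have hdec := Cfsg.Agent.Helper52.eq_commutator_sup_centralizer P₂ K hKP₂ hcop' (Or.inr hsolv)
  have hdisj := Cfsg.Agent.Helper57.BG161.comm_inf_centralizer_eq_bot P₂ K hKP₂ hP₂c hcop'.symm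
  have hcomle : ⁅P₂, K⁆ ≤ P₂ := Cfsg.Agent.Helper24.commutator_le_of_le_normalizer P₂ K hKP₂
  -- `[P₂, K] = 1`
  have hcombot : ⁅P₂, K⁆ = ⊥ := by
    by_contra hne
    obtain ⟨y, hy, q, hq, hord⟩ := Cfsg.Agent.Helper25.BG142Req.exists_prime_order_mem' hne
    have hqp : q = p := by
      have hyP : y ∈ P := hP₂P (hcomle hy)
      obtain ⟨m, hm⟩ := (IsPGroup.iff_orderOf.mp hP) ⟨y, hyP⟩
      rw [Subgroup.orderOf_mk, hord] at hm
      have : q ∣ p ^ m := by rw [← hm]
      exact (Nat.prime_dvd_prime_iff_eq hq hpp).1 (hq.dvd_of_dvd_pow this)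
    have hzy : zpowers y ≤ P₂ := by rw [zpowers_le]; exact hcomle hy
    have hcardy : Nat.card (zpowers y) = Nat.card ↥(P ⊓ centralizer (K : Set G)) := by
      rw [Nat.card_zpowers, hord, hqp, hfix]
    have heq := Cfsg.Agent.Helper25.BG142Req.eq_of_card_eq_of_le_cyclic hcyc hzy hCle hcardy
    have hyC : y ∈ centralizer (K : Set G) := by
      have : y ∈ zpowers y := mem_zpowers y
      rw [heq] at this
      exact this.2
    have hy1 : y ∈ ⁅P₂, K⁆ ⊓ centralizer (K : Set G) := ⟨hy, hyC⟩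
    rw [hdisj, Subgroup.mem_bot] at hy1
    rw [hy1, orderOf_one] at hord
    exact hq.one_lt.ne hord
  -- `P₂ = C`, of order `p`
  have hP₂C : P₂ = P ⊓ centralizer (K : Set G) := by
    rw [hcombot, bot_sup_eq, hCeq] at hdec
    exact hdec
  have hcardP₂ : Nat.card P₂ = p := by rw [hP₂C]; exact hfix
  -- so `P₂ = Ω₁(P₂) ≤ P₁`
  have hP₂P₁ : P₂ ≤ P₁ := by
    intro x hx
    have hxp : x ^ p = 1 := by
      have := pow_card_eq_one' (G := P₂) (x := ⟨x, hx⟩)
      rw [hcardP₂] at this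
      exact congrArg Subtype.val this
    have : x ∈ closure {x : G | x ∈ P₂ ∧ x ^ p = 1} := Subgroup.subset_closure ⟨hx, hxp⟩
    rw [hΩ] at this
    exact this.1
  have : P = P₁ := by rw [← hsup]; exact sup_eq_left.2 hP₂P₁
  rw [this, hc1]

end Cfsg.Agent.Helper25.BG157
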