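import Mathlib
import Cfsg.Prelude.Def_OddOrderLocal
import Cfsg.Agent.Lib.Helper79.BG10.Conj
import Cfsg.Agent.Lib.Helper55.BGFit
import Cfsg.Agent.Lib.Helper45.FittingHall
import Cfsg.Agent.Lib.Helper23.FittingHall

/-!
# (B2) of helper67's request for S1381: if `U = 1` in the standard factorisation then `N_G(U') ≤ M`
for any type-P data `(W₁, U', W₂)` of `M` with `U' ≠ 1`.
-/

set_option autoImplicit false
set_option linter.unusedSectionVars false
set_option linter.unusedVariables false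
set_option linter.style.haveILetI false

namespace Cfsg.Agent.Helper25.BGTypeII

open Subgroup Cfsg
open Cfsg.Agent.Helper16
open Cfsg.Agent.Helper79.BG10
open Cfsg.Agent.Helper55.BGB

variable {G : Type*} [Group G] [Finite G]

/-- `M = K S` with `K` commutative, `S` normalized by `M` gives `M' ≤ S`. -/
theorem commutator_le_of_mul {M K S : Subgroup G}
    (hdec : ∀ m ∈ M, ∃ k ∈ K, ∃ s ∈ S, m = k * s)
    (hKc : ∀ a ∈ K, ∀ b ∈ K, a * b = b * a) (hKM : K ≤ M)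
    (hS : M ≤ normalizer (S : Set G)) : ⁅M, M⁆ ≤ S := by
  rw [Subgroup.commutator_le]
  intro g₁ h₁ g₂ h₂
  obtain ⟨k₁, hk₁, s₁, hs₁, rfl⟩ := hdec g₁ h₁
  obtain ⟨k₂, hk₂, s₂, hs₂, rfl⟩ := hdec g₂ h₂
  have hconj : ∀ k ∈ K, ∀ s ∈ S, k * s * k⁻¹ ∈ S := fun k hk s hs =>
    (mem_normalizer_iff.mp (hS (hKM hk)) s).mp hs
  rw [commutatorElement_def]
  have e : (k₁ * s₁) * (k₂ * s₂) * (k₁ * s₁)⁻¹ * (k₂ * s₂)⁻¹ =
      (k₁ * s₁ * k₁⁻¹) * ((k₁ * k₂) * (s₂ * s₁⁻¹) * (k₁ * k₂)⁻¹) *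
      ((k₁ * k₂ * k₁⁻¹) * s₂⁻¹ * k₂⁻¹) := by
    group
  have hk : k₁ * k₂ * k₁⁻¹ = k₂ := by
    rw [hKc k₁ hk₁ k₂ hk₂]; group
  rw [e, hk]
  exact mul_mem (mul_mem (hconj k₁ hk₁ s₁ hs₁)
    (hconj (k₁ * k₂) (mul_mem hk₁ hk₂) _ (mul_mem hs₂ (inv_mem hs₁))))
    (hconj k₂ hk₂ _ (inv_mem hs₂))

/-- a normal Sylow subgroup is the only Sylow subgroup -/
theorem isSylowIn_unique {q : ℕ} [Fact q.Prime] {K Q Q' : Subgroup G} (hQ : IsSylowIn q K Q)
    (hQ' : IsSylowIn q K Q') (hn : K ≤ normalizer (Q : Set G)) : Q' = Q := by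
  obtain ⟨z, hz, h⟩ := exists_cj_eq_of_isSylowIn hQ hQ'
  rw [h]
  exact cj_eq_self_of_mem_normalizer (hn hz)

/-- **(B2)** -/
theorem normalizer_le_of_U_eq_bot {M K U W₁ U' W₂ : Subgroup G}
    (hKU : IsSigmaDecomposition M K U) (hU : U = ⊥)
    (hP : IsTypePWith M W₁ U' W₂) (hU'1 : U' ≠ ⊥)
    (hσ : IsPiHallOf (sigma M) (sigmaCore M) M) (hσD : sigmaCore M ≤ ⁅M, M⁆) :
    normalizer (U' : Set G) ≤ M := by
  -- Step 1: M = K * M_σ
  have hKM : K ≤ M := hKU.hall.1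
  have hSn : M ≤ normalizer ((sigmaCore M : Subgroup G) : Set G) := le_normalizer_sigmaCore M
  have hdec : ∀ m ∈ M, ∃ k ∈ K, ∃ s ∈ sigmaCore M, m = k * s := by
    intro m hm
    obtain ⟨a, ha, b, hb, hab⟩ := hKU.compl.2.2.2 m hm
    rw [hU, mem_bot] at ha
    rw [ha, one_mul] at hab
    have hb' : b ∈ ((K ⊔ sigmaCore M : Subgroup G) : Set G) := hb
    rw [Subgroup.coe_mul_of_left_le_normalizer_right K (sigmaCore M) (hKM.trans hSn),
      Set.mem_mul] at hb'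
    obtain ⟨k, hk, s, hs, e⟩ := hb'
    exact ⟨k, hk, s, hs, by rw [hab, e]⟩
  have hKc : ∀ a ∈ K, ∀ b ∈ K, a * b = b * a := by
    intro a ha b hb
    haveI := hKU.cyclic
    have := (IsCyclic.isMulCommutative (α := K)).is_comm.comm ⟨a, ha⟩ ⟨b, hb⟩
    exact congrArg Subtype.val this
  -- Step 2: M' ≤ M_σ
  have hD : ⁅M, M⁆ ≤ sigmaCore M := commutator_le_of_mul hdec hKc hKM hSn
  -- U' ≤ M' ≤ M_σ
  have hU'D : U' ≤ ⁅M, M⁆ := hP.U_compl.2.1
  have hDM : ⁅M, M⁆ ≤ M := hP.W₁_compl.1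
  have hU'M : U' ≤ M := hU'D.trans hDM
  -- a prime q dividing |U'|
  have hcardU' : Nat.card U' ≠ 1 := fun h => hU'1 (Subgroup.card_eq_one.mp h)
  obtain ⟨q, hq, hqU'⟩ := Nat.exists_prime_and_dvd hcardU'
  haveI : Fact q.Prime := ⟨hq⟩
  have hqσ : q ∈ sigma M :=
    hσ.2.1 q hq (hqU'.trans (Subgroup.card_dvd_of_le (hU'D.trans hD)))
  -- cardinalities
  have hc1 : Nat.card M = Nat.card ↥⁅M, M⁆ * Nat.card W₁ :=
    Cfsg.Agent.Helper23.card_of_isComplIn hP.W₁_compl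
  have hc2 : Nat.card ↥⁅M, M⁆ = Nat.card (fittingHallOf M) * Nat.card U' :=
    Cfsg.Agent.Helper23.card_of_isComplIn hP.U_compl
  have hW₁M : W₁ ≤ M := hP.W₁_compl.2.1
  -- q ∤ |W₁|
  have hqW : ¬ q ∣ Nat.card W₁ := by
    intro hd
    have hrel : W₁.relIndex M = Nat.card ↥⁅M, M⁆ := by
      have h1 := Subgroup.relIndex_mul_relIndex ⊥ W₁ M bot_le hW₁M
      rw [Subgroup.relIndex_bot_left, Subgroup.relIndex_bot_left, hc1, mul_comm] at h1
      exact Nat.eq_of_mul_eq_mul_right Nat.card_pos h1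
    have hcop := hP.W₁_hall
    rw [hrel, hc2] at hcop
    have : q ∣ Nat.gcd (Nat.card W₁) (Nat.card (fittingHallOf M) * Nat.card U') :=
      Nat.dvd_gcd hd (Dvd.dvd.mul_left hqU' _)
    rw [hcop] at this
    exact hq.one_lt.ne' (Nat.dvd_one.mp this)
  -- q ∤ |M_F|
  have hqF : ¬ q ∣ Nat.card (fittingHallOf M) := by
    intro hd
    have hcop := Cfsg.Agent.Helper45.FH.fittingHall_coprime (G := M)
    have hcardF : Nat.card (fittingHallOf M) = Nat.card (Cfsg.fittingHall M) := by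
      unfold fittingHallOf
      exact Subgroup.card_map_of_injective M.subtype_injective
    have hidx : Nat.card (Cfsg.fittingHall M) * (Cfsg.fittingHall M).index = Nat.card M :=
      Subgroup.card_mul_index _
    have hidx' : (Cfsg.fittingHall M).index = Nat.card U' * Nat.card W₁ := by
      rw [hc1, hc2, ← hcardF, mul_assoc] at hidx
      exact Nat.eq_of_mul_eq_mul_left Nat.card_pos hidx
    rw [← hcardF, hidx'] at hcop
    have : q ∣ Nat.gcd (Nat.card (fittingHallOf M)) (Nat.card U' * Nat.card W₁) :=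
      Nat.dvd_gcd hd (Dvd.dvd.mul_right hqU' _)
    rw [hcop] at this
    exact hq.one_lt.ne' (Nat.dvd_one.mp this)
  -- factorization
  have hfact : (Nat.card M).factorization q = (Nat.card U').factorization q := by
    rw [hc1, hc2]
    have hF0 : Nat.card (fittingHallOf M) ≠ 0 := Nat.card_pos.ne'
    have hU0 : Nat.card U' ≠ 0 := Nat.card_pos.ne'
    have hW0 : Nat.card W₁ ≠ 0 := Nat.card_pos.ne'
    rw [Nat.factorization_mul (Nat.mul_ne_zero hF0 hU0) hW0, Nat.factorization_mul hF0 hU0]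
    simp only [Finsupp.coe_add, Pi.add_apply]
    rw [Nat.factorization_eq_zero_of_not_dvd hqF, Nat.factorization_eq_zero_of_not_dvd hqW]
    ring
  -- the Sylow q-subgroup Q of U'
  obtain ⟨Q, -, hQ⟩ := exists_isSylowIn_ge (p := q) (K := U') (X := ⊥) IsPGroup.of_bot bot_le
  have hQU' : Q ≤ U' := hQ.le
  have hQn : U' ≤ normalizer (Q : Set G) := by
    obtain ⟨S, hS⟩ := hQ
    haveI : Group.IsNilpotent U' := hP.U_nilpotent
    have hnorm : (S : Subgroup U').Normal := inferInstance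
    rw [← hS]
    exact le_normalizer_map_subtype U' (S : Subgroup U')
  -- N_G(U') ≤ N_G(Q)
  have hNN : normalizer (U' : Set G) ≤ normalizer (Q : Set G) := by
    intro n hn
    apply mem_normalizer_of_cj_eq
    have h1 : IsSylowIn q (cj n U') (cj n Q) := isSylowIn_cj hQ n
    rw [cj_eq_self_of_mem_normalizer hn] at h1
    exact isSylowIn_unique hQ h1 hQn
  -- Q is Sylow in M
  have hQM : IsSylowIn q M Q := by
    rw [isSylowIn_iff_card]
    refine ⟨hQU'.trans hU'M, ?_⟩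
    rw [hQ.card, hfact]
  -- q ∈ σ(M)
  obtain ⟨-, -, P₀, hP₀⟩ := hqσ
  have hP₀S : IsSylowIn q M ((P₀ : Subgroup M).map M.subtype) := ⟨P₀, rfl⟩
  obtain ⟨z, hz, hzQ⟩ := exists_cj_eq_of_isSylowIn hP₀S hQM
  have hNQ : normalizer (Q : Set G) ≤ M := by
    rw [hzQ, normalizer_cj]
    have := cj_mono z hP₀
    rwa [cj_eq_self_of_mem hz] at this
  exact hNN.trans hNQ

end Cfsg.Agent.Helper25.BGTypeII
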