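import Mathlib
import Cfsg.Prelude.Def_OddOrderLocal
import Cfsg.Agent.Lib.Helper25.BGTypeIIP
import Cfsg.Agent.Lib.Helper55.BGDecomp2

/-!
# `M'` is of Frobenius type with `(M')_F = M_F` when `K ≠ 1`, `U ≠ 1` (hypothesis-parametrised)

For S1381 `⇐`.
-/

set_option autoImplicit false
set_option linter.unusedSectionVars false
set_option linter.unusedVariables false
set_option linter.style.haveILetI false

namespace Cfsg.Agent.Helper25.BGTypeII

open Subgroup Cfsg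
open Cfsg.Agent.Helper79.BG10
open Cfsg.Agent.Helper55.BGB
open Cfsg.Agent.Helper15.BGV

variable {G : Type*} [Group G] [Finite G]

theorem coprime_card_K_relIndex {M K U : Subgroup G} (hKU : IsSigmaDecomposition M K U) :
    (Nat.card K).Coprime (K.relIndex M) := by
  apply Nat.coprime_of_dvd
  intro p hp hp1 hp2
  exact hKU.hall.2.2 p hp (hKU.hall.2.1 p hp hp1) hp2

/-- `[M : M'] = #K` and `[M : K] = #M'`. -/
theorem relIndex_derived {M K U : Subgroup G} (hKU : IsSigmaDecomposition M K U)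
    (h65a : ⁅M, M⁆ = U ⊔ sigmaCore M) :
    (⁅M, M⁆ : Subgroup G).relIndex M = Nat.card K ∧ K.relIndex M = Nat.card ↥⁅M, M⁆ := by
  have hc := isComplIn_derived_K hKU h65a
  have h1 : Nat.card M = Nat.card ↥⁅M, M⁆ * Nat.card K :=
    Cfsg.Agent.Helper23.card_of_isComplIn hc
  have h2 : Nat.card ↥⁅M, M⁆ * (⁅M, M⁆ : Subgroup G).relIndex M = Nat.card M :=
    card_mul_relIndex hc.1
  have h3 : Nat.card K * K.relIndex M = Nat.card M := card_mul_relIndex hc.2.1
  have hD0 : 0 < Nat.card ↥⁅M, M⁆ := Nat.card_pos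
  have hK0 : 0 < Nat.card K := Nat.card_pos
  constructor
  · rw [h1] at h2
    exact Nat.eq_of_mul_eq_mul_left hD0 h2
  · rw [h1, mul_comm (Nat.card ↥⁅M, M⁆)] at h3
    exact Nat.eq_of_mul_eq_mul_left hK0 h3

/-- `(M')_F = M_σ` when `M_F = M_σ`. -/
theorem fittingHallOf_derived_eq {M K U : Subgroup G} (hKU : IsSigmaDecomposition M K U)
    (h50 : IsPiHallOf (sigma M) (sigmaCore M) M)
    (h55c : sigmaCore M ≤ ⁅M, M⁆)
    (hFσ : fittingHallOf M = sigmaCore M)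
    (h65a : ⁅M, M⁆ = U ⊔ sigmaCore M) :
    fittingHallOf ⁅M, M⁆ = sigmaCore M := by
  have hc := isComplIn_derived_K hKU h65a
  have hDM : ⁅M, M⁆ ≤ M := hc.1
  have hMD : M ≤ normalizer ((⁅M, M⁆ : Subgroup G) : Set G) := le_normalizer_commutator M
  have hMσ : M ≤ normalizer ((sigmaCore M : Subgroup G) : Set G) := le_normalizer_sigmaCore M
  apply le_antisymm
  · -- `(M')_F ≤ M_F = M_σ`
    rw [← hFσ]
    apply le_fittingHallOf_of_hall ((Cfsg.Agent.Helper55.BGB.fittingHallOf_le _).trans hDM)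
      (le_normalizer_fittingHallOf_of_le_normalizer hMD) (isNilpotent_fittingHallOf _)
    have hrel := Subgroup.relIndex_mul_relIndex (fittingHallOf ⁅M, M⁆) ⁅M, M⁆ M
      (Cfsg.Agent.Helper55.BGB.fittingHallOf_le _) hDM
    rw [← hrel]
    apply Nat.Coprime.mul_right (coprime_card_relIndex_fittingHallOf _)
    rw [(relIndex_derived hKU h65a).1]
    have hdvd : Nat.card ↥(fittingHallOf ⁅M, M⁆) ∣ Nat.card ↥⁅M, M⁆ :=
      Subgroup.card_dvd_of_le (Cfsg.Agent.Helper55.BGB.fittingHallOf_le _)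
    have hcop : (Nat.card K).Coprime (Nat.card ↥⁅M, M⁆) := by
      rw [← (relIndex_derived hKU h65a).2]; exact coprime_card_K_relIndex hKU
    exact (Nat.Coprime.coprime_dvd_right hdvd hcop).symm
  · -- `M_σ ≤ (M')_F`
    have hnil : Group.IsNilpotent ↥(sigmaCore M) := by
      rw [← hFσ]; exact isNilpotent_fittingHallOf M
    apply le_fittingHallOf_of_hall h55c (hDM.trans hMσ) hnil
    have hrel := Subgroup.relIndex_mul_relIndex (sigmaCore M) ⁅M, M⁆ M h55c hDM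
    apply Nat.coprime_of_dvd
    intro p hp hp1 hp2
    exact h50.2.2 p hp (h50.2.1 p hp hp1) (hrel ▸ Dvd.dvd.mul_right hp2 _)

/-- `M'` is of Frobenius type. -/
theorem isOfTypeF_derived {M K U : Subgroup G} (hKU : IsSigmaDecomposition M K U) (hU : U ≠ ⊥)
    (hsol : Group.IsSolvable ↥⁅M, M⁆) (hodd : Odd (Nat.card ↥⁅M, M⁆))
    (hFD : fittingHallOf ⁅M, M⁆ = sigmaCore M) (hσ1 : sigmaCore M ≠ ⊥)
    (h55c : sigmaCore M ≤ ⁅M, M⁆)
    (h60 : ∃ U₀ : Subgroup G, U₀ ≤ U ∧ Monoid.exponent U₀ = Monoid.exponent U ∧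
      ∀ u ∈ U₀, u ∈ sigmaHat M → u = 1)
    (h63a : IsMulCommutative U)
    (h65a : ⁅M, M⁆ = U ⊔ sigmaCore M) : IsOfTypeF ↥⁅M, M⁆ := by
  have hc := isComplIn_derived_K hKU h65a
  have hDM : ⁅M, M⁆ ≤ M := hc.1
  have hcU := isComplIn_sigmaCore_U hKU h65a
  have hUD : U ≤ ⁅M, M⁆ := hcU.2.1
  have hσU : sigmaCore M ⊓ U = ⊥ := hcU.2.2.1
  have hFD' : fittingHall ↥⁅M, M⁆ = (sigmaCore M).subgroupOf ⁅M, M⁆ := by
    rw [fittingHall_eq_subgroupOf, hFD]
  haveI := h63a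
  obtain ⟨U₀, hU₀U, hexp, hfree⟩ := h60
  refine ⟨hsol, hodd, ?_, ?_, U.subgroupOf ⁅M, M⁆, ?_, ?_,
    ⟨U.subgroupOf ⁅M, M⁆, le_refl _, Subgroup.le_normalizer, inferInstance,
      fun x _ _ => inf_le_left⟩,
    ⟨U₀.subgroupOf ⁅M, M⁆, ?_, ?_, ?_⟩⟩
  · rw [hFD']
    intro h
    rw [Subgroup.subgroupOf_eq_bot, disjoint_iff, inf_eq_left.mpr h55c] at h
    exact hσ1 h
  · rw [hFD']
    intro h
    rw [Subgroup.subgroupOf_eq_top] at h
    apply hU
    rw [eq_bot_iff, ← hσU]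
    exact le_inf (hUD.trans h) le_rfl
  · intro h
    rw [Subgroup.subgroupOf_eq_bot, disjoint_iff, inf_eq_left.mpr hUD] at h
    exact hU h
  · rw [hFD']
    apply Subgroup.isComplement'_of_card_mul_and_disjoint
    · have h1 : Nat.card ↥((sigmaCore M).subgroupOf ⁅M, M⁆) = Nat.card ↥(sigmaCore M) :=
        Nat.card_congr (Subgroup.subgroupOfEquivOfLe h55c).toEquiv
      have h2 : Nat.card ↥(U.subgroupOf ⁅M, M⁆) = Nat.card ↥U :=
        Nat.card_congr (Subgroup.subgroupOfEquivOfLe hUD).toEquiv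
      rw [h1, h2]
      exact (Cfsg.Agent.Helper23.card_of_isComplIn hcU).symm
    · rw [Subgroup.disjoint_def]
      intro x hx1 hx2
      have : (x : G) ∈ sigmaCore M ⊓ U := ⟨hx1, hx2⟩
      rw [hσU] at this
      exact Subtype.ext (Subgroup.mem_bot.mp this)
  · intro x hx
    exact hU₀U hx
  · exact (Monoid.exponent_eq_of_mulEquiv (Subgroup.subgroupOfEquivOfLe (hU₀U.trans hUD))).trans
      (hexp.trans
        (Monoid.exponent_eq_of_mulEquiv (Subgroup.subgroupOfEquivOfLe hUD)).symm)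
  · intro u hu hu1 x hx hcomm
    by_contra hx1
    rw [hFD'] at hx
    have hmem : (u : G) ∈ sigmaHat M :=
      ⟨hDM u.2, (x : G), hx, fun h => hx1 (Subtype.ext h), congrArg Subtype.val hcomm⟩
    exact hu1 (Subtype.ext (hfree u hu hmem))

end Cfsg.Agent.Helper25.BGTypeII
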