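import Mathlib
import Cfsg.Prelude.Def_LieExceptional
import Cfsg.Agent.S3910
import Cfsg.Agent.S0015
import Cfsg.Agent.Lib.Helper76.SylowNorm

set_option autoImplicit false

namespace Cfsg.Agent.Helper25

open Cfsg

section cn
variable {G : Type*} [Group G] [Finite G]

/-- the `p`-part / `p'`-part decomposition of an element -/
theorem exists_p_decomp (p : ℕ) [hp : Fact p.Prime] (h : G) :
    ∃ i j : ℕ, h = h ^ i * h ^ j ∧ (∃ k, (h ^ i) ^ (p ^ k) = 1) ∧ (orderOf (h ^ j)).Coprime p := by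
  obtain ⟨k, m, hm, hn⟩ := Nat.exists_eq_pow_mul_and_not_dvd (orderOf_pos h).ne' p hp.out.ne_one
  have hcop : (p ^ k).Coprime m :=
    Nat.Coprime.pow_left k ((Nat.Prime.coprime_iff_not_dvd hp.out).mpr hm)
  obtain ⟨i, hi1, hi2⟩ := Nat.chineseRemainder hcop 1 0
  obtain ⟨j, hj1, hj2⟩ := Nat.chineseRemainder hcop 0 1
  have hdi : m ∣ i := (Nat.modEq_zero_iff_dvd).mp hi2
  have hdj : p ^ k ∣ j := (Nat.modEq_zero_iff_dvd).mp hj1
  refine ⟨i, j, ?_, ⟨k, ?_⟩, ?_⟩
  · rw [← pow_add]
    have : h ^ (i + j) = h ^ 1 := by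
      rw [pow_eq_pow_iff_modEq, hn, ← Nat.modEq_and_modEq_iff_modEq_mul hcop]
      constructor
      · simpa using hi1.add hj1
      · simpa using hi2.add hj2
    rw [this, pow_one]
  · rw [← pow_mul, ← orderOf_dvd_iff_pow_eq_one, hn, mul_comm i]
    exact Nat.mul_dvd_mul_left _ hdi
  · have h1 : (h ^ j) ^ m = 1 := by
      rw [← pow_mul, ← orderOf_dvd_iff_pow_eq_one, hn]
      exact Nat.mul_dvd_mul_right hdj _
    have h2 : orderOf (h ^ j) ∣ m := orderOf_dvd_of_pow_eq_one h1
    exact Nat.Coprime.coprime_dvd_left h2 ((Nat.Prime.coprime_iff_not_dvd hp.out).mpr hm).symm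

/-- in a finite nilpotent group a `p`-element lies in every Sylow `p`-subgroup -/
theorem mem_sylow_of_nilpotent {N : Type*} [Group N] [Finite N] [Group.IsNilpotent N] (p : ℕ)
    [Fact p.Prime] (P : Sylow p N) (a : N) (ha : ∃ k, a ^ (p ^ k) = 1) : a ∈ (P : Subgroup N) := by
  obtain ⟨k, hk⟩ := ha
  have hPn : (P : Subgroup N).Normal := inferInstance
  have hz : IsPGroup p (Subgroup.zpowers a) := by
    rintro ⟨z, hz⟩
    obtain ⟨n, rfl⟩ := Subgroup.mem_zpowers_iff.mp hz
    refine ⟨k, ?_⟩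
    apply Subtype.ext
    simp only [SubmonoidClass.mk_pow, OneMemClass.coe_one]
    rw [← zpow_natCast, ← zpow_mul, mul_comm, zpow_mul, zpow_natCast, hk, one_zpow]
  obtain ⟨Q, hQ⟩ := hz.exists_le_sylow
  have : Q = P := by
    have := Sylow.unique_of_normal P hPn
    exact Subsingleton.elim _ _
  rw [← this]
  exact hQ (Subgroup.mem_zpowers a)

theorem cn_centralizer_eq (hCN : IsCNGroup G) (H : Subgroup G)
    (hmax : ∀ L : Subgroup G, Group.IsNilpotent L → H ≤ L → L = H) {z : G} (hz1 : z ≠ 1)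
    (hz : ∀ h ∈ H, h * z = z * h) : Subgroup.centralizer ({z} : Set G) = H :=
  hmax _ (hCN z hz1) (fun h hh => Subgroup.mem_centralizer_singleton_iff.mpr (hz h hh))

theorem exists_central_order_p (H : Subgroup G) (hH : Group.IsNilpotent H) (p : ℕ) [hp : Fact p.Prime]
    (hpH : p ∣ Nat.card H) : ∃ z ∈ H, orderOf z = p ∧ ∀ h ∈ H, h * z = z * h := by
  obtain ⟨P⟩ : Nonempty (Sylow p H) := inferInstance
  have hPn : (P : Subgroup H).Normal := inferInstance
  have hne : (P : Subgroup H) ≠ ⊥ := P.ne_bot_of_dvd_card hpH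
  have h1 := Cfsg.Agent.S0015.normal_inf_center_ne_bot (P : Subgroup H) hne
  have hK : IsPGroup p ((P : Subgroup H) ⊓ Subgroup.center H : Subgroup H) :=
    P.isPGroup'.to_le inf_le_left
  have hnt : Nontrivial ((P : Subgroup H) ⊓ Subgroup.center H : Subgroup H) :=
    (Subgroup.nontrivial_iff_ne_bot _).mpr h1
  obtain ⟨k, hk⟩ := IsPGroup.iff_card.mp hK
  have hk0 : k ≠ 0 := by
    intro h0
    rw [h0, pow_zero] at hk
    have := Finite.one_lt_card_iff_nontrivial.mpr hnt
    omega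
  have hdvd : p ∣ Nat.card ((P : Subgroup H) ⊓ Subgroup.center H : Subgroup H) := by
    rw [hk]
    exact dvd_pow_self p hk0
  obtain ⟨x, hx⟩ := exists_prime_orderOf_dvd_card' p hdvd
  refine ⟨((x : H) : G), (x : H).2, ?_, ?_⟩
  · rw [Subgroup.orderOf_coe, Subgroup.orderOf_coe, hx]
  · intro h hh
    have hxc : (x : H) ∈ Subgroup.center H := x.2.2
    have := Subgroup.mem_center_iff.mp hxc ⟨h, hh⟩
    exact congrArg Subtype.val this

/-- a `p`-element of a nilpotent subgroup commuting with all its `p`-elements is central -/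
theorem central_of_commute_p_elements (H : Subgroup G) (hH : Group.IsNilpotent H) (p : ℕ)
    [hp : Fact p.Prime] (y : G) (hyH : y ∈ H) (hyp : ∃ k, y ^ (p ^ k) = 1)
    (hy : ∀ a ∈ H, (∃ k, a ^ (p ^ k) = 1) → a * y = y * a) : ∀ h ∈ H, h * y = y * h := by
  intro h hh
  obtain ⟨i, j, hdec, hpi, hpj⟩ := exists_p_decomp p h
  have h1 : h ^ i * y = y * h ^ i := hy _ (H.pow_mem hh i) hpi
  have h2 : h ^ j * y = y * h ^ j := by
    obtain ⟨k, hk⟩ := hyp
    have hg : (⟨y, hyH⟩ : H) ^ p ^ k = 1 := by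
      apply Subtype.ext
      simpa using hk
    have ho : (orderOf (⟨h ^ j, H.pow_mem hh j⟩ : H)).Coprime p := by
      rw [← Subgroup.orderOf_coe]
      exact hpj
    have := (Cfsg.Agent.S3910.commute_of_nilpotent_coprime (G := H) hg ho).eq
    exact (congrArg Subtype.val this).symm
  calc h * y = h ^ i * h ^ j * y := by rw [← hdec]
    _ = h ^ i * (y * h ^ j) := by rw [mul_assoc, h2]
    _ = y * (h ^ i * h ^ j) := by rw [← mul_assoc, h1, mul_assoc]
    _ = y * h := by rw [← hdec]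

/-- a maximal nilpotent subgroup of a CN-group is a Hall subgroup; more precisely it contains a Sylow
`p`-subgroup of `G` for every prime `p` dividing its order -/
theorem cn_sylow_le (hCN : IsCNGroup G) (H : Subgroup G) (hH : Group.IsNilpotent H)
    (hmax : ∀ L : Subgroup G, Group.IsNilpotent L → H ≤ L → L = H) (p : ℕ) [hp : Fact p.Prime]
    (hpH : p ∣ Nat.card H) : ∃ S : Sylow p G, (S : Subgroup G) ≤ H := by
  obtain ⟨z, hzH, hzo, hzc⟩ := exists_central_order_p H hH p hpH
  have hz1 : z ≠ 1 := by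
    intro h
    rw [h, orderOf_one] at hzo
    exact hp.out.one_lt.ne hzo
  have hCz := cn_centralizer_eq hCN H hmax hz1 hzc
  obtain ⟨PH⟩ : Nonempty (Sylow p H) := inferInstance
  have hPp : IsPGroup p ((PH : Subgroup H).map H.subtype) := PH.isPGroup'.map _
  obtain ⟨S, hS⟩ := hPp.exists_le_sylow
  refine ⟨S, ?_⟩
  have hpel : ∀ a ∈ H, (∃ k, a ^ (p ^ k) = 1) → a ∈ (S : Subgroup G) := by
    rintro a ha ⟨k, hk⟩
    apply hS
    refine ⟨⟨a, ha⟩, ?_, rfl⟩
    exact mem_sylow_of_nilpotent p PH ⟨a, ha⟩ ⟨k, Subtype.ext (by simpa using hk)⟩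
  have hzS : z ∈ (S : Subgroup G) :=
    hpel z hzH ⟨1, by rw [pow_one, ← hzo, pow_orderOf_eq_one]⟩
  have hnt : Nontrivial (S : Subgroup G) :=
    ⟨⟨⟨z, hzS⟩, 1, fun h => hz1 (congrArg Subtype.val h)⟩⟩
  have hcen := S.isPGroup'.center_nontrivial
  obtain ⟨⟨y, hy⟩, hy1⟩ := exists_ne (1 : Subgroup.center (S : Subgroup G))
  have hycomm : ∀ s ∈ (S : Subgroup G), s * (y : G) = (y : G) * s := by
    intro s hs
    have := Subgroup.mem_center_iff.mp hy ⟨s, hs⟩
    exact congrArg Subtype.val this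
  have hyH : (y : G) ∈ H := by
    rw [← hCz, Subgroup.mem_centralizer_singleton_iff]
    exact (hycomm z hzS).symm
  have hyp : ∃ k, (y : G) ^ (p ^ k) = 1 := by
    obtain ⟨k, hk⟩ := S.isPGroup' y
    exact ⟨k, by simpa using congrArg Subtype.val hk⟩
  have hyc : ∀ h ∈ H, h * (y : G) = (y : G) * h :=
    central_of_commute_p_elements H hH p y hyH hyp (fun a ha hap => hycomm a (hpel a ha hap))
  have hy1' : (y : G) ≠ 1 := by
    intro h
    apply hy1
    apply Subtype.ext
    apply Subtype.ext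
    exact h
  have hCy := cn_centralizer_eq hCN H hmax hy1' hyc
  intro s hs
  rw [← hCy, Subgroup.mem_centralizer_singleton_iff]
  exact hycomm s hs

theorem cn_coprime (hCN : IsCNGroup G) (H : Subgroup G) (hH : Group.IsNilpotent H)
    (hmax : ∀ L : Subgroup G, Group.IsNilpotent L → H ≤ L → L = H) :
    (Nat.card H).Coprime H.index := by
  apply Nat.coprime_of_dvd
  intro p hp hpH hpI
  have : Fact p.Prime := ⟨hp⟩
  obtain ⟨S, hSH⟩ := cn_sylow_le hCN H hH hmax p hpH
  have h1 : Nat.card (S : Subgroup G) ∣ Nat.card H := Subgroup.card_dvd_of_le hSH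
  rw [S.card_eq_multiplicity] at h1
  have h2 : Nat.card H * H.index = Nat.card G := H.card_mul_index
  have h3 : p ^ ((Nat.card G).factorization p) * p ∣ Nat.card H * H.index :=
    Nat.mul_dvd_mul h1 hpI
  have : p ^ ((Nat.card G).factorization p + 1) ∣ Nat.card G := by
    rw [pow_succ]
    rw [h2] at h3
    exact h3
  exact Nat.pow_succ_factorization_not_dvd Nat.card_pos.ne' hp this

/-- a power of prime order -/
theorem exists_prime_order_pow (x : G) (hx1 : x ≠ 1) :
    ∃ (p : ℕ) (n : ℕ), p.Prime ∧ orderOf (x ^ n) = p := by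
  have h1 : orderOf x ≠ 1 := fun h => hx1 (orderOf_eq_one_iff.mp h)
  obtain ⟨p, hp, hpd⟩ := Nat.exists_prime_and_dvd h1
  exact ⟨p, orderOf x / p, hp, orderOf_pow_orderOf_div (orderOf_pos x).ne' hpd⟩

/-- coprime elements commute in a nilpotent centralizer -/
theorem commute_in_centralizer (hCN : IsCNGroup G) {x : G} (hx1 : x ≠ 1) (p : ℕ) [Fact p.Prime]
    {g y : G} (hgx : g * x = x * g) (hyx : y * x = x * y) {k : ℕ} (hg : g ^ p ^ k = 1)
    (hy : (orderOf y).Coprime p) : g * y = y * g := by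
  have hN : Group.IsNilpotent (Subgroup.centralizer ({x} : Set G)) := hCN x hx1
  have hgN : g ∈ Subgroup.centralizer ({x} : Set G) :=
    Subgroup.mem_centralizer_singleton_iff.mpr hgx
  have hyN : y ∈ Subgroup.centralizer ({x} : Set G) :=
    Subgroup.mem_centralizer_singleton_iff.mpr hyx
  have hg' : (⟨g, hgN⟩ : Subgroup.centralizer ({x} : Set G)) ^ p ^ k = 1 := by
    apply Subtype.ext
    simpa using hg
  have ho : (orderOf (⟨y, hyN⟩ : Subgroup.centralizer ({x} : Set G))).Coprime p := by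
    rw [← Subgroup.orderOf_coe]
    exact hy
  have := (Cfsg.Agent.S3910.commute_of_nilpotent_coprime
    (G := Subgroup.centralizer ({x} : Set G)) hg' ho).eq
  exact congrArg Subtype.val this

theorem cn_centralizer_le_of_TI (hCN : IsCNGroup G) (H : Subgroup G) (hH : Group.IsNilpotent H)
    (hmax : ∀ L : Subgroup G, Group.IsNilpotent L → H ≤ L → L = H)
    (hTI : ∀ g : G, H.map (MulAut.conj g).toMonoidHom ≠ H →
      H ⊓ H.map (MulAut.conj g).toMonoidHom = ⊥) :
    ∀ x ∈ H, x ≠ 1 → Subgroup.centralizer ({x} : Set G) ≤ H := by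
  intro x hxH hx1 c hc
  rw [Subgroup.mem_centralizer_singleton_iff] at hc
  obtain ⟨p, n, hp, hxo⟩ := exists_prime_order_pow x hx1
  have : Fact p.Prime := ⟨hp⟩
  obtain ⟨x', hx'⟩ : ∃ x' : G, x' = x ^ n := ⟨_, rfl⟩
  rw [← hx'] at hxo
  have hx'H : x' ∈ H := hx' ▸ H.pow_mem hxH n
  have hx'1 : x' ≠ 1 := by
    intro h
    rw [h, orderOf_one] at hxo
    exact hp.one_lt.ne hxo
  have hx'p : x' ^ p ^ 1 = 1 := by rw [pow_one, ← hxo, pow_orderOf_eq_one]
  -- everything commuting with x' normalizes H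
  have hnorm : ∀ c' : G, c' * x' = x' * c' → H.map (MulAut.conj c').toMonoidHom = H := by
    intro c' hc'
    by_contra hne
    have h1 := hTI c' hne
    have h2 : x' ∈ H ⊓ H.map (MulAut.conj c').toMonoidHom := by
      refine Subgroup.mem_inf.mpr ⟨hx'H, ⟨x', hx'H, ?_⟩⟩
      simp only [MulEquiv.toMonoidHom_eq_coe, MonoidHom.coe_coe, MulAut.conj_apply]
      rw [hc', mul_inv_cancel_right]
    rw [h1, Subgroup.mem_bot] at h2
    exact hx'1 h2
  have hcx' : c * x' = x' * c := by
    rw [hx']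
    exact ((Commute.pow_right (show Commute c x from hc) n)).eq
  obtain ⟨i, j, hdec, ⟨k, hpi⟩, hpj⟩ := exists_p_decomp p c
  have hci : c ^ i * x' = x' * c ^ i := (Commute.pow_left (show Commute c x' from hcx') i).eq
  have hcj : c ^ j * x' = x' * c ^ j := (Commute.pow_left (show Commute c x' from hcx') j).eq
  -- p divides |H|
  have hpH : p ∣ Nat.card H := by
    have := Subgroup.orderOf_dvd_natCard H hx'H
    rwa [hxo] at this
  obtain ⟨z, hzH, hzo, hzc⟩ := exists_central_order_p H hH p hpH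
  have hz1 : z ≠ 1 := by
    intro h
    rw [h, orderOf_one] at hzo
    exact hp.one_lt.ne hzo
  have hCz := cn_centralizer_eq hCN H hmax hz1 hzc
  have hzp : z ^ p ^ 1 = 1 := by rw [pow_one, ← hzo, pow_orderOf_eq_one]
  -- the p'-part lies in H
  have hjH : c ^ j ∈ H := by
    rw [← hCz, Subgroup.mem_centralizer_singleton_iff]
    exact (commute_in_centralizer hCN hx'1 p (hzc x' hx'H).symm hcj hzp hpj).symm
  -- the p-part lies in H
  have hiH : c ^ i ∈ H := by
    by_cases hq : ∃ q : ℕ, q.Prime ∧ q ≠ p ∧ q ∣ Nat.card H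
    · obtain ⟨q, hq, hqp, hqH⟩ := hq
      have : Fact q.Prime := ⟨hq⟩
      obtain ⟨w, hwH, hwo, hwc⟩ := exists_central_order_p H hH q hqH
      have hw1 : w ≠ 1 := by
        intro h
        rw [h, orderOf_one] at hwo
        exact hq.one_lt.ne hwo
      have hCw := cn_centralizer_eq hCN H hmax hw1 hwc
      have hwq : w ^ q ^ 1 = 1 := by rw [pow_one, ← hwo, pow_orderOf_eq_one]
      have hco : (orderOf (c ^ i)).Coprime q := by
        have h1 : orderOf (c ^ i) ∣ p ^ k := orderOf_dvd_of_pow_eq_one hpi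
        have h2 : (p ^ k).Coprime q :=
          Nat.Coprime.pow_left k ((Nat.coprime_primes hp hq).mpr (Ne.symm hqp))
        exact Nat.Coprime.coprime_dvd_left h1 h2
      rw [← hCw, Subgroup.mem_centralizer_singleton_iff]
      exact (commute_in_centralizer hCN hx'1 q (hwc x' hx'H).symm hci hwq hco).symm
    · -- H is a p-group
      push_neg at hq
      have hcard : Nat.card H = p ^ (Nat.card H).primeFactorsList.length := by
        apply Nat.eq_prime_pow_of_unique_prime_dvd Nat.card_pos.ne'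
        intro d hd hdH
        by_contra hne
        exact hq d hd hne hdH
      have hHp : IsPGroup p H := IsPGroup.of_card hcard
      have hZp : IsPGroup p (Subgroup.zpowers (c ^ i)) := by
        rintro ⟨t, ht⟩
        obtain ⟨m, rfl⟩ := Subgroup.mem_zpowers_iff.mp ht
        refine ⟨k, ?_⟩
        apply Subtype.ext
        simp only [SubmonoidClass.mk_pow, OneMemClass.coe_one]
        rw [← zpow_natCast, ← zpow_mul, mul_comm, zpow_mul, zpow_natCast, hpi, one_zpow]
      have hZn : Subgroup.zpowers (c ^ i) ≤ Subgroup.normalizer (H : Set G) := by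
        rw [Subgroup.zpowers_le, Subgroup.mem_normalizer_iff_map_conj_eq]
        have := hnorm (c ^ i) hci
        simpa using this
      have hsup : IsPGroup p (Subgroup.zpowers (c ^ i) ⊔ H : Subgroup G) :=
        IsPGroup.to_sup_of_normal_right' hZp hHp hZn
      have hnil : Group.IsNilpotent (Subgroup.zpowers (c ^ i) ⊔ H : Subgroup G) := hsup.isNilpotent
      have := hmax _ hnil le_sup_right
      rw [← this]
      exact Subgroup.mem_sup_left (Subgroup.mem_zpowers _)
  rw [hdec]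
  exact H.mul_mem hiH hjH

/-- coprime elements of a nilpotent subgroup commute -/
theorem commute_in_nilpotent_subgroup (H : Subgroup G) (hH : Group.IsNilpotent H) (p : ℕ)
    [Fact p.Prime] {g y : G} (hgH : g ∈ H) (hyH : y ∈ H) {k : ℕ} (hg : g ^ p ^ k = 1)
    (hy : (orderOf y).Coprime p) : g * y = y * g := by
  have hg' : (⟨g, hgH⟩ : H) ^ p ^ k = 1 := by
    apply Subtype.ext
    simpa using hg
  have ho : (orderOf (⟨y, hyH⟩ : H)).Coprime p := by
    rw [← Subgroup.orderOf_coe]
    exact hy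
  have := (Cfsg.Agent.S3910.commute_of_nilpotent_coprime (G := H) hg' ho).eq
  exact congrArg Subtype.val this

theorem coprime_of_pow_eq_one {p q : ℕ} (hp : p.Prime) (hq : q.Prime) (hqp : q ≠ p) {a : G} {k : ℕ}
    (ha : a ^ q ^ k = 1) : (orderOf a).Coprime p := by
  have h1 : orderOf a ∣ q ^ k := orderOf_dvd_of_pow_eq_one ha
  have h2 : (q ^ k).Coprime p := Nat.Coprime.pow_left k ((Nat.coprime_primes hq hp).mpr hqp)
  exact Nat.Coprime.coprime_dvd_left h1 h2

theorem cn_centralizer_eq_of_q_central (hCN : IsCNGroup G) (H : Subgroup G)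
    (hH : Group.IsNilpotent H) (hmax : ∀ L : Subgroup G, Group.IsNilpotent L → H ≤ L → L = H)
    {x' : G} (hx'H : x' ∈ H) {p : ℕ} [hp : Fact p.Prime] (hxo : orderOf x' = p)
    {q : ℕ} [hq : Fact q.Prime] (hqp : q ≠ p) (hqH : q ∣ Nat.card H) {z : G} (hz1 : z ≠ 1)
    (hzx : z * x' = x' * z) (hzq : ∃ k, z ^ (q ^ k) = 1)
    (hzT : ∀ t : G, t * x' = x' * t → (∃ k, t ^ (q ^ k) = 1) → t * z = z * t) :
    Subgroup.centralizer ({z} : Set G) = H := by
  have hx'1 : x' ≠ 1 := by
    intro h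
    rw [h, orderOf_one] at hxo
    exact hp.out.one_lt.ne hxo
  have hx'p : x' ^ p ^ 1 = 1 := by rw [pow_one, ← hxo, pow_orderOf_eq_one]
  obtain ⟨S, hSH⟩ := cn_sylow_le hCN H hH hmax q hqH
  have hN : Group.IsNilpotent (Subgroup.centralizer ({x'} : Set G)) := hCN x' hx'1
  -- q-elements of H commute with x'
  have hqel : ∀ a ∈ H, (∃ k, a ^ (q ^ k) = 1) → a * x' = x' * a := by
    rintro a ha ⟨k, hk⟩
    exact (commute_in_nilpotent_subgroup H hH p hx'H ha hx'p
      (coprime_of_pow_eq_one hp.out hq.out hqp hk)).symm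
  obtain ⟨NQ⟩ : Nonempty (Sylow q (Subgroup.centralizer ({x'} : Set G))) := inferInstance
  have hQ' : IsPGroup q ((NQ : Subgroup (Subgroup.centralizer ({x'} : Set G))).map
      (Subgroup.centralizer ({x'} : Set G)).subtype) := NQ.isPGroup'.map _
  have hmemQ' : ∀ t : G, t * x' = x' * t → (∃ k, t ^ (q ^ k) = 1) →
      t ∈ (NQ : Subgroup (Subgroup.centralizer ({x'} : Set G))).map
        (Subgroup.centralizer ({x'} : Set G)).subtype := by
    rintro t ht ⟨k, hk⟩
    have htN : t ∈ Subgroup.centralizer ({x'} : Set G) :=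
      Subgroup.mem_centralizer_singleton_iff.mpr ht
    refine ⟨⟨t, htN⟩, ?_, rfl⟩
    exact mem_sylow_of_nilpotent q NQ ⟨t, htN⟩ ⟨k, Subtype.ext (by simpa using hk)⟩
  have hSQ' : (S : Subgroup G) ≤ (NQ : Subgroup (Subgroup.centralizer ({x'} : Set G))).map
      (Subgroup.centralizer ({x'} : Set G)).subtype := by
    intro s hs
    have hsq : ∃ k, s ^ (q ^ k) = 1 := by
      obtain ⟨k, hk⟩ := S.isPGroup' ⟨s, hs⟩
      exact ⟨k, by simpa using congrArg Subtype.val hk⟩
    exact hmemQ' s (hqel s (hSH hs) hsq) hsq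
  have hQS := S.is_maximal' hQ' hSQ'
  have hzS : z ∈ (S : Subgroup G) := by
    rw [← hQS]
    exact hmemQ' z hzx hzq
  have hzH : z ∈ H := hSH hzS
  have hzc : ∀ h ∈ H, h * z = z * h :=
    central_of_commute_p_elements H hH q z hzH hzq (fun a ha haq => hzT a (hqel a ha haq) haq)
  exact cn_centralizer_eq hCN H hmax hz1 hzc

/-- conjugates of maximal nilpotent subgroups are maximal nilpotent -/
theorem conj_max_nilpotent (H : Subgroup G) (hH : Group.IsNilpotent H)
    (hmax : ∀ L : Subgroup G, Group.IsNilpotent L → H ≤ L → L = H) (g : G) :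
    Group.IsNilpotent (H.map (MulAut.conj g).toMonoidHom) ∧
      ∀ L : Subgroup G, Group.IsNilpotent L → H.map (MulAut.conj g).toMonoidHom ≤ L →
        L = H.map (MulAut.conj g).toMonoidHom := by
  constructor
  · exact Group.nilpotent_of_surjective ((MulAut.conj g).toMonoidHom.subgroupMap H)
      (MonoidHom.subgroupMap_surjective _ _)
  · intro L hL hle
    have hL' : Group.IsNilpotent (L.map (MulAut.conj g⁻¹).toMonoidHom) :=
      Group.nilpotent_of_surjective ((MulAut.conj g⁻¹).toMonoidHom.subgroupMap L)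
        (MonoidHom.subgroupMap_surjective _ _)
    have hHL' : H ≤ L.map (MulAut.conj g⁻¹).toMonoidHom := by
      intro h hh
      refine ⟨g * h * g⁻¹, hle ⟨h, hh, by simp⟩, ?_⟩
      simp only [MulEquiv.toMonoidHom_eq_coe, MonoidHom.coe_coe, MulAut.conj_apply]
      group
    have h1 := hmax _ hL' hHL'
    ext l
    constructor
    · intro hl
      have : g⁻¹ * l * g ∈ H := by
        rw [← h1]
        refine ⟨l, hl, ?_⟩
        simp
      refine ⟨g⁻¹ * l * g, this, ?_⟩
      simp only [MulEquiv.toMonoidHom_eq_coe, MonoidHom.coe_coe, MulAut.conj_apply]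
      group
    · intro hl
      exact hle hl

theorem cn_TI_of_not_primePow (hCN : IsCNGroup G) (H : Subgroup G) (hH : Group.IsNilpotent H)
    (hmax : ∀ L : Subgroup G, Group.IsNilpotent L → H ≤ L → L = H)
    (hnpp : ¬ IsPrimePow (Nat.card H)) (g : G) (hne : H.map (MulAut.conj g).toMonoidHom ≠ H) :
    H ⊓ H.map (MulAut.conj g).toMonoidHom = ⊥ := by
  by_contra hbot
  obtain ⟨x, hx1⟩ := (Subgroup.ne_bot_iff_exists_ne_one).mp hbot
  obtain ⟨hxH, hxH₂⟩ := Subgroup.mem_inf.mp x.2
  have hx1' : (x : G) ≠ 1 := fun h => hx1 (Subtype.ext h)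
  obtain ⟨p, n, hp, hxo⟩ := exists_prime_order_pow (x : G) hx1'
  have : Fact p.Prime := ⟨hp⟩
  obtain ⟨x', hx'⟩ : ∃ x' : G, x' = (x : G) ^ n := ⟨_, rfl⟩
  rw [← hx'] at hxo
  have hx'H : x' ∈ H := hx' ▸ H.pow_mem hxH n
  have hx'H₂ : x' ∈ H.map (MulAut.conj g).toMonoidHom := hx' ▸ Subgroup.pow_mem _ hxH₂ n
  have hpH : p ∣ Nat.card H := by
    have := Subgroup.orderOf_dvd_natCard H hx'H
    rwa [hxo] at this
  -- a second prime
  obtain ⟨q, hq, hqp, hqH⟩ : ∃ q : ℕ, q.Prime ∧ q ≠ p ∧ q ∣ Nat.card H := by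
    by_contra hcon
    push_neg at hcon
    have hcard : Nat.card H = p ^ (Nat.card H).primeFactorsList.length := by
      apply Nat.eq_prime_pow_of_unique_prime_dvd Nat.card_pos.ne'
      intro d hd hdH
      by_contra hne'
      exact hcon d hd hne' hdH
    apply hnpp
    rw [isPrimePow_nat_iff]
    refine ⟨p, (Nat.card H).primeFactorsList.length, hp, ?_, hcard.symm⟩
    rcases Nat.eq_zero_or_pos (Nat.card H).primeFactorsList.length with h0 | h0
    · rw [h0, pow_zero] at hcard
      rw [hcard] at hpH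
      exact absurd (Nat.dvd_one.mp hpH) hp.one_lt.ne'
    · exact h0
  have : Fact q.Prime := ⟨hq⟩
  -- a Sylow q-subgroup inside H and a central element
  obtain ⟨S, hSH⟩ := cn_sylow_le hCN H hH hmax q hqH
  have hSne : (S : Subgroup G) ≠ ⊥ :=
    S.ne_bot_of_dvd_card (dvd_trans hqH (Subgroup.card_subgroup_dvd_card H))
  have hnt : Nontrivial (S : Subgroup G) := (Subgroup.nontrivial_iff_ne_bot _).mpr hSne
  have hcen := S.isPGroup'.center_nontrivial
  obtain ⟨⟨z, hz⟩, hz1⟩ := exists_ne (1 : Subgroup.center (S : Subgroup G))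
  have hzcomm : ∀ s ∈ (S : Subgroup G), s * (z : G) = (z : G) * s := by
    intro s hs
    have := Subgroup.mem_center_iff.mp hz ⟨s, hs⟩
    exact congrArg Subtype.val this
  have hz1' : (z : G) ≠ 1 := by
    intro h
    apply hz1
    apply Subtype.ext
    apply Subtype.ext
    exact h
  have hzq : ∃ k, (z : G) ^ (q ^ k) = 1 := by
    obtain ⟨k, hk⟩ := S.isPGroup' z
    exact ⟨k, by simpa using congrArg Subtype.val hk⟩
  have hx'p : x' ^ p ^ 1 = 1 := by rw [pow_one, ← hxo, pow_orderOf_eq_one]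
  have hx'1 : x' ≠ 1 := by
    intro h
    rw [h, orderOf_one] at hxo
    exact hp.one_lt.ne hxo
  have hzx : (z : G) * x' = x' * z := by
    obtain ⟨k, hk⟩ := hzq
    exact (commute_in_nilpotent_subgroup H hH p hx'H (hSH z.2) hx'p
      (coprime_of_pow_eq_one hp hq hqp hk)).symm
  -- every q-element commuting with x' lies in S
  have hT : ∀ t : G, t * x' = x' * t → (∃ k, t ^ (q ^ k) = 1) → t ∈ (S : Subgroup G) := by
    intro t ht htq
    have hN : Group.IsNilpotent (Subgroup.centralizer ({x'} : Set G)) := hCN x' hx'1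
    obtain ⟨NQ⟩ : Nonempty (Sylow q (Subgroup.centralizer ({x'} : Set G))) := inferInstance
    have hQ' : IsPGroup q ((NQ : Subgroup (Subgroup.centralizer ({x'} : Set G))).map
        (Subgroup.centralizer ({x'} : Set G)).subtype) := NQ.isPGroup'.map _
    have hmemQ' : ∀ t : G, t * x' = x' * t → (∃ k, t ^ (q ^ k) = 1) →
        t ∈ (NQ : Subgroup (Subgroup.centralizer ({x'} : Set G))).map
          (Subgroup.centralizer ({x'} : Set G)).subtype := by
      rintro t ht ⟨k, hk⟩
      have htN : t ∈ Subgroup.centralizer ({x'} : Set G) :=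
        Subgroup.mem_centralizer_singleton_iff.mpr ht
      refine ⟨⟨t, htN⟩, ?_, rfl⟩
      exact mem_sylow_of_nilpotent q NQ ⟨t, htN⟩ ⟨k, Subtype.ext (by simpa using hk)⟩
    have hSQ' : (S : Subgroup G) ≤ (NQ : Subgroup (Subgroup.centralizer ({x'} : Set G))).map
        (Subgroup.centralizer ({x'} : Set G)).subtype := by
      intro s hs
      have hsq : ∃ k, s ^ (q ^ k) = 1 := by
        obtain ⟨k, hk⟩ := S.isPGroup' ⟨s, hs⟩
        exact ⟨k, by simpa using congrArg Subtype.val hk⟩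
      obtain ⟨k, hk⟩ := hsq
      exact hmemQ' s ((commute_in_nilpotent_subgroup H hH p hx'H (hSH hs) hx'p
        (coprime_of_pow_eq_one hp hq hqp hk)).symm) ⟨k, hk⟩
    have hQS := S.is_maximal' hQ' hSQ'
    rw [← hQS]
    exact hmemQ' t ht htq
  have hzT : ∀ t : G, t * x' = x' * t → (∃ k, t ^ (q ^ k) = 1) → t * (z : G) = (z : G) * t :=
    fun t ht htq => hzcomm t (hT t ht htq)
  have e1 := cn_centralizer_eq_of_q_central hCN H hH hmax hx'H hxo hqp hqH hz1' hzx hzq hzT
  obtain ⟨hH₂, hmax₂⟩ := conj_max_nilpotent H hH hmax g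
  have hqH₂ : q ∣ Nat.card (H.map (MulAut.conj g).toMonoidHom) := by
    rw [Subgroup.card_map_of_injective (MulAut.conj g).injective]
    exact hqH
  have e2 := cn_centralizer_eq_of_q_central hCN _ hH₂ hmax₂ hx'H₂ hxo hqp hqH₂ hz1' hzx hzq hzT
  exact hne (e2.symm.trans e1)

end cn

end Cfsg.Agent.Helper25
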