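import Mathlib
import Cfsg.Prelude.Def_OddOrderLocal
import Cfsg.Agent.Lib.Helper25.BGTypeIIF
import Cfsg.Agent.Lib.Helper60.BG144b
import Cfsg.Agent.Lib.Helper22.Fitting
import Cfsg.Agent.S1350
import Cfsg.Agent.S1354
import Cfsg.Agent.S1355
import Cfsg.Agent.S1356
import Cfsg.Agent.S1360
import Cfsg.Agent.S1363
import Cfsg.Agent.S1364
import Cfsg.Agent.S1365
import Cfsg.Agent.S1366
import Cfsg.Agent.S1368
import Cfsg.Agent.S1370
import Cfsg.Agent.S1372

/-!
# S1381 `⇐` : `K ≠ 1`, `U ≠ 1` gives Type II   (helper25, for helper67's S1381)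

`isOfTypeII_of_ne_bot` : the type-P data is `(W₁, U, W₂) := (K, U, K*)`, `K* = C_{M_σ}(K)`.
Frozen rows used: S1350 S1354 S1355 S1356 S1360 S1363 S1364 S1365 S1366 S1368 S1370 S1372
(`M_F = M_σ` comes from S1372: `M_σ ≤ F(M)` is nilpotent; no S1357/S1440).
-/

set_option autoImplicit false
set_option linter.unusedSectionVars false
set_option linter.unusedVariables false
set_option linter.style.haveILetI false

namespace Cfsg.Agent.Helper25.BGTypeII

open Subgroup Cfsg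
open Cfsg.Agent.Helper55.BGB

variable {G : Type*} [Group G] [Finite G]

theorem isOfTypeII_of_ne_bot (hG : IsMinSimpleOddOrder G) (M : Subgroup G) (hM : IsCoatom M)
    (K U : Subgroup G) (hKU : IsSigmaDecomposition M K U) (hK : K ≠ ⊥) (hU : U ≠ ⊥) :
    IsOfTypeII M := by
  have h50 := (Cfsg.Agent.S1350.result hG M hM).1
  have h54 := (Cfsg.Agent.S1354.result hG M hM K hKU.cyclic hKU.hall).2 hK
  obtain ⟨h55a, h55b, h55c, h55d, -⟩ := Cfsg.Agent.S1355.result hG M hM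
  obtain ⟨h56a, h56b, h56c⟩ := Cfsg.Agent.S1356.result hG M hM
  obtain ⟨h72a, h72b, h72c⟩ := Cfsg.Agent.S1372.result hG M hM K U hKU hK hU
  have hnilF : Group.IsNilpotent ↥(fittingOf M) := by
    haveI : Group.IsNilpotent ↥(fittingSubgroup ↥M) :=
      Cfsg.Agent.Helper22.isNilpotent_fittingSubgroup
    unfold fittingOf
    exact Group.nilpotent_of_mulEquiv
      (Subgroup.equivMapOfInjective (fittingSubgroup ↥M) M.subtype M.subtype_injective)
  have hnilσ : Group.IsNilpotent ↥(sigmaCore M) := by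
    haveI := hnilF
    haveI : Group.IsNilpotent ↥((sigmaCore M).subgroupOf (fittingOf M)) := inferInstance
    exact Group.nilpotent_of_mulEquiv (Subgroup.subgroupOfEquivOfLe h72c)
  have hFσ : fittingHallOf M = sigmaCore M :=
    le_antisymm h55b (Cfsg.Agent.Helper60.BG144.sigmaCore_le_fittingHallOf_of_nil h50 hnilσ)
  have h60 := Cfsg.Agent.S1360.result hG M hM K U hKU
  obtain ⟨h63a, h63b⟩ := Cfsg.Agent.S1363.result hG M hM K U hKU hK
  obtain ⟨-, h64a, h64b, h64c⟩ := Cfsg.Agent.S1364.result hG M hM K U hKU hK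
  obtain ⟨h65a, h65b⟩ := Cfsg.Agent.S1365.result hG M hM K U hKU hK
  obtain ⟨Mstar, ⟨hMs, hKst, hKstH⟩, -⟩ := Cfsg.Agent.S1366.result hG M hM K U hKU hK
  have h68 := (Cfsg.Agent.S1368.result hG M hM K U hKU hK Mstar hMs hKst hKstH).2
  obtain ⟨h70a, h70b⟩ := Cfsg.Agent.S1370.result hG M hM K U hKU hK
  -- `κ(M)` is nonempty
  have hκ : (kappa M).Nonempty := by
    have hc : Nat.card K ≠ 1 := by
      intro h
      exact hK (Subgroup.card_eq_one.mp h)
    obtain ⟨p, hp, hpK⟩ := Nat.exists_prime_and_dvd hc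
    exact ⟨p, hKU.hall.2.1 p hp hpK⟩
  have hP : IsTypePWith M K U (sigmaCore M ⊓ centralizer (K : Set G)) :=
    typeP_data hKU hK inf_le_left inf_le_right h54 h55c h56a h56b (h56c hκ) hFσ h63a h64a h64b
      h64c h65a h65b h68 h70a h70b
  have hD : (⁅M, M⁆ : Subgroup G) ≠ ⊤ := by
    intro h
    have h1 : M < ⊤ := lt_top_iff_ne_top.mpr hM.1
    have h2 : (⁅M, M⁆ : Subgroup G) ≤ M := h55d.le
    rw [h] at h2
    exact absurd (top_le_iff.mp h2) hM.1
  have hsol : Group.IsSolvable ↥⁅M, M⁆ := hG.2.2.2 _ hD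
  have hodd : Odd (Nat.card ↥⁅M, M⁆) :=
    Odd.of_dvd_nat hG.1 (Subgroup.card_subgroup_dvd_card _)
  have hFD : fittingHallOf ⁅M, M⁆ = sigmaCore M :=
    fittingHallOf_derived_eq hKU h50 h55c hFσ h65a
  have hσ1 : sigmaCore M ≠ ⊥ := by rw [← hFσ]; exact h55a
  have hF : IsOfTypeF ↥⁅M, M⁆ :=
    isOfTypeF_derived hKU hU hsol hodd hFD hσ1 h55c h60 h63a h65a
  exact ⟨K, U, sigmaCore M ⊓ centralizer (K : Set G), hP, hU, h72a, h72b, h63a, h63b, hF,
    hFD.trans hFσ.symm⟩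

end Cfsg.Agent.Helper25.BGTypeII
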