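import Mathlib
import Cfsg.Agent.Lib.Helper80.BrauerPerm
import Cfsg.Agent.Lib.Helper16.ConjIrr

set_option autoImplicit false

namespace Cfsg.Agent.Helper25

open Cfsg

universe u

/-- Orbit-stabilizer for conjugacy classes, in `Nat.card` form. -/
theorem card_class_mul_card_centralizer {K : Type*} [Group K] [Finite K] (x : K) :
    Nat.card {y : K // IsConj x y} * Nat.card (Subgroup.centralizer ({x} : Set K)) = Nat.card K := by
  rw [Subgroup.nat_card_centralizer_nat_card_stabilizer]
  have e := MulAction.orbitProdStabilizerEquivGroup (ConjAct K) x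
  have h1 : Nat.card {y : K // IsConj x y} = Nat.card (MulAction.orbit (ConjAct K) x) := by
    apply Nat.card_congr
    apply Equiv.subtypeEquivRight
    intro y
    rw [ConjAct.mem_orbit_conjAct, isConj_comm]
  rw [h1, ← Nat.card_prod, Nat.card_congr e]
  rfl

/-- Brauer's permutation lemma: an automorphism fixes as many irreducible characters as
conjugacy classes. -/
theorem brauer_perm_eq {K : Type u} [Group K] [Finite K] (φ : K ≃* K) :
    Nat.card {χ : IrrCharacter K // (χ : K → ℂ) ∘ φ = χ} =
      Nat.card {C : ConjClasses K // ConjClasses.map (φ : K →* K) C = C} := by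
  classical
  have := Fintype.ofFinite K
  have hirr : ∀ χ : IrrCharacter K, IsIrrCharacter K ((χ : K → ℂ) ∘ φ) := fun χ =>
    Cfsg.Agent.Helper16.isIrrCharacter_comp_equiv χ.2 φ
  have h1 := Cfsg.Agent.Helper80.brauer_count (K := K) φ hirr
  have h2 := Cfsg.Agent.Helper80.sum_inv_card_class (K := K)
    (fun C => ConjClasses.map (φ : K →* K) C = C)
  have h3 : (Nat.card {χ : IrrCharacter K // (χ : K → ℂ) ∘ φ = χ} : ℂ) =
      (Nat.card {C : ConjClasses K // ConjClasses.map (φ : K →* K) C = C} : ℂ) := by
    rw [h1, ← h2, Finset.mul_sum]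
    refine Finset.sum_congr rfl fun x _ => ?_
    have hiff : (ConjClasses.map (φ : K →* K) (ConjClasses.mk x) = ConjClasses.mk x) ↔
        IsConj (φ x) x := by
      rw [← ConjClasses.mk_eq_mk_iff_isConj]; rfl
    by_cases hc : IsConj (φ x) x
    · rw [if_pos hc, if_pos (hiff.mpr hc)]
      have hcard : Nat.card (Subgroup.centralizer ({φ x} : Set K)) =
          Nat.card (Subgroup.centralizer ({x} : Set K)) := by
        symm
        refine Nat.card_congr (φ.toEquiv.subtypeEquiv fun a => ?_)
        simp only [Subgroup.mem_centralizer_singleton_iff, MulEquiv.toEquiv_eq_coe,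
          EquivLike.coe_coe]
        rw [← map_mul, ← map_mul, φ.injective.eq_iff]
      rw [hcard]
      have hos := card_class_mul_card_centralizer x
      have hK : (Nat.card K : ℂ) ≠ 0 := by
        exact_mod_cast Nat.card_pos.ne'
      have hcl : (Nat.card {y : K // IsConj x y} : ℂ) ≠ 0 := by
        have : Nonempty {y : K // IsConj x y} := ⟨⟨x, IsConj.refl x⟩⟩
        exact_mod_cast Nat.card_pos.ne'
      have hos' : (Nat.card {y : K // IsConj x y} : ℂ) *
          (Nat.card (Subgroup.centralizer ({x} : Set K)) : ℂ) = (Nat.card K : ℂ) := by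
        exact_mod_cast hos
      field_simp
      rw [← hos']; ring
    · rw [if_neg hc, if_neg (fun h => hc (hiff.mp h)), mul_zero]
  exact_mod_cast h3

end Cfsg.Agent.Helper25
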