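import Mathlib
import Cfsg.Agent.Lib.Helper53.CD3ADefs
import Cfsg.Agent.Lib.Helper81.CharClifford
import Cfsg.Agent.Lib.Helper78.DG2C1
import Cfsg.Agent.Lib.Helper78.DG2INF
import Cfsg.Agent.Lib.Helper81.DG2CR
import Cfsg.Agent.Lib.Helper79.DG2GT

/-!
# CD3A server (helper53, S4460), piece (CASEA): `G/K` a nonabelian `q`-group is impossible.
-/

set_option autoImplicit false
set_option linter.style.haveILetI false

namespace Cfsg.Agent.Helper25.CD3A

open Cfsg Cfsg.Agent.Helper53.CD3A Cfsg.Agent.Helper81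
open scoped ComplexConjugate commutatorElement

universe u

/-- Gallagher core: if `ψ(1)` is prime to `|G:K|`, `G/K` solvable, `β ∈ Irr(G/K)` and `β(1) ψ(1) = m n`
with `cd(G) ⊆ {1,m,n}`, `1 < m < n`: contradiction. -/
theorem casea_gallagher_false {G : Type u} [Group G] [Finite G] {m n : ℕ} (hm : 1 < m)
    (hmn : m < n) (hcd : DegIn G m n) (K : Subgroup G) [K.Normal] [Group.IsSolvable (G ⧸ K)]
    (β : IrrCharacter (G ⧸ K)) (ψ : IrrCharacter G)
    (hcop : Nat.Coprime (charDegree (ψ : G → ℂ)) K.index)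
    (hprod : charDegree (β : G ⧸ K → ℂ) * charDegree (ψ : G → ℂ) = m * n) : False := by
  have hres := Cfsg.Agent.Helper81.DG2.restrict_irr_of_coprime K ψ hcop
  obtain ⟨σ, hσ⟩ := Cfsg.Agent.Helper79.DG2.gallagher_deg K ψ hres β
  rw [hprod] at hσ
  rcases hcd σ with h | h | h
  · rw [h] at hσ
    nlinarith
  · rw [h] at hσ
    nlinarith
  · rw [h] at hσ
    nlinarith

/-- (CASEA) -/
theorem caseA_false {G : Type u} [Group G] [Finite G] {m n : ℕ} (hm : 1 < m) (hmn : m < n)
    (hcop : Nat.Coprime m n) (hcd : DegIn G m n)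
    (hχm : ∃ χ : IrrCharacter G, charDegree (χ : G → ℂ) = m)
    (hχn : ∃ χ : IrrCharacter G, charDegree (χ : G → ℂ) = n)
    (K : Subgroup G) [K.Normal] (hna : ¬ ∀ a b : G ⧸ K, a * b = b * a)
    (q k : ℕ) (hq : q.Prime) (hcard : Nat.card (G ⧸ K) = q ^ k) : False := by
  obtain ⟨β, hβ1, hqβ⟩ := Cfsg.Agent.Helper78.DG2.pgroup_char hna q k hq hcard
  obtain ⟨ψ0, hψ0⟩ := Cfsg.Agent.Helper78.DG2.inflate_deg K β
  haveI : Group.IsSolvable (G ⧸ K) := by
    have hp : IsPGroup q (G ⧸ K) := IsPGroup.of_card hcard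
    haveI : Fact q.Prime := ⟨hq⟩
    haveI := hp.isNilpotent
    infer_instance
  have hidx : K.index = q ^ k := by
    rw [Subgroup.index_eq_card]
    exact hcard
  obtain ⟨χm, hχm'⟩ := hχm
  obtain ⟨χn, hχn'⟩ := hχn
  rcases hcd ψ0 with h | h | h
  · rw [hψ0] at h
    omega
  · rw [hψ0] at h
    have hqm : q ∣ m := h ▸ hqβ
    have hqn : Nat.Coprime n q := (Nat.Coprime.coprime_dvd_left hqm hcop).symm
    apply casea_gallagher_false hm hmn hcd K β χn
    · rw [hχn', hidx]
      exact Nat.Coprime.pow_right k hqn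
    · rw [h, hχn']
  · rw [hψ0] at h
    have hqn : q ∣ n := h ▸ hqβ
    have hqm : Nat.Coprime m q := Nat.Coprime.coprime_dvd_right hqn hcop
    apply casea_gallagher_false hm hmn hcd K β χm
    · rw [hχm', hidx]
      exact Nat.Coprime.pow_right k hqm
    · rw [h, hχm']
      ring

end Cfsg.Agent.Helper25.CD3A
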