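import Mathlib
import Cfsg.Agent.Lib.Helper53.CD3ADefs
import Cfsg.Agent.Lib.Helper81.CharClifford
import Cfsg.Agent.Lib.Helper78.DG2C2
import Cfsg.Agent.Lib.Helper25.CD3ACASEA

/-!
# CD3A server (helper53, S4460), piece (CASEB1): the Frobenius case, `f = |G/K : V| ∈ {m,n}` and `q` divides the
other degree.
-/

set_option autoImplicit false
set_option linter.style.haveILetI false
set_option linter.unusedVariables false

namespace Cfsg.Agent.Helper25.CD3A

open Cfsg Cfsg.Agent.Helper53.CD3A Cfsg.Agent.Helper81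
open scoped ComplexConjugate commutatorElement

universe u

/-- (CASEB1) -/
theorem caseB_degrees {G : Type u} [Group G] [Finite G] {m n : ℕ} (hm : 1 < m) (hmn : m < n)
    (hcop : Nat.Coprime m n) (hcd : DegIn G m n)
    (hχm : ∃ χ : IrrCharacter G, charDegree (χ : G → ℂ) = m)
    (hχn : ∃ χ : IrrCharacter G, charDegree (χ : G → ℂ) = n)
    (K : Subgroup G) [K.Normal] [Group.IsSolvable (G ⧸ K)] (q e : ℕ) (hq : q.Prime)
    (hVne : commutator (G ⧸ K) ≠ ⊥)
    (hab : ∀ a ∈ commutator (G ⧸ K), ∀ b ∈ commutator (G ⧸ K), a * b = b * a)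
    (hcard : Nat.card (commutator (G ⧸ K)) = q ^ e)
    (hcopV : (Nat.card (commutator (G ⧸ K))).Coprime (commutator (G ⧸ K)).index)
    (hfpf : ∀ g : G ⧸ K, g ∉ commutator (G ⧸ K) → ∀ x ∈ commutator (G ⧸ K),
      g * x * g⁻¹ = x → x = 1) :
    ∃ f d : ℕ, (commutator (G ⧸ K)).index = f ∧ 1 < f ∧ 1 < d ∧ Nat.Coprime f d ∧ DegIn G f d ∧ q ∣ d := by
  obtain ⟨β, hβ⟩ := Cfsg.Agent.Helper78.DG2.frob_char (commutator (G ⧸ K)) hVne hab hfpf
  obtain ⟨ψ0, hψ0⟩ := Cfsg.Agent.Helper78.DG2.inflate_deg K β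
  -- the index is not `1`
  have hf1 : (commutator (G ⧸ K)).index ≠ 1 := by
    intro h1
    have htop : commutator (G ⧸ K) = ⊤ := Subgroup.index_eq_one.mp h1
    apply hVne
    rw [commutator_def, Subgroup.commutator_eq_bot_iff_le_centralizer]
    intro g _
    rw [Subgroup.mem_centralizer_iff]
    intro h _
    exact hab h (by rw [htop]; trivial) g (by rw [htop]; trivial)
  have hidx : K.index = q ^ e * (commutator (G ⧸ K)).index := by
    rw [Subgroup.index_eq_card, ← hcard]
    exact ((commutator (G ⧸ K)).card_mul_index).symm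
  obtain ⟨χm, hχm'⟩ := hχm
  obtain ⟨χn, hχn'⟩ := hχn
  rcases hcd ψ0 with h | h | h
  · rw [hψ0, hβ] at h
    exact absurd h hf1
  · rw [hψ0, hβ] at h
    refine ⟨m, n, h, hm, by omega, hcop, hcd, ?_⟩
    by_contra hqn
    have hc1 : Nat.Coprime n q := ((Nat.Prime.coprime_iff_not_dvd hq).mpr hqn).symm
    apply casea_gallagher_false hm hmn hcd K β χn
    · rw [hχn', hidx, h]
      exact Nat.Coprime.mul_right (Nat.Coprime.pow_right e hc1) hcop.symm
    · rw [hβ, h, hχn']
  · rw [hψ0, hβ] at h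
    have hcd' : DegIn G n m := by
      intro χ
      rcases hcd χ with h1 | h1 | h1
      · exact Or.inl h1
      · exact Or.inr (Or.inr h1)
      · exact Or.inr (Or.inl h1)
    refine ⟨n, m, h, by omega, hm, hcop.symm, hcd', ?_⟩
    by_contra hqm
    have hc1 : Nat.Coprime m q := ((Nat.Prime.coprime_iff_not_dvd hq).mpr hqm).symm
    apply casea_gallagher_false hm hmn hcd K β χm
    · rw [hχm', hidx, h]
      exact Nat.Coprime.mul_right (Nat.Coprime.pow_right e hc1) hcop
    · rw [hβ, h, hχm']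
      ring

end Cfsg.Agent.Helper25.CD3A
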