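import Mathlib
import Cfsg.Agent.Lib.Helper53.CD3ADefs
import Cfsg.Agent.Lib.Helper81.CharClifford
import Cfsg.Agent.Lib.Helper81.CharProd
import Cfsg.Agent.Lib.Helper81.CharFrob
import Cfsg.Agent.Lib.Helper3.CharDecomp
import Cfsg.Agent.Lib.Helper78.CharLinear
import Cfsg.Agent.Lib.Helper78.CharCount
import Cfsg.Agent.Lib.Helper79.CharBasic

/-!
# CD3A server (helper53, S4460), piece (PERF): a simple group cannot have degrees `{1 < m < n}` with the
vanishing property `Vanish G m n`.
-/

set_option autoImplicit false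
set_option linter.style.haveILetI false

namespace Cfsg.Agent.Helper25.CD3A

open Cfsg Cfsg.Agent.Helper53.CD3A Cfsg.Agent.Helper81
open scoped ComplexConjugate commutatorElement

universe u

/-- the kernel of a character is a normal subgroup -/
theorem perf_exists_normal_ker {G : Type u} [Group G] [Finite G] {χ : G → ℂ}
    (hχ : IsCharacter G χ) :
    ∃ N : Subgroup G, N.Normal ∧ ∀ g, g ∈ N ↔ χ g = χ 1 := by
  obtain ⟨n, ρ, rfl⟩ := hχ
  refine ⟨MonoidHom.ker ρ, MonoidHom.normal_ker ρ, ?_⟩
  intro g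
  rw [MonoidHom.mem_ker, Representation.char_one, Cfsg.Agent.Helper79.char_eq_finrank_iff]

/-- (PERF) -/
theorem false_of_simple {G : Type u} [Group G] [Fintype G] [IsSimpleGroup G] {m n : ℕ} (hm : 1 < m)
    (hmn : m < n) (hcd : DegIn G m n) (hχm : ∃ χ : IrrCharacter G, charDegree (χ : G → ℂ) = m)
    (hperf : commutator G = ⊤) (hvan : Vanish G m n) : False := by
  classical
  obtain ⟨χ, hχ⟩ := hχm
  letI : Fintype (IrrCharacter G) := @Fintype.ofFinite _ irr_finite
  have hGne : (Nat.card G : ℂ) ≠ 0 := by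
    have : Nat.card G ≠ 0 := Nat.card_pos.ne'
    exact_mod_cast this
  -- the trivial character
  let triv : IrrCharacter G := ⟨fun _ => 1, isIrrCharacter_one⟩
  have htrivdeg : charDegree (triv : G → ℂ) = 1 := by
    unfold charDegree
    simp [triv]
  -- linear characters are trivial
  have hlin : ∀ σ : IrrCharacter G, charDegree (σ : G → ℂ) = 1 → σ = triv := by
    intro σ hσ
    have h1 : (σ : G → ℂ) 1 = 1 := by
      rw [(Cfsg.Agent.Helper78.irr_charDegree σ.2).1, hσ]; simp
    apply Subtype.ext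
    funext g
    exact Cfsg.Agent.Helper78.linear_char_eq_one_of_mem_commutator σ.2 h1 g
      (by rw [hperf]; trivial)
  have hχ1 : (χ : G → ℂ) 1 = (m : ℂ) := by
    rw [(Cfsg.Agent.Helper78.irr_charDegree χ.2).1, hχ]
  have hχne : χ ≠ triv := by
    intro h
    rw [h, htrivdeg] at hχ
    omega
  -- `α = χ conj χ`
  have hαchar : IsCharacter G (fun g => (χ : G → ℂ) g * conj ((χ : G → ℂ) g)) :=
    isCharacter_mul (IsIrrCharacter.isCharacter χ.2) (Cfsg.Agent.Helper3.isCharacter_conj (IsIrrCharacter.isCharacter χ.2))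
  obtain ⟨a, ha⟩ := exists_nat_decomp hαchar
  have hmult : ∀ σ : IrrCharacter G,
      classInner (fun g => (χ : G → ℂ) g * conj ((χ : G → ℂ) g)) (σ : G → ℂ) = (a σ : ℂ) := by
    intro σ
    rw [ha]
    exact classInner_nat_decomp (fun χ' => (a χ' : ℂ)) σ
  have htriv : a triv = 1 := by
    have h := hmult triv
    have h2 : classInner (fun g => (χ : G → ℂ) g * conj ((χ : G → ℂ) g)) (triv : G → ℂ) =
        classInner (χ : G → ℂ) (χ : G → ℂ) := by
      unfold classInner
      congr 1
      apply Finset.sum_congr rfl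
      intro g _
      simp [triv]
    rw [h2, irr_orthonormal χ.2 χ.2, if_pos rfl] at h
    exact_mod_cast h.symm
  -- evaluate at `1`
  have hsum : m ^ 2 = ∑ σ : IrrCharacter G, a σ * charDegree (σ : G → ℂ) := by
    have h := congrFun ha 1
    simp only [Finset.sum_apply, Pi.smul_apply, smul_eq_mul] at h
    rw [hχ1] at h
    have h3 : ∀ σ : IrrCharacter G, (σ : G → ℂ) 1 = (charDegree (σ : G → ℂ) : ℂ) :=
      fun σ => (Cfsg.Agent.Helper78.irr_charDegree σ.2).1
    simp only [h3, Complex.conj_natCast] at h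
    have h4 : ((m ^ 2 : ℕ) : ℂ) =
        ((∑ σ : IrrCharacter G, a σ * charDegree (σ : G → ℂ) : ℕ) : ℂ) := by
      push_cast
      rw [← h]
      ring
    exact_mod_cast h4
  -- some `ψ` of degree `n` occurs
  have hex : ∃ ψ : IrrCharacter G, charDegree (ψ : G → ℂ) = n ∧ a ψ ≠ 0 := by
    by_contra hcon
    push Not at hcon
    have hdvd : m ∣ ∑ σ ∈ Finset.univ.erase triv, a σ * charDegree (σ : G → ℂ) := by
      apply Finset.dvd_sum
      intro σ hσ
      have hσne : σ ≠ triv := Finset.ne_of_mem_erase hσ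
      rcases hcd σ with h1 | h1 | h1
      · exact absurd (hlin σ h1) hσne
      · rw [h1]; exact dvd_mul_left _ _
      · rw [hcon σ h1, zero_mul]; exact dvd_zero _
    have hsplit := Finset.add_sum_erase Finset.univ
      (fun σ : IrrCharacter G => a σ * charDegree (σ : G → ℂ)) (Finset.mem_univ triv)
    rw [htriv, htrivdeg] at hsplit
    obtain ⟨c, hc⟩ := hdvd
    rw [hc] at hsplit
    rw [← hsplit] at hsum
    have hm1 : m ∣ 1 := by
      have h5 : m ∣ m ^ 2 := dvd_pow_self m two_ne_zero
      rw [hsum] at h5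
      have h6 : m ∣ m * c := dvd_mul_right m c
      have := (Nat.dvd_add_left h6).mp h5
      simpa using this
    have := Nat.le_of_dvd one_pos hm1
    omega
  obtain ⟨ψ, hψ, haψ⟩ := hex
  have hψ1 : (ψ : G → ℂ) 1 = (n : ℂ) := by
    rw [(Cfsg.Agent.Helper78.irr_charDegree ψ.2).1, hψ]
  have hne : classInner (fun g => (χ : G → ℂ) g * conj ((χ : G → ℂ) g)) (ψ : G → ℂ) ≠ 0 := by
    rw [hmult ψ]
    exact_mod_cast haψ
  have hv := hvan χ ψ hχ hψ hne
  obtain ⟨N, hN, hmem⟩ := perf_exists_normal_ker (IsIrrCharacter.isCharacter ψ.2)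
  rcases hN.eq_bot_or_eq_top with hNb | hNt
  · -- faithful: `χ` vanishes off `1`
    have hvan1 : ∀ g : G, g ≠ 1 → (χ : G → ℂ) g = 0 := by
      intro g hg
      apply hv g (by rw [hperf]; trivial)
      intro hgg
      have : g ∈ N := (hmem g).mpr hgg
      rw [hNb, Subgroup.mem_bot] at this
      exact hg this
    have h0 : classInner (χ : G → ℂ) (triv : G → ℂ) = 0 := by
      rw [irr_orthonormal χ.2 triv.2, if_neg]
      intro h
      exact hχne (Subtype.ext h)
    unfold classInner at h0
    rw [Finset.sum_eq_single (1 : G)] at h0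
    · rw [hχ1] at h0
      simp only [triv, map_one, mul_one] at h0
      rcases mul_eq_zero.mp h0 with h | h
      · exact hGne (inv_eq_zero.mp h)
      · have : m = 0 := by exact_mod_cast h
        omega
    · intro g _ hg
      rw [hvan1 g hg, zero_mul]
    · intro h; exact absurd (Finset.mem_univ _) h
  · -- `ψ` constant: contradiction with `[ψ,ψ] = 1`
    have hconst : ∀ g : G, (ψ : G → ℂ) g = (n : ℂ) := by
      intro g
      rw [← hψ1]
      exact (hmem g).mp (by rw [hNt]; trivial)
    have h1 : classInner (ψ : G → ℂ) (ψ : G → ℂ) = 1 := by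
      rw [irr_orthonormal ψ.2 ψ.2, if_pos rfl]
    unfold classInner at h1
    simp only [hconst, Complex.conj_natCast, Finset.sum_const, Finset.card_univ,
      nsmul_eq_mul] at h1
    rw [← Nat.card_eq_fintype_card, ← mul_assoc, inv_mul_cancel₀ hGne, one_mul] at h1
    have : n * n = 1 := by exact_mod_cast h1
    nlinarith

end Cfsg.Agent.Helper25.CD3A
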