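import Mathlib
import Cfsg.Agent.Lib.Helper79.Scalar
import Cfsg.Agent.Lib.Helper79.Restrict

set_option autoImplicit false

/-!
# A degree bound for irreducible characters (Peterfalvi 6.2, first step)

If `θ ∈ Irr(K)` has `B` in its kernel and `[D, C] ⊆ B` with `D ≤ C ≤ K`, then
`θ(1)² |D| |C| ≤ |K|²`, i.e. `θ(1)² ≤ |K:C|² |C:D|`.
-/

namespace Cfsg.Agent.Helper25.Coh62

open Cfsg Cfsg.Agent.Helper79

/-- A complex number of norm at most `r` whose real part is `r` equals `r`. -/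
theorem eq_of_norm_le_of_re_eq (z : ℂ) (r : ℝ) (hn : ‖z‖ ≤ r) (hre : z.re = r) : z = (r : ℂ) := by
  have h1 : ‖z‖ ^ 2 = z.re ^ 2 + z.im ^ 2 := by
    rw [← Complex.normSq_eq_norm_sq, Complex.normSq_apply]; ring
  have h0 : 0 ≤ ‖z‖ := norm_nonneg z
  have h2 : ‖z‖ ^ 2 ≤ r ^ 2 := by
    have hr : 0 ≤ r := le_trans h0 hn
    nlinarith
  have h3 : z.im ^ 2 ≤ 0 := by
    rw [h1, hre] at h2
    linarith
  have h4 : z.im = 0 := by
    have := sq_nonneg z.im
    have h5 : z.im ^ 2 = 0 := le_antisymm h3 this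
    exact pow_eq_zero_iff (two_ne_zero) |>.mp h5
  apply Complex.ext
  · simpa using hre
  · simpa using h4

section

variable {K : Type*} [Group K] [Finite K]

/-- Kernel inheritance: a constituent of the restriction of `θ` to `C` is trivial on the elements
of `C` lying in the kernel of `θ`. -/
theorem constituent_ker (θ : IrrCharacter K) (C : Subgroup K) (n : IrrCharacter C → ℕ)
    (hn : ∀ c : C, (θ : K → ℂ) c = ∑ ψ : IrrCharacter C, (n ψ : ℂ) * (ψ : C → ℂ) c)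
    (b : C) (hb : (θ : K → ℂ) b = (θ : K → ℂ) 1) (ψ : IrrCharacter C) (hψ : n ψ ≠ 0) :
    (ψ : C → ℂ) b = (ψ : C → ℂ) 1 := by
  classical
  have h1 := hn b
  have h2 := hn 1
  have h3 : (θ : K → ℂ) ((1 : C) : K) = (θ : K → ℂ) 1 := rfl
  rw [hb, ← h3, h2] at h1
  have h4 : ∑ ψ : IrrCharacter C, (n ψ : ℝ) *
      ((charDegree (ψ : C → ℂ) : ℝ) - ((ψ : C → ℂ) b).re) = 0 := by
    have h5 := congrArg Complex.re h1
    rw [Complex.re_sum, Complex.re_sum] at h5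
    have e1 : ∀ ψ : IrrCharacter C, ((n ψ : ℂ) * (ψ : C → ℂ) 1).re
        = (n ψ : ℝ) * (charDegree (ψ : C → ℂ) : ℝ) := by
      intro ψ
      rw [(irr_one_eq ψ).1]
      simp
    have e2 : ∀ ψ : IrrCharacter C, ((n ψ : ℂ) * (ψ : C → ℂ) b).re
        = (n ψ : ℝ) * ((ψ : C → ℂ) b).re := by
      intro ψ
      simp
    simp_rw [e1, e2] at h5
    simp_rw [mul_sub]
    rw [Finset.sum_sub_distrib, h5, sub_self]
  have hnonneg : ∀ ψ ∈ (Finset.univ : Finset (IrrCharacter C)), 0 ≤ (n ψ : ℝ) *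
      ((charDegree (ψ : C → ℂ) : ℝ) - ((ψ : C → ℂ) b).re) := by
    intro ψ _
    refine mul_nonneg (Nat.cast_nonneg _) ?_
    have := irr_norm_le ψ b
    have h6 : ((ψ : C → ℂ) b).re ≤ ‖(ψ : C → ℂ) b‖ := Complex.re_le_norm _
    linarith
  have h7 := (Finset.sum_eq_zero_iff_of_nonneg hnonneg).mp h4 ψ (Finset.mem_univ _)
  have h8 : ((ψ : C → ℂ) b).re = (charDegree (ψ : C → ℂ) : ℝ) := by
    have hnψ : (n ψ : ℝ) ≠ 0 := by exact_mod_cast hψ
    have := (mul_eq_zero.mp h7).resolve_left hnψ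
    linarith
  rw [eq_of_norm_le_of_re_eq _ _ (irr_norm_le ψ b) h8, (irr_one_eq ψ).1]
  simp

/-- The central bound for a character of `C` trivial on `B ∩ C` when `[D, C] ⊆ B`. -/
theorem central_bound (B C D : Subgroup K) (hDC : D ≤ C)
    (hcent : ∀ x ∈ D, ∀ y ∈ C, x * y * x⁻¹ * y⁻¹ ∈ B) (ψ : IrrCharacter C)
    (hψ : ∀ b : C, (b : K) ∈ B → (ψ : C → ℂ) b = (ψ : C → ℂ) 1) :
    (charDegree (ψ : C → ℂ)) ^ 2 * Nat.card D ≤ Nat.card C := by
  classical
  have _instC : Fintype C := Fintype.ofFinite C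
  have h1 := irr_sum_normSq ψ
  have h2 : ∑ g ∈ Finset.univ.filter (fun g : C => (g : K) ∈ D), Complex.normSq ((ψ : C → ℂ) g)
      ≤ ∑ g : C, Complex.normSq ((ψ : C → ℂ) g) :=
    Finset.sum_le_sum_of_subset_of_nonneg (Finset.filter_subset _ _)
      (fun g _ _ => Complex.normSq_nonneg _)
  have h3 : ∑ g ∈ Finset.univ.filter (fun g : C => (g : K) ∈ D), Complex.normSq ((ψ : C → ℂ) g)
      = (Nat.card D : ℝ) * ((charDegree (ψ : C → ℂ) : ℕ) : ℝ) ^ 2 := by
    rw [Finset.sum_congr rfl (fun g hg => irr_normSq_of_commutators ψ {c : C | (c : K) ∈ B}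
      (fun b hb => hψ b hb) g (fun y => by
        show ((g * y * g⁻¹ * y⁻¹ : C) : K) ∈ B
        have := hcent (g : K) (Finset.mem_filter.1 hg).2 (y : K) y.2
        simpa using this)),
      Finset.sum_const, nsmul_eq_mul]
    congr 2
    have e : Nat.card D = Nat.card (D.subgroupOf C) :=
      (Nat.card_congr (Subgroup.subgroupOfEquivOfLe hDC).toEquiv).symm
    rw [e, Nat.card_eq_fintype_card, Fintype.card_subtype]
    rfl
  rw [h3, h1] at h2
  have h4 : ((charDegree (ψ : C → ℂ) ^ 2 * Nat.card D : ℕ) : ℝ) ≤ (Nat.card C : ℝ) := by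
    push_cast
    linarith
  exact_mod_cast h4

/-- **Degree bound**: `θ(1)² |D| |C| ≤ |K|²` when `B ≤ ker θ` and `[D, C] ⊆ B`. -/
theorem degree_bound (B C D : Subgroup K) (hDC : D ≤ C)
    (hcent : ∀ x ∈ D, ∀ y ∈ C, x * y * x⁻¹ * y⁻¹ ∈ B) (θ : IrrCharacter K)
    (hB : B ≤ irrKer θ) :
    (charDegree (θ : K → ℂ)) ^ 2 * Nat.card D * Nat.card C ≤ (Nat.card K) ^ 2 := by
  classical
  have _instC : Fintype C := Fintype.ofFinite C
  obtain ⟨n, hn, hsum⟩ := res_expansion θ C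
  obtain ⟨N, hN⟩ : ∃ N : ℕ, N = ∑ ψ : IrrCharacter C, (n ψ) ^ 2 := ⟨_, rfl⟩
  rw [← hN] at hsum
  obtain ⟨m, hm⟩ : ∃ m : ℕ, m = Nat.sqrt (Nat.card C / Nat.card D) := ⟨_, rfl⟩
  have hDpos : 0 < Nat.card D := Nat.card_pos
  have hm2 : m ^ 2 * Nat.card D ≤ Nat.card C := by
    have h1 : m * m ≤ Nat.card C / Nat.card D := by rw [hm]; exact Nat.sqrt_le _
    calc m ^ 2 * Nat.card D = m * m * Nat.card D := by ring
      _ ≤ (Nat.card C / Nat.card D) * Nat.card D := Nat.mul_le_mul_right _ h1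
      _ ≤ Nat.card C := Nat.div_mul_le_self _ _
  have hdeg : ∀ ψ : IrrCharacter C, n ψ ≠ 0 → charDegree (ψ : C → ℂ) ≤ m := by
    intro ψ hψ
    have h1 := central_bound B C D hDC hcent ψ (fun b hb =>
      constituent_ker θ C n hn b ((mem_irrKer θ _).1 (hB hb)) ψ hψ)
    rw [hm]
    apply Nat.le_sqrt.mpr
    rw [Nat.le_div_iff_mul_le hDpos]
    calc charDegree (ψ : C → ℂ) * charDegree (ψ : C → ℂ) * Nat.card D
        = charDegree (ψ : C → ℂ) ^ 2 * Nat.card D := by ring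
      _ ≤ Nat.card C := h1
  have hθ1 : charDegree (θ : K → ℂ) = ∑ ψ : IrrCharacter C, n ψ * charDegree (ψ : C → ℂ) := by
    have h1 := hn 1
    have h3 : (θ : K → ℂ) ((1 : C) : K) = (θ : K → ℂ) 1 := rfl
    rw [h3, (irr_one_eq θ).1] at h1
    have h4 : ((charDegree (θ : K → ℂ) : ℕ) : ℂ)
        = ((∑ ψ : IrrCharacter C, n ψ * charDegree (ψ : C → ℂ) : ℕ) : ℂ) := by
      rw [h1]
      push_cast
      refine Finset.sum_congr rfl fun ψ _ => ?_
      rw [(irr_one_eq ψ).1]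
    exact_mod_cast h4
  have hle : charDegree (θ : K → ℂ) ≤ N * m := by
    rw [hθ1, hN, Finset.sum_mul]
    refine Finset.sum_le_sum fun ψ _ => ?_
    by_cases hψ : n ψ = 0
    · rw [hψ]; simp
    · calc n ψ * charDegree (ψ : C → ℂ) ≤ n ψ * m := Nat.mul_le_mul_left _ (hdeg ψ hψ)
        _ ≤ n ψ ^ 2 * m := by
          refine Nat.mul_le_mul_right _ ?_
          rw [pow_two]
          exact Nat.le_mul_self _
  calc (charDegree (θ : K → ℂ)) ^ 2 * Nat.card D * Nat.card C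
      ≤ (N * m) ^ 2 * Nat.card D * Nat.card C := by
        refine Nat.mul_le_mul_right _ (Nat.mul_le_mul_right _ ?_)
        exact Nat.pow_le_pow_left hle 2
    _ = N ^ 2 * (m ^ 2 * Nat.card D) * Nat.card C := by ring
    _ ≤ N ^ 2 * Nat.card C * Nat.card C := by
        refine Nat.mul_le_mul_right _ (Nat.mul_le_mul_left _ hm2)
    _ = (N * Nat.card C) ^ 2 := by ring
    _ ≤ (Nat.card K) ^ 2 := Nat.pow_le_pow_left hsum 2

end

end Cfsg.Agent.Helper25.Coh62
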