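import Mathlib
import Cfsg.Prelude.Def_OddOrderChar
import Cfsg.Agent.Lib.Helper79.NormalSums
import Cfsg.Agent.Lib.Helper79.LinearChars
import Cfsg.Agent.Lib.Helper81.CharElem
import Cfsg.Agent.Lib.Helper81.CharAbel
import Cfsg.Agent.Lib.Helper81.CharRam
import Cfsg.Agent.Lib.Helper82.CoherenceSys

set_option autoImplicit false
set_option linter.unusedSectionVars false

/-!
# The lower bound `∑_{φ ∈ T} φ(1)²/‖φ‖² ≥ |L:K| (|K:A| - 1)` (Peterfalvi 6.2, second step)
-/

namespace Cfsg.Agent.Helper25.Coh62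

open Cfsg Cfsg.Agent
open scoped ComplexConjugate

open Classical in
/-- The regular character of `G/N` in terms of the irreducible characters of `G` with `N` in the
kernel. -/
theorem quot_reg {G : Type*} [Group G] [Finite G] (N : Subgroup G) [N.Normal] (x : G) :
    ∑ χ ∈ Finset.univ.filter (fun χ : IrrCharacter G => N ≤ Helper79.irrKer χ),
      (χ : G → ℂ) 1 * (χ : G → ℂ) x = if x ∈ N then (N.index : ℂ) else 0 := by
  have _inst : Fintype (G ⧸ N) := Fintype.ofFinite _
  rw [Finset.sum_subtype (Finset.univ.filter (fun χ : IrrCharacter G => N ≤ Helper79.irrKer χ))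
    (p := fun χ => N ≤ Helper79.irrKer χ) (by intro χ; simp)]
  rw [← Fintype.sum_equiv (Helper79.inflateEquiv N)
    (fun ψ : IrrCharacter (G ⧸ N) =>
      (ψ : G ⧸ N → ℂ) 1 * (ψ : G ⧸ N → ℂ) (QuotientGroup.mk x)) _ (fun ψ => by
      rw [Helper79.inflateEquiv_apply, Helper79.inflate_apply, Helper79.inflate_apply]; rfl)]
  rw [Helper79.sum_degree_mul_eq]
  by_cases hx : x ∈ N
  · rw [if_pos hx, if_pos ((QuotientGroup.eq_one_iff x).2 hx), Subgroup.index_eq_card]
  · rw [if_neg hx, if_neg (fun h' => hx ((QuotientGroup.eq_one_iff x).1 h'))]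

section lower

variable {L : Type*} [Group L] [Fintype L] (K A : Subgroup L) [hK : K.Normal] [hA : A.Normal]

open Classical in
/-- The non-principal irreducible characters of `K` with `A ∩ K` in the kernel. -/
noncomputable def IA : Finset (IrrCharacter K) :=
  Finset.univ.filter (fun ζ : IrrCharacter K =>
    A.subgroupOf K ≤ Helper79.irrKer ζ ∧ ζ ≠ Helper79.trivChar K)

open Classical in
theorem sum_IA_apply (k : K) :
    ∑ ζ ∈ IA K A, (ζ : K → ℂ) 1 * (ζ : K → ℂ) k
      = (if (k : L) ∈ A then (A.relIndex K : ℂ) else 0) - 1 := by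
  have _instN : (A.subgroupOf K).Normal := hA.subgroupOf K
  have h1 := quot_reg (A.subgroupOf K) k
  have hsplit := Finset.sum_filter_add_sum_filter_not
    (Finset.univ.filter (fun ζ : IrrCharacter K => A.subgroupOf K ≤ Helper79.irrKer ζ))
    (fun ζ => ζ ≠ Helper79.trivChar K) (fun ζ => (ζ : K → ℂ) 1 * (ζ : K → ℂ) k)
  rw [Finset.filter_filter, Finset.filter_filter] at hsplit
  have h2 : Finset.univ.filter (fun ζ : IrrCharacter K =>
      A.subgroupOf K ≤ Helper79.irrKer ζ ∧ ¬ ζ ≠ Helper79.trivChar K) = {Helper79.trivChar K} := by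
    ext ζ
    simp only [Finset.mem_filter, Finset.mem_univ, true_and, Finset.mem_singleton, not_not]
    constructor
    · exact fun h => h.2
    · intro h
      refine ⟨?_, h⟩
      rw [h]
      intro x _
      rw [Helper79.mem_irrKer, Helper79.trivChar_apply, Helper79.trivChar_apply]
  rw [h2, Finset.sum_singleton, Helper79.trivChar_apply, Helper79.trivChar_apply, h1] at hsplit
  have h3 : (k ∈ A.subgroupOf K) ↔ ((k : L) ∈ A) := Subgroup.mem_subgroupOf
  unfold IA
  by_cases hk : (k : L) ∈ A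
  · rw [if_pos hk]
    rw [if_pos (h3.mpr hk)] at hsplit
    show _ = ((A.subgroupOf K).index : ℂ) - 1
    rw [← hsplit]
    ring
  · rw [if_neg hk]
    rw [if_neg (fun h => hk (h3.mp h))] at hsplit
    rw [← hsplit]
    ring

/-- `f = ∑ ζ(1) ζ` over `IA`. -/
noncomputable def fA : K → ℂ := ∑ ζ ∈ IA K A, ((ζ : K → ℂ) 1) • (ζ : K → ℂ)

open Classical in
theorem fA_apply (k : K) :
    fA K A k = (if (k : L) ∈ A then (A.relIndex K : ℂ) else 0) - 1 := by
  rw [← sum_IA_apply K A k]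
  unfold fA
  rw [Finset.sum_apply]
  rfl

theorem fA_invariant (g : L) (n : K) :
    fA K A ⟨g * n * g⁻¹, hK.conj_mem (n : L) n.2 g⟩ = fA K A n := by
  classical
  rw [fA_apply, fA_apply]
  have h : (g * (n : L) * g⁻¹ ∈ A) ↔ ((n : L) ∈ A) := by
    constructor
    · intro h
      have := hA.conj_mem _ h g⁻¹
      simpa [mul_assoc] using this
    · intro h
      exact hA.conj_mem _ h g
  by_cases hn : (n : L) ∈ A
  · rw [if_pos hn, if_pos (h.mpr hn)]
  · rw [if_neg hn, if_neg (fun h' => hn (h.mp h'))]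

/-- `Ω = Ind f`. -/
noncomputable def Om : L → ℂ := indFun K (fA K A)

theorem Om_eq_sum : Om K A = ∑ ζ ∈ IA K A, ((ζ : K → ℂ) 1) • indFun K (ζ : K → ℂ) := by
  unfold Om fA
  rw [Helper81.indFun_sum]
  refine Finset.sum_congr rfl fun ζ _ => ?_
  rw [Helper81.indFun_smul]

theorem Om_classFunction : IsClassFunction L (Om K A) :=
  Helper81.indFun_isClassFunction K _

theorem Om_res (n : K) : Om K A (n : L) = (K.index : ℂ) * fA K A n := by
  unfold Om
  rw [Helper81.indFun_of_invariant K (fA K A) (fA_invariant K A) n]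
  have h1 : (Nat.card L : ℂ) = (Nat.card K : ℂ) * (K.index : ℂ) := by
    rw [← Nat.cast_mul, Subgroup.card_mul_index]
  have h2 : (Nat.card K : ℂ) ≠ 0 := by
    exact_mod_cast (Nat.card_pos (α := K)).ne'
  rw [h1]
  field_simp

theorem sum_IA_sq : ∑ ζ ∈ IA K A, (ζ : K → ℂ) 1 * (ζ : K → ℂ) 1 = (A.relIndex K : ℂ) - 1 := by
  classical
  have h := sum_IA_apply K A 1
  rw [if_pos (by simp)] at h
  exact h

theorem irr_one_conj (ζ : IrrCharacter K) : conj ((ζ : K → ℂ) 1) = (ζ : K → ℂ) 1 := by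
  rw [(Helper79.irr_one_eq ζ).1, Complex.conj_natCast]

theorem fA_norm [Fintype K] :
    classInner (fA K A) (fA K A) = (A.relIndex K : ℂ) - 1 := by
  classical
  rw [← sum_IA_sq K A]
  unfold fA
  rw [Helper81.classInner_sum_left]
  refine Finset.sum_congr rfl fun ζ hζ => ?_
  rw [Helper81.classInner_smul_left, Helper81.classInner_sum_right, Finset.sum_eq_single ζ]
  · rw [Helper81.classInner_smul_right, Helper81.irr_orthonormal ζ.2 ζ.2, if_pos rfl,
      irr_one_conj, mul_one]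
  · intro ζ' _ hne
    rw [Helper81.classInner_smul_right, Helper81.irr_orthonormal ζ.2 ζ'.2,
      if_neg (fun h => hne (Subtype.ext h).symm), mul_zero]
  · intro h
    exact absurd hζ h

theorem Om_norm : classInner (Om K A) (Om K A) = (K.index : ℂ) * ((A.relIndex K : ℂ) - 1) := by
  have _instK : Fintype K := Fintype.ofFinite K
  have h1 : classInner (Om K A) (Om K A)
      = classInner (fA K A) (fun h : K => Om K A (h : L)) := by
    have := Helper81.frobenius_reciprocity K (fA K A) (Om_classFunction K A)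
    exact this
  have h2 : (fun h : K => Om K A (h : L)) = ((K.index : ℂ)) • fA K A := by
    funext n
    rw [Om_res]
    rfl
  rw [h1, h2, Helper81.classInner_smul_right, fA_norm, Complex.conj_natCast]

theorem Om_one : Om K A 1 = (K.index : ℂ) * ((A.relIndex K : ℂ) - 1) := by
  classical
  have h := Om_res K A 1
  rw [fA_apply, if_pos (by simp)] at h
  exact h

theorem ind_mem_of_mem_IA (ζ : IrrCharacter K) (hζ : ζ ∈ IA K A) :
    indFun K (ζ : K → ℂ) ∈ inducedIrrAbove K A := by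
  classical
  unfold IA at hζ
  rw [Finset.mem_filter] at hζ
  refine ⟨(ζ : K → ℂ), ζ.2, ?_, ?_, rfl⟩
  · intro h
    exact hζ.2.2 ((Helper79.eq_trivChar_iff ζ).mpr h)
  · intro a ha
    exact (Helper79.mem_irrKer ζ a).1 (hζ.2.1 (Subgroup.mem_subgroupOf.mpr ha))

/-- **The lower bound.** -/
theorem lower_bound (T : Finset (L → ℂ)) (d n : (L → ℂ) → ℕ)
    (hd : ∀ φ ∈ T, φ 1 = (d φ : ℂ)) (hn : ∀ φ ∈ T, classInner φ φ = (n φ : ℂ))
    (hnpos : ∀ φ ∈ T, 0 < n φ)
    (horth : ∀ φ ∈ T, ∀ ψ ∈ T, φ ≠ ψ → classInner φ ψ = 0)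
    (hTA : inducedIrrAbove K A ⊆ (↑T : Set (L → ℂ))) :
    ((K.index * (A.relIndex K - 1) : ℕ) : ℝ) ≤ ∑ φ ∈ T, (d φ : ℝ) ^ 2 / (n φ : ℝ) := by
  classical
  by_cases hq : A.relIndex K - 1 = 0
  · rw [hq, mul_zero, Nat.cast_zero]
    exact Finset.sum_nonneg fun φ _ => div_nonneg (sq_nonneg _) (Nat.cast_nonneg _)
  have hrel : 1 ≤ A.relIndex K := by omega
  obtain ⟨q, hqdef⟩ : ∃ q : ℝ, q = ((K.index * (A.relIndex K - 1) : ℕ) : ℝ) := ⟨_, rfl⟩
  have hqC : (q : ℂ) = (K.index : ℂ) * ((A.relIndex K : ℂ) - 1) := by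
    rw [hqdef]
    push_cast [Nat.cast_sub hrel]
    ring
  have hqpos : 0 < q := by
    rw [hqdef]
    have : 0 < K.index * (A.relIndex K - 1) :=
      Nat.mul_pos (Nat.pos_of_ne_zero Subgroup.index_ne_zero_of_finite) (Nat.pos_of_ne_zero hq)
    exact_mod_cast this
  obtain ⟨P, hP⟩ : ∃ P : L → ℂ, P = ∑ φ ∈ T, ((d φ : ℂ) / (n φ : ℂ)) • φ := ⟨_, rfl⟩
  have hnC : ∀ φ ∈ T, (n φ : ℂ) ≠ 0 := fun φ hφ => by
    exact_mod_cast (hnpos φ hφ).ne'
  -- inner product of P with a member of T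
  have hPφ : ∀ φ₀ ∈ T, classInner P φ₀ = (d φ₀ : ℂ) := by
    intro φ₀ hφ₀
    rw [hP, Helper81.classInner_sum_left, Finset.sum_eq_single φ₀]
    · rw [Helper81.classInner_smul_left, hn φ₀ hφ₀]
      field_simp [hnC φ₀ hφ₀]
    · intro φ hφ hne
      rw [Helper81.classInner_smul_left, horth φ hφ φ₀ hφ₀ hne, mul_zero]
    · intro h
      exact absurd hφ₀ h
  -- ⟨P, Ω⟩
  have hPO : classInner P (Om K A) = (q : ℂ) := by
    rw [hqC, Om_eq_sum, Helper81.classInner_sum_right, ← sum_IA_sq K A, Finset.mul_sum]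
    refine Finset.sum_congr rfl fun ζ hζ => ?_
    have hmem : indFun K (ζ : K → ℂ) ∈ T := hTA (ind_mem_of_mem_IA K A ζ hζ)
    rw [Helper81.classInner_smul_right, hPφ _ hmem, ← hd _ hmem, Helper81.indFun_one,
      irr_one_conj]
    ring
  -- ‖P‖²
  have hPP : classInner P P = ((∑ φ ∈ T, (d φ : ℝ) ^ 2 / (n φ : ℝ) : ℝ) : ℂ) := by
    nth_rewrite 2 [hP]
    rw [Helper81.classInner_sum_right]
    push_cast
    refine Finset.sum_congr rfl fun φ hφ => ?_
    rw [Helper81.classInner_smul_right, hPφ φ hφ]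
    rw [map_div₀, Complex.conj_natCast, Complex.conj_natCast]
    field_simp [hnC φ hφ]
  have hB := Helper82.bessel_orth (M := L) (Finset.univ : Finset Unit) (fun _ => Om K A)
    (fun _ => q) (fun _ _ => hqpos)
    (fun i _ j _ => by
      rw [if_pos (Subsingleton.elim i j), Om_norm, hqC])
    P (fun _ => q) (fun _ _ => hPO)
  rw [hPP, Complex.ofReal_re] at hB
  simp only [Finset.univ_unique, Finset.sum_singleton] at hB
  have h3 : q ^ 2 / q = q := by
    field_simp
  rw [h3] at hB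
  rw [← hqdef]
  exact hB

end lower

end Cfsg.Agent.Helper25.Coh62
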