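import Mathlib
import Cfsg.Prelude.Def_OddOrderChar
import Cfsg.Agent.S4500
import Cfsg.Agent.Lib.Helper79.LinearChars
import Cfsg.Agent.Lib.Helper79.Inflation
import Cfsg.Agent.Lib.Helper80.ConjIrr
import Cfsg.Agent.Lib.Helper81.CharInd
import Cfsg.Agent.Lib.Helper82.CoherenceSys

set_option autoImplicit false
set_option linter.unusedSectionVars false

/-!
# Auxiliary facts for Peterfalvi 6.2: linear anchors, conjugates, sub-coherence
-/

namespace Cfsg.Agent.Helper25.Coh62

open Cfsg Cfsg.Agent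
open scoped ComplexConjugate

/-- A non-principal linear character of a solvable group `K` trivial on a proper normal
subgroup `N`. -/
theorem exists_linear_above {K : Type*} [Group K] [Finite K] (hsolv : Group.IsSolvable K)
    (N : Subgroup K) [N.Normal] (hN : N ≠ ⊤) :
    ∃ ζ : IrrCharacter K, N ≤ Helper79.irrKer ζ ∧ ζ ≠ Helper79.trivChar K ∧
      charDegree (ζ : K → ℂ) = 1 := by
  have _i1 : Group.IsSolvable K := hsolv
  have _i2 : Nontrivial (K ⧸ N) := by
    rw [← Finite.one_lt_card_iff_nontrivial, ← Subgroup.index_eq_card]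
    have h1 : N.index ≠ 1 := fun h => hN (Subgroup.index_eq_one.mp h)
    have h2 : N.index ≠ 0 := Subgroup.index_ne_zero_of_finite
    omega
  obtain ⟨χ, hχ1, hχd⟩ := Cfsg.Agent.S4500.exists_linear (G := K ⧸ N)
  refine ⟨Helper79.inflate N χ, Helper79.le_irrKer_inflate N χ, ?_, ?_⟩
  · intro h
    apply hχ1
    funext q
    obtain ⟨k, rfl⟩ := QuotientGroup.mk_surjective q
    have h2 := congrArg (fun ζ : IrrCharacter K => (ζ : K → ℂ) k) h
    simp only [Helper79.inflate_apply, Helper79.trivChar_apply] at h2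
    exact h2
  · rw [Helper79.charDegree_inflate]
    exact hχd

section conjsec

variable {L : Type*} [Group L] [Fintype L]

theorem extendByZero_conjFun (K : Subgroup L) (θ : K → ℂ) (y : L) :
    extendByZero K (conjFun θ) y = conj (extendByZero K θ y) := by
  by_cases hy : y ∈ K
  · rw [Helper81.extendByZero_apply_mem K _ hy, Helper81.extendByZero_apply_mem K _ hy]
    rfl
  · rw [Helper81.extendByZero_apply_not_mem K _ hy, Helper81.extendByZero_apply_not_mem K _ hy,
      map_zero]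

theorem conjFun_indFun (K : Subgroup L) (θ : K → ℂ) :
    conjFun (indFun K θ) = indFun K (conjFun θ) := by
  funext g
  show conj (indFun K θ g) = indFun K (conjFun θ) g
  rw [Helper81.indFun_apply, Helper81.indFun_apply, map_mul, map_inv₀, Complex.conj_natCast,
    map_sum]
  refine congrArg (fun t => (Nat.card K : ℂ)⁻¹ * t) ?_
  refine Finset.sum_congr rfl fun x _ => ?_
  rw [extendByZero_conjFun]

theorem conj_mem_inducedIrrAbove (K A : Subgroup L) {φ : L → ℂ}
    (hφ : φ ∈ inducedIrrAbove K A) : conjFun φ ∈ inducedIrrAbove K A := by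
  obtain ⟨θ, hθ, hθ1, hθA, rfl⟩ := hφ
  refine ⟨conjFun θ, Helper80.isIrrCharacter_cconj hθ, ?_, ?_, conjFun_indFun K θ⟩
  · intro h
    apply hθ1
    funext k
    have h2 := congrFun h k
    have h3 : conj (θ k) = 1 := h2
    have h4 := congrArg conj h3
    rw [Complex.conj_conj, map_one] at h4
    exact h4
  · intro a ha
    show conj (θ a) = conj (θ 1)
    rw [hθA a ha]

theorem inducedIrrAbove_subset_bot (K A : Subgroup L) :
    inducedIrrAbove K A ⊆ inducedIrrAbove K ⊥ := by
  rintro φ ⟨θ, hθ, hθ1, -, rfl⟩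
  refine ⟨θ, hθ, hθ1, ?_, rfl⟩
  intro a ha
  have h1 : (a : L) = 1 := Subgroup.mem_bot.mp ha
  have h2 : a = 1 := Subtype.ext h1
  rw [h2]

theorem inducedIrrAbove_finite (K A : Subgroup L) : (inducedIrrAbove K A).Finite := by
  have _i : Finite (IrrCharacter K) := inferInstance
  refine Set.Finite.subset (Set.finite_range (fun ζ : IrrCharacter K => indFun K (ζ : K → ℂ))) ?_
  rintro φ ⟨θ, hθ, -, -, rfl⟩
  exact ⟨⟨θ, hθ⟩, rfl⟩

end conjsec

section coh

variable {L : Type*} [Group L] [Fintype L] {G : Type*} [Group G] [Fintype G]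

theorem isCoherent_mono {S' S'' : Set (L → ℂ)} {τ : (L → ℂ) → (G → ℂ)}
    (h : IsCoherent S'' {1}ᶜ τ) (hsub : S' ⊆ S'')
    (hne : ∃ α ∈ zspanOn S' ({1}ᶜ : Set L), α ≠ 0) : IsCoherent S' {1}ᶜ τ := by
  obtain ⟨_, τ₁, hτ₁, hag⟩ := h
  exact ⟨hne, τ₁, Helper82.isLinearIsometryOn_mono hτ₁ (Helper82.zspan_mono hsub),
    fun α hα => hag α (Helper82.zspanOn_mono hsub _ hα)⟩

theorem exists_ne_zero_of_mem {S' : Set (L → ℂ)} {χ : L → ℂ} (hχ : χ ∈ S')
    (hc : conjFun χ ∈ S') (hne : conjFun χ ≠ χ) (hχ1 : conj (χ 1) = χ 1) :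
    ∃ α ∈ zspanOn S' ({1}ᶜ : Set L), α ≠ 0 := by
  refine ⟨χ - conjFun χ, Helper82.mem_zspanOn_compl_one.2
    ⟨Helper82.zspan_sub_mem (Helper82.subset_zspan hχ) (Helper82.subset_zspan hc), ?_⟩, ?_⟩
  · show χ 1 - conj (χ 1) = 0
    rw [hχ1, sub_self]
  · intro h
    apply hne
    have := sub_eq_zero.mp h
    exact this.symm

end coh

end Cfsg.Agent.Helper25.Coh62
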