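import Mathlib
import Cfsg.Prelude.Def_OddOrderChar
import Cfsg.Agent.S1486
import Cfsg.Agent.Lib.Helper79.Inflation
import Cfsg.Agent.Lib.Helper79.Restrict
import Cfsg.Agent.Lib.Helper79.Integrality
import Cfsg.Agent.Lib.Helper81.CharInd
import Cfsg.Agent.Lib.Helper81.CharRam

set_option autoImplicit false
set_option linter.unusedSectionVars false

/-!
# The counting inequality for Peterfalvi 6.5

`K ⊴ L` a `p`-group, `Z ⊴ L` central in `K`, all `Ind ζ` (`ζ ∈ Irr(K)` non-trivial on `Z`)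
irreducible, `gcd(|L:K|, p) = 1`.  If `b = θ(1)` for some `θ ∈ Irr(K)` and some `ζ` non-trivial on
`Z` has degree `< b`, then the characters `Ind ζ` with `ζ` non-trivial on `Z` and `ζ(1) < b` satisfy
`∑ φ(1)² ≥ |L:K|² b²`.
-/

namespace Cfsg.Agent.Helper25.Coh65

open Cfsg Cfsg.Agent
open scoped ComplexConjugate

variable {L : Type*} [Group L] [Fintype L] (K Z : Subgroup L) [hK : K.Normal] [hZ : Z.Normal]

open Classical in
/-- The irreducible characters of `K` non-trivial on `Z`. -/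
noncomputable def NZ : Finset (IrrCharacter K) :=
  Finset.univ.filter (fun ζ : IrrCharacter K => ¬ Z.subgroupOf K ≤ Helper79.irrKer ζ)

open Classical in
/-- Those of degree `< b`. -/
noncomputable def Tb (b : ℕ) : Finset (IrrCharacter K) :=
  (NZ K Z).filter (fun ζ => charDegree (ζ : K → ℂ) < b)

open Classical in
/-- Their induced characters. -/
noncomputable def Fb (b : ℕ) : Finset (L → ℂ) :=
  (Tb K Z b).image (fun ζ : IrrCharacter K => indFun K (ζ : K → ℂ))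

theorem mem_NZ (ζ : IrrCharacter K) : ζ ∈ NZ K Z ↔ ¬ Z.subgroupOf K ≤ Helper79.irrKer ζ := by
  classical
  unfold NZ
  simp

theorem mem_Tb (b : ℕ) (ζ : IrrCharacter K) :
    ζ ∈ Tb K Z b ↔ ζ ∈ NZ K Z ∧ charDegree (ζ : K → ℂ) < b := by
  classical
  unfold Tb
  simp

theorem ind_one (ζ : IrrCharacter K) :
    indFun K (ζ : K → ℂ) 1 = ((K.index * charDegree (ζ : K → ℂ) : ℕ) : ℂ) := by
  rw [Helper81.indFun_one, (Helper79.irr_one_eq ζ).1]
  push_cast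
  ring

theorem charDegree_ind (ζ : IrrCharacter K) :
    charDegree (indFun K (ζ : K → ℂ)) = K.index * charDegree (ζ : K → ℂ) := by
  show ⌊(indFun K (ζ : K → ℂ) 1).re⌋₊ = _
  rw [ind_one, Complex.natCast_re, Nat.floor_natCast]

/-- A conjugate of a character non-trivial on `Z` is non-trivial on `Z`. -/
theorem not_conj_of_not_mem_NZ (ζ ζ₀ : IrrCharacter K) (hζ : ζ ∉ NZ K Z) (hζ₀ : ζ₀ ∈ NZ K Z) :
    ¬ ∃ g : L, (ζ : K → ℂ) = fun h : K => (ζ₀ : K → ℂ) ⟨g * h * g⁻¹, hK.conj_mem h h.2 g⟩ := by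
  rintro ⟨g, hg⟩
  rw [mem_NZ] at hζ hζ₀
  rw [not_not] at hζ
  apply hζ₀
  intro z hz
  rw [Helper79.mem_irrKer]
  -- z = g (g⁻¹ z g) g⁻¹
  have hz' : (z : L) ∈ Z := Subgroup.mem_subgroupOf.mp hz
  have hw : g⁻¹ * (z : L) * g ∈ Z := by
    have := hZ.conj_mem _ hz' g⁻¹
    simpa using this
  have hwK : g⁻¹ * (z : L) * g ∈ K := by
    have := hK.conj_mem _ z.2 g⁻¹
    simpa using this
  have h1 : (⟨g⁻¹ * (z : L) * g, hwK⟩ : K) ∈ Z.subgroupOf K := Subgroup.mem_subgroupOf.mpr hw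
  have h2 := (Helper79.mem_irrKer ζ _).1 (hζ h1)
  rw [hg] at h2
  have e1 : (⟨g * ((⟨g⁻¹ * (z : L) * g, hwK⟩ : K) : L) * g⁻¹,
      hK.conj_mem _ (⟨g⁻¹ * (z : L) * g, hwK⟩ : K).2 g⟩ : K) = z := by
    apply Subtype.ext
    show g * (g⁻¹ * (z : L) * g) * g⁻¹ = (z : L)
    group
  have e2 : (⟨g * ((1 : K) : L) * g⁻¹, hK.conj_mem _ (1 : K).2 g⟩ : K) = 1 := by
    apply Subtype.ext
    show g * ((1 : K) : L) * g⁻¹ = ((1 : K) : L)
    simp
  simp only [e1, e2] at h2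
  exact h2

variable (hirr : ∀ ζ ∈ NZ K Z, IsIrrCharacter L (indFun K (ζ : K → ℂ)))

open Classical in
include hirr in
/-- The inner product of `Ind ζ` with an irreducible `φ = Ind ζ₀`, `ζ₀` non-trivial on `Z`. -/
theorem inner_ind (ζ ζ₀ : IrrCharacter K) (hζ₀ : ζ₀ ∈ NZ K Z) :
    classInner (indFun K (ζ : K → ℂ)) (indFun K (ζ₀ : K → ℂ))
      = if ζ ∈ NZ K Z ∧ indFun K (ζ : K → ℂ) = indFun K (ζ₀ : K → ℂ) then 1 else 0 := by
  classical
  by_cases hζ : ζ ∈ NZ K Z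
  · rw [Helper81.irr_orthonormal (hirr ζ hζ) (hirr ζ₀ hζ₀)]
    by_cases h : indFun K (ζ : K → ℂ) = indFun K (ζ₀ : K → ℂ)
    · rw [if_pos h, if_pos ⟨hζ, h⟩]
    · rw [if_neg h, if_neg (fun h' => h h'.2)]
  · rw [if_neg (fun h' => hζ h'.1)]
    exact (Cfsg.Agent.S1486.result K (ζ₀ : K → ℂ) (ζ : K → ℂ) ζ₀.2 ζ.2).2
      (not_conj_of_not_mem_NZ K Z ζ ζ₀ hζ hζ₀)

open Classical in
include hirr in
/-- The degree of `φ = Ind ζ₀` as a sum over the `ζ` inducing `φ`. -/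
theorem degree_expansion (ζ₀ : IrrCharacter K) (hζ₀ : ζ₀ ∈ NZ K Z) :
    indFun K (ζ₀ : K → ℂ) 1 = ∑ ζ ∈ NZ K Z,
      (if indFun K (ζ : K → ℂ) = indFun K (ζ₀ : K → ℂ) then (ζ : K → ℂ) 1 else 0) := by
  classical
  have _instK : Fintype K := Fintype.ofFinite K
  obtain ⟨φ, hφ⟩ : ∃ φ : L → ℂ, φ = indFun K (ζ₀ : K → ℂ) := ⟨_, rfl⟩
  have hcl : IsClassFunction L φ := by rw [hφ]; exact Helper81.indFun_isClassFunction K _
  have hclK : IsClassFunction K (fun k : K => φ (k : L)) := by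
    intro g h
    exact hcl (g : L) (h : L)
  have hexp := congrFun (Helper81.class_function_expansion hclK) 1
  rw [Finset.sum_apply] at hexp
  simp only [Pi.smul_apply, smul_eq_mul] at hexp
  have hcoef : ∀ ζ : IrrCharacter K, classInner (fun k : K => φ (k : L)) (ζ : K → ℂ)
      = if ζ ∈ NZ K Z ∧ indFun K (ζ : K → ℂ) = indFun K (ζ₀ : K → ℂ) then 1 else 0 := by
    intro ζ
    rw [Helper81.classInner_conj_symm (ζ : K → ℂ) (fun k : K => φ (k : L)),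
      ← Helper81.frobenius_reciprocity K (ζ : K → ℂ) hcl, hφ, inner_ind K Z hirr ζ ζ₀ hζ₀]
    split_ifs <;> simp
  rw [← hφ]
  have h1 : φ 1 = φ ((1 : K) : L) := rfl
  rw [h1, hexp, ← Finset.sum_filter_add_sum_filter_not Finset.univ (fun ζ => ζ ∈ NZ K Z)]
  have h2 : ∑ ζ ∈ Finset.univ.filter (fun ζ : IrrCharacter K => ¬ ζ ∈ NZ K Z),
      classInner (fun k : K => φ (k : L)) (ζ : K → ℂ) * (ζ : K → ℂ) 1 = 0 := by
    refine Finset.sum_eq_zero fun ζ hζ => ?_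
    rw [Finset.mem_filter] at hζ
    rw [hcoef ζ, if_neg (fun h' => hζ.2 h'.1), zero_mul]
  rw [h2, add_zero]
  have h3 : Finset.univ.filter (fun ζ : IrrCharacter K => ζ ∈ NZ K Z) = NZ K Z := by
    ext ζ; simp
  rw [h3]
  refine Finset.sum_congr rfl fun ζ hζ => ?_
  rw [hcoef ζ]
  by_cases h : indFun K (ζ : K → ℂ) = indFun K (ζ₀ : K → ℂ)
  · rw [if_pos ⟨hζ, h⟩, if_pos (h.trans hφ.symm), one_mul]
  · rw [if_neg (fun h' => h h'.2), if_neg (fun h' => h (h'.trans hφ)), zero_mul]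

theorem ind_mem_Fb_iff (b : ℕ) (ζ : IrrCharacter K) (hζ : ζ ∈ NZ K Z) :
    indFun K (ζ : K → ℂ) ∈ Fb K Z b ↔ ζ ∈ Tb K Z b := by
  classical
  unfold Fb
  rw [Finset.mem_image]
  constructor
  · rintro ⟨ζ', hζ', h⟩
    rw [mem_Tb] at hζ' ⊢
    refine ⟨hζ, ?_⟩
    have h1 := congrArg charDegree h
    rw [charDegree_ind, charDegree_ind] at h1
    have he : 0 < K.index := Nat.pos_of_ne_zero Subgroup.index_ne_zero_of_finite
    have h2 := Nat.eq_of_mul_eq_mul_left he h1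
    rw [← h2]
    exact hζ'.2
  · intro h
    exact ⟨ζ, h, rfl⟩

include hirr in
/-- The fibre-counting identity `∑_{φ ∈ F_b} φ(1)² = |L:K| ∑_{ζ ∈ T_b} ζ(1)²`. -/
theorem count (b : ℕ) :
    ∑ φ ∈ Fb K Z b, φ 1 * φ 1
      = (K.index : ℂ) * ∑ ζ ∈ Tb K Z b, (ζ : K → ℂ) 1 * (ζ : K → ℂ) 1 := by
  classical
  have h1 : ∀ φ ∈ Fb K Z b, φ 1 * φ 1 = ∑ ζ ∈ NZ K Z,
      (if indFun K (ζ : K → ℂ) = φ then φ 1 * (ζ : K → ℂ) 1 else 0) := by
    intro φ hφ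
    unfold Fb at hφ
    obtain ⟨ζ₀, hζ₀, rfl⟩ := Finset.mem_image.mp hφ
    have hζ₀' : ζ₀ ∈ NZ K Z := ((mem_Tb K Z b ζ₀).mp hζ₀).1
    nth_rewrite 2 [degree_expansion K Z hirr ζ₀ hζ₀']
    rw [Finset.mul_sum]
    refine Finset.sum_congr rfl fun ζ _ => ?_
    split_ifs <;> simp
  rw [Finset.sum_congr rfl h1, Finset.sum_comm]
  have h2 : ∀ ζ ∈ NZ K Z, ∑ φ ∈ Fb K Z b,
      (if indFun K (ζ : K → ℂ) = φ then φ 1 * (ζ : K → ℂ) 1 else 0)
      = if ζ ∈ Tb K Z b then (K.index : ℂ) * ((ζ : K → ℂ) 1 * (ζ : K → ℂ) 1) else 0 := by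
    intro ζ hζ
    rw [Finset.sum_ite_eq]
    by_cases h : ζ ∈ Tb K Z b
    · rw [if_pos ((ind_mem_Fb_iff K Z b ζ hζ).mpr h), if_pos h, Helper81.indFun_one]
      ring
    · rw [if_neg (fun h' => h ((ind_mem_Fb_iff K Z b ζ hζ).mp h')), if_neg h]
  rw [Finset.sum_congr rfl h2, Finset.mul_sum, ← Finset.sum_filter]
  refine Finset.sum_congr ?_ fun ζ _ => rfl
  ext ζ
  simp only [Finset.mem_filter]
  constructor
  · exact fun h => h.2
  · exact fun h => ⟨((mem_Tb K Z b ζ).mp h).1, h⟩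

end Cfsg.Agent.Helper25.Coh65
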