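import Mathlib
import Cfsg.Agent.Lib.Helper25.Coh65a

set_option autoImplicit false
set_option linter.unusedSectionVars false

/-!
# The counting inequality for Peterfalvi 6.5: arithmetic part
-/

namespace Cfsg.Agent.Helper25.Coh65

open Cfsg Cfsg.Agent

variable {L : Type*} [Group L] [Fintype L] (K Z : Subgroup L) [hK : K.Normal] [hZ : Z.Normal]

/-- Degrees of irreducible characters of a `p`-group are powers of `p`. -/
theorem degree_eq_pow (p m : ℕ) (hp : p.Prime) (hcard : Nat.card K = p ^ m) (ζ : IrrCharacter K) :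
    ∃ j : ℕ, charDegree (ζ : K → ℂ) = p ^ j := by
  have h := Helper79.irr_degree_dvd_card ζ
  rw [hcard] at h
  obtain ⟨j, -, hj⟩ := (Nat.dvd_prime_pow hp).mp h
  exact ⟨j, hj⟩

theorem pow_dvd_of_le (p i j : ℕ) (hp : p.Prime) (h : p ^ i ≤ p ^ j) : p ^ i ∣ p ^ j :=
  pow_dvd_pow p ((Nat.pow_le_pow_iff_right hp.one_lt).mp h)

variable (hirr : ∀ ζ ∈ NZ K Z, IsIrrCharacter L (indFun K (ζ : K → ℂ)))

include hirr in
theorem count_nat (b : ℕ) :
    ∑ φ ∈ Fb K Z b, (charDegree φ) ^ 2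
      = K.index * ∑ ζ ∈ Tb K Z b, (charDegree (ζ : K → ℂ)) ^ 2 := by
  classical
  have h := count K Z hirr b
  have h1 : ∑ φ ∈ Fb K Z b, φ 1 * φ 1 = ((∑ φ ∈ Fb K Z b, (charDegree φ) ^ 2 : ℕ) : ℂ) := by
    push_cast
    refine Finset.sum_congr rfl fun φ hφ => ?_
    unfold Fb at hφ
    obtain ⟨ζ, -, rfl⟩ := Finset.mem_image.mp hφ
    rw [charDegree_ind, ind_one]
    push_cast
    ring
  have h2 : ∑ ζ ∈ Tb K Z b, (ζ : K → ℂ) 1 * (ζ : K → ℂ) 1
      = ((∑ ζ ∈ Tb K Z b, (charDegree (ζ : K → ℂ)) ^ 2 : ℕ) : ℂ) := by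
    push_cast
    refine Finset.sum_congr rfl fun ζ _ => ?_
    rw [(Helper79.irr_one_eq ζ).1]
    ring
  rw [h1, h2] at h
  exact_mod_cast h

include hirr in
/-- **The counting inequality.** -/
theorem key_bound (p m : ℕ) (hp : p.Prime) (hcard : Nat.card K = p ^ m)
    (hcop : Nat.Coprime K.index p) (hZc : Z.subgroupOf K ≤ Subgroup.center K)
    (θ : IrrCharacter K) (hne : (Tb K Z (charDegree (θ : K → ℂ))).Nonempty) :
    K.index ^ 2 * (charDegree (θ : K → ℂ)) ^ 2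
      ≤ ∑ φ ∈ Fb K Z (charDegree (θ : K → ℂ)), (charDegree φ) ^ 2 := by
  classical
  have _iZ : (Z.subgroupOf K).Normal := Subgroup.Normal.subgroupOf inferInstance K
  obtain ⟨b, hb⟩ : ∃ b : ℕ, b = charDegree (θ : K → ℂ) := ⟨_, rfl⟩
  rw [← hb] at hne ⊢
  obtain ⟨β, hβ⟩ := degree_eq_pow K p m hp hcard θ
  rw [← hb] at hβ
  have he : 0 < K.index := Nat.pos_of_ne_zero Subgroup.index_ne_zero_of_finite
  obtain ⟨s, hs⟩ : ∃ s : ℕ, s = ∑ ζ ∈ Tb K Z b, (charDegree (ζ : K → ℂ)) ^ 2 := ⟨_, rfl⟩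
  have hQ := count_nat K Z hirr b
  rw [← hs] at hQ
  -- e² ∣ Q
  have h3 : K.index ^ 2 ∣ ∑ φ ∈ Fb K Z b, (charDegree φ) ^ 2 := by
    refine Finset.dvd_sum fun φ hφ => ?_
    unfold Fb at hφ
    obtain ⟨ζ, -, rfl⟩ := Finset.mem_image.mp hφ
    rw [charDegree_ind, mul_pow]
    exact dvd_mul_right _ _
  -- e ∣ s
  have h4 : K.index ∣ s := by
    rw [hQ, pow_two] at h3
    exact Nat.dvd_of_mul_dvd_mul_left he h3
  -- b² ∣ s
  have h5 : b ^ 2 ∣ s := by
    have hall := Helper79.sum_sq_degree_of_not_le_ker (Z.subgroupOf K)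
    have hsplit := Finset.sum_filter_add_sum_filter_not (NZ K Z)
      (fun ζ : IrrCharacter K => charDegree (ζ : K → ℂ) < b)
      (fun ζ : IrrCharacter K => (charDegree (ζ : K → ℂ)) ^ 2)
    have hT : (NZ K Z).filter (fun ζ : IrrCharacter K => charDegree (ζ : K → ℂ) < b)
        = Tb K Z b := rfl
    rw [hT, ← hs] at hsplit
    have hNZ : NZ K Z = Finset.univ.filter
        (fun ζ : IrrCharacter K => ¬ Z.subgroupOf K ≤ Helper79.irrKer ζ) := rfl
    rw [hNZ] at hsplit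
    have hall' : ∑ x ∈ Finset.univ.filter
        (fun ζ : IrrCharacter K => ¬ Z.subgroupOf K ≤ Helper79.irrKer ζ),
        (charDegree (x : K → ℂ)) ^ 2 = Nat.card K - (Z.subgroupOf K).index := by
      rw [← hall]
    rw [hall'] at hsplit
    -- b² ∣ second sum
    have hsec : b ^ 2 ∣ ∑ x ∈ Finset.filter (fun ζ : IrrCharacter K => ¬ charDegree (ζ : K → ℂ) < b)
        (Finset.univ.filter (fun ζ : IrrCharacter K => ¬ Z.subgroupOf K ≤ Helper79.irrKer ζ)),
        (charDegree (x : K → ℂ)) ^ 2 := by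
      refine Finset.dvd_sum fun ζ hζ => ?_
      rw [Finset.mem_filter] at hζ
      obtain ⟨j, hj⟩ := degree_eq_pow K p m hp hcard ζ
      have hle : b ≤ charDegree (ζ : K → ℂ) := not_lt.mp hζ.2
      rw [hj, hβ] at hle
      rw [hj, hβ]
      exact pow_dvd_pow_of_dvd (pow_dvd_of_le p β j hp hle) 2
    -- b² ∣ |K| - index
    have hidx : (Z.subgroupOf K).index ∣ Nat.card K := Subgroup.index_dvd_card _
    obtain ⟨i, -, hi⟩ := (Nat.dvd_prime_pow hp).mp (hcard ▸ hidx)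
    have hb2 : b ^ 2 ∣ (Z.subgroupOf K).index := by
      have hc := Helper79.card_central_mul_sq_le θ (Z.subgroupOf K) hZc
      rw [← hb] at hc
      have hmul := Subgroup.card_mul_index (Z.subgroupOf K)
      rw [← hmul] at hc
      have hZpos : 0 < Nat.card (Z.subgroupOf K) := Nat.card_pos
      have hle : b ^ 2 ≤ (Z.subgroupOf K).index := Nat.le_of_mul_le_mul_left hc hZpos
      rw [hi, hβ, ← pow_mul] at hle ⊢
      exact pow_dvd_of_le p (β * 2) i hp hle
    have htot : b ^ 2 ∣ Nat.card K - (Z.subgroupOf K).index :=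
      Nat.dvd_sub (hb2.trans hidx) hb2
    rw [← hsplit] at htot
    exact (Nat.dvd_add_left hsec).mp htot
  -- coprimality
  have h6 : Nat.Coprime K.index (b ^ 2) := by
    rw [hβ, ← pow_mul]
    exact Nat.Coprime.pow_right _ hcop
  have h7 : K.index * b ^ 2 ∣ s := Nat.Coprime.mul_dvd_of_dvd_of_dvd h6 h4 h5
  have h8 : 0 < s := by
    rw [hs]
    refine Finset.sum_pos (fun ζ _ => ?_) hne
    exact pow_pos (Helper79.irr_one_eq ζ).2 2
  have h9 : K.index * b ^ 2 ≤ s := Nat.le_of_dvd h8 h7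
  rw [hQ]
  calc K.index ^ 2 * b ^ 2 = K.index * (K.index * b ^ 2) := by ring
    _ ≤ K.index * s := Nat.mul_le_mul_left _ h9

end Cfsg.Agent.Helper25.Coh65
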