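import Mathlib
import Cfsg.Agent.S1487
import Cfsg.Agent.Lib.Helper25.Coh65b
import Cfsg.Agent.Lib.Helper25.Coh62c

set_option autoImplicit false
set_option linter.unusedSectionVars false

/-!
# Peterfalvi 6.5: the set `S ∖ S(Z)` in terms of the characters of `K` non-trivial on `Z`
-/

namespace Cfsg.Agent.Helper25.Coh65

open Cfsg Cfsg.Agent Cfsg.Agent.Helper25.Coh62
open scoped ComplexConjugate

variable {L : Type*} [Group L] [Fintype L] (K Z : Subgroup L) [hK : K.Normal] [hZ : Z.Normal]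

theorem triv_of_le_irrKer (ζ : IrrCharacter K) (h : Z.subgroupOf K ≤ Helper79.irrKer ζ)
    (a : K) (ha : (a : L) ∈ Z) : (ζ : K → ℂ) a = (ζ : K → ℂ) 1 :=
  (Helper79.mem_irrKer ζ a).1 (h (Subgroup.mem_subgroupOf.mpr ha))

theorem le_irrKer_of_triv (ζ : IrrCharacter K)
    (h : ∀ a : K, (a : L) ∈ Z → (ζ : K → ℂ) a = (ζ : K → ℂ) 1) :
    Z.subgroupOf K ≤ Helper79.irrKer ζ := fun a ha =>
  (Helper79.mem_irrKer ζ a).2 (h a (Subgroup.mem_subgroupOf.mp ha))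

/-- `Ind ζ ∈ S ∖ S(Z)` for `ζ` non-trivial on `Z`. -/
theorem ind_mem_diff (hZK : Z ≤ K) (ζ : IrrCharacter K) (hζ : ζ ∈ NZ K Z) :
    indFun K (ζ : K → ℂ) ∈ inducedIrrAbove K ⊥ \ inducedIrrAbove K Z := by
  rw [mem_NZ] at hζ
  refine ⟨⟨(ζ : K → ℂ), ζ.2, ?_, ?_, rfl⟩, ?_⟩
  · intro h
    apply hζ
    intro a _
    rw [Helper79.mem_irrKer, h]
  · intro a ha
    have h1 : (a : L) = 1 := Subgroup.mem_bot.mp ha
    have h2 : a = 1 := Subtype.ext h1
    rw [h2]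
  · rintro ⟨θ', hθ', -, hθ'Z, heq⟩
    apply hζ
    have h1 := (Cfsg.Agent.S1487.result Z K hZK θ' hθ').mp hθ'Z
    rw [← heq] at h1
    exact le_irrKer_of_triv K Z ζ ((Cfsg.Agent.S1487.result Z K hZK (ζ : K → ℂ) ζ.2).mpr h1)

/-- Every member of `S ∖ S(Z)` is `Ind ζ` with `ζ` non-trivial on `Z`. -/
theorem exists_NZ_of_mem_diff {φ : L → ℂ}
    (hφ : φ ∈ inducedIrrAbove K ⊥ \ inducedIrrAbove K Z) :
    ∃ ζ ∈ NZ K Z, φ = indFun K (ζ : K → ℂ) := by
  obtain ⟨⟨θ, hθ, hθ1, -, rfl⟩, hnot⟩ := hφ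
  refine ⟨⟨θ, hθ⟩, ?_, rfl⟩
  rw [mem_NZ]
  intro h
  exact hnot ⟨θ, hθ, hθ1, fun a ha => triv_of_le_irrKer K Z ⟨θ, hθ⟩ h a ha, rfl⟩

/-- `NZ` is nonempty when `Z ≠ ⊥`. -/
theorem NZ_nonempty (hZK : Z ≤ K) (hZ1 : Z ≠ ⊥) : (NZ K Z).Nonempty := by
  classical
  have _iZ : (Z.subgroupOf K).Normal := Subgroup.Normal.subgroupOf inferInstance K
  by_contra hempty
  rw [Finset.not_nonempty_iff_eq_empty] at hempty
  have hall := Helper79.sum_sq_degree_of_not_le_ker (Z.subgroupOf K)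
  have hNZ : NZ K Z = Finset.univ.filter
      (fun ζ : IrrCharacter K => ¬ Z.subgroupOf K ≤ Helper79.irrKer ζ) := rfl
  rw [← hNZ, hempty, Finset.sum_empty] at hall
  have hmul := Subgroup.card_mul_index (Z.subgroupOf K)
  have hne : Z.subgroupOf K ≠ ⊥ := by
    intro h
    apply hZ1
    rw [Subgroup.eq_bot_iff_forall]
    intro z hz
    have h1 : (⟨z, hZK hz⟩ : K) ∈ Z.subgroupOf K := Subgroup.mem_subgroupOf.mpr hz
    rw [h, Subgroup.mem_bot] at h1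
    exact congrArg Subtype.val h1
  have h2 : 1 < Nat.card (Z.subgroupOf K) := (Subgroup.one_lt_card_iff_ne_bot (Z.subgroupOf K)).mpr hne
  have h3 : 0 < (Z.subgroupOf K).index := Nat.pos_of_ne_zero Subgroup.index_ne_zero_of_finite
  have h4 : Nat.card K ≤ (Z.subgroupOf K).index := by omega
  nlinarith

/-- An irreducible character of `L` non-trivial on `Z` is `Ind ζ` for some `ζ` non-trivial on
`Z`, provided all such `Ind ζ` are irreducible. -/
theorem irr_eq_ind (hZK : Z ≤ K)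
    (hirr : ∀ ζ ∈ NZ K Z, IsIrrCharacter L (indFun K (ζ : K → ℂ)))
    {χ : L → ℂ} (hχ : IsIrrCharacter L χ) (z : L) (hz : z ∈ Z) (hχz : χ z ≠ χ 1) :
    ∃ ζ ∈ NZ K Z, χ = indFun K (ζ : K → ℂ) := by
  classical
  have _instK : Fintype K := Fintype.ofFinite K
  obtain ⟨n, hn, -⟩ := Helper79.res_expansion (⟨χ, hχ⟩ : IrrCharacter L) K
  have hex : ∃ ψ : IrrCharacter K, n ψ ≠ 0 ∧ ψ ∈ NZ K Z := by
    by_contra hno
    apply hχz
    have h1 := hn ⟨z, hZK hz⟩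
    have h2 := hn 1
    have h3 : χ z = ∑ ψ : IrrCharacter K, (n ψ : ℂ) * (ψ : K → ℂ) ⟨z, hZK hz⟩ := h1
    have h4 : χ 1 = ∑ ψ : IrrCharacter K, (n ψ : ℂ) * (ψ : K → ℂ) 1 := h2
    rw [h3, h4]
    refine Finset.sum_congr rfl fun ψ _ => ?_
    by_cases hψ : n ψ = 0
    · rw [hψ]; simp
    · have h5 : ψ ∉ NZ K Z := fun h => hno ⟨ψ, hψ, h⟩
      rw [mem_NZ, not_not] at h5
      rw [triv_of_le_irrKer K Z ψ h5 ⟨z, hZK hz⟩ hz]
  obtain ⟨ζ, hnζ, hζ⟩ := hex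
  refine ⟨ζ, hζ, ?_⟩
  have hcl : IsClassFunction L χ := Helper81.isClassFunction_of_isCharacter
    (Helper81.IsIrrCharacter.isCharacter hχ)
  have hres : (fun c : K => χ (c : L)) = ∑ ψ : IrrCharacter K, (n ψ : ℂ) • (ψ : K → ℂ) := by
    funext c
    rw [Finset.sum_apply]
    exact hn c
  have hinner : classInner (indFun K (ζ : K → ℂ)) χ = (n ζ : ℂ) := by
    rw [Helper81.frobenius_reciprocity K (ζ : K → ℂ) hcl, hres, Helper81.classInner_sum_right,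
      Finset.sum_eq_single ζ]
    · rw [Helper81.classInner_smul_right, Helper81.irr_orthonormal ζ.2 ζ.2, if_pos rfl,
        Complex.conj_natCast, mul_one]
    · intro ψ _ hne
      rw [Helper81.classInner_smul_right, Helper81.irr_orthonormal ζ.2 ψ.2,
        if_neg (fun h => hne (Subtype.ext h).symm), mul_zero]
    · intro h
      exact absurd (Finset.mem_univ ζ) h
  have h6 := Helper81.irr_orthonormal (hirr ζ hζ) hχ
  rw [hinner] at h6
  by_contra hne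
  rw [if_neg (fun h => hne h.symm)] at h6
  exact hnζ (by exact_mod_cast h6)

end Cfsg.Agent.Helper25.Coh65
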