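import Mathlib

set_option autoImplicit false

namespace Cfsg.Agent.Helper25

/-- Combinatorial core of the coherence argument for characters of equal degree:
a family of "roots" `a i - b i` with pairwise inner products `1` has a common constituent. -/
theorem common_constituent {X ι : Type*} [DecidableEq X] [Nonempty X] (I : Set ι) (a b : ι → X)
    (hab : ∀ i ∈ I, a i ≠ b i)
    (hip : ∀ i ∈ I, ∀ j ∈ I, i ≠ j →
      (if a i = a j then (1 : ℤ) else 0) - (if a i = b j then 1 else 0)
        - (if b i = a j then 1 else 0) + (if b i = b j then 1 else 0) = 1) :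
    ∃ χ₀ : X, (∀ i ∈ I, a i = χ₀) ∨ (∀ i ∈ I, b i = χ₀) := by
  classical
  by_cases hI : I.Nonempty
  swap
  · rw [Set.not_nonempty_iff_eq_empty] at hI
    obtain ⟨x⟩ := ‹Nonempty X›
    exact ⟨x, Or.inl (by intro i hi; rw [hI] at hi; exact absurd hi (Set.notMem_empty i))⟩
  obtain ⟨i₀, hi₀⟩ := hI
  -- for each k ≠ i₀ : a k = a i₀ or b k = b i₀
  have hkey : ∀ k ∈ I, k ≠ i₀ → a k = a i₀ ∨ b k = b i₀ := by
    intro k hk hne
    have h := hip i₀ hi₀ k hk (Ne.symm hne)
    by_contra hcon
    have hcon' := not_or.mp hcon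
    have hA : ¬ (a i₀ = a k) := fun h' => hcon'.1 h'.symm
    have hD : ¬ (b i₀ = b k) := fun h' => hcon'.2 h'.symm
    rw [if_neg hA, if_neg hD] at h
    split_ifs at h <;> omega
  by_cases hex : ∃ j ∈ I, j ≠ i₀ ∧ a j = a i₀
  · obtain ⟨j, hj, hji, haj⟩ := hex
    refine ⟨a i₀, Or.inl ?_⟩
    intro k hk
    by_cases hki : k = i₀
    · rw [hki]
    rcases hkey k hk hki with h | h
    · exact h
    · exfalso
      by_cases hak : a k = a i₀
      · -- then both equal: contradiction with ip(i₀,k)
        have h1 := hip i₀ hi₀ k hk (Ne.symm hki)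
        rw [if_pos hak.symm, if_pos h.symm] at h1
        have hA : a i₀ ≠ b k := by rw [h]; exact hab i₀ hi₀
        have hB : b i₀ ≠ a k := by rw [hak]; exact (hab i₀ hi₀).symm
        rw [if_neg hA, if_neg hB] at h1
        omega
      · -- a k ≠ a i₀, b k = b i₀
        have hkj : j ≠ k := by
          intro hjk; rw [hjk] at haj; exact hak haj
        -- b j ≠ b i₀
        have hbj : b j ≠ b i₀ := by
          intro hbj
          have h1 := hip i₀ hi₀ j hj (Ne.symm hji)
          rw [if_pos haj.symm, if_pos hbj.symm] at h1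
          have hA : a i₀ ≠ b j := by rw [hbj]; exact hab i₀ hi₀
          have hB : b i₀ ≠ a j := by rw [haj]; exact (hab i₀ hi₀).symm
          rw [if_neg hA, if_neg hB] at h1
          omega
        have h2 := hip j hj k hk hkj
        have hC : a j ≠ a k := by rw [haj]; exact fun h' => hak h'.symm
        have hD : b j ≠ b k := by rw [h]; exact hbj
        rw [if_neg hC, if_neg hD] at h2
        split_ifs at h2 <;> omega
  · refine ⟨b i₀, Or.inr ?_⟩
    intro k hk
    by_cases hki : k = i₀
    · rw [hki]
    rcases hkey k hk hki with h | h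
    · exact absurd ⟨k, hk, hki, h⟩ hex
    · exact h

end Cfsg.Agent.Helper25
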