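import Mathlib
import Cfsg.Agent.S1496

set_option autoImplicit false

namespace Cfsg.Agent.Helper25

/-- Coprime coset averaging: if `a` normalizes `X` and has order coprime to `|X|`, the sum of a class
function over the coset `X a` is `|X| / |C_X(a)|` times its sum over `a C_X(a)`. -/
theorem coset_avg {G : Type*} [Group G] [Fintype G] (X : Subgroup G) (a : G)
    (ha : ∀ h ∈ X, a * h * a⁻¹ ∈ X) (hcop : Nat.Coprime (orderOf a) (Nat.card X))
    (F : G → ℂ) (hF : ∀ g x : G, F (x * g * x⁻¹) = F g) [Fintype X]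
    [Fintype ↥(X ⊓ Subgroup.centralizer ({a} : Set G))] :
    (Nat.card ↥(X ⊓ Subgroup.centralizer ({a} : Set G)) : ℂ) * ∑ h : X, F ((h : G) * a) =
      (Nat.card X : ℂ) * ∑ c : ↥(X ⊓ Subgroup.centralizer ({a} : Set G)), F (a * (c : G)) := by
  classical
  obtain ⟨C, hCdef⟩ : ∃ C : Subgroup G, C = X ⊓ Subgroup.centralizer ({a} : Set G) := ⟨_, rfl⟩
  subst hCdef
  have hCX : ∀ c : ↥(X ⊓ Subgroup.centralizer ({a} : Set G)), (c : G) ∈ X :=
    fun c => (Subgroup.mem_inf.mp c.2).1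
  have hCa : ∀ c : ↥(X ⊓ Subgroup.centralizer ({a} : Set G)), (c : G) * a = a * (c : G) := by
    intro c
    have := (Subgroup.mem_inf.mp c.2).2
    rw [Subgroup.mem_centralizer_singleton_iff] at this
    exact this
  -- a⁻¹ also normalizes X
  have hainv : ∀ h ∈ X, a⁻¹ * h * a ∈ X := by
    have hpow : ∀ n : ℕ, ∀ h ∈ X, a ^ n * h * (a ^ n)⁻¹ ∈ X := by
      intro n
      induction n with
      | zero => intro h hh; simpa using hh
      | succ n ih =>
        intro h hh
        have := ha _ (ih h hh)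
        have e : a ^ (n + 1) * h * (a ^ (n + 1))⁻¹ = a * (a ^ n * h * (a ^ n)⁻¹) * a⁻¹ := by
          rw [pow_succ']; group
        rw [e]; exact this
    intro h hh
    have hpos : 0 < orderOf a := orderOf_pos a
    have e : a⁻¹ = a ^ (orderOf a - 1) := by
      rw [eq_comm, ← mul_eq_one_iff_eq_inv, ← pow_succ, Nat.sub_add_cancel hpos, pow_orderOf_eq_one]
    have := hpow (orderOf a - 1) h hh
    rw [← e, inv_inv] at this
    exact this
  have haN : a ∈ Subgroup.normalizer (X : Set G) := by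
    rw [Subgroup.mem_set_normalizer_iff]
    intro h
    constructor
    · exact ha h
    · intro hh
      have := hainv _ hh
      have e : a⁻¹ * (a * h * a⁻¹) * a = h := by group
      rw [e] at this
      exact this
  -- the map g
  have hgmem : ∀ (k : X) (c : ↥(X ⊓ Subgroup.centralizer ({a} : Set G))),
      (k : G) * (a * ((c : G) * (k : G)⁻¹) * a⁻¹) ∈ X := by
    intro k c
    exact X.mul_mem k.2 (ha _ (X.mul_mem (hCX c) (X.inv_mem k.2)))
  obtain ⟨g, hg⟩ : ∃ g : X × ↥(X ⊓ Subgroup.centralizer ({a} : Set G)) → X,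
      ∀ p, ((g p : X) : G) = (p.1 : G) * (a * ((p.2 : G) * (p.1 : G)⁻¹) * a⁻¹) :=
    ⟨fun p => ⟨_, hgmem p.1 p.2⟩, fun p => rfl⟩
  have hga : ∀ p, ((g p : X) : G) * a = (p.1 : G) * (a * (p.2 : G)) * (p.1 : G)⁻¹ := by
    intro p; rw [hg]; group
  -- uniform exponent
  obtain ⟨j, hj1, hj2⟩ := Nat.chineseRemainder hcop 1 0
  have hpowj : ∀ c : ↥(X ⊓ Subgroup.centralizer ({a} : Set G)), (a * (c : G)) ^ j = a := by
    intro c
    have hcomm : Commute a (c : G) := (hCa c).symm
    rw [hcomm.mul_pow]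
    have h1 : (c : G) ^ j = 1 := by
      have hd : Nat.card X ∣ j := (Nat.modEq_zero_iff_dvd).mp hj2
      obtain ⟨t, rfl⟩ := hd
      rw [pow_mul]
      have : (c : G) ^ Nat.card X = 1 :=
        orderOf_dvd_iff_pow_eq_one.mp (Subgroup.orderOf_dvd_natCard X (hCX c))
      rw [this, one_pow]
    have h2 : a ^ j = a := by
      have : a ^ j = a ^ 1 := by
        rw [pow_eq_pow_iff_modEq]
        exact hj1
      simpa using this
    rw [h1, h2, mul_one]
  -- fibers
  have hfiber : ∀ h : X, (Finset.univ.filter (fun p => g p = h)).card =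
      Nat.card ↥(X ⊓ Subgroup.centralizer ({a} : Set G)) := by
    intro h
    obtain ⟨x, hx, c, hc, hca, hxc⟩ := Cfsg.Agent.S1496.result X a haN hcop (h : G) h.2
    have hcC : c ∈ X ⊓ Subgroup.centralizer ({a} : Set G) :=
      Subgroup.mem_inf.mpr ⟨hc, Subgroup.mem_centralizer_singleton_iff.mpr hca⟩
    obtain ⟨k₀, hk₀⟩ : ∃ k₀ : X, (k₀ : G) = x⁻¹ := ⟨⟨x⁻¹, X.inv_mem hx⟩, rfl⟩
    obtain ⟨c₀, hc₀⟩ : ∃ c₀ : ↥(X ⊓ Subgroup.centralizer ({a} : Set G)), (c₀ : G) = c :=
      ⟨⟨c, hcC⟩, rfl⟩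
    have hp₀ : g (k₀, c₀) = h := by
      apply Subtype.ext
      have h1 : ((g (k₀, c₀) : X) : G) * a = (k₀ : G) * (a * (c₀ : G)) * (k₀ : G)⁻¹ := hga (k₀, c₀)
      rw [hk₀, hc₀, ← hca, ← hxc] at h1
      have h2 : ((g (k₀, c₀) : X) : G) * a = (h : G) * a := by rw [h1]; group
      exact mul_right_cancel h2
    have hset : Finset.univ.filter (fun p => g p = h) =
        Finset.univ.image (fun d : ↥(X ⊓ Subgroup.centralizer ({a} : Set G)) =>
          ((k₀ * ⟨(d : G)⁻¹, X.inv_mem (hCX d)⟩ : X), d * c₀ * d⁻¹)) := by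
      ext p
      simp only [Finset.mem_filter, Finset.mem_univ, true_and, Finset.mem_image]
      constructor
      · intro hp
        -- d = p.1⁻¹ k₀
        have h1 : (p.1 : G) * (a * (p.2 : G)) * (p.1 : G)⁻¹ =
            (k₀ : G) * (a * (c₀ : G)) * (k₀ : G)⁻¹ := by
          rw [← hga p, ← hga (k₀, c₀), hp, hp₀]
        obtain ⟨d, hd⟩ : ∃ d : G, d = (p.1 : G)⁻¹ * (k₀ : G) := ⟨_, rfl⟩
        have hdX : d ∈ X := by rw [hd]; exact X.mul_mem (X.inv_mem p.1.2) k₀.2
        have h2 : a * (p.2 : G) = d * (a * (c₀ : G)) * d⁻¹ := by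
          rw [hd]
          calc a * (p.2 : G) = (p.1 : G)⁻¹ * ((p.1 : G) * (a * (p.2 : G)) * (p.1 : G)⁻¹) * (p.1 : G) := by
                group
            _ = (p.1 : G)⁻¹ * ((k₀ : G) * (a * (c₀ : G)) * (k₀ : G)⁻¹) * (p.1 : G) := by rw [h1]
            _ = (p.1 : G)⁻¹ * (k₀ : G) * (a * (c₀ : G)) * ((p.1 : G)⁻¹ * (k₀ : G))⁻¹ := by group
        have h3 : a = d * a * d⁻¹ := by
          have : (a * (p.2 : G)) ^ j = (d * (a * (c₀ : G)) * d⁻¹) ^ j := by rw [h2]
          rw [hpowj p.2, conj_pow, hpowj c₀] at this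
          exact this
        have hda : d * a = a * d := by
          calc d * a = (d * a * d⁻¹) * d := by group
            _ = a * d := by rw [← h3]
        have hdC : d ∈ X ⊓ Subgroup.centralizer ({a} : Set G) :=
          Subgroup.mem_inf.mpr ⟨hdX, Subgroup.mem_centralizer_singleton_iff.mpr hda⟩
        refine ⟨⟨d, hdC⟩, ?_⟩
        apply Prod.ext
        · apply Subtype.ext
          simp only [Subgroup.coe_mul]
          rw [hd]; group
        · apply Subtype.ext
          simp only [Subgroup.coe_mul, Subgroup.coe_inv]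
          have h4 : (p.2 : G) = a⁻¹ * (d * (a * (c₀ : G)) * d⁻¹) := by rw [← h2]; group
          rw [h4]
          calc d * (c₀ : G) * d⁻¹ = a⁻¹ * (a * d) * (c₀ : G) * d⁻¹ := by group
            _ = a⁻¹ * (d * a) * (c₀ : G) * d⁻¹ := by rw [hda]
            _ = a⁻¹ * (d * (a * (c₀ : G)) * d⁻¹) := by group
      · rintro ⟨d, rfl⟩
        apply Subtype.ext
        have h1 : ((g ((k₀ * ⟨(d : G)⁻¹, X.inv_mem (hCX d)⟩ : X), d * c₀ * d⁻¹) : X) : G) * a =
            (h : G) * a := by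
          rw [hga, ← hp₀, hga]
          simp only [Subgroup.coe_mul, Subgroup.coe_inv]
          have hda := hCa d
          calc (k₀ : G) * (d : G)⁻¹ * (a * ((d : G) * (c₀ : G) * (d : G)⁻¹)) * ((k₀ : G) * (d : G)⁻¹)⁻¹
              = (k₀ : G) * ((d : G)⁻¹ * (a * (d : G))) * (c₀ : G) * (k₀ : G)⁻¹ := by group
            _ = (k₀ : G) * ((d : G)⁻¹ * ((d : G) * a)) * (c₀ : G) * (k₀ : G)⁻¹ := by rw [hda]
            _ = (k₀ : G) * (a * (c₀ : G)) * (k₀ : G)⁻¹ := by group
        exact mul_right_cancel h1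
    rw [hset, Finset.card_image_of_injective, Finset.card_univ, Nat.card_eq_fintype_card]
    intro d d' hdd
    have h1 : (k₀ * ⟨(d : G)⁻¹, X.inv_mem (hCX d)⟩ : X) = k₀ * ⟨(d' : G)⁻¹, X.inv_mem (hCX d')⟩ :=
      congrArg Prod.fst hdd
    have h2 := mul_left_cancel h1
    have h3 : (d : G)⁻¹ = (d' : G)⁻¹ := congrArg Subtype.val h2
    exact Subtype.ext (inv_injective h3)
  -- double counting
  have hsum1 : ∑ p : X × ↥(X ⊓ Subgroup.centralizer ({a} : Set G)), F (((g p : X) : G) * a) =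
      (Nat.card X : ℂ) * ∑ c : ↥(X ⊓ Subgroup.centralizer ({a} : Set G)), F (a * (c : G)) := by
    rw [Fintype.sum_prod_type]
    have : ∀ k : X, ∑ c : ↥(X ⊓ Subgroup.centralizer ({a} : Set G)), F (((g (k, c) : X) : G) * a) =
        ∑ c : ↥(X ⊓ Subgroup.centralizer ({a} : Set G)), F (a * (c : G)) := by
      intro k
      apply Finset.sum_congr rfl
      intro c _
      rw [hga]
      exact hF _ _
    rw [Finset.sum_congr rfl (fun k _ => this k), Finset.sum_const, Finset.card_univ,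
      nsmul_eq_mul, Nat.card_eq_fintype_card]
  have hsum2 : ∑ p : X × ↥(X ⊓ Subgroup.centralizer ({a} : Set G)), F (((g p : X) : G) * a) =
      (Nat.card ↥(X ⊓ Subgroup.centralizer ({a} : Set G)) : ℂ) * ∑ h : X, F ((h : G) * a) := by
    rw [← Finset.sum_fiberwise Finset.univ g]
    rw [Finset.mul_sum]
    apply Finset.sum_congr rfl
    intro h _
    have : ∀ p ∈ Finset.univ.filter (fun p => g p = h), F (((g p : X) : G) * a) = F ((h : G) * a) := by
      intro p hp
      rw [(Finset.mem_filter.mp hp).2]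
    rw [Finset.sum_congr rfl this, Finset.sum_const, hfiber h, nsmul_eq_mul]
  rw [← hsum2, hsum1]

end Cfsg.Agent.Helper25
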