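import Mathlib
import Cfsg.Prelude.Def_OddOrderChar
import Cfsg.Prelude.Def_OddOrderLocal
import Cfsg.Agent.Lib.Helper81.CharInd

set_option autoImplicit false

namespace Cfsg.Agent.Helper25

open Cfsg Cfsg.Agent.Helper81
open scoped ComplexConjugate

universe u

section inner
variable {X : Type u} [Group X] [Fintype X]

theorem classInner_sub_right (φ ψ₁ ψ₂ : X → ℂ) :
    classInner φ (ψ₁ - ψ₂) = classInner φ ψ₁ - classInner φ ψ₂ := by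
  simp only [classInner, Pi.sub_apply, map_sub, mul_sub, Finset.sum_sub_distrib]

theorem classInner_eq_zero_of_pointwise (φ ψ : X → ℂ) (h : ∀ x, φ x = 0 ∨ ψ x = 0) :
    classInner φ ψ = 0 := by
  unfold classInner
  rw [Finset.sum_eq_zero, mul_zero]
  intro x _
  rcases h x with h | h
  · rw [h, zero_mul]
  · rw [h, map_zero, mul_zero]

end inner

variable {G : Type u} [Group G]

/-- the function `(1 - φ)(1 - ψ)` on `W₁ ⊔ W₂` -/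
def alphaFun (W₁ W₂ : Subgroup G) (φ ψ : ↥(W₁ ⊔ W₂) →* ℂˣ) : ↥(W₁ ⊔ W₂) → ℂ :=
  fun w => 1 - (φ w : ℂ) - (ψ w : ℂ) + (φ w : ℂ) * (ψ w : ℂ)

theorem alphaFun_eq_zero (W₁ W₂ : Subgroup G) (φ ψ : ↥(W₁ ⊔ W₂) →* ℂˣ)
    (hφ : ∀ w : ↥(W₁ ⊔ W₂), (w : G) ∈ W₂ → φ w = 1) (hψ : ∀ w : ↥(W₁ ⊔ W₂), (w : G) ∈ W₁ → ψ w = 1)
    (w : ↥(W₁ ⊔ W₂)) (hw : (w : G) ∈ W₁ ∨ (w : G) ∈ W₂) : alphaFun W₁ W₂ φ ψ w = 0 := by
  unfold alphaFun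
  rcases hw with hw | hw
  · rw [hψ w hw]; simp
  · rw [hφ w hw]; simp

theorem alphaFun_one_left (W₁ W₂ : Subgroup G) (ψ : ↥(W₁ ⊔ W₂) →* ℂˣ) :
    alphaFun W₁ W₂ 1 ψ = 0 := by
  funext w
  simp [alphaFun]

theorem alphaFun_one_right (W₁ W₂ : Subgroup G) (φ : ↥(W₁ ⊔ W₂) →* ℂˣ) :
    alphaFun W₁ W₂ φ 1 = 0 := by
  funext w
  simp [alphaFun]

variable [Fintype G]

/-- For a class function `θ` vanishing on `W \ (W₁ ∪ W₂)`, `θ` is orthogonal to the function induced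
from `(1 - φ)(1 - ψ)`. -/
theorem classInner_indFun_alphaFun (W₁ W₂ : Subgroup G) (θ : G → ℂ) (hθ : IsClassFunction G θ)
    (hθV : ∀ w : ↥(W₁ ⊔ W₂), (w : G) ∉ W₁ → (w : G) ∉ W₂ → θ w = 0)
    (φ ψ : ↥(W₁ ⊔ W₂) →* ℂˣ)
    (hφ : ∀ w : ↥(W₁ ⊔ W₂), (w : G) ∈ W₂ → φ w = 1) (hψ : ∀ w : ↥(W₁ ⊔ W₂), (w : G) ∈ W₁ → ψ w = 1) :
    classInner θ (indFun (W₁ ⊔ W₂) (alphaFun W₁ W₂ φ ψ)) = 0 := by
  classical
  have : Fintype ↥(W₁ ⊔ W₂) := Fintype.ofFinite _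
  rw [classInner_conj_symm, frobenius_reciprocity _ _ hθ]
  rw [classInner_eq_zero_of_pointwise, map_zero]
  intro w
  by_cases h1 : (w : G) ∈ W₁
  · left; exact alphaFun_eq_zero W₁ W₂ φ ψ hφ hψ w (Or.inl h1)
  · by_cases h2 : (w : G) ∈ W₂
    · left; exact alphaFun_eq_zero W₁ W₂ φ ψ hφ hψ w (Or.inr h2)
    · right; exact hθV w h1 h2

/-- the "rectangle" identity `a(φψ) = a(φ) + a(ψ) - a(1)` for the coefficients of a class function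
vanishing on `W \ (W₁ ∪ W₂)` -/
theorem coeff_mul (W₁ W₂ : Subgroup G) (χ : (↥(W₁ ⊔ W₂) →* ℂˣ) → (G → ℂ))
    (hχ : IsCyclicTIFamily W₁ W₂ χ) (θ : G → ℂ) (hθ : IsClassFunction G θ)
    (hθV : ∀ w : ↥(W₁ ⊔ W₂), (w : G) ∉ W₁ → (w : G) ∉ W₂ → θ w = 0)
    (φ ψ : ↥(W₁ ⊔ W₂) →* ℂˣ)
    (hφ : ∀ w : ↥(W₁ ⊔ W₂), (w : G) ∈ W₂ → φ w = 1) (hψ : ∀ w : ↥(W₁ ⊔ W₂), (w : G) ∈ W₁ → ψ w = 1) :
    classInner θ (χ (φ * ψ)) = classInner θ (χ φ) + classInner θ (χ ψ) - classInner θ (χ 1) := by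
  by_cases hφ1 : φ = 1
  · subst hφ1
    have e : (1 : ↥(W₁ ⊔ W₂) →* ℂˣ) * ψ = ψ := one_mul ψ
    rw [e]; ring
  by_cases hψ1 : ψ = 1
  · subst hψ1
    have e : φ * (1 : ↥(W₁ ⊔ W₂) →* ℂˣ) = φ := mul_one φ
    rw [e]; ring
  have h0 := classInner_indFun_alphaFun W₁ W₂ θ hθ hθV φ ψ hφ hψ
  have h1 := hχ.induced_eq φ ψ hφ1 hψ1 hφ hψ
  have h2 : indFun (W₁ ⊔ W₂) (alphaFun W₁ W₂ φ ψ) = χ 1 - χ φ - χ ψ + χ (φ * ψ) := by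
    unfold alphaFun
    rw [h1, hχ.map_one]
    funext g
    simp
  rw [h2, classInner_add_right, classInner_sub_right, classInner_sub_right] at h0
  linear_combination h0

end Cfsg.Agent.Helper25
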