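import Mathlib
import Cfsg.Prelude.Def_OddOrderChar
import Cfsg.Prelude.Def_OddOrderLocal
import Cfsg.Agent.Lib.Helper81.CharInd
import Cfsg.Agent.Lib.Helper25.CyclicTI
import Cfsg.Agent.S1504

set_option autoImplicit false

namespace Cfsg.Agent.Helper25

open Cfsg Cfsg.Agent.Helper81
open scoped ComplexConjugate

universe u

section linear
variable {A : Type u} [Group A] [Fintype A]

theorem conj_hom_apply (ω : A →* ℂˣ) (a : A) : conj ((ω a : ℂˣ) : ℂ) = (((ω a)⁻¹ : ℂˣ) : ℂ) := by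
  have h1 : ((ω a : ℂˣ) : ℂ) ^ (orderOf a) = 1 := by
    have : (ω a) ^ (orderOf a) = 1 := by rw [← map_pow, pow_orderOf_eq_one, map_one]
    rw [← Units.val_pow_eq_pow_val, this, Units.val_one]
  have h2 : ‖((ω a : ℂˣ) : ℂ)‖ = 1 :=
    Complex.norm_eq_one_of_pow_eq_one h1 (orderOf_pos a).ne'
  rw [Units.val_inv_eq_inv_val, Complex.inv_eq_conj h2]

/-- orthogonality of linear characters -/
theorem classInner_hom (ω ω' : A →* ℂˣ) :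
    classInner (fun a => ((ω a : ℂˣ) : ℂ)) (fun a => ((ω' a : ℂˣ) : ℂ)) = if ω = ω' then 1 else 0 := by
  classical
  unfold classInner
  have hA : (Nat.card A : ℂ) ≠ 0 := by exact_mod_cast (Nat.card_pos (α := A)).ne'
  have h1 : ∀ a : A, ((ω a : ℂˣ) : ℂ) * conj ((ω' a : ℂˣ) : ℂ)
      = ((Units.coeHom ℂ).comp (ω * ω'⁻¹)) a := by
    intro a
    rw [conj_hom_apply]
    simp
  rw [Finset.sum_congr rfl (fun a _ => h1 a)]
  split_ifs with h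
  · subst h
    have : ω * ω⁻¹ = 1 := mul_inv_cancel ω
    rw [this]
    simp only [MonoidHom.comp_one, MonoidHom.one_apply, Finset.sum_const, Finset.card_univ,
      nsmul_eq_mul, mul_one]
    rw [← Nat.card_eq_fintype_card, inv_mul_cancel₀ hA]
  · rw [sum_hom_units_eq_zero, mul_zero]
    intro h2
    apply h
    have h3 : ω * ω'⁻¹ = 1 := by
      ext a
      have := DFunLike.congr_fun h2 a
      simpa using this
    exact mul_inv_eq_one.mp h3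

end linear

variable {G : Type u} [Group G]

theorem mem_normalizer_singleton (g w : G) :
    g ∈ Subgroup.normalizer ({w} : Set G) ↔ g * w * g⁻¹ = w := by
  rw [Subgroup.mem_set_normalizer_iff]
  constructor
  · intro h
    exact (h w).mp rfl
  · intro h k
    simp only [Set.mem_singleton_iff]
    constructor
    · rintro rfl; exact h
    · intro hk
      have : g * k * g⁻¹ = g * w * g⁻¹ := by rw [hk, h]
      simpa using this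

/-- The TI property: if `w` and `x⁻¹ w x` both lie in `W \ (W₁ ∪ W₂)` then `x ∈ W`. -/
theorem mem_of_conj_mem (W₁ W₂ : Subgroup G) (hW : IsSelfNormalizingCyclic W₁ W₂) {w x : G}
    (hw : w ∈ W₁ ⊔ W₂) (hw1 : w ∉ W₁) (hw2 : w ∉ W₂)
    (hc : x⁻¹ * w * x ∈ W₁ ⊔ W₂) (hc1 : x⁻¹ * w * x ∉ W₁) (hc2 : x⁻¹ * w * x ∉ W₂) :
    x ∈ W₁ ⊔ W₂ := by
  obtain ⟨hne1, hne2, hinf, hcomm, hcyc, hN⟩ := hW
  -- step 1 : conjugation by x preserves W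
  have hNw : Subgroup.normalizer ({w} : Set G) = W₁ ⊔ W₂ := by
    apply hN
    · intro y hy
      rw [Set.mem_singleton_iff] at hy
      subst hy
      exact ⟨hw, fun h => h.elim hw1 hw2⟩
    · exact Set.singleton_nonempty _
  have hNw' : Subgroup.normalizer ({x⁻¹ * w * x} : Set G) = W₁ ⊔ W₂ := by
    apply hN
    · intro y hy
      rw [Set.mem_singleton_iff] at hy
      subst hy
      exact ⟨hc, fun h => h.elim hc1 hc2⟩
    · exact Set.singleton_nonempty _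
  have hx : ∀ g : G, g ∈ W₁ ⊔ W₂ ↔ x⁻¹ * g * x ∈ W₁ ⊔ W₂ := by
    intro g
    have e1 : g ∈ W₁ ⊔ W₂ ↔ g * w * g⁻¹ = w := by rw [← hNw, mem_normalizer_singleton]
    have e2 : x⁻¹ * g * x ∈ W₁ ⊔ W₂ ↔
        x⁻¹ * g * x * (x⁻¹ * w * x) * (x⁻¹ * g * x)⁻¹ = x⁻¹ * w * x := by
      rw [← hNw', mem_normalizer_singleton]
    rw [e1, e2]
    constructor
    · intro h
      have : x⁻¹ * g * x * (x⁻¹ * w * x) * (x⁻¹ * g * x)⁻¹ = x⁻¹ * (g * w * g⁻¹) * x := by group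
      rw [this, h]
    · intro h
      have : g * w * g⁻¹ = x * (x⁻¹ * g * x * (x⁻¹ * w * x) * (x⁻¹ * g * x)⁻¹) * x⁻¹ := by group
      rw [this, h]; group
  have hx' : ∀ g : G, g ∈ W₁ ⊔ W₂ ↔ x * g * x⁻¹ ∈ W₁ ⊔ W₂ := by
    intro g
    rw [hx (x * g * x⁻¹)]
    have : x⁻¹ * (x * g * x⁻¹) * x = g := by group
    rw [this]
  -- step 2 : generators
  obtain ⟨g₀, hg₀⟩ := hcyc
  obtain ⟨X, hX⟩ : ∃ X : Set G, X = {g : G | g ∈ W₁ ⊔ W₂ ∧ ∀ h ∈ W₁ ⊔ W₂, h ∈ Subgroup.zpowers g} :=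
    ⟨_, rfl⟩
  have hg₀X : (g₀ : G) ∈ X := by
    rw [hX]
    refine ⟨g₀.2, fun h hh => ?_⟩
    obtain ⟨k, hk⟩ := Subgroup.mem_zpowers_iff.mp (hg₀ ⟨h, hh⟩)
    refine Subgroup.mem_zpowers_iff.mpr ⟨k, ?_⟩
    have := congrArg Subtype.val hk
    simpa using this
  have hXV : X ⊆ (↑(W₁ ⊔ W₂) : Set G) \ (↑W₁ ∪ ↑W₂) := by
    intro g hg
    rw [hX] at hg
    refine ⟨hg.1, ?_⟩
    rintro (h | h)
    · apply hne2
      rw [eq_bot_iff, ← hinf]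
      intro b hb
      refine ⟨?_, hb⟩
      have := hg.2 b (Subgroup.mem_sup_right hb)
      exact (Subgroup.zpowers_le.mpr h) this
    · apply hne1
      rw [eq_bot_iff, ← hinf]
      intro b hb
      refine ⟨hb, ?_⟩
      have := hg.2 b (Subgroup.mem_sup_left hb)
      exact (Subgroup.zpowers_le.mpr h) this
  have key : ∀ y : G, (∀ g : G, g ∈ W₁ ⊔ W₂ ↔ y⁻¹ * g * y ∈ W₁ ⊔ W₂) → ∀ h ∈ X, y * h * y⁻¹ ∈ X := by
    intro y hy h hh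
    rw [hX] at hh ⊢
    refine ⟨?_, ?_⟩
    · rw [hy]
      have : y⁻¹ * (y * h * y⁻¹) * y = h := by group
      rw [this]; exact hh.1
    · intro h' hh'
      have h1 := hh.2 _ ((hy h').mp hh')
      obtain ⟨k, hk⟩ := Subgroup.mem_zpowers_iff.mp h1
      refine Subgroup.mem_zpowers_iff.mpr ⟨k, ?_⟩
      have : (y * h * y⁻¹) ^ k = y * h ^ k * y⁻¹ := by
        simpa using (map_zpow (MulAut.conj y) h k).symm
      rw [this, hk]; group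
  have hxN : x ∈ Subgroup.normalizer X := by
    rw [Subgroup.mem_set_normalizer_iff]
    intro h
    constructor
    · exact key x hx h
    · intro hh
      have := key x⁻¹ (fun g => by simpa using hx' g) _ hh
      have e : x⁻¹ * (x * h * x⁻¹) * x⁻¹⁻¹ = h := by group
      rwa [e] at this
  rw [hN X hXV ⟨_, hg₀X⟩] at hxN
  exact hxN

/-- the linear character `ω` as a complex valued function -/
def cf {A : Type u} [Group A] (ω : A →* ℂˣ) : A → ℂ := fun a => ((ω a : ℂˣ) : ℂ)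

theorem alphaFun_eq_cf (W₁ W₂ : Subgroup G) (φ ψ : ↥(W₁ ⊔ W₂) →* ℂˣ) :
    alphaFun W₁ W₂ φ ψ = cf 1 - cf φ - cf ψ + cf (φ * ψ) := by
  funext w
  simp [alphaFun, cf]

theorem classInner_cf {A : Type u} [Group A] [Fintype A] (ω ω' : A →* ℂˣ)
    [Decidable (ω = ω')] : classInner (cf ω) (cf ω') = if ω = ω' then 1 else 0 := by
  have := classInner_hom ω ω'
  unfold cf
  rw [this]
  split_ifs <;> rfl

theorem classInner_alphaFun (W₁ W₂ : Subgroup G) [Fintype ↥(W₁ ⊔ W₂)]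
    (hcomm : ∀ a ∈ W₁, ∀ b ∈ W₂, a * b = b * a)
    (φ ψ φ' ψ' : ↥(W₁ ⊔ W₂) →* ℂˣ)
    (hφ : ∀ w : ↥(W₁ ⊔ W₂), (w : G) ∈ W₂ → φ w = 1) (hψ : ∀ w : ↥(W₁ ⊔ W₂), (w : G) ∈ W₁ → ψ w = 1)
    (hφ' : ∀ w : ↥(W₁ ⊔ W₂), (w : G) ∈ W₂ → φ' w = 1) (hψ' : ∀ w : ↥(W₁ ⊔ W₂), (w : G) ∈ W₁ → ψ' w = 1)
    (hφ1 : φ ≠ 1) (hψ1 : ψ ≠ 1) (hφ'1 : φ' ≠ 1) (hψ'1 : ψ' ≠ 1)
    [Decidable (φ = φ')] [Decidable (ψ = ψ')] :
    classInner (alphaFun W₁ W₂ φ ψ) (alphaFun W₁ W₂ φ' ψ') =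
      1 + (if φ = φ' then 1 else 0) + (if ψ = ψ' then 1 else 0)
        + (if φ = φ' then 1 else 0) * (if ψ = ψ' then 1 else 0) := by
  classical
  have one1 : ∀ w : ↥(W₁ ⊔ W₂), (w : G) ∈ W₂ → (1 : ↥(W₁ ⊔ W₂) →* ℂˣ) w = 1 := fun _ _ => rfl
  have one2 : ∀ w : ↥(W₁ ⊔ W₂), (w : G) ∈ W₁ → (1 : ↥(W₁ ⊔ W₂) →* ℂˣ) w = 1 := fun _ _ => rfl
  have pi := Cfsg.Agent.S1504.pair_injective W₁ W₂ hcomm
  have e1 : ∀ ω : ↥(W₁ ⊔ W₂) →* ℂˣ, ω * 1 = ω := fun ω => mul_one ω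
  have e2 : ∀ ω : ↥(W₁ ⊔ W₂) →* ℂˣ, 1 * ω = ω := fun ω => one_mul ω
  -- the various inequalities
  have n1 : (1 : ↥(W₁ ⊔ W₂) →* ℂˣ) ≠ φ' := fun h => hφ'1 h.symm
  have n2 : (1 : ↥(W₁ ⊔ W₂) →* ℂˣ) ≠ ψ' := fun h => hψ'1 h.symm
  have n3 : (1 : ↥(W₁ ⊔ W₂) →* ℂˣ) ≠ φ' * ψ' := fun h =>
    n1 (pi 1 1 φ' ψ' one1 one2 hφ' hψ' (by rw [e1]; exact h)).1
  have n4 : φ ≠ 1 := hφ1
  have n5 : φ ≠ ψ' := fun h =>
    hφ1 (pi φ 1 1 ψ' hφ one2 one1 hψ' (by rw [e1, e2]; exact h)).1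
  have n6 : φ ≠ φ' * ψ' := fun h =>
    n2 (pi φ 1 φ' ψ' hφ one2 hφ' hψ' (by rw [e1]; exact h)).2
  have n7 : ψ ≠ 1 := hψ1
  have n8 : ψ ≠ φ' := fun h =>
    n1 (pi 1 ψ φ' 1 one1 hψ hφ' one2 (by rw [e1, e2]; exact h)).1
  have n9 : ψ ≠ φ' * ψ' := fun h =>
    n1 (pi 1 ψ φ' ψ' one1 hψ hφ' hψ' (by rw [e2]; exact h)).1
  have n10 : φ * ψ ≠ 1 := fun h =>
    hφ1 (pi φ ψ 1 1 hφ hψ one1 one2 (by rw [e1]; exact h)).1
  have n11 : φ * ψ ≠ φ' := fun h =>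
    hψ1 (pi φ ψ φ' 1 hφ hψ hφ' one2 (by rw [e1]; exact h)).2
  have n12 : φ * ψ ≠ ψ' := fun h =>
    hφ1 (pi φ ψ 1 ψ' hφ hψ one1 hψ' (by rw [e2]; exact h)).1
  have n13 : (φ * ψ = φ' * ψ') ↔ (φ = φ' ∧ ψ = ψ') :=
    ⟨fun h => pi φ ψ φ' ψ' hφ hψ hφ' hψ' h, fun h => by rw [h.1, h.2]⟩
  rw [alphaFun_eq_cf, alphaFun_eq_cf]
  simp only [classInner_add_left, classInner_sub_left, classInner_add_right, classInner_sub_right,
    classInner_cf]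
  rw [if_neg n1, if_neg n2, if_neg n3, if_neg n4, if_neg n5, if_neg n6, if_neg n7,
    if_neg n8, if_neg n9, if_neg n10, if_neg n11, if_neg n12]
  by_cases h1 : φ = φ' <;> by_cases h2 : ψ = ψ' <;> simp [n13, h1, h2]

variable [Fintype G]

/-- value of an induced function on the TI-set -/
theorem indFun_apply_of_TI (W₁ W₂ : Subgroup G) (hW : IsSelfNormalizingCyclic W₁ W₂)
    (β : ↥(W₁ ⊔ W₂) → ℂ)
    (hβ : ∀ w : ↥(W₁ ⊔ W₂), ((w : G) ∈ W₁ ∨ (w : G) ∈ W₂) → β w = 0)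
    (w : ↥(W₁ ⊔ W₂)) (hw1 : (w : G) ∉ W₁) (hw2 : (w : G) ∉ W₂) :
    indFun (W₁ ⊔ W₂) β (w : G) = β w := by
  classical
  have hcomm : ∀ a b : ↥(W₁ ⊔ W₂), a * b = b * a := by
    have : IsCyclic ↥(W₁ ⊔ W₂) := hW.2.2.2.2.1
    exact isMulCommutative_iff.mp IsCyclic.isMulCommutative
  rw [indFun_apply]
  have h1 : ∀ x : G, extendByZero (W₁ ⊔ W₂) β (x⁻¹ * (w : G) * x)
      = if x ∈ W₁ ⊔ W₂ then β w else 0 := by
    intro x
    split_ifs with hx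
    · have : x⁻¹ * (w : G) * x = (w : G) := by
        have := congrArg Subtype.val (hcomm w ⟨x, hx⟩)
        simp only [Subgroup.coe_mul] at this
        rw [mul_assoc, this, inv_mul_cancel_left]
      rw [this, extendByZero_apply_coe]
    · by_cases hc : x⁻¹ * (w : G) * x ∈ W₁ ⊔ W₂
      · rw [extendByZero_apply_mem _ _ hc]
        by_cases hc1 : x⁻¹ * (w : G) * x ∈ W₁
        · exact hβ ⟨_, hc⟩ (Or.inl hc1)
        · by_cases hc2 : x⁻¹ * (w : G) * x ∈ W₂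
          · exact hβ ⟨_, hc⟩ (Or.inr hc2)
          · exact absurd (mem_of_conj_mem W₁ W₂ hW w.2 hw1 hw2 hc hc1 hc2) hx
      · exact extendByZero_apply_not_mem _ _ hc
  rw [Finset.sum_congr rfl (fun x _ => h1 x), Finset.sum_ite, Finset.sum_const, Finset.sum_const_zero,
    add_zero, nsmul_eq_mul]
  have hcard : (Finset.univ.filter (fun x : G => x ∈ W₁ ⊔ W₂)).card = Nat.card ↥(W₁ ⊔ W₂) := by
    rw [Nat.card_eq_fintype_card]
    exact (Fintype.card_of_subtype _ (by simp)).symm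
  rw [hcard]
  have hne : (Nat.card ↥(W₁ ⊔ W₂) : ℂ) ≠ 0 := by
    exact_mod_cast (Nat.card_pos (α := ↥(W₁ ⊔ W₂))).ne'
  rw [← mul_assoc, inv_mul_cancel₀ hne, one_mul]

/-- inner product of two functions induced from the TI-set -/
theorem classInner_indFun_indFun_of_TI (W₁ W₂ : Subgroup G) [Fintype ↥(W₁ ⊔ W₂)]
    (hW : IsSelfNormalizingCyclic W₁ W₂) (α β : ↥(W₁ ⊔ W₂) → ℂ)
    (hα : ∀ w : ↥(W₁ ⊔ W₂), ((w : G) ∈ W₁ ∨ (w : G) ∈ W₂) → α w = 0)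
    (hβ : ∀ w : ↥(W₁ ⊔ W₂), ((w : G) ∈ W₁ ∨ (w : G) ∈ W₂) → β w = 0) :
    classInner (indFun (W₁ ⊔ W₂) α) (indFun (W₁ ⊔ W₂) β) = classInner α β := by
  classical
  rw [frobenius_reciprocity _ _ (indFun_isClassFunction _ _)]
  unfold classInner
  congr 1
  apply Finset.sum_congr rfl
  intro w _
  by_cases h1 : (w : G) ∈ W₁
  · rw [hα w (Or.inl h1), zero_mul, zero_mul]
  · by_cases h2 : (w : G) ∈ W₂
    · rw [hα w (Or.inr h2), zero_mul, zero_mul]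
    · show α w * conj (indFun (W₁ ⊔ W₂) β (w : G)) = _
      rw [indFun_apply_of_TI W₁ W₂ hW β hβ w h1 h2]

end Cfsg.Agent.Helper25
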