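import Mathlib
import Cfsg.Prelude.Def_OddOrderChar
import Cfsg.Prelude.Def_OddOrderLocal
import Cfsg.Agent.Lib.Helper81.CharInd
import Cfsg.Agent.Lib.Helper25.CyclicTI2

set_option autoImplicit false

namespace Cfsg.Agent.Helper25

open Cfsg Cfsg.Agent.Helper81
open scoped ComplexConjugate

universe u

section dual
variable {A : Type u} [Group A] [Fintype A]

theorem dual_card (hcomm : ∀ a b : A, a * b = b * a) : Nat.card (A →* ℂˣ) = Nat.card A := by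
  letI : CommGroup A := { ‹Group A› with mul_comm := hcomm }
  haveI : NeZero (Monoid.exponent A) := ⟨Monoid.exponent_ne_zero_of_finite⟩
  exact CommGroup.card_monoidHom_of_hasEnoughRootsOfUnity A ℂ

theorem dual_separates (hcomm : ∀ a b : A, a * b = b * a) {a : A} (ha : a ≠ 1) :
    ∃ ω : A →* ℂˣ, ω a ≠ 1 := by
  letI : CommGroup A := { ‹Group A› with mul_comm := hcomm }
  haveI : NeZero (Monoid.exponent A) := ⟨Monoid.exponent_ne_zero_of_finite⟩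
  exact CommGroup.exists_apply_ne_one_of_hasEnoughRootsOfUnity A ℂ ha

/-- column orthogonality for the dual of a finite abelian group -/
theorem sum_dual_apply (hcomm : ∀ a b : A, a * b = b * a) [Fintype (A →* ℂˣ)] (a : A)
    [Decidable (a = 1)] :
    ∑ ω : A →* ℂˣ, ((ω a : ℂˣ) : ℂ) = if a = 1 then (Nat.card A : ℂ) else 0 := by
  split_ifs with h
  · subst h
    simp only [map_one, Units.val_one, Finset.sum_const, Finset.card_univ, nsmul_eq_mul, mul_one]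
    rw [← dual_card hcomm, Nat.card_eq_fintype_card]
  · obtain ⟨ω₀, hω₀⟩ := dual_separates hcomm h
    have h1 : ∑ ω : A →* ℂˣ, ((ω a : ℂˣ) : ℂ) = ((ω₀ a : ℂˣ) : ℂ) * ∑ ω : A →* ℂˣ, ((ω a : ℂˣ) : ℂ) := by
      rw [Finset.mul_sum]
      rw [← Equiv.sum_comp (Equiv.mulLeft ω₀)]
      apply Finset.sum_congr rfl
      intro ω _
      simp
    have h2 : (1 - ((ω₀ a : ℂˣ) : ℂ)) * ∑ ω : A →* ℂˣ, ((ω a : ℂˣ) : ℂ) = 0 := by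
      rw [sub_mul, one_mul, ← h1, sub_self]
    rcases mul_eq_zero.mp h2 with h3 | h3
    · exfalso
      apply hω₀
      have : ((ω₀ a : ℂˣ) : ℂ) = 1 := by linear_combination -h3
      exact Units.ext this
    · exact h3

/-- completeness of the linear characters of a finite abelian group -/
theorem dual_complete (hcomm : ∀ a b : A, a * b = b * a) [Fintype (A →* ℂˣ)] (f : A → ℂ) (a₀ : A) :
    f a₀ = ∑ ω : A →* ℂˣ, classInner f (cf ω) * ((ω a₀ : ℂˣ) : ℂ) := by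
  classical
  have hA : (Nat.card A : ℂ) ≠ 0 := by exact_mod_cast (Nat.card_pos (α := A)).ne'
  unfold classInner cf
  have h1 : ∀ ω : A →* ℂˣ, ((Nat.card A : ℂ)⁻¹ * ∑ g : A, f g * conj ((ω g : ℂˣ) : ℂ)) * ((ω a₀ : ℂˣ) : ℂ)
      = (Nat.card A : ℂ)⁻¹ * ∑ g : A, f g * ((ω (g⁻¹ * a₀) : ℂˣ) : ℂ) := by
    intro ω
    rw [mul_assoc, Finset.sum_mul]
    congr 1
    apply Finset.sum_congr rfl
    intro g _
    rw [conj_hom_apply, map_mul, map_inv, Units.val_mul]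
    ring
  rw [Finset.sum_congr rfl (fun ω _ => h1 ω), ← Finset.mul_sum, Finset.sum_comm]
  have h2 : ∀ g : A, ∑ ω : A →* ℂˣ, f g * ((ω (g⁻¹ * a₀) : ℂˣ) : ℂ)
      = if g = a₀ then f a₀ * (Nat.card A : ℂ) else 0 := by
    intro g
    rw [← Finset.mul_sum, sum_dual_apply hcomm]
    by_cases h : g = a₀
    · subst h
      simp
    · have : ¬ (g⁻¹ * a₀ = 1) := by
        intro h'
        apply h
        rw [inv_mul_eq_one] at h'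
        exact h'
      rw [if_neg this, if_neg h, mul_zero]
  rw [Finset.sum_congr rfl (fun g _ => h2 g), Finset.sum_ite_eq' Finset.univ a₀]
  simp only [Finset.mem_univ, if_true]
  field_simp

end dual

section prod
variable {G : Type u} [Group G] [Finite G]

theorem card_sup_of_comm (W₁ W₂ : Subgroup G) (hinf : W₁ ⊓ W₂ = ⊥)
    (hcomm : ∀ a ∈ W₁, ∀ b ∈ W₂, a * b = b * a) :
    Nat.card ↥(W₁ ⊔ W₂) = Nat.card W₁ * Nat.card W₂ := by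
  rw [← Nat.card_prod]
  symm
  apply Nat.card_congr
  refine Equiv.ofBijective (fun p : W₁ × W₂ => (⟨(p.1 : G) * p.2,
    mul_mem (Subgroup.mem_sup_left p.1.2) (Subgroup.mem_sup_right p.2.2)⟩ : ↥(W₁ ⊔ W₂))) ⟨?_, ?_⟩
  · rintro ⟨a, b⟩ ⟨a', b'⟩ h
    have h1 : (a : G) * b = a' * b' := congrArg Subtype.val h
    have h2 : (a' : G)⁻¹ * a = b' * (b : G)⁻¹ := by
      rw [inv_mul_eq_iff_eq_mul, ← mul_assoc, ← h1]; group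
    have h3 : (a' : G)⁻¹ * a ∈ W₁ ⊓ W₂ :=
      Subgroup.mem_inf.mpr ⟨W₁.mul_mem (W₁.inv_mem a'.2) a.2,
        by rw [h2]; exact W₂.mul_mem b'.2 (W₂.inv_mem b.2)⟩
    rw [hinf, Subgroup.mem_bot] at h3
    have h4 : (a : G) = a' := by rw [inv_mul_eq_one] at h3; exact h3.symm
    have h5 : (b : G) = b' := by rw [h4] at h1; exact mul_left_cancel h1
    exact Prod.ext (Subtype.ext h4) (Subtype.ext h5)
  · rintro ⟨w, hw⟩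
    obtain ⟨a, ha, b, hb, rfl⟩ := Cfsg.Agent.S1504.mem_sup_comm W₁ W₂ hcomm w hw
    exact ⟨(⟨a, ha⟩, ⟨b, hb⟩), rfl⟩

theorem pow_card_eq_one_of_mem (H : Subgroup G) {a : G} (ha : a ∈ H) : a ^ Nat.card H = 1 := by
  have h : (⟨a, ha⟩ : H) ^ Nat.card H = 1 := pow_card_eq_one'
  have h2 := congrArg Subtype.val h
  simp only [Subgroup.coe_pow, Subgroup.coe_one] at h2
  exact h2

theorem coprime_card_of_cyclic (W₁ W₂ : Subgroup G) (hinf : W₁ ⊓ W₂ = ⊥)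
    (hcomm : ∀ a ∈ W₁, ∀ b ∈ W₂, a * b = b * a) (hcyc : IsCyclic ↥(W₁ ⊔ W₂)) :
    (Nat.card W₁).Coprime (Nat.card W₂) := by
  have h1 : Monoid.exponent ↥(W₁ ⊔ W₂) = Nat.card ↥(W₁ ⊔ W₂) := IsCyclic.exponent_eq_card
  have h2 : Monoid.exponent ↥(W₁ ⊔ W₂) ∣ Nat.lcm (Nat.card W₁) (Nat.card W₂) := by
    apply Monoid.exponent_dvd_of_forall_pow_eq_one
    rintro ⟨w, hw⟩
    obtain ⟨a, ha, b, hb, rfl⟩ := Cfsg.Agent.S1504.mem_sup_comm W₁ W₂ hcomm w hw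
    apply Subtype.ext
    simp only [Subgroup.coe_pow, Subgroup.coe_one]
    have hc : Commute a b := hcomm a ha b hb
    rw [hc.mul_pow]
    obtain ⟨k, hk⟩ := Nat.dvd_lcm_left (Nat.card W₁) (Nat.card W₂)
    obtain ⟨l, hl⟩ := Nat.dvd_lcm_right (Nat.card W₁) (Nat.card W₂)
    have e1 : a ^ Nat.lcm (Nat.card W₁) (Nat.card W₂) = 1 := by
      rw [hk, pow_mul, pow_card_eq_one_of_mem W₁ ha, one_pow]
    have e2 : b ^ Nat.lcm (Nat.card W₁) (Nat.card W₂) = 1 := by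
      rw [hl, pow_mul, pow_card_eq_one_of_mem W₂ hb, one_pow]
    rw [e1, e2, one_mul]
  rw [h1, card_sup_of_comm W₁ W₂ hinf hcomm] at h2
  have h3 := Nat.gcd_mul_lcm (Nat.card W₁) (Nat.card W₂)
  have hpos1 : 0 < Nat.card W₁ := Nat.card_pos
  have hpos2 : 0 < Nat.card W₂ := Nat.card_pos
  have hl : 0 < Nat.lcm (Nat.card W₁) (Nat.card W₂) := Nat.lcm_pos hpos1 hpos2
  have h4 := Nat.le_of_dvd hl h2
  have hg : 0 < Nat.gcd (Nat.card W₁) (Nat.card W₂) := Nat.gcd_pos_of_pos_left _ hpos1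
  unfold Nat.Coprime
  by_contra hne
  have : 2 ≤ Nat.gcd (Nat.card W₁) (Nat.card W₂) := by omega
  nlinarith

/-- the decomposition of a linear character of `W₁ × W₂` into its two components -/
theorem exists_decomp (W₁ W₂ : Subgroup G) (hinf : W₁ ⊓ W₂ = ⊥)
    (hcomm : ∀ a ∈ W₁, ∀ b ∈ W₂, a * b = b * a) (hcyc : IsCyclic ↥(W₁ ⊔ W₂)) :
    ∃ p₁ p₂ : (↥(W₁ ⊔ W₂) →* ℂˣ) → (↥(W₁ ⊔ W₂) →* ℂˣ),
      (∀ ω, ∀ w : ↥(W₁ ⊔ W₂), (w : G) ∈ W₂ → p₁ ω w = 1) ∧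
      (∀ ω, ∀ w : ↥(W₁ ⊔ W₂), (w : G) ∈ W₁ → p₂ ω w = 1) ∧
      (∀ ω, p₁ ω * p₂ ω = ω) ∧
      (∀ φ ψ : ↥(W₁ ⊔ W₂) →* ℂˣ, (∀ w : ↥(W₁ ⊔ W₂), (w : G) ∈ W₂ → φ w = 1) →
        (∀ w : ↥(W₁ ⊔ W₂), (w : G) ∈ W₁ → ψ w = 1) → p₁ (φ * ψ) = φ ∧ p₂ (φ * ψ) = ψ) := by
  have hcop := coprime_card_of_cyclic W₁ W₂ hinf hcomm hcyc
  obtain ⟨e₁, h11, h12⟩ := Nat.chineseRemainder hcop 1 0
  obtain ⟨e₂, h21, h22⟩ := Nat.chineseRemainder hcop 0 1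
  have hd1 : Nat.card W₂ ∣ e₁ := (Nat.modEq_zero_iff_dvd).mp h12
  have hd2 : Nat.card W₁ ∣ e₂ := (Nat.modEq_zero_iff_dvd).mp h21
  have hsum : e₁ + e₂ ≡ 1 [MOD Nat.card ↥(W₁ ⊔ W₂)] := by
    rw [card_sup_of_comm W₁ W₂ hinf hcomm]
    rw [← Nat.modEq_and_modEq_iff_modEq_mul hcop]
    constructor
    · simpa using h11.add h21
    · simpa using h12.add h22
  have A1 : ∀ ω : ↥(W₁ ⊔ W₂) →* ℂˣ, ∀ w : ↥(W₁ ⊔ W₂), (w : G) ∈ W₂ → (ω ^ e₁) w = 1 := by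
    intro ω w hw
    rw [MonoidHom.pow_apply, ← map_pow]
    have : w ^ e₁ = 1 := by
      apply Subtype.ext
      obtain ⟨t, rfl⟩ := hd1
      simp only [Subgroup.coe_pow, Subgroup.coe_one]
      rw [pow_mul, pow_card_eq_one_of_mem W₂ hw, one_pow]
    rw [this, map_one]
  have A2 : ∀ ω : ↥(W₁ ⊔ W₂) →* ℂˣ, ∀ w : ↥(W₁ ⊔ W₂), (w : G) ∈ W₁ → (ω ^ e₂) w = 1 := by
    intro ω w hw
    rw [MonoidHom.pow_apply, ← map_pow]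
    have : w ^ e₂ = 1 := by
      apply Subtype.ext
      obtain ⟨t, rfl⟩ := hd2
      simp only [Subgroup.coe_pow, Subgroup.coe_one]
      rw [pow_mul, pow_card_eq_one_of_mem W₁ hw, one_pow]
    rw [this, map_one]
  have A3 : ∀ ω : ↥(W₁ ⊔ W₂) →* ℂˣ, ω ^ e₁ * ω ^ e₂ = ω := by
    intro ω
    ext w
    rw [MonoidHom.mul_apply, MonoidHom.pow_apply, MonoidHom.pow_apply, ← pow_add, ← map_pow]
    have : w ^ (e₁ + e₂) = w ^ 1 := by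
      rw [pow_eq_pow_iff_modEq]
      exact hsum.of_dvd (orderOf_dvd_natCard w)
    rw [this, pow_one]
  refine ⟨fun ω => ω ^ e₁, fun ω => ω ^ e₂, A1, A2, A3, ?_⟩
  intro φ ψ hφ hψ
  exact Cfsg.Agent.S1504.pair_injective W₁ W₂ hcomm _ _ φ ψ (A1 _) (A2 _) hφ hψ (A3 _)

/-- reindexing a sum over the dual of `W₁ × W₂` as a double sum -/
theorem sum_dual_prod (W₁ W₂ : Subgroup G) (hinf : W₁ ⊓ W₂ = ⊥)
    (hcomm : ∀ a ∈ W₁, ∀ b ∈ W₂, a * b = b * a) (hcyc : IsCyclic ↥(W₁ ⊔ W₂))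
    [Fintype (↥(W₁ ⊔ W₂) →* ℂˣ)] (P₁ P₂ : Finset (↥(W₁ ⊔ W₂) →* ℂˣ))
    (hP₁ : ∀ φ, φ ∈ P₁ ↔ ∀ w : ↥(W₁ ⊔ W₂), (w : G) ∈ W₂ → φ w = 1)
    (hP₂ : ∀ ψ, ψ ∈ P₂ ↔ ∀ w : ↥(W₁ ⊔ W₂), (w : G) ∈ W₁ → ψ w = 1)
    {M : Type*} [AddCommMonoid M] (F : (↥(W₁ ⊔ W₂) →* ℂˣ) → M) :
    ∑ ω, F ω = ∑ φ ∈ P₁, ∑ ψ ∈ P₂, F (φ * ψ) := by
  obtain ⟨p₁, p₂, A1, A2, A3, A4⟩ := exists_decomp W₁ W₂ hinf hcomm hcyc
  rw [← Finset.sum_product']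
  symm
  apply Finset.sum_nbij' (fun p : (↥(W₁ ⊔ W₂) →* ℂˣ) × (↥(W₁ ⊔ W₂) →* ℂˣ) => p.1 * p.2)
    (fun ω => (p₁ ω, p₂ ω))
  · intro p _; exact Finset.mem_univ _
  · intro ω _
    rw [Finset.mem_product]
    exact ⟨(hP₁ _).mpr (A1 ω), (hP₂ _).mpr (A2 ω)⟩
  · rintro ⟨φ, ψ⟩ hp
    rw [Finset.mem_product] at hp
    obtain ⟨h1, h2⟩ := A4 φ ψ ((hP₁ _).mp hp.1) ((hP₂ _).mp hp.2)
    exact Prod.ext h1 h2
  · intro ω _
    exact A3 ω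
  · intro p _; rfl

/-- a sum of the values at `w` of the linear characters trivial on `H` vanishes as soon as one of them is
nontrivial at `w` -/
theorem sum_triv_eq_zero {W : Type u} [Group W] (H : Set W) (P : Finset (W →* ℂˣ))
    (hP : ∀ ψ, ψ ∈ P ↔ ∀ v : W, v ∈ H → ψ v = 1) (w : W) (h : ∃ ψ ∈ P, ψ w ≠ 1) :
    ∑ ψ ∈ P, ((ψ w : ℂˣ) : ℂ) = 0 := by
  obtain ⟨ψ₁, hψ₁, hne⟩ := h
  have h1 : ∑ ψ ∈ P, ((ψ w : ℂˣ) : ℂ) = ((ψ₁ w : ℂˣ) : ℂ) * ∑ ψ ∈ P, ((ψ w : ℂˣ) : ℂ) := by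
    rw [Finset.mul_sum]
    apply Finset.sum_nbij' (fun ψ => ψ₁⁻¹ * ψ) (fun ψ => ψ₁ * ψ)
    · intro ψ hψ
      rw [hP] at hψ hψ₁ ⊢
      intro v hv
      rw [MonoidHom.mul_apply, MonoidHom.inv_apply, hψ v hv, hψ₁ v hv]; simp
    · intro ψ hψ
      rw [hP] at hψ hψ₁ ⊢
      intro v hv
      rw [MonoidHom.mul_apply, hψ v hv, hψ₁ v hv]; simp
    · intro ψ _
      show ψ₁ * (ψ₁⁻¹ * ψ) = ψ
      exact mul_inv_cancel_left ψ₁ ψ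
    · intro ψ _
      show ψ₁⁻¹ * (ψ₁ * ψ) = ψ
      exact inv_mul_cancel_left ψ₁ ψ
    · intro ψ _
      rw [MonoidHom.mul_apply, MonoidHom.inv_apply]
      simp
  have h2 : (1 - ((ψ₁ w : ℂˣ) : ℂ)) * ∑ ψ ∈ P, ((ψ w : ℂˣ) : ℂ) = 0 := by
    rw [sub_mul, one_mul, ← h1, sub_self]
  rcases mul_eq_zero.mp h2 with h3 | h3
  · exfalso
    apply hne
    have : ((ψ₁ w : ℂˣ) : ℂ) = 1 := by linear_combination -h3
    exact Units.ext this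
  · exact h3

theorem exists_ne_one_right [Fintype G] (W₁ W₂ : Subgroup G) (hinf : W₁ ⊓ W₂ = ⊥)
    (hcomm : ∀ a ∈ W₁, ∀ b ∈ W₂, a * b = b * a) (hcyc : IsCyclic ↥(W₁ ⊔ W₂))
    (w : ↥(W₁ ⊔ W₂)) (hw : (w : G) ∉ W₁) :
    ∃ ψ : ↥(W₁ ⊔ W₂) →* ℂˣ, (∀ v : ↥(W₁ ⊔ W₂), (v : G) ∈ W₁ → ψ v = 1) ∧ ψ w ≠ 1 := by
  classical
  have : Fintype ↥(W₁ ⊔ W₂) := Fintype.ofFinite _
  have hcommW : ∀ a b : ↥(W₁ ⊔ W₂), a * b = b * a :=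
    isMulCommutative_iff.mp IsCyclic.isMulCommutative
  obtain ⟨p₁, p₂, A1, A2, A3, A4⟩ := exists_decomp W₁ W₂ hinf hcomm hcyc
  obtain ⟨a, ha, b, hb, hab⟩ := Cfsg.Agent.S1504.mem_sup_comm W₁ W₂ hcomm w w.2
  have hb1 : (⟨b, Subgroup.mem_sup_right hb⟩ : ↥(W₁ ⊔ W₂)) ≠ 1 := by
    intro h
    have h' : b = 1 := congrArg Subtype.val h
    apply hw
    rw [hab, h', mul_one]; exact ha
  obtain ⟨ω, hω⟩ := dual_separates hcommW hb1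
  refine ⟨p₂ ω, A2 ω, ?_⟩
  have hw' : w = (⟨a, Subgroup.mem_sup_left ha⟩ : ↥(W₁ ⊔ W₂)) * ⟨b, Subgroup.mem_sup_right hb⟩ :=
    Subtype.ext hab
  rw [hw', map_mul, A2 ω ⟨a, Subgroup.mem_sup_left ha⟩ ha, one_mul]
  have h3 := DFunLike.congr_fun (A3 ω) (⟨b, Subgroup.mem_sup_right hb⟩ : ↥(W₁ ⊔ W₂))
  rw [MonoidHom.mul_apply, A1 ω _ hb, one_mul] at h3
  rw [h3]
  exact hω

theorem exists_ne_one_left [Fintype G] (W₁ W₂ : Subgroup G) (hinf : W₁ ⊓ W₂ = ⊥)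
    (hcomm : ∀ a ∈ W₁, ∀ b ∈ W₂, a * b = b * a) (hcyc : IsCyclic ↥(W₁ ⊔ W₂))
    (w : ↥(W₁ ⊔ W₂)) (hw : (w : G) ∉ W₂) :
    ∃ φ : ↥(W₁ ⊔ W₂) →* ℂˣ, (∀ v : ↥(W₁ ⊔ W₂), (v : G) ∈ W₂ → φ v = 1) ∧ φ w ≠ 1 := by
  classical
  have : Fintype ↥(W₁ ⊔ W₂) := Fintype.ofFinite _
  have hcommW : ∀ a b : ↥(W₁ ⊔ W₂), a * b = b * a :=
    isMulCommutative_iff.mp IsCyclic.isMulCommutative
  obtain ⟨p₁, p₂, A1, A2, A3, A4⟩ := exists_decomp W₁ W₂ hinf hcomm hcyc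
  obtain ⟨a, ha, b, hb, hab⟩ := Cfsg.Agent.S1504.mem_sup_comm W₁ W₂ hcomm w w.2
  have ha1 : (⟨a, Subgroup.mem_sup_left ha⟩ : ↥(W₁ ⊔ W₂)) ≠ 1 := by
    intro h
    have h' : a = 1 := congrArg Subtype.val h
    apply hw
    rw [hab, h', one_mul]; exact hb
  obtain ⟨ω, hω⟩ := dual_separates hcommW ha1
  refine ⟨p₁ ω, A1 ω, ?_⟩
  have hw' : w = (⟨a, Subgroup.mem_sup_left ha⟩ : ↥(W₁ ⊔ W₂)) * ⟨b, Subgroup.mem_sup_right hb⟩ :=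
    Subtype.ext hab
  rw [hw', map_mul, A1 ω ⟨b, Subgroup.mem_sup_right hb⟩ hb, mul_one]
  have h3 := DFunLike.congr_fun (A3 ω) (⟨a, Subgroup.mem_sup_left ha⟩ : ↥(W₁ ⊔ W₂))
  rw [MonoidHom.mul_apply, A2 ω _ ha, mul_one] at h3
  rw [h3]
  exact hω

end prod

end Cfsg.Agent.Helper25
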