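import Mathlib
import Cfsg.Agent.Lib.Helper25.DualProd

set_option autoImplicit false

namespace Cfsg.Agent.Helper25

open Cfsg Cfsg.Agent.Helper81

universe u

section prod2
variable {G : Type u} [Group G] [Fintype G]

/-- a linear character of `W₁ ⊔ W₂` trivial on `W₂` is determined by its values on `W₁` -/
theorem eq_of_eq_on_left (W₁ W₂ : Subgroup G) (hcomm : ∀ a ∈ W₁, ∀ b ∈ W₂, a * b = b * a)
    (φ φ' : ↥(W₁ ⊔ W₂) →* ℂˣ)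
    (hφ : ∀ w : ↥(W₁ ⊔ W₂), (w : G) ∈ W₂ → φ w = 1) (hφ' : ∀ w : ↥(W₁ ⊔ W₂), (w : G) ∈ W₂ → φ' w = 1)
    (h : ∀ w : ↥(W₁ ⊔ W₂), (w : G) ∈ W₁ → φ w = φ' w) : φ = φ' := by
  ext w
  obtain ⟨a, ha, b, hb, hab⟩ := Cfsg.Agent.S1504.mem_sup_comm W₁ W₂ hcomm w w.2
  have hw' : w = (⟨a, Subgroup.mem_sup_left ha⟩ : ↥(W₁ ⊔ W₂)) * ⟨b, Subgroup.mem_sup_right hb⟩ :=
    Subtype.ext hab
  rw [hw', map_mul, map_mul, hφ ⟨b, Subgroup.mem_sup_right hb⟩ hb,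
    hφ' ⟨b, Subgroup.mem_sup_right hb⟩ hb, h ⟨a, Subgroup.mem_sup_left ha⟩ ha]

theorem eq_of_eq_on_right (W₁ W₂ : Subgroup G) (hcomm : ∀ a ∈ W₁, ∀ b ∈ W₂, a * b = b * a)
    (ψ ψ' : ↥(W₁ ⊔ W₂) →* ℂˣ)
    (hψ : ∀ w : ↥(W₁ ⊔ W₂), (w : G) ∈ W₁ → ψ w = 1) (hψ' : ∀ w : ↥(W₁ ⊔ W₂), (w : G) ∈ W₁ → ψ' w = 1)
    (h : ∀ w : ↥(W₁ ⊔ W₂), (w : G) ∈ W₂ → ψ w = ψ' w) : ψ = ψ' := by
  ext w
  obtain ⟨a, ha, b, hb, hab⟩ := Cfsg.Agent.S1504.mem_sup_comm W₁ W₂ hcomm w w.2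
  have hw' : w = (⟨a, Subgroup.mem_sup_left ha⟩ : ↥(W₁ ⊔ W₂)) * ⟨b, Subgroup.mem_sup_right hb⟩ :=
    Subtype.ext hab
  rw [hw', map_mul, map_mul, hψ ⟨a, Subgroup.mem_sup_left ha⟩ ha,
    hψ' ⟨a, Subgroup.mem_sup_left ha⟩ ha, h ⟨b, Subgroup.mem_sup_right hb⟩ hb]

theorem card_triv_left_le (W₁ W₂ : Subgroup G) (hcomm : ∀ a ∈ W₁, ∀ b ∈ W₂, a * b = b * a)
    (hcyc : IsCyclic ↥(W₁ ⊔ W₂)) (P₁ : Finset (↥(W₁ ⊔ W₂) →* ℂˣ))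
    (hP₁ : ∀ φ, φ ∈ P₁ ↔ ∀ w : ↥(W₁ ⊔ W₂), (w : G) ∈ W₂ → φ w = 1) :
    P₁.card ≤ Nat.card W₁ := by
  classical
  have : Fintype ↥W₁ := Fintype.ofFinite _
  have : Fintype (↥W₁ →* ℂˣ) := Fintype.ofFinite _
  have hcommW : ∀ a b : ↥(W₁ ⊔ W₂), a * b = b * a :=
    isMulCommutative_iff.mp IsCyclic.isMulCommutative
  have hcomm1 : ∀ a b : ↥W₁, a * b = b * a := by
    intro a b
    have := congrArg Subtype.val (hcommW ⟨a, Subgroup.mem_sup_left a.2⟩ ⟨b, Subgroup.mem_sup_left b.2⟩)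
    simp only [Subgroup.coe_mul] at this
    apply Subtype.ext
    simp only [Subgroup.coe_mul]
    exact this
  rw [← dual_card hcomm1, Nat.card_eq_fintype_card, ← Finset.card_univ]
  apply Finset.card_le_card_of_injOn
    (fun φ : ↥(W₁ ⊔ W₂) →* ℂˣ => φ.comp (Subgroup.inclusion (le_sup_left : W₁ ≤ W₁ ⊔ W₂)))
  · intro φ _; exact Finset.mem_coe.mpr (Finset.mem_univ _)
  · intro φ hφ φ' hφ' h
    rw [Finset.mem_coe, hP₁] at hφ hφ'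
    apply eq_of_eq_on_left W₁ W₂ hcomm φ φ' hφ hφ'
    intro w hw
    have := DFunLike.congr_fun h (⟨(w : G), hw⟩ : ↥W₁)
    have e : Subgroup.inclusion (le_sup_left : W₁ ≤ W₁ ⊔ W₂) ⟨(w : G), hw⟩ = w := Subtype.ext rfl
    simp only [MonoidHom.comp_apply] at this
    rw [e] at this
    exact this

theorem card_triv_right_le (W₁ W₂ : Subgroup G) (hcomm : ∀ a ∈ W₁, ∀ b ∈ W₂, a * b = b * a)
    (hcyc : IsCyclic ↥(W₁ ⊔ W₂)) (P₂ : Finset (↥(W₁ ⊔ W₂) →* ℂˣ))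
    (hP₂ : ∀ ψ, ψ ∈ P₂ ↔ ∀ w : ↥(W₁ ⊔ W₂), (w : G) ∈ W₁ → ψ w = 1) :
    P₂.card ≤ Nat.card W₂ := by
  classical
  have : Fintype ↥W₂ := Fintype.ofFinite _
  have : Fintype (↥W₂ →* ℂˣ) := Fintype.ofFinite _
  have hcommW : ∀ a b : ↥(W₁ ⊔ W₂), a * b = b * a :=
    isMulCommutative_iff.mp IsCyclic.isMulCommutative
  have hcomm2 : ∀ a b : ↥W₂, a * b = b * a := by
    intro a b
    have := congrArg Subtype.val (hcommW ⟨a, Subgroup.mem_sup_right a.2⟩ ⟨b, Subgroup.mem_sup_right b.2⟩)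
    simp only [Subgroup.coe_mul] at this
    apply Subtype.ext
    simp only [Subgroup.coe_mul]
    exact this
  rw [← dual_card hcomm2, Nat.card_eq_fintype_card, ← Finset.card_univ]
  apply Finset.card_le_card_of_injOn
    (fun ψ : ↥(W₁ ⊔ W₂) →* ℂˣ => ψ.comp (Subgroup.inclusion (le_sup_right : W₂ ≤ W₁ ⊔ W₂)))
  · intro ψ _; exact Finset.mem_coe.mpr (Finset.mem_univ _)
  · intro ψ hψ ψ' hψ' h
    rw [Finset.mem_coe, hP₂] at hψ hψ'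
    apply eq_of_eq_on_right W₁ W₂ hcomm ψ ψ' hψ hψ'
    intro w hw
    have := DFunLike.congr_fun h (⟨(w : G), hw⟩ : ↥W₂)
    have e : Subgroup.inclusion (le_sup_right : W₂ ≤ W₁ ⊔ W₂) ⟨(w : G), hw⟩ = w := Subtype.ext rfl
    simp only [MonoidHom.comp_apply] at this
    rw [e] at this
    exact this

theorem card_triv (W₁ W₂ : Subgroup G) (hinf : W₁ ⊓ W₂ = ⊥)
    (hcomm : ∀ a ∈ W₁, ∀ b ∈ W₂, a * b = b * a)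
    (hcyc : IsCyclic ↥(W₁ ⊔ W₂)) (P₁ P₂ : Finset (↥(W₁ ⊔ W₂) →* ℂˣ))
    (hP₁ : ∀ φ, φ ∈ P₁ ↔ ∀ w : ↥(W₁ ⊔ W₂), (w : G) ∈ W₂ → φ w = 1)
    (hP₂ : ∀ ψ, ψ ∈ P₂ ↔ ∀ w : ↥(W₁ ⊔ W₂), (w : G) ∈ W₁ → ψ w = 1) :
    P₁.card = Nat.card W₁ ∧ P₂.card = Nat.card W₂ := by
  classical
  have : Fintype ↥(W₁ ⊔ W₂) := Fintype.ofFinite _
  have : Fintype (↥(W₁ ⊔ W₂) →* ℂˣ) := Fintype.ofFinite _
  have hcommW : ∀ a b : ↥(W₁ ⊔ W₂), a * b = b * a :=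
    isMulCommutative_iff.mp IsCyclic.isMulCommutative
  have h1 := card_triv_left_le W₁ W₂ hcomm hcyc P₁ hP₁
  have h2 := card_triv_right_le W₁ W₂ hcomm hcyc P₂ hP₂
  have h3 := sum_dual_prod W₁ W₂ hinf hcomm hcyc P₁ P₂ hP₁ hP₂ (fun _ => (1 : ℕ))
  simp only [Finset.sum_const, Finset.card_univ, smul_eq_mul, mul_one] at h3
  rw [← Nat.card_eq_fintype_card, dual_card hcommW, card_sup_of_comm W₁ W₂ hinf hcomm] at h3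
  have hpos1 : 0 < Nat.card W₁ := Nat.card_pos
  have hpos2 : 0 < Nat.card W₂ := Nat.card_pos
  constructor
  · by_contra hne
    have hlt : P₁.card < Nat.card W₁ := lt_of_le_of_ne h1 hne
    have : P₁.card * P₂.card < Nat.card W₁ * Nat.card W₂ :=
      Nat.mul_lt_mul_of_lt_of_le hlt h2 hpos2
    omega
  · by_contra hne
    have hlt : P₂.card < Nat.card W₂ := lt_of_le_of_ne h2 hne
    have : P₁.card * P₂.card < Nat.card W₁ * Nat.card W₂ :=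
      Nat.mul_lt_mul_of_le_of_lt h1 hlt hpos1
    omega

theorem mul_inv_triv_right_iff (W₁ W₂ : Subgroup G) (hcomm : ∀ a ∈ W₁, ∀ b ∈ W₂, a * b = b * a)
    (φ ψ ψ₁ : ↥(W₁ ⊔ W₂) →* ℂˣ)
    (hφ : ∀ w : ↥(W₁ ⊔ W₂), (w : G) ∈ W₂ → φ w = 1)
    (hψ : ∀ w : ↥(W₁ ⊔ W₂), (w : G) ∈ W₁ → ψ w = 1)
    (hψ₁ : ∀ w : ↥(W₁ ⊔ W₂), (w : G) ∈ W₁ → ψ₁ w = 1) :
    (∀ w : ↥(W₁ ⊔ W₂), (w : G) ∈ W₂ → ((φ * ψ) * ψ₁⁻¹) w = 1) ↔ ψ = ψ₁ := by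
  constructor
  · intro h
    apply eq_of_eq_on_right W₁ W₂ hcomm ψ ψ₁ hψ hψ₁
    intro w hw
    have := h w hw
    rw [MonoidHom.mul_apply, MonoidHom.mul_apply, MonoidHom.inv_apply, hφ w hw, one_mul,
      mul_inv_eq_one] at this
    exact this
  · rintro rfl w hw
    rw [MonoidHom.mul_apply, MonoidHom.mul_apply, MonoidHom.inv_apply, hφ w hw, one_mul,
      mul_inv_cancel]

theorem mul_inv_triv_left_iff (W₁ W₂ : Subgroup G) (hcomm : ∀ a ∈ W₁, ∀ b ∈ W₂, a * b = b * a)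
    (φ ψ φ₁ : ↥(W₁ ⊔ W₂) →* ℂˣ)
    (hφ : ∀ w : ↥(W₁ ⊔ W₂), (w : G) ∈ W₂ → φ w = 1)
    (hψ : ∀ w : ↥(W₁ ⊔ W₂), (w : G) ∈ W₁ → ψ w = 1)
    (hφ₁ : ∀ w : ↥(W₁ ⊔ W₂), (w : G) ∈ W₂ → φ₁ w = 1) :
    (∀ w : ↥(W₁ ⊔ W₂), (w : G) ∈ W₁ → ((φ * ψ) * φ₁⁻¹) w = 1) ↔ φ = φ₁ := by
  constructor
  · intro h
    apply eq_of_eq_on_left W₁ W₂ hcomm φ φ₁ hφ hφ₁
    intro w hw
    have := h w hw
    rw [MonoidHom.mul_apply, MonoidHom.mul_apply, MonoidHom.inv_apply, hψ w hw, mul_one,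
      mul_inv_eq_one] at this
    exact this
  · rintro rfl w hw
    rw [MonoidHom.mul_apply, MonoidHom.mul_apply, MonoidHom.inv_apply, hψ w hw, mul_one,
      mul_inv_cancel]

end prod2

end Cfsg.Agent.Helper25
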