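import Mathlib
import Cfsg.Prelude.Def_OddOrderChar
import Cfsg.Prelude.Def_OddOrderLocal
import Cfsg.Agent.Lib.Helper75.GaloisTwist
import Cfsg.Agent.Lib.Helper82.GenChar
import Cfsg.Agent.Lib.Helper25.DualProd2

set_option autoImplicit false

namespace Cfsg.Agent.Helper25

open Cfsg
open scoped ComplexConjugate

section arith

theorem exists_coprime_lift {n c : ℕ} (hn : n ≠ 0) (hc : c ∣ n) (x : ℕ) (hx : x.Coprime c) :
    ∃ k : ℕ, k.Coprime n ∧ k ≡ x [MOD c] := by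
  have : NeZero n := ⟨hn⟩
  obtain ⟨v, hv⟩ := ZMod.unitsMap_surjective hc (ZMod.unitOfCoprime x hx)
  refine ⟨(v : ZMod n).val, ZMod.val_coe_unit_coprime v, ?_⟩
  have h1 := congrArg Units.val hv
  rw [ZMod.unitsMap_val, ZMod.coe_unitOfCoprime] at h1
  rw [← ZMod.natCast_eq_natCast_iff, ← h1]
  exact ZMod.natCast_val _

theorem exists_coprime_lift_crt {n d e : ℕ} (hn : n ≠ 0) (hd : d ∣ n) (he : e ∣ n)
    (hde : d.Coprime e) (k : ℕ) (hk : k.Coprime d) :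
    ∃ k' : ℕ, k'.Coprime n ∧ k' ≡ k [MOD d] ∧ k' ≡ 1 [MOD e] := by
  obtain ⟨x₀, hx1, hx2⟩ := Nat.chineseRemainder hde k 1
  have hc1 : x₀.Coprime d := by
    have := hx1.gcd_eq
    unfold Nat.Coprime
    rw [this]
    exact hk
  have hc2 : x₀.Coprime e := by
    have := hx2.gcd_eq
    unfold Nat.Coprime
    rw [this]
    exact Nat.gcd_one_left e
  obtain ⟨k', hk'1, hk'2⟩ := exists_coprime_lift hn (hde.mul_dvd_of_dvd_of_dvd hd he) x₀
    (Nat.Coprime.mul_right hc1 hc2)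
  exact ⟨k', hk'1, (hk'2.of_mul_right e).trans hx1, (hk'2.of_mul_left d).trans hx2⟩

end arith

section signed

universe u
variable {G : Type u} [Group G] [Fintype G]

/-- Irreducible up to sign. -/
def SI (X : G → ℂ) : Prop := IsIrrCharacter G X ∨ IsIrrCharacter G (-X)

theorem si_inner_cases {X Y : G → ℂ} (hX : SI X) (hY : SI Y) :
    classInner X Y = 0 ∨ (classInner X Y = 1 ∧ X = Y) ∨ (classInner X Y = -1 ∧ X = -Y) := by
  rcases hX with hX | hX <;> rcases hY with hY | hY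
  · rw [Helper81.irr_orthonormal hX hY]
    by_cases h : X = Y
    · right; left; exact ⟨if_pos h, h⟩
    · left; exact if_neg h
  · have e : classInner X Y = -classInner X (-Y) := by
      rw [Helper82.classInner_neg_right, neg_neg]
    rw [e, Helper81.irr_orthonormal hX hY]
    by_cases h : X = -Y
    · right; right; rw [if_pos h]; exact ⟨rfl, h⟩
    · left; rw [if_neg h, neg_zero]
  · have e : classInner X Y = -classInner (-X) Y := by
      rw [Helper82.classInner_neg_left, neg_neg]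
    rw [e, Helper81.irr_orthonormal hX hY]
    by_cases h : -X = Y
    · right; right; rw [if_pos h]; exact ⟨rfl, by rw [← h, neg_neg]⟩
    · left; rw [if_neg h, neg_zero]
  · have e : classInner X Y = classInner (-X) (-Y) := by
      rw [Helper82.classInner_neg_left, Helper82.classInner_neg_right, neg_neg]
    rw [e, Helper81.irr_orthonormal hX hY]
    by_cases h : -X = -Y
    · right; left; exact ⟨if_pos h, neg_injective h⟩
    · left; exact if_neg h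

theorem si_inner_self {X : G → ℂ} (hX : SI X) : classInner X X = 1 := by
  rcases hX with hX | hX
  · rw [Helper81.irr_orthonormal hX hX, if_pos rfl]
  · have e : classInner X X = classInner (-X) (-X) := by
      rw [Helper82.classInner_neg_left, Helper82.classInner_neg_right, neg_neg]
    rw [e, Helper81.irr_orthonormal hX hX, if_pos rfl]

theorem si_orth_trans {X Y Z : G → ℂ} (hX : SI X) (hY : SI Y) (hZ : SI Z)
    (hXY : classInner X Y = 0) : classInner X Z = 0 ∨ classInner Y Z = 0 := by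
  by_contra hcon
  obtain ⟨h1, h2⟩ := not_or.mp hcon
  have hZZ := si_inner_self hZ
  have hX' : X = Z ∨ X = -Z := by
    rcases si_inner_cases hX hZ with h | h | h
    · exact absurd h h1
    · exact Or.inl h.2
    · exact Or.inr h.2
  have hY' : Y = Z ∨ Y = -Z := by
    rcases si_inner_cases hY hZ with h | h | h
    · exact absurd h h2
    · exact Or.inl h.2
    · exact Or.inr h.2
  rcases hX' with rfl | rfl <;> rcases hY' with rfl | rfl
  · rw [hZZ] at hXY; exact one_ne_zero hXY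
  · rw [Helper82.classInner_neg_right, hZZ] at hXY; norm_num at hXY
  · rw [Helper82.classInner_neg_left, hZZ] at hXY; norm_num at hXY
  · rw [Helper82.classInner_neg_left, Helper82.classInner_neg_right, hZZ] at hXY
    norm_num at hXY

theorem classInner_twist {k : ℕ} (hk : k.Coprime (Nat.card G)) (f h : G → ℂ) :
    classInner (fun g => f (g ^ k)) (fun g => h (g ^ k)) = classInner f h := by
  unfold classInner
  congr 1
  exact Equiv.sum_comp (powCoprime hk.symm) (fun g => f g * conj (h g))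

theorem si_twist {k : ℕ} (hk : k.Coprime (Nat.card G)) {X : G → ℂ} (hX : SI X) :
    SI (fun g => X (g ^ k)) := by
  rcases hX with hX | hX
  · left
    exact Helper75.galois_twist_irr ⟨X, hX⟩ k hk
  · right
    exact Helper75.galois_twist_irr ⟨-X, hX⟩ k hk

theorem indFun_twist (W : Subgroup G) (α : W → ℂ) {k : ℕ} (hk : k.Coprime (Nat.card G)) (g : G) :
    indFun W α (g ^ k) = indFun W (fun w => α (w ^ k)) g := by
  unfold indFun
  congr 1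
  apply Finset.sum_congr rfl
  intro x _
  have e : x⁻¹ * g ^ k * x = (x⁻¹ * g * x) ^ k := by
    have := conj_pow (a := x⁻¹) (b := g) (i := k)
    rw [inv_inv] at this
    exact this.symm
  rw [e]
  obtain ⟨y, hy⟩ : ∃ y : G, y = x⁻¹ * g * x := ⟨_, rfl⟩
  rw [← hy]
  by_cases hyW : y ∈ W
  · have h1 : extendByZero W (fun w => α (w ^ k)) y = α (⟨y, hyW⟩ ^ k) := by
      unfold extendByZero
      exact (Subtype.val_injective.extend_apply _ _ (⟨y, hyW⟩ : W))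
    have h2 : extendByZero W α (y ^ k) = α (⟨y, hyW⟩ ^ k) := by
      unfold extendByZero
      exact (Subtype.val_injective.extend_apply _ _ ((⟨y, hyW⟩ : W) ^ k))
    rw [h1, h2]
  · have hyk : y ^ k ∉ W := by
      intro hmem
      apply hyW
      have : y = (powCoprime hk.symm).symm (y ^ k) := by
        rw [Equiv.eq_symm_apply]; rfl
      rw [this]
      exact W.zpow_mem hmem _
    have h1 : extendByZero W (fun w => α (w ^ k)) y = 0 := by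
      unfold extendByZero
      rw [Function.extend_apply']
      · rfl
      · rintro ⟨w, hw⟩
        exact hyW (hw ▸ w.2)
    have h2 : extendByZero W α (y ^ k) = 0 := by
      unfold extendByZero
      rw [Function.extend_apply']
      · rfl
      · rintro ⟨w, hw⟩
        exact hyk (hw ▸ w.2)
    rw [h1, h2]

end signed


section five

universe u
variable {G : Type u} [Group G] [Fintype G]

/-- The combinatorial core: matching one term of two signed-orthonormal decompositions. -/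
theorem five_point {X₁ X₂ X₃ X₂' X₃' B : G → ℂ} (h1 : SI X₁) (h2 : SI X₂) (h3 : SI X₃)
    (h2' : SI X₂') (h3' : SI X₃') (hB : SI B)
    (o12 : classInner X₁ X₂ = 0) (o13 : classInner X₁ X₃ = 0)
    (o22 : classInner X₂ X₂' = 0) (o23 : classInner X₂ X₃' = 0)
    (o32 : classInner X₃ X₂' = 0) (o33 : classInner X₃ X₃' = 0)
    (hs : classInner X₁ B + classInner X₂ B - classInner X₃ B = 1)
    (hs' : classInner X₁ B + classInner X₂' B - classInner X₃' B = 1) : X₁ = B := by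
  rcases si_inner_cases h1 hB with h | h | h
  · exfalso
    rw [h, zero_add] at hs hs'
    have hA : classInner X₂ B ≠ 0 ∨ classInner X₃ B ≠ 0 := by
      by_contra hc
      obtain ⟨c2, c3⟩ := not_or.mp hc
      rw [not_not.mp c2, not_not.mp c3] at hs
      norm_num at hs
    have hA' : classInner X₂' B ≠ 0 ∨ classInner X₃' B ≠ 0 := by
      by_contra hc
      obtain ⟨c2, c3⟩ := not_or.mp hc
      rw [not_not.mp c2, not_not.mp c3] at hs'
      norm_num at hs'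
    rcases hA with hA | hA <;> rcases hA' with hA' | hA'
    · rcases si_orth_trans h2 h2' hB o22 with c | c
      · exact hA c
      · exact hA' c
    · rcases si_orth_trans h2 h3' hB o23 with c | c
      · exact hA c
      · exact hA' c
    · rcases si_orth_trans h3 h2' hB o32 with c | c
      · exact hA c
      · exact hA' c
    · rcases si_orth_trans h3 h3' hB o33 with c | c
      · exact hA c
      · exact hA' c
  · exact h.2
  · exfalso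
    have hne : classInner X₁ B ≠ 0 := by rw [h.1]; norm_num
    have c2 : classInner X₂ B = 0 := by
      rcases si_orth_trans h1 h2 hB o12 with c | c
      · exact absurd c hne
      · exact c
    have c3 : classInner X₃ B = 0 := by
      rcases si_orth_trans h1 h3 hB o13 with c | c
      · exact absurd c hne
      · exact c
    rw [h.1, c2, c3] at hs
    norm_num at hs

/-- Inner products of the two sides of a four-term identity. -/
theorem four_term_inner {A₁ A₂ A₃ B₁ B₂ B₃ C : G → ℂ}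
    (hid : ∀ g, 1 - A₁ g - A₂ g + A₃ g = 1 - B₁ g - B₂ g + B₃ g) :
    classInner A₁ C + classInner A₂ C - classInner A₃ C =
      classInner B₁ C + classInner B₂ C - classInner B₃ C := by
  have h : A₁ + A₂ - A₃ = B₁ + B₂ - B₃ := by
    funext g
    have := hid g
    simp only [Pi.add_apply, Pi.sub_apply]
    linear_combination -this
  have h' : classInner (A₁ + A₂ - A₃) C = classInner (B₁ + B₂ - B₃) C := by rw [h]
  rw [Helper81.classInner_sub_left, Helper81.classInner_add_left, Helper81.classInner_sub_left,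
    Helper81.classInner_add_left] at h'
  exact h'

end five

section family

universe u
variable {G : Type u} [Group G] [Fintype G] {W₁ W₂ : Subgroup G}

omit [Fintype G] in
theorem hom_pow_card [Finite G] (ω : ↥(W₁ ⊔ W₂) →* ℂˣ) : ω ^ Nat.card ↥(W₁ ⊔ W₂) = 1 := by
  ext w
  rw [MonoidHom.pow_apply, ← map_pow, pow_card_eq_one', map_one]
  rfl

omit [Fintype G] in
theorem hom_orderOf_dvd [Finite G] (ω : ↥(W₁ ⊔ W₂) →* ℂˣ) : orderOf ω ∣ Nat.card G :=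
  (orderOf_dvd_of_pow_eq_one (hom_pow_card ω)).trans (Subgroup.card_subgroup_dvd_card _)

theorem hom_pow_ne_one {k : ℕ} (hk : k.Coprime (Nat.card G)) {ω : ↥(W₁ ⊔ W₂) →* ℂˣ}
    (hω : ω ≠ 1) : ω ^ k ≠ 1 := by
  intro h
  apply hω
  have h1 : orderOf ω ∣ k := orderOf_dvd_of_pow_eq_one h
  have h2 : orderOf ω ∣ Nat.card G :=
    (orderOf_dvd_of_pow_eq_one (hom_pow_card ω)).trans (Subgroup.card_subgroup_dvd_card _)
  have h3 : orderOf ω ∣ 1 := by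
    have := Nat.dvd_gcd h1 h2
    rwa [hk] at this
  exact orderOf_eq_one_iff.mp (Nat.dvd_one.mp h3)

omit [Fintype G] in
theorem hom_sq_ne_one [Finite G] (hodd : Odd (Nat.card ↥(W₁ ⊔ W₂))) {ψ : ↥(W₁ ⊔ W₂) →* ℂˣ}
    (hψ : ψ ≠ 1) : ψ * ψ ≠ 1 := by
  intro h
  apply hψ
  obtain ⟨m, hm⟩ := hodd
  have h1 := hom_pow_card ψ
  rw [hm, pow_succ ψ (2 * m), pow_mul ψ 2 m, pow_two ψ, h,
    one_pow (M := ↥(W₁ ⊔ W₂) →* ℂˣ) m, one_mul ψ] at h1
  exact h1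

theorem pair_ne (hcomm : ∀ a ∈ W₁, ∀ b ∈ W₂, a * b = b * a) {φ₁ φ₂ ψ₁ ψ₂ : ↥(W₁ ⊔ W₂) →* ℂˣ}
    (hφ₁ : ∀ w : ↥(W₁ ⊔ W₂), (w : G) ∈ W₂ → φ₁ w = 1)
    (hφ₂ : ∀ w : ↥(W₁ ⊔ W₂), (w : G) ∈ W₂ → φ₂ w = 1)
    (hψ₁ : ∀ w : ↥(W₁ ⊔ W₂), (w : G) ∈ W₁ → ψ₁ w = 1)
    (hψ₂ : ∀ w : ↥(W₁ ⊔ W₂), (w : G) ∈ W₁ → ψ₂ w = 1)
    (h : φ₁ ≠ φ₂ ∨ ψ₁ ≠ ψ₂) : φ₁ * ψ₁ ≠ φ₂ * ψ₂ := by
  intro heq
  rcases h with h | h
  · apply h
    apply eq_of_eq_on_left W₁ W₂ hcomm φ₁ φ₂ hφ₁ hφ₂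
    intro w hw
    have := DFunLike.congr_fun heq w
    rw [MonoidHom.mul_apply, MonoidHom.mul_apply, hψ₁ w hw, hψ₂ w hw, mul_one, mul_one] at this
    exact this
  · apply h
    apply eq_of_eq_on_right W₁ W₂ hcomm ψ₁ ψ₂ hψ₁ hψ₂
    intro w hw
    have := DFunLike.congr_fun heq w
    rw [MonoidHom.mul_apply, MonoidHom.mul_apply, hφ₁ w hw, hφ₂ w hw, one_mul, one_mul] at this
    exact this

/-- Galois equivariance of a cyclic TI family. -/
theorem family_twist (hW : IsSelfNormalizingCyclic W₁ W₂) (hodd : Odd (Nat.card ↥(W₁ ⊔ W₂)))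
    {χ : (↥(W₁ ⊔ W₂) →* ℂˣ) → (G → ℂ)} (hχ : IsCyclicTIFamily W₁ W₂ χ) {k : ℕ}
    (hk : k.Coprime (Nat.card G)) (ω : ↥(W₁ ⊔ W₂) →* ℂˣ) :
    (fun g => χ ω (g ^ k)) = χ (ω ^ k) := by
  classical
  obtain ⟨hW₁ne, hW₂ne, hinf, hcomm, hcyc, -⟩ := hW
  have hSI : ∀ ω, SI (χ ω) := hχ.irr_or_neg
  have hTSI : ∀ ω, SI (fun g => χ ω (g ^ k)) := fun ω => si_twist hk (hSI ω)
  have hTorth : ∀ ω ω', ω ≠ ω' →
      classInner (fun g => χ ω (g ^ k)) (fun g => χ ω' (g ^ k)) = 0 := by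
    intro ω ω' hne
    rw [classInner_twist hk, hχ.orthonormal, if_neg hne]
  have htrivpow₂ : ∀ φ : ↥(W₁ ⊔ W₂) →* ℂˣ, (∀ w : ↥(W₁ ⊔ W₂), (w : G) ∈ W₂ → φ w = 1) →
      ∀ w : ↥(W₁ ⊔ W₂), (w : G) ∈ W₂ → (φ ^ k) w = 1 := by
    intro φ hφ w hw
    rw [MonoidHom.pow_apply, hφ w hw, one_pow]
  have htrivpow₁ : ∀ ψ : ↥(W₁ ⊔ W₂) →* ℂˣ, (∀ w : ↥(W₁ ⊔ W₂), (w : G) ∈ W₁ → ψ w = 1) →
      ∀ w : ↥(W₁ ⊔ W₂), (w : G) ∈ W₁ → (ψ ^ k) w = 1 := by
    intro ψ hψ w hw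
    rw [MonoidHom.pow_apply, hψ w hw, one_pow]
  have hone₂ : ∀ w : ↥(W₁ ⊔ W₂), (w : G) ∈ W₂ → (1 : ↥(W₁ ⊔ W₂) →* ℂˣ) w = 1 := fun _ _ => rfl
  have hone₁ : ∀ w : ↥(W₁ ⊔ W₂), (w : G) ∈ W₁ → (1 : ↥(W₁ ⊔ W₂) →* ℂˣ) w = 1 := fun _ _ => rfl
  -- the twisted identity
  have hid : ∀ φ ψ : ↥(W₁ ⊔ W₂) →* ℂˣ, φ ≠ 1 → ψ ≠ 1 →
      (∀ w : ↥(W₁ ⊔ W₂), (w : G) ∈ W₂ → φ w = 1) → (∀ w : ↥(W₁ ⊔ W₂), (w : G) ∈ W₁ → ψ w = 1) →
      ∀ g, 1 - χ φ (g ^ k) - χ ψ (g ^ k) + χ (φ * ψ) (g ^ k) =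
        1 - χ (φ ^ k) g - χ (ψ ^ k) g + χ (φ ^ k * ψ ^ k) g := by
    intro φ ψ hφ hψ hφ₂ hψ₁ g
    have e1 : indFun (W₁ ⊔ W₂) (fun w => 1 - (φ w : ℂ) - (ψ w : ℂ) + (φ w : ℂ) * (ψ w : ℂ)) (g ^ k)
        = 1 - χ φ (g ^ k) - χ ψ (g ^ k) + χ (φ * ψ) (g ^ k) :=
      congrFun (hχ.induced_eq φ ψ hφ hψ hφ₂ hψ₁) (g ^ k)
    have e2 : indFun (W₁ ⊔ W₂) (fun w => 1 - ((φ ^ k) w : ℂ) - ((ψ ^ k) w : ℂ) +
        ((φ ^ k) w : ℂ) * ((ψ ^ k) w : ℂ)) g
        = 1 - χ (φ ^ k) g - χ (ψ ^ k) g + χ (φ ^ k * ψ ^ k) g :=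
      congrFun (hχ.induced_eq (φ ^ k) (ψ ^ k) (hom_pow_ne_one hk hφ) (hom_pow_ne_one hk hψ)
        (htrivpow₂ φ hφ₂) (htrivpow₁ ψ hψ₁)) g
    rw [← e1, ← e2, indFun_twist _ _ hk]
    congr 1
    funext w
    simp only [map_pow, MonoidHom.pow_apply, Units.val_pow_eq_pow_val]
  -- existence of nontrivial characters on each side
  have hexψ : ∃ ψ : ↥(W₁ ⊔ W₂) →* ℂˣ, ψ ≠ 1 ∧ ∀ w : ↥(W₁ ⊔ W₂), (w : G) ∈ W₁ → ψ w = 1 := by
    obtain ⟨b, hb, hb1⟩ : ∃ b : G, b ∈ W₂ ∧ b ≠ 1 := by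
      obtain ⟨b, hb1⟩ := (Subgroup.ne_bot_iff_exists_ne_one (H := W₂)).mp hW₂ne
      exact ⟨(b : G), b.2, fun h => hb1 (Subtype.ext h)⟩
    have hbW₁ : b ∉ W₁ := by
      intro h
      have : b ∈ W₁ ⊓ W₂ := Subgroup.mem_inf.mpr ⟨h, hb⟩
      rw [hinf, Subgroup.mem_bot] at this
      exact hb1 this
    obtain ⟨ψ, hψ₁, hψw⟩ := exists_ne_one_right W₁ W₂ hinf hcomm hcyc
      ⟨b, Subgroup.mem_sup_right hb⟩ hbW₁
    refine ⟨ψ, ?_, hψ₁⟩
    intro h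
    rw [h] at hψw
    exact hψw rfl
  have hexφ : ∃ φ : ↥(W₁ ⊔ W₂) →* ℂˣ, φ ≠ 1 ∧ ∀ w : ↥(W₁ ⊔ W₂), (w : G) ∈ W₂ → φ w = 1 := by
    obtain ⟨a, ha, ha1⟩ : ∃ a : G, a ∈ W₁ ∧ a ≠ 1 := by
      obtain ⟨b, hb1⟩ := (Subgroup.ne_bot_iff_exists_ne_one (H := W₁)).mp hW₁ne
      exact ⟨(b : G), b.2, fun h => hb1 (Subtype.ext h)⟩
    have haW₂ : a ∉ W₂ := by
      intro h
      have : a ∈ W₁ ⊓ W₂ := Subgroup.mem_inf.mpr ⟨ha, h⟩
      rw [hinf, Subgroup.mem_bot] at this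
      exact ha1 this
    obtain ⟨φ, hφ₂, hφw⟩ := exists_ne_one_left W₁ W₂ hinf hcomm hcyc
      ⟨a, Subgroup.mem_sup_left ha⟩ haW₂
    refine ⟨φ, ?_, hφ₂⟩
    intro h
    rw [h] at hφw
    exact hφw rfl
  -- left factor
  have hleft : ∀ φ : ↥(W₁ ⊔ W₂) →* ℂˣ, φ ≠ 1 → (∀ w : ↥(W₁ ⊔ W₂), (w : G) ∈ W₂ → φ w = 1) →
      (fun g => χ φ (g ^ k)) = χ (φ ^ k) := by
    intro φ hφ hφ₂
    obtain ⟨ψ, hψ, hψ₁⟩ := hexψ
    have hψ' : ψ * ψ ≠ 1 := hom_sq_ne_one hodd hψ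
    have hψ'₁ : ∀ w : ↥(W₁ ⊔ W₂), (w : G) ∈ W₁ → (ψ * ψ) w = 1 := by
      intro w hw
      rw [MonoidHom.mul_apply, hψ₁ w hw, one_mul]
    have hψψ' : ψ ≠ ψ * ψ := by
      intro h
      apply hψ
      have : ψ * 1 = ψ * ψ := by rw [mul_one ψ]; exact h
      exact (mul_left_cancel this).symm
    have n12 : φ ≠ ψ := by
      have := pair_ne hcomm hφ₂ hone₂ hone₁ hψ₁ (Or.inl hφ)
      rwa [mul_one φ, one_mul ψ] at this
    have n13 : φ ≠ φ * ψ := by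
      have := pair_ne hcomm hφ₂ hφ₂ hone₁ hψ₁ (Or.inr hψ.symm)
      rwa [mul_one φ] at this
    have n22 : ψ ≠ ψ * ψ := hψψ'
    have n23 : ψ ≠ φ * (ψ * ψ) := by
      have := pair_ne hcomm hone₂ hφ₂ hψ₁ hψ'₁ (Or.inl hφ.symm)
      rwa [one_mul ψ] at this
    have n32 : φ * ψ ≠ ψ * ψ := by
      have := pair_ne hcomm hφ₂ hone₂ hψ₁ hψ'₁ (Or.inl hφ)
      rwa [one_mul (ψ * ψ)] at this
    have n33 : φ * ψ ≠ φ * (ψ * ψ) :=
      pair_ne hcomm hφ₂ hφ₂ hψ₁ hψ'₁ (Or.inr hψψ')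
    have b12 : φ ^ k ≠ ψ ^ k := by
      have := pair_ne hcomm (htrivpow₂ φ hφ₂) hone₂ hone₁ (htrivpow₁ ψ hψ₁)
        (Or.inl (hom_pow_ne_one hk hφ))
      rwa [mul_one (φ ^ k), one_mul (ψ ^ k)] at this
    have b13 : φ ^ k ≠ φ ^ k * ψ ^ k := by
      have := pair_ne hcomm (htrivpow₂ φ hφ₂) (htrivpow₂ φ hφ₂) hone₁ (htrivpow₁ ψ hψ₁)
        (Or.inr (hom_pow_ne_one hk hψ).symm)
      rwa [mul_one (φ ^ k)] at this
    have b12' : φ ^ k ≠ (ψ * ψ) ^ k := by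
      have := pair_ne hcomm (htrivpow₂ φ hφ₂) hone₂ hone₁ (htrivpow₁ (ψ * ψ) hψ'₁)
        (Or.inl (hom_pow_ne_one hk hφ))
      rwa [mul_one (φ ^ k), one_mul ((ψ * ψ) ^ k)] at this
    have b13' : φ ^ k ≠ φ ^ k * (ψ * ψ) ^ k := by
      have := pair_ne hcomm (htrivpow₂ φ hφ₂) (htrivpow₂ φ hφ₂) hone₁ (htrivpow₁ (ψ * ψ) hψ'₁)
        (Or.inr (hom_pow_ne_one hk hψ').symm)
      rwa [mul_one (φ ^ k)] at this
    have hs := four_term_inner (C := χ (φ ^ k)) (hid φ ψ hφ hψ hφ₂ hψ₁)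
    have hs' := four_term_inner (C := χ (φ ^ k)) (hid φ (ψ * ψ) hφ hψ' hφ₂ hψ'₁)
    rw [hχ.orthonormal, hχ.orthonormal, hχ.orthonormal, if_pos rfl, if_neg b12.symm,
      if_neg b13.symm] at hs
    rw [hχ.orthonormal, hχ.orthonormal, hχ.orthonormal, if_pos rfl, if_neg b12'.symm,
      if_neg b13'.symm] at hs'
    norm_num at hs hs'
    exact five_point (hTSI φ) (hTSI ψ) (hTSI (φ * ψ)) (hTSI (ψ * ψ)) (hTSI (φ * (ψ * ψ)))
      (hSI (φ ^ k)) (hTorth _ _ n12) (hTorth _ _ n13) (hTorth _ _ n22) (hTorth _ _ n23)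
      (hTorth _ _ n32) (hTorth _ _ n33) hs hs'
  -- right factor
  have hright : ∀ ψ : ↥(W₁ ⊔ W₂) →* ℂˣ, ψ ≠ 1 → (∀ w : ↥(W₁ ⊔ W₂), (w : G) ∈ W₁ → ψ w = 1) →
      (fun g => χ ψ (g ^ k)) = χ (ψ ^ k) := by
    intro ψ hψ hψ₁
    obtain ⟨φ, hφ, hφ₂⟩ := hexφ
    have hφ' : φ * φ ≠ 1 := hom_sq_ne_one hodd hφ
    have hφ'₂ : ∀ w : ↥(W₁ ⊔ W₂), (w : G) ∈ W₂ → (φ * φ) w = 1 := by
      intro w hw
      rw [MonoidHom.mul_apply, hφ₂ w hw, one_mul]
    have hφφ' : φ ≠ φ * φ := by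
      intro h
      apply hφ
      have : φ * 1 = φ * φ := by rw [mul_one φ]; exact h
      exact (mul_left_cancel this).symm
    have n12 : ψ ≠ φ := by
      have := pair_ne hcomm hone₂ hφ₂ hψ₁ hone₁ (Or.inl hφ.symm)
      rwa [one_mul ψ, mul_one φ] at this
    have n13 : ψ ≠ φ * ψ := by
      have := pair_ne hcomm hone₂ hφ₂ hψ₁ hψ₁ (Or.inl hφ.symm)
      rwa [one_mul ψ] at this
    have n22 : φ ≠ φ * φ := hφφ'
    have n23 : φ ≠ (φ * φ) * ψ := by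
      have := pair_ne hcomm hφ₂ hφ'₂ hone₁ hψ₁ (Or.inr hψ.symm)
      rwa [mul_one φ] at this
    have n32 : φ * ψ ≠ φ * φ := by
      have := pair_ne hcomm hφ₂ hφ'₂ hψ₁ hone₁ (Or.inr hψ)
      rwa [mul_one (φ * φ)] at this
    have n33 : φ * ψ ≠ (φ * φ) * ψ :=
      pair_ne hcomm hφ₂ hφ'₂ hψ₁ hψ₁ (Or.inl hφφ')
    have b12 : ψ ^ k ≠ φ ^ k := by
      have := pair_ne hcomm hone₂ (htrivpow₂ φ hφ₂) (htrivpow₁ ψ hψ₁) hone₁
        (Or.inl (hom_pow_ne_one hk hφ).symm)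
      rwa [one_mul (ψ ^ k), mul_one (φ ^ k)] at this
    have b13 : ψ ^ k ≠ φ ^ k * ψ ^ k := by
      have := pair_ne hcomm hone₂ (htrivpow₂ φ hφ₂) (htrivpow₁ ψ hψ₁) (htrivpow₁ ψ hψ₁)
        (Or.inl (hom_pow_ne_one hk hφ).symm)
      rwa [one_mul (ψ ^ k)] at this
    have b12' : ψ ^ k ≠ (φ * φ) ^ k := by
      have := pair_ne hcomm hone₂ (htrivpow₂ (φ * φ) hφ'₂) (htrivpow₁ ψ hψ₁) hone₁
        (Or.inl (hom_pow_ne_one hk hφ').symm)
      rwa [one_mul (ψ ^ k), mul_one ((φ * φ) ^ k)] at this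
    have b13' : ψ ^ k ≠ (φ * φ) ^ k * ψ ^ k := by
      have := pair_ne hcomm hone₂ (htrivpow₂ (φ * φ) hφ'₂) (htrivpow₁ ψ hψ₁) (htrivpow₁ ψ hψ₁)
        (Or.inl (hom_pow_ne_one hk hφ').symm)
      rwa [one_mul (ψ ^ k)] at this
    have hs := four_term_inner (C := χ (ψ ^ k)) (hid φ ψ hφ hψ hφ₂ hψ₁)
    have hs' := four_term_inner (C := χ (ψ ^ k)) (hid (φ * φ) ψ hφ' hψ hφ'₂ hψ₁)
    rw [hχ.orthonormal, hχ.orthonormal, hχ.orthonormal, if_pos rfl, if_neg b12.symm,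
      if_neg b13.symm] at hs
    rw [hχ.orthonormal, hχ.orthonormal, hχ.orthonormal, if_pos rfl, if_neg b12'.symm,
      if_neg b13'.symm] at hs'
    norm_num at hs hs'
    have hs2 : classInner (fun g => χ ψ (g ^ k)) (χ (ψ ^ k)) +
        classInner (fun g => χ φ (g ^ k)) (χ (ψ ^ k)) -
        classInner (fun g => χ (φ * ψ) (g ^ k)) (χ (ψ ^ k)) = 1 := by
      rw [← hs]; ring
    have hs2' : classInner (fun g => χ ψ (g ^ k)) (χ (ψ ^ k)) +
        classInner (fun g => χ (φ * φ) (g ^ k)) (χ (ψ ^ k)) -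
        classInner (fun g => χ ((φ * φ) * ψ) (g ^ k)) (χ (ψ ^ k)) = 1 := by
      rw [← hs']; ring
    exact five_point (hTSI ψ) (hTSI φ) (hTSI (φ * ψ)) (hTSI (φ * φ)) (hTSI ((φ * φ) * ψ))
      (hSI (ψ ^ k)) (hTorth _ _ n12) (hTorth _ _ n13) (hTorth _ _ n22) (hTorth _ _ n23)
      (hTorth _ _ n32) (hTorth _ _ n33) hs2 hs2'
  -- general ω
  obtain ⟨p₁, p₂, hp₁, hp₂, hp, -⟩ := exists_decomp W₁ W₂ hinf hcomm hcyc
  by_cases h1 : p₁ ω = 1
  · by_cases h2 : p₂ ω = 1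
    · have hω1 : ω = 1 := by
        calc ω = p₁ ω * p₂ ω := (hp ω).symm
          _ = 1 := by rw [h1, h2]; exact mul_one (1 : ↥(W₁ ⊔ W₂) →* ℂˣ)
      rw [hω1, one_pow (M := ↥(W₁ ⊔ W₂) →* ℂˣ) k, hχ.map_one]
    · have hω2 : ω = p₂ ω := by
        calc ω = p₁ ω * p₂ ω := (hp ω).symm
          _ = p₂ ω := by rw [h1]; exact one_mul (p₂ ω)
      have := hright _ h2 (hp₂ ω)
      rw [← hω2] at this
      exact this
  · by_cases h2 : p₂ ω = 1
    · have hω2 : ω = p₁ ω := by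
        calc ω = p₁ ω * p₂ ω := (hp ω).symm
          _ = p₁ ω := by rw [h2]; exact mul_one (p₁ ω)
      have := hleft _ h1 (hp₁ ω)
      rw [← hω2] at this
      exact this
    · have hωk : ω ^ k = p₁ ω ^ k * p₂ ω ^ k := by
        rw [← mul_pow (p₁ ω) (p₂ ω) k, hp ω]
      funext g
      have e := hid (p₁ ω) (p₂ ω) h1 h2 (hp₁ ω) (hp₂ ω) g
      have e1 : χ (p₁ ω) (g ^ k) = χ (p₁ ω ^ k) g := congrFun (hleft _ h1 (hp₁ ω)) g
      have e2 : χ (p₂ ω) (g ^ k) = χ (p₂ ω ^ k) g := congrFun (hright _ h2 (hp₂ ω)) g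
      rw [e1, e2, hp ω, ← hωk] at e
      show χ ω (g ^ k) = χ (ω ^ k) g
      linear_combination e

end family

end Cfsg.Agent.Helper25
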