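import Mathlib
import Cfsg.Prelude.Def_OddOrderChar
import Cfsg.Prelude.Def_OddOrderLocal
import Cfsg.Agent.Lib.Helper25.DualProd
import Cfsg.Agent.Lib.Helper25.CyclicTwist

set_option autoImplicit false

namespace Cfsg.Agent.Helper25.CycPlug

open Cfsg
open scoped ComplexConjugate

universe u
variable {G : Type u} [Group G] [Fintype G]

/-- A function on `W` orthogonal to all `(1 - φ)(1 - ψ)` vanishes outside `W₁ ∪ W₂`. -/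
theorem vanish_of_orth_alpha (W₁ W₂ : Subgroup G) (hW : IsSelfNormalizingCyclic W₁ W₂)
    [Fintype ↥(W₁ ⊔ W₂)]
    (f : ↥(W₁ ⊔ W₂) → ℂ)
    (horth : ∀ φ ψ : ↥(W₁ ⊔ W₂) →* ℂˣ, φ ≠ 1 → ψ ≠ 1 →
      (∀ v : ↥(W₁ ⊔ W₂), (v : G) ∈ W₂ → φ v = 1) →
      (∀ v : ↥(W₁ ⊔ W₂), (v : G) ∈ W₁ → ψ v = 1) →
      classInner (Helper25.alphaFun W₁ W₂ φ ψ) f = 0)
    (w : ↥(W₁ ⊔ W₂)) (hw₁ : (w : G) ∉ W₁) (hw₂ : (w : G) ∉ W₂) : f w = 0 := by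
  classical
  have hinf := hW.2.2.1
  have hcomm := hW.2.2.2.1
  have hcyc : IsCyclic ↥(W₁ ⊔ W₂) := hW.2.2.2.2.1
  have hcommW : ∀ a b : ↥(W₁ ⊔ W₂), a * b = b * a :=
    isMulCommutative_iff.mp IsCyclic.isMulCommutative
  have : Fintype (↥(W₁ ⊔ W₂) →* ℂˣ) := Fintype.ofFinite _
  obtain ⟨c, hc⟩ : ∃ c : (↥(W₁ ⊔ W₂) →* ℂˣ) → ℂ, c = fun ω => classInner f (Helper25.cf ω) :=
    ⟨_, rfl⟩
  -- rectangle identity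
  have hrect : ∀ φ ψ : ↥(W₁ ⊔ W₂) →* ℂˣ, (∀ v : ↥(W₁ ⊔ W₂), (v : G) ∈ W₂ → φ v = 1) →
      (∀ v : ↥(W₁ ⊔ W₂), (v : G) ∈ W₁ → ψ v = 1) → c (φ * ψ) = c φ + c ψ - c 1 := by
    intro φ ψ hφ hψ
    by_cases hφ1 : φ = 1
    · subst hφ1
      have e : (1 : ↥(W₁ ⊔ W₂) →* ℂˣ) * ψ = ψ := one_mul ψ
      rw [e]; ring
    by_cases hψ1 : ψ = 1
    · subst hψ1
      have e : φ * (1 : ↥(W₁ ⊔ W₂) →* ℂˣ) = φ := mul_one φ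
      rw [e]; ring
    have h4 : classInner (Helper25.alphaFun W₁ W₂ φ ψ) f = 0 := horth φ ψ hφ1 hψ1 hφ hψ
    rw [Helper81.classInner_conj_symm, Helper25.alphaFun_eq_cf, Helper81.classInner_add_right,
      Helper25.classInner_sub_right, Helper25.classInner_sub_right] at h4
    have h5 := (map_eq_zero (starRingEnd ℂ)).mp h4
    rw [hc]
    show classInner f (Helper25.cf (φ * ψ)) = classInner f (Helper25.cf φ)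
      + classInner f (Helper25.cf ψ) - classInner f (Helper25.cf 1)
    linear_combination h5
  -- the two subgroups of the dual
  obtain ⟨P₁, hP₁⟩ : ∃ P₁ : Finset (↥(W₁ ⊔ W₂) →* ℂˣ),
      ∀ φ, φ ∈ P₁ ↔ ∀ v : ↥(W₁ ⊔ W₂), (v : G) ∈ W₂ → φ v = 1 :=
    ⟨Finset.univ.filter (fun φ => ∀ v : ↥(W₁ ⊔ W₂), (v : G) ∈ W₂ → φ v = 1), by simp⟩
  obtain ⟨P₂, hP₂⟩ : ∃ P₂ : Finset (↥(W₁ ⊔ W₂) →* ℂˣ),
      ∀ ψ, ψ ∈ P₂ ↔ ∀ v : ↥(W₁ ⊔ W₂), (v : G) ∈ W₁ → ψ v = 1 :=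
    ⟨Finset.univ.filter (fun ψ => ∀ v : ↥(W₁ ⊔ W₂), (v : G) ∈ W₁ → ψ v = 1), by simp⟩
  have hS₁ : ∑ φ ∈ P₁, ((φ w : ℂˣ) : ℂ) = 0 := by
    apply Helper25.sum_triv_eq_zero {v : ↥(W₁ ⊔ W₂) | (v : G) ∈ W₂} P₁ hP₁ w
    obtain ⟨φ, h1, h2⟩ := Helper25.exists_ne_one_left W₁ W₂ hinf hcomm hcyc w hw₂
    exact ⟨φ, (hP₁ φ).mpr h1, h2⟩
  have hS₂ : ∑ ψ ∈ P₂, ((ψ w : ℂˣ) : ℂ) = 0 := by
    apply Helper25.sum_triv_eq_zero {v : ↥(W₁ ⊔ W₂) | (v : G) ∈ W₁} P₂ hP₂ w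
    obtain ⟨ψ, h1, h2⟩ := Helper25.exists_ne_one_right W₁ W₂ hinf hcomm hcyc w hw₁
    exact ⟨ψ, (hP₂ ψ).mpr h1, h2⟩
  rw [Helper25.dual_complete hcommW f w,
    Helper25.sum_dual_prod W₁ W₂ hinf hcomm hcyc P₁ P₂ hP₁ hP₂]
  have h6 : ∀ φ ∈ P₁, ∑ ψ ∈ P₂, classInner f (Helper25.cf (φ * ψ)) * (((φ * ψ) w : ℂˣ) : ℂ)
      = (c φ - c 1) * ((φ w : ℂˣ) : ℂ) * ∑ ψ ∈ P₂, ((ψ w : ℂˣ) : ℂ)
        + ((φ w : ℂˣ) : ℂ) * ∑ ψ ∈ P₂, c ψ * ((ψ w : ℂˣ) : ℂ) := by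
    intro φ hφ
    rw [Finset.mul_sum, Finset.mul_sum, ← Finset.sum_add_distrib]
    apply Finset.sum_congr rfl
    intro ψ hψ
    have := hrect φ ψ ((hP₁ φ).mp hφ) ((hP₂ ψ).mp hψ)
    rw [hc] at this
    simp only at this
    rw [this, MonoidHom.mul_apply, Units.val_mul, hc]
    ring
  rw [Finset.sum_congr rfl h6, hS₂]
  simp only [mul_zero, zero_add]
  rw [← Finset.sum_mul, hS₁, zero_mul]

omit [Fintype G] in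
theorem si_classFunction {X : G → ℂ} (hX : Helper25.SI X) : IsClassFunction G X := by
  rcases hX with hX | hX
  · exact Helper81.isClassFunction_of_isCharacter (Helper81.IsIrrCharacter.isCharacter hX)
  · have h := Helper81.isClassFunction_of_isCharacter (Helper81.IsIrrCharacter.isCharacter hX)
    intro g h'
    have := h g h'
    simp only [Pi.neg_apply, neg_inj] at this
    exact this

open Classical in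
/-- A "pre-family" indexed by pairs gives a cyclic TI family. -/
theorem family_of_E (W₁ W₂ : Subgroup G) (hW : IsSelfNormalizingCyclic W₁ W₂)
    (E : (↥(W₁ ⊔ W₂) →* ℂˣ) → (↥(W₁ ⊔ W₂) →* ℂˣ) → (G → ℂ))
    (hSI : ∀ φ ψ : ↥(W₁ ⊔ W₂) →* ℂˣ, (∀ v : ↥(W₁ ⊔ W₂), (v : G) ∈ W₂ → φ v = 1) →
      (∀ v : ↥(W₁ ⊔ W₂), (v : G) ∈ W₁ → ψ v = 1) → Helper25.SI (E φ ψ))
    (hon : ∀ φ ψ φ' ψ' : ↥(W₁ ⊔ W₂) →* ℂˣ, (∀ v : ↥(W₁ ⊔ W₂), (v : G) ∈ W₂ → φ v = 1) →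
      (∀ v : ↥(W₁ ⊔ W₂), (v : G) ∈ W₁ → ψ v = 1) →
      (∀ v : ↥(W₁ ⊔ W₂), (v : G) ∈ W₂ → φ' v = 1) →
      (∀ v : ↥(W₁ ⊔ W₂), (v : G) ∈ W₁ → ψ' v = 1) →
      classInner (E φ ψ) (E φ' ψ') = if φ = φ' ∧ ψ = ψ' then 1 else 0)
    (h11 : E 1 1 = fun _ => 1)
    (hind : ∀ φ ψ : ↥(W₁ ⊔ W₂) →* ℂˣ, φ ≠ 1 → ψ ≠ 1 →
      (∀ v : ↥(W₁ ⊔ W₂), (v : G) ∈ W₂ → φ v = 1) →
      (∀ v : ↥(W₁ ⊔ W₂), (v : G) ∈ W₁ → ψ v = 1) →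
      indFun (W₁ ⊔ W₂) (Helper25.alphaFun W₁ W₂ φ ψ) = E 1 1 - E φ 1 - E 1 ψ + E φ ψ) :
    ∃ χ : (↥(W₁ ⊔ W₂) →* ℂˣ) → (G → ℂ), IsCyclicTIFamily W₁ W₂ χ := by
  classical
  have hinf := hW.2.2.1
  have hcomm := hW.2.2.2.1
  have hcyc : IsCyclic ↥(W₁ ⊔ W₂) := hW.2.2.2.2.1
  have : Fintype ↥(W₁ ⊔ W₂) := Fintype.ofFinite _
  obtain ⟨p₁, p₂, A1, A2, A3, A4⟩ := Helper25.exists_decomp W₁ W₂ hinf hcomm hcyc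
  have one2 : ∀ v : ↥(W₁ ⊔ W₂), (v : G) ∈ W₂ → (1 : ↥(W₁ ⊔ W₂) →* ℂˣ) v = 1 := fun _ _ => rfl
  have one1 : ∀ v : ↥(W₁ ⊔ W₂), (v : G) ∈ W₁ → (1 : ↥(W₁ ⊔ W₂) →* ℂˣ) v = 1 := fun _ _ => rfl
  have hp1 : ∀ φ : ↥(W₁ ⊔ W₂) →* ℂˣ, (∀ v : ↥(W₁ ⊔ W₂), (v : G) ∈ W₂ → φ v = 1) →
      p₁ φ = φ ∧ p₂ φ = 1 := by
    intro φ hφ
    have := A4 φ 1 hφ one1
    rwa [mul_one φ] at this
  have hp2 : ∀ ψ : ↥(W₁ ⊔ W₂) →* ℂˣ, (∀ v : ↥(W₁ ⊔ W₂), (v : G) ∈ W₁ → ψ v = 1) →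
      p₁ ψ = 1 ∧ p₂ ψ = ψ := by
    intro ψ hψ
    have := A4 1 ψ one2 hψ
    rwa [one_mul ψ] at this
  have hpp := hp1 1 one2
  have key : ∀ (ω φ ψ : ↥(W₁ ⊔ W₂) →* ℂˣ), (∀ v : ↥(W₁ ⊔ W₂), (v : G) ∈ W₂ → φ v = 1) →
      (∀ v : ↥(W₁ ⊔ W₂), (v : G) ∈ W₁ → ψ v = 1) →
      ((φ = p₁ ω ∧ ψ = p₂ ω) ↔ φ * ψ = ω) := by
    intro ω φ ψ hφ hψ
    constructor
    · rintro ⟨h1, h2⟩
      rw [h1, h2, A3]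
    · intro h
      have := A4 φ ψ hφ hψ
      rw [h] at this
      exact ⟨this.1.symm, this.2.symm⟩
  refine ⟨fun ω => E (p₁ ω) (p₂ ω), ⟨?_, ?_, ?_, ?_, ?_⟩⟩
  · intro ω
    exact hSI _ _ (A1 ω) (A2 ω)
  · intro ω ω'
    rw [hon _ _ _ _ (A1 ω) (A2 ω) (A1 ω') (A2 ω')]
    by_cases h : ω = ω'
    · subst h
      rw [if_pos (show p₁ ω = p₁ ω ∧ p₂ ω = p₂ ω from ⟨rfl, rfl⟩), if_pos rfl]
    · rw [if_neg h, if_neg]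
      rintro ⟨h1, h2⟩
      apply h
      rw [← A3 ω, ← A3 ω', h1, h2]
  · show E (p₁ 1) (p₂ 1) = fun _ => 1
    rw [hpp.1, hpp.2, h11]
  · intro ω w hw1 hw2
    obtain ⟨f, hf⟩ : ∃ f : ↥(W₁ ⊔ W₂) → ℂ,
        f = (fun v : ↥(W₁ ⊔ W₂) => E (p₁ ω) (p₂ ω) (v : G)) - Helper25.cf ω := ⟨_, rfl⟩
    have hcl : IsClassFunction G (E (p₁ ω) (p₂ ω)) := si_classFunction (hSI _ _ (A1 ω) (A2 ω))
    have hfw : f w = 0 := by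
      apply vanish_of_orth_alpha W₁ W₂ hW f _ w hw1 hw2
      intro φ ψ hφ1 hψ1 hφ hψ
      rw [hf, Helper25.classInner_sub_right,
        ← Helper81.frobenius_reciprocity (W₁ ⊔ W₂) _ hcl, hind φ ψ hφ1 hψ1 hφ hψ,
        Helper25.alphaFun_eq_cf]
      simp only [Helper81.classInner_add_left, Helper81.classInner_sub_left,
        Helper25.classInner_cf]
      rw [hon _ _ _ _ one2 one1 (A1 ω) (A2 ω), hon _ _ _ _ hφ one1 (A1 ω) (A2 ω),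
        hon _ _ _ _ one2 hψ (A1 ω) (A2 ω), hon _ _ _ _ hφ hψ (A1 ω) (A2 ω)]
      have e1 : ∀ (P Q : Prop) {dP : Decidable P} [Decidable Q], (P ↔ Q) →
          (@ite ℂ P dP 1 0) = if Q then 1 else 0 := by
        intro P Q _ _ h
        by_cases hp : P
        · rw [if_pos hp, if_pos (h.mp hp)]
        · rw [if_neg hp, if_neg (mt h.mpr hp)]
      rw [e1 _ _ (key ω 1 1 one2 one1), e1 _ _ (key ω φ 1 hφ one1),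
        e1 _ _ (key ω 1 ψ one2 hψ), e1 _ _ (key ω φ ψ hφ hψ),
        mul_one φ, one_mul ψ, mul_one (1 : ↥(W₁ ⊔ W₂) →* ℂˣ)]
      split_ifs <;> ring
    rw [hf] at hfw
    simp only [Pi.sub_apply, Helper25.cf] at hfw
    exact sub_eq_zero.mp hfw
  · intro φ ψ hφ1 hψ1 hφ hψ
    have h := hind φ ψ hφ1 hψ1 hφ hψ
    unfold Helper25.alphaFun at h
    show indFun (W₁ ⊔ W₂) (fun w => 1 - (φ w : ℂ) - (ψ w : ℂ) + (φ w : ℂ) * (ψ w : ℂ)) =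
      fun g => 1 - E (p₁ φ) (p₂ φ) g - E (p₁ ψ) (p₂ ψ) g + E (p₁ (φ * ψ)) (p₂ (φ * ψ)) g
    rw [(hp1 φ hφ).1, (hp1 φ hφ).2, (hp2 ψ hψ).1, (hp2 ψ hψ).2, (A4 φ ψ hφ hψ).1,
      (A4 φ ψ hφ hψ).2, h, h11]
    funext g
    simp only [Pi.add_apply, Pi.sub_apply]

end Cfsg.Agent.Helper25.CycPlug
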