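import Mathlib
import Cfsg.Prelude.Def_OddOrderChar
import Cfsg.Agent.Lib.Helper25.TIInd
import Cfsg.Agent.Lib.Helper25.CommonConst
import Cfsg.Agent.Lib.Helper25.CyclicTI2
import Cfsg.Agent.Lib.Helper80.CharBasic
import Cfsg.Agent.Lib.Helper79.Linear
import Cfsg.Agent.Lib.Helper82.GenChar
import Cfsg.Agent.S0198

set_option autoImplicit false

namespace Cfsg.Agent.Helper25

open Cfsg
open scoped ComplexConjugate

universe u

section
variable {X : Type u} [Group X] [Fintype X]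

theorem classInner_sub_left (φ₁ φ₂ ψ : X → ℂ) :
    classInner (φ₁ - φ₂) ψ = classInner φ₁ ψ - classInner φ₂ ψ := by
  simp only [classInner, Pi.sub_apply, sub_mul, Finset.sum_sub_distrib, mul_sub]

theorem classInner_smul_smul (c d : ℂ) (φ ψ : X → ℂ) :
    classInner (c • φ) (d • ψ) = c * conj d * classInner φ ψ := by
  simp only [classInner, Pi.smul_apply, smul_eq_mul, map_mul, Finset.mul_sum]
  apply Finset.sum_congr rfl
  intro x _
  ring

theorem classInner_irr_sub_sub (a b a' b' : IrrCharacter X) :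
    classInner ((a : X → ℂ) - (b : X → ℂ)) ((a' : X → ℂ) - (b' : X → ℂ)) =
      (((if a = a' then (1 : ℤ) else 0) - (if a = b' then 1 else 0)
        - (if b = a' then 1 else 0) + (if b = b' then 1 else 0) : ℤ) : ℂ) := by
  rw [classInner_sub_left, classInner_sub_right, classInner_sub_right,
    Cfsg.Agent.Helper80.classInner_irr, Cfsg.Agent.Helper80.classInner_irr,
    Cfsg.Agent.Helper80.classInner_irr, Cfsg.Agent.Helper80.classInner_irr]
  push_cast
  ring

end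

variable {G : Type u} [Group G] [Fintype G]

theorem isCharacter_cf {A : Type u} [Group A] (ω : A →* ℂˣ) : IsCharacter A (cf ω) :=
  Cfsg.Agent.Helper81.IsIrrCharacter.isCharacter (Cfsg.Agent.Helper79.linChar ω).2

theorem isGeneralizedCharacter_indFun_cf_sub (W : Subgroup G) (ω ω' : W →* ℂˣ) :
    IsGeneralizedCharacter G (indFun W (cf ω - cf ω')) := by
  rw [indFun_sub]
  exact ⟨_, _, Cfsg.Agent.Helper81.isCharacter_indFun W (isCharacter_cf ω),
    Cfsg.Agent.Helper81.isCharacter_indFun W (isCharacter_cf ω'), rfl⟩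

/-- Coherence of a set of linear characters of an abelian subgroup `W` that agree on the
complement `S` of a TI-subset. -/
theorem equal_degree_coherence (W : Subgroup G) [Fintype W]
    (hcomm : ∀ a b : W, a * b = b * a) (S : Set G) (h1S : (1 : G) ∈ S)
    (hTI : ∀ w : G, w ∈ W → w ∉ S → ∀ x : G, x⁻¹ * w * x ∈ W → x⁻¹ * w * x ∉ S → x ∈ W)
    (C : Set (W →* ℂˣ)) (hC : ∀ ω ∈ C, ∀ ω' ∈ C, ∀ w : W, (w : G) ∈ S → ω w = ω' w)
    (ω₀ : W →* ℂˣ) (hω₀ : ω₀ ∈ C) :
    ∃ (δ : ℂ) (μ : (W →* ℂˣ) → (G → ℂ)), (δ = 1 ∨ δ = -1) ∧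
      (∀ ω ∈ C, IsIrrCharacter G (μ ω)) ∧
      ∀ ω ∈ C, ∀ ω' ∈ C, indFun W (cf ω - cf ω') = δ • (μ ω - μ ω') := by
  classical
  have hvan : ∀ ω ∈ C, ∀ ω' ∈ C, ∀ w : W, (w : G) ∈ S → (cf ω - cf ω') w = 0 := by
    intro ω hω ω' hω' w hw
    simp only [Pi.sub_apply, cf]
    rw [hC ω hω ω' hω' w hw, sub_self]
  have hiso : ∀ ω' ∈ C, ∀ ω'' ∈ C,
      classInner (indFun W (cf ω₀ - cf ω')) (indFun W (cf ω₀ - cf ω'')) =
        1 - (if ω₀ = ω'' then 1 else 0) - (if ω' = ω₀ then 1 else 0)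
          + (if ω' = ω'' then 1 else 0) := by
    intro ω' hω' ω'' hω''
    rw [classInner_indFun_indFun_of_TI_gen W hcomm S hTI _ _ (hvan ω₀ hω₀ ω' hω')
      (hvan ω₀ hω₀ ω'' hω''), classInner_sub_left, classInner_sub_right, classInner_sub_right,
      classInner_cf, classInner_cf, classInner_cf, classInner_cf, if_pos rfl]
    ring
  have hone : ∀ ω ∈ C, indFun W (cf ω₀ - cf ω) 1 = 0 := by
    intro ω hω
    apply indFun_one_eq_zero
    exact hvan ω₀ hω₀ ω hω 1 (by simpa using h1S)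
  have hex : ∀ ω : W →* ℂˣ, ∃ a b : IrrCharacter G, ω ∈ C → ω ≠ ω₀ →
      a ≠ b ∧ indFun W (cf ω₀ - cf ω) = (a : G → ℂ) - (b : G → ℂ) := by
    intro ω
    by_cases hω : ω ∈ C ∧ ω ≠ ω₀
    · have hn : classInner (indFun W (cf ω₀ - cf ω)) (indFun W (cf ω₀ - cf ω)) = 2 := by
        rw [hiso ω hω.1 ω hω.1, if_neg (Ne.symm hω.2), if_neg hω.2, if_pos rfl]
        norm_num
      obtain ⟨a, b, hab, heq⟩ := Cfsg.Agent.S0198.eq_sub_of_norm_two
        (isGeneralizedCharacter_indFun_cf_sub W ω₀ ω) hn (hone ω hω.1)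
      exact ⟨a, b, fun _ _ => ⟨hab, heq⟩⟩
    · refine ⟨Cfsg.Agent.Helper79.linChar 1, Cfsg.Agent.Helper79.linChar 1, fun h1 h2 => ?_⟩
      exact absurd ⟨h1, h2⟩ hω
  choose a b hab using hex
  have : Nonempty (IrrCharacter G) := ⟨Cfsg.Agent.Helper79.linChar 1⟩
  obtain ⟨χ₀, hχ₀⟩ := common_constituent {ω | ω ∈ C ∧ ω ≠ ω₀} a b
    (fun ω hω => (hab ω hω.1 hω.2).1)
    (by
      intro ω hω ω' hω' hne
      have h1 := hiso ω hω.1 ω' hω'.1
      rw [(hab ω hω.1 hω.2).2, (hab ω' hω'.1 hω'.2).2, classInner_irr_sub_sub,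
        if_neg (Ne.symm hω'.2), if_neg hω.2, if_neg hne] at h1
      have h2 : ((((if a ω = a ω' then (1 : ℤ) else 0) - (if a ω = b ω' then 1 else 0)
        - (if b ω = a ω' then 1 else 0) + (if b ω = b ω' then 1 else 0) : ℤ)) : ℂ) = ((1 : ℤ) : ℂ) := by
        rw [h1]; norm_num
      exact_mod_cast h2)
  rcases hχ₀ with hA | hB
  · -- common `a`
    refine ⟨1, fun ω => if ω = ω₀ then (χ₀ : G → ℂ) else (b ω : G → ℂ), Or.inl rfl, ?_, ?_⟩
    · intro ω hω
      show IsIrrCharacter G (if ω = ω₀ then (χ₀ : G → ℂ) else (b ω : G → ℂ))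
      by_cases h : ω = ω₀
      · rw [if_pos h]; exact χ₀.2
      · rw [if_neg h]; exact (b ω).2
    · have hV : ∀ ω ∈ C, indFun W (cf ω₀ - cf ω) =
          (χ₀ : G → ℂ) - (if ω = ω₀ then (χ₀ : G → ℂ) else (b ω : G → ℂ)) := by
        intro ω hω
        by_cases h : ω = ω₀
        · rw [if_pos h, h, sub_self, sub_self, Cfsg.Agent.Helper81.indFun_zero]
        · rw [if_neg h, (hab ω hω h).2, hA ω ⟨hω, h⟩]
      intro ω hω ω' hω'
      have h1 : cf ω - cf ω' = (cf ω₀ - cf ω') - (cf ω₀ - cf ω) := by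
        funext w; simp only [Pi.sub_apply]; ring
      rw [h1, indFun_sub, hV ω hω, hV ω' hω', one_smul]
      funext g; simp only [Pi.sub_apply]; ring
  · -- common `b`
    refine ⟨-1, fun ω => if ω = ω₀ then (χ₀ : G → ℂ) else (a ω : G → ℂ), Or.inr rfl, ?_, ?_⟩
    · intro ω hω
      show IsIrrCharacter G (if ω = ω₀ then (χ₀ : G → ℂ) else (a ω : G → ℂ))
      by_cases h : ω = ω₀
      · rw [if_pos h]; exact χ₀.2
      · rw [if_neg h]; exact (a ω).2
    · have hV : ∀ ω ∈ C, indFun W (cf ω₀ - cf ω) =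
          (if ω = ω₀ then (χ₀ : G → ℂ) else (a ω : G → ℂ)) - (χ₀ : G → ℂ) := by
        intro ω hω
        by_cases h : ω = ω₀
        · rw [if_pos h, h, sub_self, sub_self, Cfsg.Agent.Helper81.indFun_zero]
        · rw [if_neg h, (hab ω hω h).2, hB ω ⟨hω, h⟩]
      intro ω hω ω' hω'
      have h1 : cf ω - cf ω' = (cf ω₀ - cf ω') - (cf ω₀ - cf ω) := by
        funext w; simp only [Pi.sub_apply]; ring
      rw [h1, indFun_sub, hV ω hω, hV ω' hω']
      funext g; simp only [Pi.sub_apply, Pi.smul_apply, smul_eq_mul]; ring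

end Cfsg.Agent.Helper25
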