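import Mathlib
import Cfsg.Prelude.Def_OddOrderChar
import Cfsg.Prelude.Def_OddOrderLocal
import Cfsg.Agent.Lib.Helper25.CycPlugA
import Cfsg.Agent.Lib.Helper25.EqualDegree
import Cfsg.Agent.S1505

set_option autoImplicit false

namespace Cfsg.Agent.Helper25.CycPlug

open Cfsg
open scoped ComplexConjugate

section arith

/-- Coprime splitting of `n` at the primes of `w₁`. -/
theorem exists_coprime_split {n w₁ w₂ : ℕ} (hn : n ≠ 0) (h1 : w₁ ∣ n) (h2 : w₂ ∣ n)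
    (hc : w₁.Coprime w₂) :
    ∃ d e : ℕ, d * e = n ∧ d.Coprime e ∧ w₁ ∣ d ∧ w₂ ∣ e := by
  classical
  obtain ⟨d, hd⟩ : ∃ d : ℕ, d = ∏ p ∈ n.primeFactors.filter (fun p => p ∣ w₁), p ^ n.factorization p :=
    ⟨_, rfl⟩
  obtain ⟨e, he⟩ : ∃ e : ℕ, e = ∏ p ∈ n.primeFactors.filter (fun p => ¬ p ∣ w₁), p ^ n.factorization p :=
    ⟨_, rfl⟩
  have hde : d * e = n := by
    rw [hd, he, Finset.prod_filter_mul_prod_filter_not]
    exact Nat.prod_factorization_pow_eq_self hn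
  have hcop : d.Coprime e := by
    rw [hd, he]
    apply Nat.Coprime.prod_left
    intro p hp
    apply Nat.Coprime.prod_right
    intro q hq
    rw [Finset.mem_filter] at hp hq
    have hpp : p.Prime := Nat.prime_of_mem_primeFactors hp.1
    have hqp : q.Prime := Nat.prime_of_mem_primeFactors hq.1
    apply Nat.Coprime.pow
    rw [Nat.coprime_primes hpp hqp]
    rintro rfl
    exact hq.2 hp.2
  have hw1e : w₁.Coprime e := by
    rw [he]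
    apply Nat.Coprime.prod_right
    intro q hq
    rw [Finset.mem_filter] at hq
    have hqp : q.Prime := Nat.prime_of_mem_primeFactors hq.1
    apply Nat.Coprime.pow_right
    rw [Nat.coprime_comm]
    exact (Nat.Prime.coprime_iff_not_dvd hqp).mpr hq.2
  have hw2d : w₂.Coprime d := by
    rw [hd]
    apply Nat.Coprime.prod_right
    intro q hq
    rw [Finset.mem_filter] at hq
    have hqp : q.Prime := Nat.prime_of_mem_primeFactors hq.1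
    apply Nat.Coprime.pow_right
    rw [Nat.coprime_comm]
    apply (Nat.Prime.coprime_iff_not_dvd hqp).mpr
    intro hq2
    have : q ∣ Nat.gcd w₁ w₂ := Nat.dvd_gcd hq.2 hq2
    rw [hc] at this
    exact hqp.one_lt.ne' (Nat.dvd_one.mp this)
  refine ⟨d, e, hde, hcop, ?_, ?_⟩
  · apply hw1e.dvd_of_dvd_mul_right
    rw [hde]; exact h1
  · apply hw2d.dvd_of_dvd_mul_left
    rw [hde]; exact h2

theorem exists_involutive_twist {n w₁ w₂ : ℕ} (hn : n ≠ 0) (h1 : w₁ ∣ n) (h2 : w₂ ∣ n)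
    (hc : w₁.Coprime w₂) :
    ∃ k : ℕ, k.Coprime n ∧ k * k ≡ 1 [MOD n] ∧ w₁ ∣ k + 1 ∧ k ≡ 1 [MOD w₂] := by
  obtain ⟨d, e, hde, hcop, hw1, hw2⟩ := exists_coprime_split hn h1 h2 hc
  have hd0 : d ≠ 0 := by
    rintro rfl
    rw [zero_mul] at hde
    exact hn hde.symm
  obtain ⟨k, hk1, hk2⟩ := Nat.chineseRemainder hcop (d - 1) 1
  have hkd : d ∣ k + 1 := by
    have : k + 1 ≡ (d - 1) + 1 [MOD d] := hk1.add_right 1
    rw [Nat.sub_add_cancel (Nat.pos_of_ne_zero hd0)] at this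
    exact (Nat.modEq_zero_iff_dvd.mp (this.trans (by simp [Nat.ModEq])))
  have hsq_d : k * k ≡ 1 [MOD d] := by
    rw [← ZMod.natCast_eq_natCast_iff]
    have h0 : ((k + 1 : ℕ) : ZMod d) = 0 := (ZMod.natCast_eq_zero_iff _ _).mpr hkd
    have h3 : (k : ZMod d) = -1 := by
      push_cast at h0
      exact eq_neg_of_add_eq_zero_left h0
    push_cast
    rw [h3]
    ring
  have hsq_e : k * k ≡ 1 [MOD e] := by
    have := hk2.mul hk2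
    simpa using this
  have hcd : k.Coprime d := by
    have h4 : (k + 1).Coprime k := by simp
    exact (Nat.Coprime.coprime_dvd_left hkd h4).symm
  have hce : k.Coprime e := by
    have := hk2.gcd_eq
    unfold Nat.Coprime
    rw [this]
    exact Nat.gcd_one_left e
  refine ⟨k, ?_, ?_, hw1.trans hkd, hk2.of_dvd hw2⟩
  · rw [← hde]
    exact Nat.Coprime.mul_right hcd hce
  · rw [← hde]
    exact (Nat.modEq_and_modEq_iff_modEq_mul hcop).mp ⟨hsq_d, hsq_e⟩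

end arith

universe u
variable {G : Type u} [Group G] [Fintype G]

section coef

open Classical in
/-- integer coefficient of a generalized character at an irreducible character -/
noncomputable def coefZ (θ : G → ℂ) (x : IrrCharacter G) : ℤ :=
  if h : ∃ k : ℤ, classInner θ (x : G → ℂ) = (k : ℂ) then Classical.choose h else 0

theorem coefZ_spec {θ : G → ℂ} (hθ : IsGeneralizedCharacter G θ) (x : IrrCharacter G) :
    ((coefZ θ x : ℤ) : ℂ) = classInner θ (x : G → ℂ) := by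
  have h : ∃ k : ℤ, classInner θ (x : G → ℂ) = (k : ℂ) :=
    Helper82.genChar_inner_int hθ
      (Helper82.isGeneralizedCharacter_of_isCharacter (Helper81.IsIrrCharacter.isCharacter x.2))
  unfold coefZ
  rw [dif_pos h]
  exact (Classical.choose_spec h).symm

theorem irr_as_comb [Fintype (IrrCharacter G)] [DecidableEq (IrrCharacter G)] (x : IrrCharacter G) :
    (x : G → ℂ) = ∑ χ : IrrCharacter G, (((if χ = x then 1 else 0 : ℤ)) : ℂ) • (χ : G → ℂ) := by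
  rw [Finset.sum_eq_single x]
  · simp
  · intro b _ hb
    simp [hb]
  · intro h
    exact absurd (Finset.mem_univ x) h

theorem genChar_expand [Fintype (IrrCharacter G)] {θ : G → ℂ} (hθ : IsGeneralizedCharacter G θ) :
    θ = ∑ x : IrrCharacter G, ((coefZ θ x : ℤ) : ℂ) • (x : G → ℂ) := by
  classical
  obtain ⟨z, hz⟩ := Helper82.genChar_int_decomp hθ
  have hzc : ∀ x, z x = coefZ θ x := by
    intro x
    have h1 := coefZ_spec hθ x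
    have h2 : classInner θ (x : G → ℂ) = ((z x : ℤ) : ℂ) := by
      have e := Helper82.classInner_int_comb z (fun χ => if χ = x then 1 else 0)
      rw [← hz, ← irr_as_comb x] at e
      rw [e]
      simp
    have h3 : ((z x : ℤ) : ℂ) = ((coefZ θ x : ℤ) : ℂ) := by rw [h1, h2]
    exact_mod_cast h3
  rw [hz]
  apply Finset.sum_congr rfl
  intro x _
  rw [hzc x]
  congr 1
  -- coefZ of the expanded sum vs coefZ θ
  rw [← hz]

theorem classInner_coef [Fintype (IrrCharacter G)] {θ θ' : G → ℂ}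
    (hθ : IsGeneralizedCharacter G θ) (hθ' : IsGeneralizedCharacter G θ') :
    classInner θ θ' = ((∑ x : IrrCharacter G, coefZ θ x * coefZ θ' x : ℤ) : ℂ) := by
  have e := Helper82.classInner_int_comb (coefZ θ) (coefZ θ')
  rw [← genChar_expand hθ, ← genChar_expand hθ'] at e
  exact e

end coef

section theta

variable (W₁ W₂ : Subgroup G)

/-- `Ind α - 1` -/
noncomputable def thetaFun (φ ψ : ↥(W₁ ⊔ W₂) →* ℂˣ) : G → ℂ :=
  indFun (W₁ ⊔ W₂) (Helper25.alphaFun W₁ W₂ φ ψ) - fun _ => 1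

theorem indAlpha_gen (φ ψ : ↥(W₁ ⊔ W₂) →* ℂˣ) :
    IsGeneralizedCharacter G (indFun (W₁ ⊔ W₂) (Helper25.alphaFun W₁ W₂ φ ψ)) := by
  have e : Helper25.alphaFun W₁ W₂ φ ψ =
      (Helper25.cf 1 - Helper25.cf φ) - (Helper25.cf ψ - Helper25.cf (φ * ψ)) := by
    rw [Helper25.alphaFun_eq_cf]; abel
  rw [e, Helper25.indFun_sub]
  exact Helper82.isGeneralizedCharacter_sub
    (Helper25.isGeneralizedCharacter_indFun_cf_sub _ 1 φ)
    (Helper25.isGeneralizedCharacter_indFun_cf_sub _ ψ (φ * ψ))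

theorem one_gen : IsGeneralizedCharacter G (fun _ : G => (1 : ℂ)) :=
  Helper82.isGeneralizedCharacter_of_isCharacter
    (Helper81.IsIrrCharacter.isCharacter Helper81.isIrrCharacter_one)

theorem thetaFun_gen (φ ψ : ↥(W₁ ⊔ W₂) →* ℂˣ) :
    IsGeneralizedCharacter G (thetaFun W₁ W₂ φ ψ) :=
  Helper82.isGeneralizedCharacter_sub (indAlpha_gen W₁ W₂ φ ψ) one_gen

theorem classInner_one_one : classInner (fun _ : G => (1 : ℂ)) (fun _ : G => (1 : ℂ)) = 1 := by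
  have := Helper80.classInner_irr (⟨_, Helper81.isIrrCharacter_one⟩ : IrrCharacter G)
    ⟨_, Helper81.isIrrCharacter_one⟩
  rw [if_pos rfl] at this
  exact this

theorem thetaFun_apply_one (φ ψ : ↥(W₁ ⊔ W₂) →* ℂˣ) : thetaFun W₁ W₂ φ ψ 1 = -1 := by
  unfold thetaFun
  rw [Pi.sub_apply, Helper25.indFun_one_eq_zero]
  · ring
  · simp [Helper25.alphaFun]

variable {W₁ W₂}

theorem thetaFun_inner_aux (hW : IsSelfNormalizingCyclic W₁ W₂)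
    {φ φ' ψ ψ' : ↥(W₁ ⊔ W₂) →* ℂˣ} (hφ : φ ≠ 1) (hφ' : φ' ≠ 1) (hψ : ψ ≠ 1) (hψ' : ψ' ≠ 1)
    (hφ₂ : ∀ w : ↥(W₁ ⊔ W₂), (w : G) ∈ W₂ → φ w = 1)
    (hφ'₂ : ∀ w : ↥(W₁ ⊔ W₂), (w : G) ∈ W₂ → φ' w = 1)
    (hψ₁ : ∀ w : ↥(W₁ ⊔ W₂), (w : G) ∈ W₁ → ψ w = 1)
    (hψ'₁ : ∀ w : ↥(W₁ ⊔ W₂), (w : G) ∈ W₁ → ψ' w = 1) :
    classInner (thetaFun W₁ W₂ φ ψ) (thetaFun W₁ W₂ φ' ψ') =
      classInner (indFun (W₁ ⊔ W₂) (Helper25.alphaFun W₁ W₂ φ ψ))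
        (indFun (W₁ ⊔ W₂) (Helper25.alphaFun W₁ W₂ φ' ψ')) - 1 := by
  have h1 := (Cfsg.Agent.S1505.result W₁ W₂ hW φ φ ψ ψ hφ hφ hψ hψ
    (fun w hw => ⟨hφ₂ w hw, hφ₂ w hw⟩) (fun w hw => ⟨hψ₁ w hw, hψ₁ w hw⟩)).1
  have h2 := (Cfsg.Agent.S1505.result W₁ W₂ hW φ' φ' ψ' ψ' hφ' hφ' hψ' hψ'
    (fun w hw => ⟨hφ'₂ w hw, hφ'₂ w hw⟩) (fun w hw => ⟨hψ'₁ w hw, hψ'₁ w hw⟩)).1
  have h1' : classInner (indFun (W₁ ⊔ W₂) (Helper25.alphaFun W₁ W₂ φ ψ)) (fun _ => 1) = 1 := h1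
  have h2' : classInner (indFun (W₁ ⊔ W₂) (Helper25.alphaFun W₁ W₂ φ' ψ')) (fun _ => 1) = 1 := h2
  have h3 : classInner (fun _ : G => (1 : ℂ)) (indFun (W₁ ⊔ W₂) (Helper25.alphaFun W₁ W₂ φ' ψ')) = 1 := by
    rw [Helper81.classInner_conj_symm, h2', map_one]
  unfold thetaFun
  rw [Helper81.classInner_sub_left, Helper25.classInner_sub_right, Helper25.classInner_sub_right,
    h1', h3, classInner_one_one]
  ring

theorem thetaFun_principal (hW : IsSelfNormalizingCyclic W₁ W₂)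
    {φ ψ : ↥(W₁ ⊔ W₂) →* ℂˣ} (hφ : φ ≠ 1) (hψ : ψ ≠ 1)
    (hφ₂ : ∀ w : ↥(W₁ ⊔ W₂), (w : G) ∈ W₂ → φ w = 1)
    (hψ₁ : ∀ w : ↥(W₁ ⊔ W₂), (w : G) ∈ W₁ → ψ w = 1) :
    classInner (thetaFun W₁ W₂ φ ψ) (fun _ => 1) = 0 := by
  have h1 := (Cfsg.Agent.S1505.result W₁ W₂ hW φ φ ψ ψ hφ hφ hψ hψ
    (fun w hw => ⟨hφ₂ w hw, hφ₂ w hw⟩) (fun w hw => ⟨hψ₁ w hw, hψ₁ w hw⟩)).1
  have h1' : classInner (indFun (W₁ ⊔ W₂) (Helper25.alphaFun W₁ W₂ φ ψ)) (fun _ => 1) = 1 := h1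
  unfold thetaFun
  rw [Helper81.classInner_sub_left, h1', classInner_one_one, sub_self]

theorem indAlpha_gram (hW : IsSelfNormalizingCyclic W₁ W₂)
    {φ φ' ψ ψ' : ↥(W₁ ⊔ W₂) →* ℂˣ} (hφ : φ ≠ 1) (hφ' : φ' ≠ 1) (hψ : ψ ≠ 1) (hψ' : ψ' ≠ 1)
    (hφ₂ : ∀ w : ↥(W₁ ⊔ W₂), (w : G) ∈ W₂ → φ w = 1)
    (hφ'₂ : ∀ w : ↥(W₁ ⊔ W₂), (w : G) ∈ W₂ → φ' w = 1)
    (hψ₁ : ∀ w : ↥(W₁ ⊔ W₂), (w : G) ∈ W₁ → ψ w = 1)
    (hψ'₁ : ∀ w : ↥(W₁ ⊔ W₂), (w : G) ∈ W₁ → ψ' w = 1) :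
    (φ = φ' → ψ = ψ' → classInner (thetaFun W₁ W₂ φ ψ) (thetaFun W₁ W₂ φ' ψ') = 3) ∧
    (φ = φ' → ψ ≠ ψ' → classInner (thetaFun W₁ W₂ φ ψ) (thetaFun W₁ W₂ φ' ψ') = 1) ∧
    (φ ≠ φ' → ψ = ψ' → classInner (thetaFun W₁ W₂ φ ψ) (thetaFun W₁ W₂ φ' ψ') = 1) ∧
    (φ ≠ φ' → ψ ≠ ψ' → classInner (thetaFun W₁ W₂ φ ψ) (thetaFun W₁ W₂ φ' ψ') = 0) := by
  have h := (Cfsg.Agent.S1505.result W₁ W₂ hW φ φ' ψ ψ' hφ hφ' hψ hψ'
    (fun w hw => ⟨hφ₂ w hw, hφ'₂ w hw⟩) (fun w hw => ⟨hψ₁ w hw, hψ'₁ w hw⟩)).2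
  have h' : classInner (indFun (W₁ ⊔ W₂) (Helper25.alphaFun W₁ W₂ φ ψ))
      (indFun (W₁ ⊔ W₂) (Helper25.alphaFun W₁ W₂ φ' ψ')) = _ := h
  rw [thetaFun_inner_aux hW hφ hφ' hψ hψ' hφ₂ hφ'₂ hψ₁ hψ'₁, h']
  refine ⟨fun h1 h2 => ?_, fun h1 h2 => ?_, fun h1 h2 => ?_, fun h1 h2 => ?_⟩
  · rw [if_pos h1, if_pos h2]; norm_num
  · rw [if_pos h1, if_neg h2]; norm_num
  · rw [if_neg h1, if_pos h2]; norm_num
  · rw [if_neg h1, if_neg h2]; norm_num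

theorem thetaFun_twist {k : ℕ} (hk : k.Coprime (Nat.card G)) (φ ψ : ↥(W₁ ⊔ W₂) →* ℂˣ) (g : G) :
    thetaFun W₁ W₂ φ ψ (g ^ k) = thetaFun W₁ W₂ (φ ^ k) (ψ ^ k) g := by
  unfold thetaFun
  rw [Pi.sub_apply, Pi.sub_apply, Helper25.indFun_twist _ _ hk]
  congr 2
  funext w
  simp only [Helper25.alphaFun, map_pow, MonoidHom.pow_apply, Units.val_pow_eq_pow_val]

end theta

section twist

/-- Galois twist on irreducible characters. -/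
noncomputable def twistIrr (k : ℕ) (hk : k.Coprime (Nat.card G)) (x : IrrCharacter G) :
    IrrCharacter G :=
  ⟨fun g => (x : G → ℂ) (g ^ k), Helper75.galois_twist_irr x k hk⟩

theorem twistIrr_apply (k : ℕ) (hk : k.Coprime (Nat.card G)) (x : IrrCharacter G) (g : G) :
    (twistIrr k hk x : G → ℂ) g = (x : G → ℂ) (g ^ k) := rfl

theorem coefZ_twist {k : ℕ} (hk : k.Coprime (Nat.card G)) {θ θ' : G → ℂ}
    (hθ : IsGeneralizedCharacter G θ) (hθ' : IsGeneralizedCharacter G θ')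
    (h : ∀ g, θ' g = θ (g ^ k)) (x : IrrCharacter G) :
    coefZ θ' (twistIrr k hk x) = coefZ θ x := by
  have h1 := coefZ_spec hθ' (twistIrr k hk x)
  have h2 := coefZ_spec hθ x
  have h3 : classInner θ' (twistIrr k hk x : G → ℂ) = classInner θ (x : G → ℂ) := by
    have e1 : θ' = fun g => θ (g ^ k) := funext h
    have e2 : (twistIrr k hk x : G → ℂ) = fun g => (x : G → ℂ) (g ^ k) := rfl
    rw [e1, e2, Helper25.classInner_twist hk]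
  have h4 : ((coefZ θ' (twistIrr k hk x) : ℤ) : ℂ) = ((coefZ θ x : ℤ) : ℂ) := by
    rw [h1, h2, h3]
  exact_mod_cast h4

theorem twistIrr_twistIrr_of_sq {k : ℕ} (hk : k.Coprime (Nat.card G))
    (hsq : k * k ≡ 1 [MOD Nat.card G]) (x : IrrCharacter G) :
    twistIrr k hk (twistIrr k hk x) = x := by
  apply Subtype.ext
  funext g
  show (x : G → ℂ) ((g ^ k) ^ k) = (x : G → ℂ) g
  have : (g ^ k) ^ k = g := by
    rw [← pow_mul]
    have h1 : g ^ (k * k) = g ^ 1 := by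
      rw [pow_eq_pow_iff_modEq]
      exact hsq.of_dvd (orderOf_dvd_natCard g)
    rw [h1, pow_one]
  rw [this]

theorem twistIrr_comm {k l : ℕ} (hk : k.Coprime (Nat.card G)) (hl : l.Coprime (Nat.card G))
    (x : IrrCharacter G) :
    twistIrr k hk (twistIrr l hl x) = twistIrr l hl (twistIrr k hk x) := by
  apply Subtype.ext
  funext g
  show (x : G → ℂ) ((g ^ k) ^ l) = (x : G → ℂ) ((g ^ l) ^ k)
  rw [← pow_mul, ← pow_mul, mul_comm]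

variable {W₁ W₂ : Subgroup G}

theorem pow_card_mem_right (hcomm : ∀ a ∈ W₁, ∀ b ∈ W₂, a * b = b * a) (w : ↥(W₁ ⊔ W₂)) :
    ((w ^ Nat.card W₁ : ↥(W₁ ⊔ W₂)) : G) ∈ W₂ := by
  obtain ⟨a, ha, b, hb, hw⟩ := Cfsg.Agent.S1504.mem_sup_comm W₁ W₂ hcomm w w.2
  have hc : Commute a b := hcomm a ha b hb
  rw [Subgroup.coe_pow, hw, hc.mul_pow, Helper25.pow_card_eq_one_of_mem W₁ ha, one_mul]
  exact W₂.pow_mem hb _

theorem pow_card_mem_left (hcomm : ∀ a ∈ W₁, ∀ b ∈ W₂, a * b = b * a) (w : ↥(W₁ ⊔ W₂)) :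
    ((w ^ Nat.card W₂ : ↥(W₁ ⊔ W₂)) : G) ∈ W₁ := by
  obtain ⟨a, ha, b, hb, hw⟩ := Cfsg.Agent.S1504.mem_sup_comm W₁ W₂ hcomm w w.2
  have hc : Commute a b := hcomm a ha b hb
  rw [Subgroup.coe_pow, hw, hc.mul_pow, Helper25.pow_card_eq_one_of_mem W₂ hb, mul_one]
  exact W₁.pow_mem ha _

theorem hom_pow_card_left (hcomm : ∀ a ∈ W₁, ∀ b ∈ W₂, a * b = b * a)
    {φ : ↥(W₁ ⊔ W₂) →* ℂˣ} (hφ : ∀ v : ↥(W₁ ⊔ W₂), (v : G) ∈ W₂ → φ v = 1) :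
    φ ^ Nat.card W₁ = 1 := by
  ext w
  rw [MonoidHom.pow_apply, ← map_pow, hφ _ (pow_card_mem_right hcomm w)]
  rfl

theorem hom_pow_card_right (hcomm : ∀ a ∈ W₁, ∀ b ∈ W₂, a * b = b * a)
    {ψ : ↥(W₁ ⊔ W₂) →* ℂˣ} (hψ : ∀ v : ↥(W₁ ⊔ W₂), (v : G) ∈ W₁ → ψ v = 1) :
    ψ ^ Nat.card W₂ = 1 := by
  ext w
  rw [MonoidHom.pow_apply, ← map_pow, hψ _ (pow_card_mem_left hcomm w)]
  rfl

theorem hom_pow_eq_inv {n k : ℕ} {φ : ↥(W₁ ⊔ W₂) →* ℂˣ} (hφ : φ ^ n = 1) (hk : n ∣ k + 1) :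
    φ ^ k = φ⁻¹ := by
  obtain ⟨t, ht⟩ := hk
  have h1 : φ ^ (k + 1) = 1 := by
    rw [ht, pow_mul φ n t, hφ, one_pow (M := ↥(W₁ ⊔ W₂) →* ℂˣ) t]
  rw [pow_succ φ k] at h1
  exact eq_inv_of_mul_eq_one_left (G := ↥(W₁ ⊔ W₂) →* ℂˣ) (a := φ ^ k) (b := φ) h1

theorem hom_pow_eq_self {n k : ℕ} {ψ : ↥(W₁ ⊔ W₂) →* ℂˣ} (hψ : ψ ^ n = 1) (hk : k ≡ 1 [MOD n]) :
    ψ ^ k = ψ := by
  have h1 : ψ ^ k = ψ ^ 1 :=
    (pow_eq_pow_iff_modEq (G := ↥(W₁ ⊔ W₂) →* ℂˣ) (x := ψ)).mpr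
      (hk.of_dvd (orderOf_dvd_of_pow_eq_one hψ))
  rw [h1]
  exact pow_one ψ

end twist

end Cfsg.Agent.Helper25.CycPlug
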