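import Mathlib
import Cfsg.Prelude.Def_OddOrderChar
import Cfsg.Prelude.Def_OddOrderLocal
import Cfsg.Agent.Lib.Helper25.CycPlugB
import Cfsg.Agent.Lib.Helper79.CycTI.Struct
import Cfsg.Agent.Lib.Helper79.CharBasic

set_option autoImplicit false

namespace Cfsg.Agent.Helper25.CycPlug

open Cfsg
open scoped ComplexConjugate

universe u
variable {G : Type u} [Group G] [Fintype G] (W₁ W₂ : Subgroup G)

/-- nontrivial characters of `W` trivial on `W₂` -/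
abbrev AIdx := {φ : ↥(W₁ ⊔ W₂) →* ℂˣ // φ ≠ 1 ∧ ∀ v : ↥(W₁ ⊔ W₂), (v : G) ∈ W₂ → φ v = 1}

/-- nontrivial characters of `W` trivial on `W₁` -/
abbrev BIdx := {ψ : ↥(W₁ ⊔ W₂) →* ℂˣ // ψ ≠ 1 ∧ ∀ v : ↥(W₁ ⊔ W₂), (v : G) ∈ W₁ → ψ v = 1}

variable {W₁ W₂}

/-- inversion on `AIdx` -/
def invA (a : AIdx W₁ W₂) : AIdx W₁ W₂ :=
  ⟨a.1⁻¹, (inv_ne_one (α := ↥(W₁ ⊔ W₂) →* ℂˣ) (a := a.1)).mpr a.2.1, fun v hv => by rw [MonoidHom.inv_apply, a.2.2 v hv, inv_one]⟩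

/-- inversion on `BIdx` -/
def invB (b : BIdx W₁ W₂) : BIdx W₁ W₂ :=
  ⟨b.1⁻¹, (inv_ne_one (α := ↥(W₁ ⊔ W₂) →* ℂˣ) (a := b.1)).mpr b.2.1, fun v hv => by rw [MonoidHom.inv_apply, b.2.2 v hv, inv_one]⟩

theorem inv_ne_self_of_odd (hodd : Odd (Nat.card ↥(W₁ ⊔ W₂))) {ψ : ↥(W₁ ⊔ W₂) →* ℂˣ}
    (hψ : ψ ≠ 1) : ψ⁻¹ ≠ ψ := by
  intro h
  apply Helper25.hom_sq_ne_one hodd hψ
  have : ψ * ψ = ψ⁻¹ * ψ := by rw [h]
  rw [this]
  exact inv_mul_cancel ψ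

theorem degsum_theta [Fintype (IrrCharacter G)] (φ ψ : ↥(W₁ ⊔ W₂) →* ℂˣ) :
    ∑ x : IrrCharacter G, coefZ (thetaFun W₁ W₂ φ ψ) x * (charDegree (x : G → ℂ) : ℤ) = -1 := by
  have h1 := congrFun (genChar_expand (thetaFun_gen W₁ W₂ φ ψ)) 1
  rw [thetaFun_apply_one, Finset.sum_apply] at h1
  have h2 : ((∑ x : IrrCharacter G, coefZ (thetaFun W₁ W₂ φ ψ) x * (charDegree (x : G → ℂ) : ℤ) : ℤ) : ℂ)
      = ((-1 : ℤ) : ℂ) := by
    push_cast
    rw [h1]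
    apply Finset.sum_congr rfl
    intro x _
    rw [Pi.smul_apply, smul_eq_mul, (Helper79.irr_one_eq x).1]
  exact_mod_cast h2

theorem gram_theta [Fintype (IrrCharacter G)] (φ ψ φ' ψ' : ↥(W₁ ⊔ W₂) →* ℂˣ) {r : ℤ}
    (h : classInner (thetaFun W₁ W₂ φ ψ) (thetaFun W₁ W₂ φ' ψ') = (r : ℂ)) :
    ∑ x : IrrCharacter G, coefZ (thetaFun W₁ W₂ φ ψ) x * coefZ (thetaFun W₁ W₂ φ' ψ') x = r := by
  have h1 := classInner_coef (thetaFun_gen W₁ W₂ φ ψ) (thetaFun_gen W₁ W₂ φ' ψ')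
  rw [h] at h1
  exact_mod_cast h1.symm

theorem exists_cfg (hW : IsSelfNormalizingCyclic W₁ W₂) (hodd : Odd (Nat.card ↥(W₁ ⊔ W₂)))
    [Fintype (IrrCharacter G)] :
    ∃ c : Helper79.CycTI.Cfg (AIdx W₁ W₂) (BIdx W₁ W₂) (IrrCharacter G),
      ∀ a b x, c.m a b x = coefZ (thetaFun W₁ W₂ a.1 b.1) x := by
  classical
  obtain ⟨hW₁ne, hW₂ne, hinf, hcomm, hcyc, -⟩ := id hW
  have hn : Nat.card G ≠ 0 := Nat.card_pos.ne'
  have h1 : Nat.card W₁ ∣ Nat.card G := Subgroup.card_subgroup_dvd_card W₁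
  have h2 : Nat.card W₂ ∣ Nat.card G := Subgroup.card_subgroup_dvd_card W₂
  have hc : (Nat.card W₁).Coprime (Nat.card W₂) :=
    Helper25.coprime_card_of_cyclic W₁ W₂ hinf hcomm hcyc
  obtain ⟨k₁, hk₁c, hk₁sq, hk₁a, hk₁b⟩ := exists_involutive_twist hn h1 h2 hc
  obtain ⟨k₂, hk₂c, hk₂sq, hk₂a, hk₂b⟩ := exists_involutive_twist hn h2 h1 hc.symm
  have tw1 : ∀ (a : AIdx W₁ W₂) (b : BIdx W₁ W₂) (g : G),
      thetaFun W₁ W₂ (invA a).1 b.1 g = thetaFun W₁ W₂ a.1 b.1 (g ^ k₁) := by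
    intro a b g
    rw [thetaFun_twist hk₁c, hom_pow_eq_inv (hom_pow_card_left hcomm a.2.2) hk₁a,
      hom_pow_eq_self (hom_pow_card_right hcomm b.2.2) hk₁b]
    rfl
  have tw2 : ∀ (a : AIdx W₁ W₂) (b : BIdx W₁ W₂) (g : G),
      thetaFun W₁ W₂ a.1 (invB b).1 g = thetaFun W₁ W₂ a.1 b.1 (g ^ k₂) := by
    intro a b g
    rw [thetaFun_twist hk₂c, hom_pow_eq_self (hom_pow_card_left hcomm a.2.2) hk₂b,
      hom_pow_eq_inv (hom_pow_card_right hcomm b.2.2) hk₂a]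
    rfl
  have gram := fun (a a' : AIdx W₁ W₂) (b b' : BIdx W₁ W₂) =>
    indAlpha_gram hW a.2.1 a'.2.1 b.2.1 b'.2.1 a.2.2 a'.2.2 b.2.2 b'.2.2
  have hdeg : ∀ (x : IrrCharacter G) (k : ℕ) (hk : k.Coprime (Nat.card G)),
      charDegree (twistIrr k hk x : G → ℂ) = charDegree (x : G → ℂ) := by
    intro x k hk
    unfold charDegree
    rw [twistIrr_apply, one_pow]
  refine ⟨{ m := fun a b x => coefZ (thetaFun W₁ W₂ a.1 b.1) x
            iA := invA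
            iB := invB
            p1 := twistIrr k₁ hk₁c
            p2 := twistIrr k₂ hk₂c
            deg := fun x => (charDegree (x : G → ℂ) : ℤ)
            iA_inv := fun a => Subtype.ext (inv_inv a.1)
            iA_ne := fun a h => inv_ne_self_of_odd hodd a.2.1 (congrArg Subtype.val h)
            iB_inv := fun b => Subtype.ext (inv_inv b.1)
            iB_ne := fun b h => inv_ne_self_of_odd hodd b.2.1 (congrArg Subtype.val h)
            p1_inv := twistIrr_twistIrr_of_sq hk₁c hk₁sq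
            p2_inv := twistIrr_twistIrr_of_sq hk₂c hk₂sq
            p_comm := fun x => twistIrr_comm hk₁c hk₂c x
            deg_ne := fun x => Int.natCast_ne_zero.mpr (Helper79.irr_one_eq x).2.ne'
            deg_p1 := fun x => by rw [hdeg]
            deg_p2 := fun x => by rw [hdeg]
            m_p1 := fun a b x => coefZ_twist hk₁c (thetaFun_gen W₁ W₂ a.1 b.1)
              (thetaFun_gen W₁ W₂ (invA a).1 b.1) (tw1 a b) x
            m_p2 := fun a b x => coefZ_twist hk₂c (thetaFun_gen W₁ W₂ a.1 b.1)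
              (thetaFun_gen W₁ W₂ a.1 (invB b).1) (tw2 a b) x
            norm := ?_
            row := ?_
            col := ?_
            off := ?_
            degsum := ?_ }, fun _ _ _ => rfl⟩
  · intro a b
    have := gram_theta a.1 b.1 a.1 b.1 (r := 3) (by rw [(gram a a b b).1 rfl rfl]; norm_num)
    rw [← this]
    apply Finset.sum_congr rfl
    intro x _
    ring
  · intro a b b' hb
    exact gram_theta a.1 b.1 a.1 b'.1 (r := 1)
      (by rw [(gram a a b b').2.1 rfl (fun h => hb (Subtype.ext h))]; norm_num)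
  · intro a a' b ha
    exact gram_theta a.1 b.1 a'.1 b.1 (r := 1)
      (by rw [(gram a a' b b).2.2.1 (fun h => ha (Subtype.ext h)) rfl]; norm_num)
  · intro a a' b b' ha hb
    exact gram_theta a.1 b.1 a'.1 b'.1 (r := 0)
      (by rw [(gram a a' b b').2.2.2 (fun h => ha (Subtype.ext h)) (fun h => hb (Subtype.ext h))]
          norm_num)
  · intro a b a' b'
    rw [degsum_theta, degsum_theta]

section assemble

theorem sum_single_smul [Fintype (IrrCharacter G)] [DecidableEq (IrrCharacter G)]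
    (r : IrrCharacter G) (e : ℤ) :
    ∑ x : IrrCharacter G, (((if x = r then e else 0 : ℤ)) : ℂ) • (x : G → ℂ)
      = (e : ℂ) • (r : G → ℂ) := by
  rw [Finset.sum_eq_single r]
  · simp
  · intro b _ hb
    simp [hb]
  · intro h
    exact absurd (Finset.mem_univ r) h

theorem si_of_sign {e : ℤ} (he : e = 1 ∨ e = -1) (x : IrrCharacter G) :
    Helper25.SI ((e : ℂ) • (x : G → ℂ)) := by
  rcases he with rfl | rfl
  · left
    have : ((1 : ℤ) : ℂ) • (x : G → ℂ) = (x : G → ℂ) := by simp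
    rw [this]
    exact x.2
  · right
    have : -(((-1 : ℤ) : ℂ) • (x : G → ℂ)) = (x : G → ℂ) := by
      funext g
      simp
    rw [this]
    exact x.2

theorem inner_sign (e e' : ℤ) (x x' : IrrCharacter G) [Decidable (x = x')] :
    classInner ((e : ℂ) • (x : G → ℂ)) ((e' : ℂ) • (x' : G → ℂ))
      = if x = x' then ((e * e' : ℤ) : ℂ) else 0 := by
  classical
  rw [Helper25.classInner_smul_smul, Helper80.classInner_irr, map_intCast]
  by_cases h : x = x'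
  · rw [if_pos h, if_pos h]
    push_cast
    ring
  · rw [if_neg h, if_neg h]
    ring

open Classical in
/-- optional index in `AIdx` -/
noncomputable def optA (φ : ↥(W₁ ⊔ W₂) →* ℂˣ) : Option (AIdx W₁ W₂) :=
  if h : (φ ≠ 1 ∧ ∀ v : ↥(W₁ ⊔ W₂), (v : G) ∈ W₂ → φ v = 1) then some ⟨φ, h⟩ else none

open Classical in
/-- optional index in `BIdx` -/
noncomputable def optB (ψ : ↥(W₁ ⊔ W₂) →* ℂˣ) : Option (BIdx W₁ W₂) :=
  if h : (ψ ≠ 1 ∧ ∀ v : ↥(W₁ ⊔ W₂), (v : G) ∈ W₁ → ψ v = 1) then some ⟨ψ, h⟩ else none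

theorem optA_one : optA (W₁ := W₁) (W₂ := W₂) 1 = none := by
  unfold optA
  rw [dif_neg]
  exact fun h => h.1 rfl

theorem optB_one : optB (W₁ := W₁) (W₂ := W₂) 1 = none := by
  unfold optB
  rw [dif_neg]
  exact fun h => h.1 rfl

theorem optA_some (a : AIdx W₁ W₂) : optA a.1 = some a := by
  unfold optA
  rw [dif_pos a.2]

theorem optB_some (b : BIdx W₁ W₂) : optB b.1 = some b := by
  unfold optB
  rw [dif_pos b.2]

theorem optA_inj {φ φ' : ↥(W₁ ⊔ W₂) →* ℂˣ}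
    (hφ : ∀ v : ↥(W₁ ⊔ W₂), (v : G) ∈ W₂ → φ v = 1)
    (hφ' : ∀ v : ↥(W₁ ⊔ W₂), (v : G) ∈ W₂ → φ' v = 1) (h : optA φ = optA φ') : φ = φ' := by
  unfold optA at h
  by_cases h1 : (φ ≠ 1 ∧ ∀ v : ↥(W₁ ⊔ W₂), (v : G) ∈ W₂ → φ v = 1)
  · by_cases h2 : (φ' ≠ 1 ∧ ∀ v : ↥(W₁ ⊔ W₂), (v : G) ∈ W₂ → φ' v = 1)
    · rw [dif_pos h1, dif_pos h2] at h
      exact congrArg Subtype.val (Option.some.inj h)
    · rw [dif_pos h1, dif_neg h2] at h
      cases h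
  · by_cases h2 : (φ' ≠ 1 ∧ ∀ v : ↥(W₁ ⊔ W₂), (v : G) ∈ W₂ → φ' v = 1)
    · rw [dif_neg h1, dif_pos h2] at h
      cases h
    · have e1 : φ = 1 := by
        by_contra hne
        exact h1 ⟨hne, hφ⟩
      have e2 : φ' = 1 := by
        by_contra hne
        exact h2 ⟨hne, hφ'⟩
      rw [e1, e2]

theorem optB_inj {ψ ψ' : ↥(W₁ ⊔ W₂) →* ℂˣ}
    (hψ : ∀ v : ↥(W₁ ⊔ W₂), (v : G) ∈ W₁ → ψ v = 1)
    (hψ' : ∀ v : ↥(W₁ ⊔ W₂), (v : G) ∈ W₁ → ψ' v = 1) (h : optB ψ = optB ψ') : ψ = ψ' := by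
  unfold optB at h
  by_cases h1 : (ψ ≠ 1 ∧ ∀ v : ↥(W₁ ⊔ W₂), (v : G) ∈ W₁ → ψ v = 1)
  · by_cases h2 : (ψ' ≠ 1 ∧ ∀ v : ↥(W₁ ⊔ W₂), (v : G) ∈ W₁ → ψ' v = 1)
    · rw [dif_pos h1, dif_pos h2] at h
      exact congrArg Subtype.val (Option.some.inj h)
    · rw [dif_pos h1, dif_neg h2] at h
      cases h
  · by_cases h2 : (ψ' ≠ 1 ∧ ∀ v : ↥(W₁ ⊔ W₂), (v : G) ∈ W₁ → ψ' v = 1)
    · rw [dif_neg h1, dif_pos h2] at h
      cases h
    · have e1 : ψ = 1 := by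
        by_contra hne
        exact h1 ⟨hne, hψ⟩
      have e2 : ψ' = 1 := by
        by_contra hne
        exact h2 ⟨hne, hψ'⟩
      rw [e1, e2]

end assemble

end Cfsg.Agent.Helper25.CycPlug
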