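import Mathlib
import Cfsg.Prelude.Def_OddOrderChar
import Cfsg.Prelude.Def_OddOrderLocal
import Cfsg.Agent.Lib.Helper25.CycPlugC

set_option autoImplicit false

namespace Cfsg.Agent.Helper25.CycPlug

open Cfsg
open scoped ComplexConjugate

universe u
variable {G : Type u} [Group G] [Fintype G] {W₁ W₂ : Subgroup G}

theorem nonempty_AIdx (hW : IsSelfNormalizingCyclic W₁ W₂) : Nonempty (AIdx W₁ W₂) := by
  obtain ⟨hW₁ne, hW₂ne, hinf, hcomm, hcyc, -⟩ := hW
  obtain ⟨⟨x, hx⟩, hx1⟩ := (Subgroup.ne_bot_iff_exists_ne_one).mp hW₁ne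
  have hx1' : x ≠ 1 := fun h => hx1 (Subtype.ext h)
  have hx2 : x ∉ W₂ := by
    intro h
    have : x ∈ W₁ ⊓ W₂ := ⟨hx, h⟩
    rw [hinf, Subgroup.mem_bot] at this
    exact hx1' this
  obtain ⟨φ, h1, h2⟩ := Helper25.exists_ne_one_left W₁ W₂ hinf hcomm hcyc
    ⟨x, Subgroup.mem_sup_left hx⟩ hx2
  refine ⟨⟨φ, ?_, h1⟩⟩
  rintro rfl
  exact h2 rfl

theorem nonempty_BIdx (hW : IsSelfNormalizingCyclic W₁ W₂) : Nonempty (BIdx W₁ W₂) := by
  obtain ⟨hW₁ne, hW₂ne, hinf, hcomm, hcyc, -⟩ := hW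
  obtain ⟨⟨x, hx⟩, hx1⟩ := (Subgroup.ne_bot_iff_exists_ne_one).mp hW₂ne
  have hx1' : x ≠ 1 := fun h => hx1 (Subtype.ext h)
  have hx2 : x ∉ W₁ := by
    intro h
    have : x ∈ W₁ ⊓ W₂ := ⟨h, hx⟩
    rw [hinf, Subgroup.mem_bot] at this
    exact hx1' this
  obtain ⟨ψ, h1, h2⟩ := Helper25.exists_ne_one_right W₁ W₂ hinf hcomm hcyc
    ⟨x, Subgroup.mem_sup_right hx⟩ hx2
  refine ⟨⟨ψ, ?_, h1⟩⟩
  rintro rfl
  exact h2 rfl

/-- Existence of the cyclic TI family (Peterfalvi (3.2)/(3.5)). -/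
theorem exists_family (hW : IsSelfNormalizingCyclic W₁ W₂) (hodd : Odd (Nat.card ↥(W₁ ⊔ W₂))) :
    ∃ χ : (↥(W₁ ⊔ W₂) →* ℂˣ) → (G → ℂ), IsCyclicTIFamily W₁ W₂ χ := by
  classical
  haveI : Fintype (IrrCharacter G) := Fintype.ofFinite _
  haveI := nonempty_AIdx hW
  haveI := nonempty_BIdx hW
  obtain ⟨c, hc⟩ := exists_cfg hW hodd
  obtain ⟨ra, rb, rc, ea, eb, ec, hea, heb, hec, hm, hra, hrb, hrc, hab, hac, hbc, -⟩ :=
    c.structure_thm
  obtain ⟨a₀⟩ := nonempty_AIdx hW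
  obtain ⟨b₀⟩ := nonempty_BIdx hW
  -- the principal character
  obtain ⟨x₀, hx₀⟩ : ∃ x₀ : IrrCharacter G, (x₀ : G → ℂ) = fun _ => 1 :=
    ⟨⟨_, Helper81.isIrrCharacter_one⟩, rfl⟩
  have hprinc : ∀ a b, c.m a b x₀ = 0 := by
    intro a b
    rw [hc]
    have h1 := coefZ_spec (thetaFun_gen W₁ W₂ a.1 b.1) x₀
    rw [hx₀, thetaFun_principal hW a.2.1 b.2.1 a.2.2 b.2.2] at h1
    exact_mod_cast h1
  have hne_of : ∀ (e : ℤ), (e = 1 ∨ e = -1) → e ≠ 0 := by
    rintro e (rfl | rfl) <;> norm_num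
  have hra0 : ∀ a, ra a ≠ x₀ := by
    intro a h
    have h1 := hm a b₀ (ra a)
    rw [if_pos rfl, if_neg (hab a b₀), if_neg (hac a a b₀), h, hprinc] at h1
    exact hne_of _ (hea a) (by linarith)
  have hrb0 : ∀ b, rb b ≠ x₀ := by
    intro b h
    have h1 := hm a₀ b (rb b)
    rw [if_neg (fun h' => hab a₀ b h'.symm), if_pos rfl, if_neg (hbc b a₀ b), h, hprinc] at h1
    exact hne_of _ (heb b) (by linarith)
  have hrc0 : ∀ a b, rc a b ≠ x₀ := by
    intro a b h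
    have h1 := hm a b (rc a b)
    rw [if_neg (fun h' => hac a a b h'.symm), if_neg (fun h' => hbc b a b h'.symm), if_pos rfl,
      h, hprinc] at h1
    exact hne_of _ (hec a b) (by linarith)
  -- decomposition of theta
  have hdecomp : ∀ (a : AIdx W₁ W₂) (b : BIdx W₁ W₂), thetaFun W₁ W₂ a.1 b.1 =
      (ea a : ℂ) • (ra a : G → ℂ) + (eb b : ℂ) • (rb b : G → ℂ)
        + (ec a b : ℂ) • (rc a b : G → ℂ) := by
    intro a b
    refine (genChar_expand (thetaFun_gen W₁ W₂ a.1 b.1)).trans ?_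
    rw [← sum_single_smul (ra a) (ea a), ← sum_single_smul (rb b) (eb b),
      ← sum_single_smul (rc a b) (ec a b), ← Finset.sum_add_distrib, ← Finset.sum_add_distrib]
    apply Finset.sum_congr rfl
    intro x _
    rw [← hc, hm a b x]
    push_cast
    rw [add_smul, add_smul]
  -- index and sign functions
  obtain ⟨idx, hi00, hi10, hi01, hi11⟩ : ∃ idx : Option (AIdx W₁ W₂) × Option (BIdx W₁ W₂) →
      IrrCharacter G, idx (none, none) = x₀ ∧ (∀ a, idx (some a, none) = ra a) ∧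
      (∀ b, idx (none, some b) = rb b) ∧ (∀ a b, idx (some a, some b) = rc a b) :=
    ⟨fun p => match p with
      | (none, none) => x₀
      | (some a, none) => ra a
      | (none, some b) => rb b
      | (some a, some b) => rc a b, rfl, fun _ => rfl, fun _ => rfl, fun _ _ => rfl⟩
  obtain ⟨sgn, hs00, hs10, hs01, hs11⟩ : ∃ sgn : Option (AIdx W₁ W₂) × Option (BIdx W₁ W₂) → ℤ,
      sgn (none, none) = 1 ∧ (∀ a, sgn (some a, none) = -ea a) ∧
      (∀ b, sgn (none, some b) = -eb b) ∧ (∀ a b, sgn (some a, some b) = ec a b) :=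
    ⟨fun p => match p with
      | (none, none) => 1
      | (some a, none) => -ea a
      | (none, some b) => -eb b
      | (some a, some b) => ec a b, rfl, fun _ => rfl, fun _ => rfl, fun _ _ => rfl⟩
  have hidx_inj : Function.Injective idx := by
    rintro ⟨oa, ob⟩ ⟨oa', ob'⟩ h
    rcases oa with _ | a <;> rcases ob with _ | b <;> rcases oa' with _ | a' <;>
      rcases ob' with _ | b'
    · rfl
    · rw [hi00, hi01] at h; exact absurd h.symm (hrb0 b')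
    · rw [hi00, hi10] at h; exact absurd h.symm (hra0 a')
    · rw [hi00, hi11] at h; exact absurd h.symm (hrc0 a' b')
    · rw [hi01, hi00] at h; exact absurd h (hrb0 b)
    · rw [hi01, hi01] at h; rw [hrb h]
    · rw [hi01, hi10] at h; exact absurd h.symm (hab a' b)
    · rw [hi01, hi11] at h; exact absurd h (hbc b a' b')
    · rw [hi10, hi00] at h; exact absurd h (hra0 a)
    · rw [hi10, hi01] at h; exact absurd h (hab a b')
    · rw [hi10, hi10] at h; rw [hra h]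
    · rw [hi10, hi11] at h; exact absurd h (hac a a' b')
    · rw [hi11, hi00] at h; exact absurd h (hrc0 a b)
    · rw [hi11, hi01] at h; exact absurd h.symm (hbc b' a b)
    · rw [hi11, hi10] at h; exact absurd h.symm (hac a' a b)
    · rw [hi11, hi11] at h
      obtain ⟨h1, h2⟩ := hrc a b a' b' h
      rw [h1, h2]
  have hsgn : ∀ p, sgn p = 1 ∨ sgn p = -1 := by
    rintro ⟨oa, ob⟩
    rcases oa with _ | a <;> rcases ob with _ | b
    · left; exact hs00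
    · rw [hs01]
      rcases heb b with h | h <;> rw [h]
      · right; rfl
      · left; rfl
    · rw [hs10]
      rcases hea a with h | h <;> rw [h]
      · right; rfl
      · left; rfl
    · rw [hs11]; exact hec a b
  have hsgn_sq : ∀ p, sgn p * sgn p = 1 := by
    intro p
    rcases hsgn p with h | h <;> rw [h] <;> norm_num
  -- the pre-family
  obtain ⟨E, hE⟩ : ∃ E : (↥(W₁ ⊔ W₂) →* ℂˣ) → (↥(W₁ ⊔ W₂) →* ℂˣ) → (G → ℂ),
      ∀ φ ψ, E φ ψ = ((sgn (optA φ, optB ψ) : ℤ) : ℂ) • (idx (optA φ, optB ψ) : G → ℂ) :=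
    ⟨_, fun _ _ => rfl⟩
  apply family_of_E W₁ W₂ hW E
  · intro φ ψ _ _
    rw [hE]
    exact si_of_sign (hsgn _) _
  · intro φ ψ φ' ψ' hφ hψ hφ' hψ'
    rw [hE, hE, inner_sign]
    by_cases h : φ = φ' ∧ ψ = ψ'
    · obtain ⟨rfl, rfl⟩ := h
      rw [if_pos rfl, if_pos ⟨rfl, rfl⟩, hsgn_sq]
      norm_num
    · rw [if_neg h, if_neg]
      intro h'
      have h2 := hidx_inj h'
      apply h
      exact ⟨optA_inj hφ hφ' (congrArg Prod.fst h2), optB_inj hψ hψ' (congrArg Prod.snd h2)⟩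
  · rw [hE, optA_one, optB_one, hs00, hi00, hx₀]
    funext g
    simp
  · intro φ ψ hφ1 hψ1 hφ hψ
    obtain ⟨a, ha⟩ : ∃ a : AIdx W₁ W₂, a.1 = φ := ⟨⟨φ, hφ1, hφ⟩, rfl⟩
    obtain ⟨b, hb⟩ : ∃ b : BIdx W₁ W₂, b.1 = ψ := ⟨⟨ψ, hψ1, hψ⟩, rfl⟩
    have e1 : indFun (W₁ ⊔ W₂) (Helper25.alphaFun W₁ W₂ φ ψ) =
        thetaFun W₁ W₂ φ ψ + fun _ => 1 := by
      unfold thetaFun
      rw [sub_add_cancel]
    rw [e1, hE, hE, hE, hE, ← ha, ← hb, optA_one, optB_one, optA_some, optB_some, hs00, hs10,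
      hs01, hs11, hi00, hi10, hi01, hi11, hx₀, hdecomp a b]
    funext g
    simp only [Pi.add_apply, Pi.sub_apply, Pi.smul_apply, smul_eq_mul]
    push_cast
    ring

end Cfsg.Agent.Helper25.CycPlug
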