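import Mathlib
import Cfsg.Prelude.Def_OddOrderChar
import Cfsg.Agent.S1498
import Cfsg.Agent.S1499

set_option autoImplicit false

namespace Cfsg.Agent.Helper25

open Cfsg
open scoped Pointwise

universe u

section dade
variable {G : Type u} [Group G] [Finite G] {A : Set G} {L : Subgroup G} {H : G → Subgroup G}

/-- membership in the Dade support -/
def InD (A : Set G) (H : G → Subgroup G) (g : G) : Prop :=
  ∃ a ∈ A, ∃ u ∈ H a, ∃ x : G, x * g * x⁻¹ = a * u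

theorem dade_H_conj (hD : DadeHypothesis A L H) {a : G} (ha : a ∈ A) {l : G} (hl : l ∈ L)
    {u : G} (hu : u ∈ H a) : l * u * l⁻¹ ∈ H (l * a * l⁻¹) := by
  rw [Cfsg.Agent.S1498.result A L H hD a ha l hl]
  exact ⟨u, hu, rfl⟩

theorem dade_card_H_conj (hD : DadeHypothesis A L H) {a : G} (ha : a ∈ A) {l : G} (hl : l ∈ L) :
    Nat.card (H (l * a * l⁻¹)) = Nat.card (H a) := by
  rw [Cfsg.Agent.S1498.result A L H hD a ha l hl]
  exact Subgroup.card_map_of_injective (MulAut.conj l).injective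

theorem dade_centralizer_decomp (hD : DadeHypothesis A L H) {a : G} (ha : a ∈ A) {c : G}
    (hc : c ∈ Subgroup.centralizer ({a} : Set G)) :
    ∃ h ∈ H a, ∃ c' ∈ L ⊓ Subgroup.centralizer ({a} : Set G), c = h * c' := by
  have hLE : L ⊓ Subgroup.centralizer ({a} : Set G) ≤ Subgroup.normalizer (H a : Set G) := by
    intro c' hc'
    rw [Subgroup.mem_normalizer_iff]
    intro u
    constructor
    · intro hu
      exact hD.conj_mem_H a ha c' hc'.2 u hu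
    · intro hu
      have := hD.conj_mem_H a ha c'⁻¹ (inv_mem hc'.2) _ hu
      have e : c'⁻¹ * (c' * u * c'⁻¹) * c'⁻¹⁻¹ = u := by group
      rwa [e] at this
  have h1 := Subgroup.coe_mul_of_right_le_normalizer_left (H a)
    (L ⊓ Subgroup.centralizer ({a} : Set G)) hLE
  rw [hD.sup_eq a ha] at h1
  have h2 : c ∈ ((H a : Set G) * ((L ⊓ Subgroup.centralizer ({a} : Set G) : Subgroup G) : Set G)) := by
    rw [← h1]; exact hc
  obtain ⟨h, hh, c', hc', rfl⟩ := Set.mem_mul.mp h2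
  exact ⟨h, hh, c', hc', rfl⟩

theorem dade_mem_LH_of_conj (hD : DadeHypothesis A L H) {a₀ u₀ a u z : G} (ha₀ : a₀ ∈ A)
    (hu₀ : u₀ ∈ H a₀) (ha : a ∈ A) (hu : u ∈ H a) (hz : z * (a₀ * u₀) * z⁻¹ = a * u) :
    z * a₀ * z⁻¹ = a ∧ ∃ l ∈ L, ∃ h ∈ H a₀, z = l * h := by
  have h1 := Cfsg.Agent.S1499.conj_eq A L H hD a₀ a ha₀ ha u₀ u hu₀ hu z hz
  refine ⟨h1, ?_⟩
  have h2 : z * a₀ * z⁻¹ ∈ A := h1 ▸ ha
  obtain ⟨l, hl, hl2⟩ := hD.fusion a₀ ha₀ z h2
  have hc : l⁻¹ * z ∈ Subgroup.centralizer ({a₀} : Set G) := by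
    rw [Subgroup.mem_centralizer_singleton_iff]
    have : l⁻¹ * (l * a₀ * l⁻¹) * l = l⁻¹ * (z * a₀ * z⁻¹) * l := by rw [hl2]
    have e1 : l⁻¹ * (l * a₀ * l⁻¹) * l = a₀ := by group
    rw [e1] at this
    calc l⁻¹ * z * a₀ = (l⁻¹ * (z * a₀ * z⁻¹) * l) * (l⁻¹ * z) := by group
      _ = a₀ * (l⁻¹ * z) := by rw [← this]
  obtain ⟨h, hh, c', hc', hdec⟩ := dade_centralizer_decomp hD ha₀ hc
  refine ⟨l * c', L.mul_mem hl hc'.1, c'⁻¹ * h * c'⁻¹⁻¹, ?_, ?_⟩
  · exact hD.conj_mem_H a₀ ha₀ c'⁻¹ (inv_mem hc'.2) h hh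
  · have : z = l * (h * c') := by rw [← hdec]; group
    rw [this]; group

theorem dade_conj_of_mem_LH (hD : DadeHypothesis A L H) {a₀ u₀ l h : G} (ha₀ : a₀ ∈ A)
    (hu₀ : u₀ ∈ H a₀) (hl : l ∈ L) (hh : h ∈ H a₀) :
    l * a₀ * l⁻¹ ∈ A ∧ (l * h) * a₀ * (l * h)⁻¹ = l * a₀ * l⁻¹ ∧
      (l * a₀ * l⁻¹)⁻¹ * ((l * h) * (a₀ * u₀) * (l * h)⁻¹) ∈ H (l * a₀ * l⁻¹) := by
  have hcomm : h * a₀ = a₀ * h := by
    have := hD.le_centralizer a₀ ha₀ hh
    rw [Subgroup.mem_centralizer_singleton_iff] at this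
    exact this
  have e1 : (l * h) * a₀ * (l * h)⁻¹ = l * a₀ * l⁻¹ := by
    calc (l * h) * a₀ * (l * h)⁻¹ = l * (h * a₀) * h⁻¹ * l⁻¹ := by group
      _ = l * (a₀ * h) * h⁻¹ * l⁻¹ := by rw [hcomm]
      _ = l * a₀ * l⁻¹ := by group
  refine ⟨hD.conj_mem l hl a₀ ha₀, e1, ?_⟩
  have e2 : (l * a₀ * l⁻¹)⁻¹ * ((l * h) * (a₀ * u₀) * (l * h)⁻¹) = l * (h * u₀ * h⁻¹) * l⁻¹ := by
    calc (l * a₀ * l⁻¹)⁻¹ * ((l * h) * (a₀ * u₀) * (l * h)⁻¹)
        = l * a₀⁻¹ * (h * a₀) * u₀ * h⁻¹ * l⁻¹ := by group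
      _ = l * a₀⁻¹ * (a₀ * h) * u₀ * h⁻¹ * l⁻¹ := by rw [hcomm]
      _ = l * (h * u₀ * h⁻¹) * l⁻¹ := by group
  rw [e2]
  exact dade_H_conj hD ha₀ hl ((H a₀).mul_mem ((H a₀).mul_mem hh hu₀) ((H a₀).inv_mem hh))

theorem dade_LH_injective (hD : DadeHypothesis A L H) {a₀ : G} (ha₀ : a₀ ∈ A) :
    Function.Injective (fun p : L × H a₀ => (p.1 : G) * (p.2 : G)) := by
  rintro ⟨l, h⟩ ⟨l', h'⟩ heq
  have h1 : (l : G) * h = l' * h' := heq
  have h2 : (l' : G)⁻¹ * l = h' * (h : G)⁻¹ := by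
    rw [inv_mul_eq_iff_eq_mul, ← mul_assoc, ← h1]; group
  have h3 : (h' : G) * (h : G)⁻¹ ∈ H a₀ ⊓ (L ⊓ Subgroup.centralizer ({a₀} : Set G)) := by
    have hH : (h' : G) * (h : G)⁻¹ ∈ H a₀ := (H a₀).mul_mem h'.2 ((H a₀).inv_mem h.2)
    refine Subgroup.mem_inf.mpr ⟨hH, Subgroup.mem_inf.mpr ⟨?_, hD.le_centralizer a₀ ha₀ hH⟩⟩
    rw [← h2]
    exact L.mul_mem (L.inv_mem l'.2) l.2
  rw [hD.inf_eq_bot a₀ ha₀, Subgroup.mem_bot] at h3
  have h4 : (h' : G) = h := by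
    rw [mul_inv_eq_one] at h3; exact h3
  have h5 : (l : G) = l' := by
    rw [h4] at h1; exact mul_right_cancel h1
  exact Prod.ext (Subtype.ext h5) (Subtype.ext h4.symm)

end dade

section sums
variable {G : Type u} [Group G] [Fintype G] {A : Set G} {L : Subgroup G} [Fintype L]
  {H : G → Subgroup G}
variable {K : Type*} [Field K] [CharZero K]

open Classical in
theorem dade_inner_sum (hD : DadeHypothesis A L H) {a₀ u₀ : G} (ha₀ : a₀ ∈ A) (hu₀ : u₀ ∈ H a₀)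
    (z : G) :
    ∑ a : L, (if (a : G) ∈ A ∧ (a : G)⁻¹ * (z * (a₀ * u₀) * z⁻¹) ∈ H a
        then ((Nat.card (H a) : K))⁻¹ else 0)
      = if (∃ l ∈ L, ∃ h ∈ H a₀, z = l * h) then ((Nat.card (H a₀) : K))⁻¹ else 0 := by
  split_ifs with hz
  · obtain ⟨l, hl, h, hh, rfl⟩ := hz
    obtain ⟨e1, e2, e3⟩ := dade_conj_of_mem_LH hD ha₀ hu₀ hl hh
    rw [Finset.sum_eq_single (⟨l * a₀ * l⁻¹,
      L.mul_mem (L.mul_mem hl (hD.subset ha₀)) (L.inv_mem hl)⟩ : L)]
    · rw [if_pos ⟨e1, e3⟩, dade_card_H_conj hD ha₀ hl]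
    · intro b _ hb
      rw [if_neg]
      rintro ⟨hbA, hbH⟩
      apply hb
      have := (dade_mem_LH_of_conj hD ha₀ hu₀ hbA hbH (z := l * h)
        (mul_inv_cancel_left (b : G) _).symm).1
      apply Subtype.ext
      rw [← this, e2]
    · intro h'
      exact absurd (Finset.mem_univ _) h'
  · apply Finset.sum_eq_zero
    intro b _
    rw [if_neg]
    rintro ⟨hbA, hbH⟩
    apply hz
    exact (dade_mem_LH_of_conj hD ha₀ hu₀ hbA hbH (z := z)
      (mul_inv_cancel_left (b : G) _).symm).2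

open Classical in
theorem dade_sum_LH (hD : DadeHypothesis A L H) {a₀ : G} (ha₀ : a₀ ∈ A) (c : K) :
    ∑ z : G, (if (∃ l ∈ L, ∃ h ∈ H a₀, z = l * h) then c else 0)
      = (Nat.card L : K) * (Nat.card (H a₀) : K) * c := by
  have : Fintype (H a₀) := Fintype.ofFinite _
  rw [← Finset.sum_filter, Finset.sum_const, nsmul_eq_mul]
  have hset : (Finset.univ.filter (fun z : G => ∃ l ∈ L, ∃ h ∈ H a₀, z = l * h))
      = Finset.image (fun p : L × H a₀ => (p.1 : G) * (p.2 : G)) Finset.univ := by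
    ext z
    simp only [Finset.mem_filter, Finset.mem_univ, true_and, Finset.mem_image, Prod.exists,
      Subtype.exists, exists_prop]
    constructor
    · rintro ⟨l, hl, h, hh, rfl⟩
      exact ⟨l, hl, h, hh, rfl⟩
    · rintro ⟨l, hl, h, hh, rfl⟩
      exact ⟨l, hl, h, hh, rfl⟩
  rw [hset, Finset.card_image_of_injective _ (dade_LH_injective hD ha₀), Finset.card_univ,
    Fintype.card_prod, ← Nat.card_eq_fintype_card, ← Nat.card_eq_fintype_card]
  push_cast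
  ring

open Classical in
theorem dade_fiber (hD : DadeHypothesis A L H) (g : G) :
    ∑ x : G, ∑ a : L, (if (a : G) ∈ A ∧ (a : G)⁻¹ * (x * g * x⁻¹) ∈ H a
        then ((Nat.card (H a) : K))⁻¹ else 0)
      = if InD A H g then (Nat.card L : K) else 0 := by
  split_ifs with hg
  · obtain ⟨a₀, ha₀, u₀, hu₀, x₀, hx₀⟩ := hg
    rw [← Equiv.sum_comp (Equiv.mulRight x₀)]
    have h1 : ∀ z : G, ∑ a : L, (if (a : G) ∈ A ∧
        (a : G)⁻¹ * ((Equiv.mulRight x₀ z) * g * (Equiv.mulRight x₀ z)⁻¹) ∈ H a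
        then ((Nat.card (H a) : K))⁻¹ else 0)
        = if (∃ l ∈ L, ∃ h ∈ H a₀, z = l * h) then ((Nat.card (H a₀) : K))⁻¹ else 0 := by
      intro z
      rw [← dade_inner_sum hD ha₀ hu₀ z]
      have e : (Equiv.mulRight x₀ z) * g * (Equiv.mulRight x₀ z)⁻¹ = z * (a₀ * u₀) * z⁻¹ := by
        rw [← hx₀]
        simp only [Equiv.coe_mulRight]
        group
      rw [e]
    rw [Finset.sum_congr rfl (fun z _ => h1 z), dade_sum_LH hD ha₀]
    have hne : (Nat.card (H a₀) : K) ≠ 0 := by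
      exact_mod_cast (Nat.card_pos (α := H a₀)).ne'
    rw [mul_assoc, mul_inv_cancel₀ hne, mul_one]
  · apply Finset.sum_eq_zero
    intro x _
    apply Finset.sum_eq_zero
    intro a _
    rw [if_neg]
    rintro ⟨haA, haH⟩
    exact hg ⟨a, haA, _, haH, x, (mul_inv_cancel_left (a : G) _).symm⟩

open Classical in
/-- the Dade sum formula -/
theorem dade_sum (hD : DadeHypothesis A L H) (F : G → K) (hF : ∀ g x : G, F (x * g * x⁻¹) = F g) :
    (Nat.card L : K) * ∑ g : G, (if InD A H g then F g else 0)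
      = (Nat.card G : K) * ∑ a : L, (if (a : G) ∈ A then
          ((Nat.card (H a) : K))⁻¹ * ∑ u : G, (if u ∈ H a then F ((a : G) * u) else 0) else 0) := by
  -- the weight
  obtain ⟨w, hw⟩ : ∃ w : L → G → K, w = fun (a : L) (y : G) =>
      if (a : G) ∈ A ∧ (a : G)⁻¹ * y ∈ H a then ((Nat.card (H a) : K))⁻¹ else 0 := ⟨_, rfl⟩
  have hfib : ∀ g : G, ∑ x : G, ∑ a : L, w a (x * g * x⁻¹)
      = if InD A H g then (Nat.card L : K) else 0 := by
    intro g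
    rw [hw]
    exact dade_fiber hD g
  have step1 : (Nat.card L : K) * ∑ g : G, (if InD A H g then F g else 0)
      = ∑ g : G, ∑ x : G, ∑ a : L, F (x * g * x⁻¹) * w a (x * g * x⁻¹) := by
    rw [Finset.mul_sum]
    apply Finset.sum_congr rfl
    intro g _
    have : ∑ x : G, ∑ a : L, F (x * g * x⁻¹) * w a (x * g * x⁻¹)
        = F g * ∑ x : G, ∑ a : L, w a (x * g * x⁻¹) := by
      rw [Finset.mul_sum]
      apply Finset.sum_congr rfl
      intro x _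
      rw [Finset.mul_sum]
      apply Finset.sum_congr rfl
      intro a _
      rw [hF]
    rw [this, hfib g]
    split_ifs <;> ring
  have step2 : ∑ g : G, ∑ x : G, ∑ a : L, F (x * g * x⁻¹) * w a (x * g * x⁻¹)
      = (Nat.card G : K) * ∑ y : G, ∑ a : L, F y * w a y := by
    rw [Finset.sum_comm]
    have : ∀ x : G, ∑ g : G, ∑ a : L, F (x * g * x⁻¹) * w a (x * g * x⁻¹)
        = ∑ y : G, ∑ a : L, F y * w a y := by
      intro x
      exact Equiv.sum_comp (MulAut.conj x).toEquiv (fun y => ∑ a : L, F y * w a y)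
    rw [Finset.sum_congr rfl (fun x _ => this x), Finset.sum_const, Finset.card_univ,
      nsmul_eq_mul, Nat.card_eq_fintype_card]
  have step3 : ∀ a : L, ∑ y : G, F y * w a y = if (a : G) ∈ A then
      ((Nat.card (H a) : K))⁻¹ * ∑ u : G, (if u ∈ H a then F ((a : G) * u) else 0) else 0 := by
    intro a
    rw [hw]
    split_ifs with ha
    · rw [← Equiv.sum_comp (Equiv.mulLeft (a : G)), Finset.mul_sum]
      apply Finset.sum_congr rfl
      intro u _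
      simp only [Equiv.coe_mulLeft, inv_mul_cancel_left, ha, true_and]
      split_ifs <;> ring
    · apply Finset.sum_eq_zero
      intro y _
      show F y * (if (a : G) ∈ A ∧ (a : G)⁻¹ * y ∈ H a then ((Nat.card (H a) : K))⁻¹ else 0) = 0
      rw [if_neg (fun h => ha h.1), mul_zero]
  rw [step1, step2, Finset.sum_comm, Finset.sum_congr rfl (fun a _ => step3 a)]

end sums

section isometry
variable {G : Type u} [Group G] [Finite G] {A : Set G} {L : Subgroup G} {H : G → Subgroup G}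

theorem dadeIsometry_apply_of_not (α : L → ℂ) {g : G}
    (hg : ¬ ∃ a : ↥L, (a : G) ∈ A ∧ ∃ x : G, ∃ u ∈ H (a : G), x * g * x⁻¹ = (a : G) * u) :
    dadeIsometry A L H α g = 0 := by
  unfold dadeIsometry
  rw [dif_neg hg]

theorem inD_iff (hD : DadeHypothesis A L H) (g : G) :
    InD A H g ↔ ∃ a : ↥L, (a : G) ∈ A ∧ ∃ x : G, ∃ u ∈ H (a : G), x * g * x⁻¹ = (a : G) * u := by
  constructor
  · rintro ⟨a, ha, u, hu, x, hx⟩
    exact ⟨⟨a, hD.subset ha⟩, ha, x, u, hu, hx⟩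
  · rintro ⟨a, ha, x, u, hu, hx⟩
    exact ⟨a, ha, u, hu, x, hx⟩

theorem dadeIsometry_apply (hD : DadeHypothesis A L H) (α : L → ℂ) (hα : IsClassFunction L α)
    (a : L) (ha : (a : G) ∈ A) {u : G} (hu : u ∈ H (a : G)) {x g : G}
    (hx : x * g * x⁻¹ = (a : G) * u) : dadeIsometry A L H α g = α a := by
  have h : ∃ a : ↥L, (a : G) ∈ A ∧ ∃ x : G, ∃ u ∈ H (a : G), x * g * x⁻¹ = (a : G) * u :=
    ⟨a, ha, x, u, hu, hx⟩
  unfold dadeIsometry
  rw [dif_pos h]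
  obtain ⟨ha', x', u', hu', hx'⟩ := Classical.choose_spec h
  obtain ⟨a', ha'def⟩ : ∃ a' : L, a' = Classical.choose h := ⟨_, rfl⟩
  rw [← ha'def] at ha' hu' hx' ⊢
  -- a' u' is conjugate to a u
  have hconj : (x * x'⁻¹) * ((a' : G) * u') * (x * x'⁻¹)⁻¹ = (a : G) * u := by
    rw [← hx', ← hx]; group
  have h1 := Cfsg.Agent.S1499.conj_eq A L H hD (a' : G) (a : G) ha' ha u' u hu' hu _ hconj
  have h2 : (x * x'⁻¹) * (a' : G) * (x * x'⁻¹)⁻¹ ∈ A := h1 ▸ ha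
  obtain ⟨l, hl, hl2⟩ := hD.fusion (a' : G) ha' _ h2
  have h3 : (⟨l, hl⟩ : L) * a' * (⟨l, hl⟩ : L)⁻¹ = a := by
    apply Subtype.ext
    simp only [Subgroup.coe_mul, Subgroup.coe_inv]
    rw [hl2, h1]
  rw [← h3, hα]

theorem dadeIsometry_isClassFunction (hD : DadeHypothesis A L H) (α : L → ℂ)
    (hα : IsClassFunction L α) : IsClassFunction G (dadeIsometry A L H α) := by
  intro g y
  by_cases hg : ∃ a : ↥L, (a : G) ∈ A ∧ ∃ x : G, ∃ u ∈ H (a : G), x * g * x⁻¹ = (a : G) * u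
  · obtain ⟨a, ha, x, u, hu, hx⟩ := hg
    rw [dadeIsometry_apply hD α hα a ha hu hx]
    apply dadeIsometry_apply hD α hα a ha hu (x := x * y⁻¹)
    rw [← hx]; group
  · rw [dadeIsometry_apply_of_not α hg]
    apply dadeIsometry_apply_of_not
    rintro ⟨a, ha, x, u, hu, hx⟩
    apply hg
    refine ⟨a, ha, x * y, u, hu, ?_⟩
    rw [← hx]; group

end isometry

section finsum

open Classical in
theorem finsum_mem_eq_sum_ite {α M : Type*} [Fintype α] [AddCommMonoid M] (s : Set α) (f : α → M) :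
    ∑ᶠ a ∈ s, f a = ∑ a : α, if a ∈ s then f a else 0 := by
  rw [finsum_mem_eq_finite_toFinset_sum _ (Set.toFinite s), ← Finset.sum_filter]
  congr 1
  ext a
  simp

end finsum

end Cfsg.Agent.Helper25
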