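import Mathlib

set_option autoImplicit false

namespace Cfsg.Agent.Helper25

/-- Orbit counting: for an invariant integer function `s` on a finite `L`-set, the sum of
`s x * |Stab x|` is divisible by `|L|`. -/
theorem orbit_sum_dvd {L X : Type*} [Group L] [Fintype L] [MulAction L X] [Fintype X]
    (s : X → ℤ) (hs : ∀ (l : L) (x : X), s (l • x) = s x) :
    ∃ m : ℤ, ∑ x : X, s x * (Nat.card (MulAction.stabilizer L x) : ℤ) = (Nat.card L : ℤ) * m := by
  classical
  have hΩ : Fintype (MulAction.orbitRel.Quotient L X) := Fintype.ofFinite _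
  refine ⟨∑ ω : MulAction.orbitRel.Quotient L X, s ω.out, ?_⟩
  rw [← Finset.sum_fiberwise Finset.univ
    (fun x => (Quotient.mk'' x : MulAction.orbitRel.Quotient L X)), Finset.mul_sum]
  apply Finset.sum_congr rfl
  intro ω _
  have hmem : ∀ x : X, (Quotient.mk'' x : MulAction.orbitRel.Quotient L X) = ω ↔
      x ∈ MulAction.orbit L ω.out := by
    intro x
    rw [← MulAction.orbitRel_apply, ← Quotient.eq'', Quotient.out_eq']
  have h1 : ∀ x ∈ Finset.univ.filter
      (fun x => (Quotient.mk'' x : MulAction.orbitRel.Quotient L X) = ω),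
      s x * (Nat.card (MulAction.stabilizer L x) : ℤ) =
        s ω.out * (Nat.card (MulAction.stabilizer L ω.out) : ℤ) := by
    intro x hx
    have hx' := (hmem x).mp (Finset.mem_filter.mp hx).2
    obtain ⟨l, rfl⟩ := hx'
    have e : Nat.card (MulAction.stabilizer L (l • ω.out)) =
        Nat.card (MulAction.stabilizer L ω.out) := by
      rw [MulAction.stabilizer_smul_eq_stabilizer_map_conj]
      exact Subgroup.card_map_of_injective (MulAut.conj l).injective
    show s (l • ω.out) * _ = _
    rw [hs, e]
  rw [Finset.sum_congr rfl h1, Finset.sum_const, nsmul_eq_mul]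
  have h2 : ((Finset.univ.filter
      (fun x => (Quotient.mk'' x : MulAction.orbitRel.Quotient L X) = ω)).card : ℤ) *
      (Nat.card (MulAction.stabilizer L ω.out) : ℤ) = (Nat.card L : ℤ) := by
    have hset : (MulAction.orbit L ω.out) = ((Finset.univ.filter
        (fun x => (Quotient.mk'' x : MulAction.orbitRel.Quotient L X) = ω) : Finset X) : Set X) := by
      ext x
      simp only [Finset.coe_filter, Finset.mem_univ, true_and, Set.mem_ofPred_eq]
      exact (hmem x).symm
    have h3 := MulAction.index_stabilizer L ω.out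
    rw [hset, Set.ncard_coe_finset] at h3
    rw [← h3]
    have h4 := Subgroup.card_mul_index (MulAction.stabilizer L ω.out)
    rw [mul_comm] at h4
    exact_mod_cast h4
  calc ((Finset.univ.filter
      (fun x => (Quotient.mk'' x : MulAction.orbitRel.Quotient L X) = ω)).card : ℤ) *
      (s ω.out * (Nat.card (MulAction.stabilizer L ω.out) : ℤ))
      = s ω.out * (((Finset.univ.filter
      (fun x => (Quotient.mk'' x : MulAction.orbitRel.Quotient L X) = ω)).card : ℤ) *
      (Nat.card (MulAction.stabilizer L ω.out) : ℤ)) := by ring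
    _ = (Nat.card L : ℤ) * s ω.out := by rw [h2]; ring

end Cfsg.Agent.Helper25
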