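import Mathlib

set_option autoImplicit false

namespace Cfsg.Agent.Helper25

variable {G : Type*} [Group G]

/-- The internal semidirect product `Hs ⋊ Ns` of two subgroups with `Ns` normalizing `Hs`. -/
def semiSub (Hs Ns : Subgroup G) (hnorm : ∀ l ∈ Ns, ∀ h ∈ Hs, l * h * l⁻¹ ∈ Hs) : Subgroup G where
  carrier := {y | ∃ h ∈ Hs, ∃ l ∈ Ns, y = h * l}
  one_mem' := ⟨1, Hs.one_mem, 1, Ns.one_mem, by simp⟩
  mul_mem' := by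
    rintro _ _ ⟨h, hh, l, hl, rfl⟩ ⟨h', hh', l', hl', rfl⟩
    refine ⟨h * (l * h' * l⁻¹), Hs.mul_mem hh (hnorm l hl h' hh'), l * l', Ns.mul_mem hl hl', ?_⟩
    group
  inv_mem' := by
    rintro _ ⟨h, hh, l, hl, rfl⟩
    refine ⟨l⁻¹ * h⁻¹ * l⁻¹⁻¹, hnorm l⁻¹ (Ns.inv_mem hl) h⁻¹ (Hs.inv_mem hh), l⁻¹, Ns.inv_mem hl, ?_⟩
    group

theorem mem_semiSub (Hs Ns : Subgroup G) (hnorm : ∀ l ∈ Ns, ∀ h ∈ Hs, l * h * l⁻¹ ∈ Hs) (y : G) :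
    y ∈ semiSub Hs Ns hnorm ↔ ∃ h ∈ Hs, ∃ l ∈ Ns, y = h * l := Iff.rfl

theorem semi_unique (Hs Ns : Subgroup G) (hdisj : Hs ⊓ Ns = ⊥) {h h' l l' : G}
    (hh : h ∈ Hs) (hh' : h' ∈ Hs) (hl : l ∈ Ns) (hl' : l' ∈ Ns) (heq : h * l = h' * l') :
    h = h' ∧ l = l' := by
  have h1 : h'⁻¹ * h = l' * l⁻¹ := by
    calc h'⁻¹ * h = h'⁻¹ * (h * l) * l⁻¹ := by group
      _ = h'⁻¹ * (h' * l') * l⁻¹ := by rw [heq]
      _ = l' * l⁻¹ := by group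
  have h2 : h'⁻¹ * h ∈ Hs ⊓ Ns := by
    refine Subgroup.mem_inf.mpr ⟨Hs.mul_mem (Hs.inv_mem hh') hh, ?_⟩
    rw [h1]; exact Ns.mul_mem hl' (Ns.inv_mem hl)
  rw [hdisj, Subgroup.mem_bot] at h2
  have h3 : h = h' := by
    calc h = h' * (h'⁻¹ * h) := by group
      _ = h' := by rw [h2, mul_one]
  refine ⟨h3, ?_⟩
  rw [h3] at heq
  exact mul_left_cancel heq

/-- The product map `Hs × Ns → Hs ⋊ Ns` is a bijection. -/
noncomputable def semiEquiv (Hs Ns : Subgroup G) (hnorm : ∀ l ∈ Ns, ∀ h ∈ Hs, l * h * l⁻¹ ∈ Hs)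
    (hdisj : Hs ⊓ Ns = ⊥) : Hs × Ns ≃ semiSub Hs Ns hnorm :=
  Equiv.ofBijective (fun p => ⟨(p.1 : G) * (p.2 : G), ⟨p.1, p.1.2, p.2, p.2.2, rfl⟩⟩) (by
    constructor
    · rintro ⟨h, l⟩ ⟨h', l'⟩ heq
      have := congrArg Subtype.val heq
      simp only at this
      obtain ⟨e1, e2⟩ := semi_unique Hs Ns hdisj h.2 h'.2 l.2 l'.2 this
      exact Prod.ext (Subtype.ext e1) (Subtype.ext e2)
    · rintro ⟨y, h, hh, l, hl, rfl⟩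
      exact ⟨(⟨h, hh⟩, ⟨l, hl⟩), rfl⟩)

theorem semiEquiv_apply (Hs Ns : Subgroup G) (hnorm : ∀ l ∈ Ns, ∀ h ∈ Hs, l * h * l⁻¹ ∈ Hs)
    (hdisj : Hs ⊓ Ns = ⊥) (p : Hs × Ns) :
    ((semiEquiv Hs Ns hnorm hdisj p : semiSub Hs Ns hnorm) : G) = (p.1 : G) * (p.2 : G) := rfl

/-- The projection `Hs ⋊ Ns → Ns`. -/
noncomputable def semiProj (Hs Ns : Subgroup G) (hnorm : ∀ l ∈ Ns, ∀ h ∈ Hs, l * h * l⁻¹ ∈ Hs)
    (hdisj : Hs ⊓ Ns = ⊥) : semiSub Hs Ns hnorm →* Ns where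
  toFun y := ((semiEquiv Hs Ns hnorm hdisj).symm y).2
  map_one' := by
    have h1 : (semiEquiv Hs Ns hnorm hdisj) (1, 1) = 1 := by
      apply Subtype.ext
      rw [semiEquiv_apply]; simp
    have h2 : (semiEquiv Hs Ns hnorm hdisj).symm 1 = (1, 1) := by
      rw [← h1, Equiv.symm_apply_apply]
    rw [h2]
  map_mul' := by
    intro y y'
    obtain ⟨p, rfl⟩ := (semiEquiv Hs Ns hnorm hdisj).surjective y
    obtain ⟨p', rfl⟩ := (semiEquiv Hs Ns hnorm hdisj).surjective y'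
    have h1 : (semiEquiv Hs Ns hnorm hdisj) p * (semiEquiv Hs Ns hnorm hdisj) p' =
        (semiEquiv Hs Ns hnorm hdisj)
          (⟨(p.1 : G) * ((p.2 : G) * p'.1 * (p.2 : G)⁻¹),
            Hs.mul_mem p.1.2 (hnorm p.2 p.2.2 p'.1 p'.1.2)⟩, p.2 * p'.2) := by
      apply Subtype.ext
      rw [Subgroup.coe_mul, semiEquiv_apply, semiEquiv_apply, semiEquiv_apply]
      simp only [Subgroup.coe_mul]
      group
    rw [h1, Equiv.symm_apply_apply, Equiv.symm_apply_apply, Equiv.symm_apply_apply]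

theorem semiProj_apply (Hs Ns : Subgroup G) (hnorm : ∀ l ∈ Ns, ∀ h ∈ Hs, l * h * l⁻¹ ∈ Hs)
    (hdisj : Hs ⊓ Ns = ⊥) (p : Hs × Ns) :
    semiProj Hs Ns hnorm hdisj (semiEquiv Hs Ns hnorm hdisj p) = p.2 := by
  show ((semiEquiv Hs Ns hnorm hdisj).symm (semiEquiv Hs Ns hnorm hdisj p)).2 = p.2
  rw [Equiv.symm_apply_apply]

theorem card_semiSub [Finite G] (Hs Ns : Subgroup G)
    (hnorm : ∀ l ∈ Ns, ∀ h ∈ Hs, l * h * l⁻¹ ∈ Hs) (hdisj : Hs ⊓ Ns = ⊥) :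
    Nat.card (semiSub Hs Ns hnorm) = Nat.card Hs * Nat.card Ns := by
  rw [← Nat.card_prod]
  exact (Nat.card_congr (semiEquiv Hs Ns hnorm hdisj)).symm

end Cfsg.Agent.Helper25
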