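import Mathlib
import Cfsg.Agent.S1498
import Cfsg.Agent.Lib.Helper25.Dade
import Cfsg.Agent.Lib.Helper25.SemiProj
import Cfsg.Agent.Lib.Helper25.CosetAvg
import Cfsg.Agent.Lib.Helper25.OrbitSum
import Cfsg.Agent.Lib.Helper82.GenChar

set_option autoImplicit false

namespace Cfsg.Agent.Helper25

open Cfsg
open scoped ComplexConjugate

section basics

variable {G : Type*} [Group G]

/-- Intersection of the `H b` over `b ∈ B`. -/
def dHs (H : G → Subgroup G) (B : Finset G) : Subgroup G := ⨅ b ∈ B, H b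

theorem mem_dHs {H : G → Subgroup G} {B : Finset G} {x : G} :
    x ∈ dHs H B ↔ ∀ b ∈ B, x ∈ H b := by
  simp only [dHs, Subgroup.mem_iInf]

/-- Setwise normalizer of the finite set `B` in `L`. -/
def dNs (L : Subgroup G) (B : Finset G) : Subgroup G where
  carrier := {l | l ∈ L ∧ ∀ b ∈ B, l * b * l⁻¹ ∈ B ∧ l⁻¹ * b * l ∈ B}
  one_mem' := ⟨L.one_mem, fun b hb => by simpa using hb⟩
  mul_mem' := by
    rintro x y ⟨hx, hx'⟩ ⟨hy, hy'⟩
    refine ⟨L.mul_mem hx hy, fun b hb => ⟨?_, ?_⟩⟩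
    · have e : x * y * b * (x * y)⁻¹ = x * (y * b * y⁻¹) * x⁻¹ := by group
      rw [e]
      exact (hx' _ (hy' b hb).1).1
    · have e : (x * y)⁻¹ * b * (x * y) = y⁻¹ * (x⁻¹ * b * x) * y := by group
      rw [e]
      exact (hy' _ (hx' b hb).2).2
  inv_mem' := by
    rintro x ⟨hx, hx'⟩
    refine ⟨L.inv_mem hx, fun b hb => ⟨?_, ?_⟩⟩
    · rw [inv_inv]; exact (hx' b hb).2
    · rw [inv_inv]; exact (hx' b hb).1

theorem mem_dNs {L : Subgroup G} {B : Finset G} {l : G} :
    l ∈ dNs L B ↔ l ∈ L ∧ ∀ b ∈ B, l * b * l⁻¹ ∈ B ∧ l⁻¹ * b * l ∈ B := Iff.rfl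

theorem dNs_le (L : Subgroup G) (B : Finset G) : dNs L B ≤ L := fun _ hl => hl.1

variable {A : Set G} {L : Subgroup G} {H : G → Subgroup G}

theorem dNs_normalizes [Finite G] (hD : DadeHypothesis A L H) {B : Finset G} (hB : ∀ b ∈ B, b ∈ A) :
    ∀ l ∈ dNs L B, ∀ h ∈ dHs H B, l * h * l⁻¹ ∈ dHs H B := by
  intro l hl h hh
  rw [mem_dHs] at hh ⊢
  intro b hb
  have hb' := (hl.2 b hb).2
  have h1 := dade_H_conj hD (hB _ hb') hl.1 (hh _ hb')
  have e : l * (l⁻¹ * b * l) * l⁻¹ = b := by group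
  rwa [e] at h1

theorem dHs_inf_dNs (hD : DadeHypothesis A L H) {B : Finset G} (hB : ∀ b ∈ B, b ∈ A)
    (hne : B.Nonempty) : dHs H B ⊓ dNs L B = ⊥ := by
  obtain ⟨b, hb⟩ := hne
  rw [eq_bot_iff]
  intro x hx
  obtain ⟨h1, h2⟩ := Subgroup.mem_inf.mp hx
  have h3 : x ∈ H b := mem_dHs.mp h1 b hb
  have h4 : x ∈ H b ⊓ (L ⊓ Subgroup.centralizer ({b} : Set G)) :=
    Subgroup.mem_inf.mpr ⟨h3, Subgroup.mem_inf.mpr ⟨h2.1, hD.le_centralizer b (hB b hb) h3⟩⟩
  rw [hD.inf_eq_bot b (hB b hb)] at h4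
  exact h4

theorem dHs_conj_mem [Finite G] (hD : DadeHypothesis A L H) {B B' : Finset G} (hB : ∀ b ∈ B, b ∈ A)
    {l : G} (hl : l ∈ L) (h2 : ∀ b' ∈ B', l⁻¹ * b' * l ∈ B) {x : G} (hx : x ∈ dHs H B) :
    l * x * l⁻¹ ∈ dHs H B' := by
  rw [mem_dHs] at hx ⊢
  intro b' hb'
  have hb := h2 b' hb'
  have h1 := dade_H_conj hD (hB _ hb) hl (hx _ hb)
  have e : l * (l⁻¹ * b' * l) * l⁻¹ = b' := by group
  rwa [e] at h1

theorem dNs_conj_mem {B B' : Finset G} {l : G} (hl : l ∈ L) (h1 : ∀ b ∈ B, l * b * l⁻¹ ∈ B')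
    (h2 : ∀ b' ∈ B', l⁻¹ * b' * l ∈ B) {x : G} (hx : x ∈ dNs L B) :
    l * x * l⁻¹ ∈ dNs L B' := by
  refine ⟨L.mul_mem (L.mul_mem hl hx.1) (L.inv_mem hl), fun b' hb' => ⟨?_, ?_⟩⟩
  · have e : l * x * l⁻¹ * b' * (l * x * l⁻¹)⁻¹ = l * (x * (l⁻¹ * b' * l) * x⁻¹) * l⁻¹ := by group
    rw [e]
    exact h1 _ (hx.2 _ (h2 b' hb')).1
  · have e : (l * x * l⁻¹)⁻¹ * b' * (l * x * l⁻¹) = l * (x⁻¹ * (l⁻¹ * b' * l) * x) * l⁻¹ := by group
    rw [e]
    exact h1 _ (hx.2 _ (h2 b' hb')).2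

theorem dade_mem_H_of_coprime [Finite G] (hD : DadeHypothesis A L H) {a : G} (ha : a ∈ A) {x : G}
    (hx : x ∈ Subgroup.centralizer ({a} : Set G))
    (hord : (orderOf x).Coprime (Nat.card ↥(L ⊓ Subgroup.centralizer ({a} : Set G)))) :
    x ∈ H a := by
  obtain ⟨C, hC⟩ : ∃ C : Subgroup G, C = Subgroup.centralizer ({a} : Set G) := ⟨_, rfl⟩
  rw [← hC] at hx hord
  have hHC : H a ≤ C := hC ▸ hD.le_centralizer a ha
  have : ((H a).subgroupOf C).Normal := by
    constructor
    intro n hn g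
    rw [Subgroup.mem_subgroupOf] at hn ⊢
    exact hD.conj_mem_H a ha g (hC ▸ g.2) n hn
  have hsup : (H a).subgroupOf C ⊔ (L ⊓ C).subgroupOf C = ⊤ := by
    rw [← Subgroup.subgroupOf_sup hHC inf_le_right, hC, hD.sup_eq a ha]
    exact Subgroup.subgroupOf_self _
  have hord' : (orderOf (⟨x, hx⟩ : C)).Coprime (Nat.card ((L ⊓ C).subgroupOf C)) := by
    have e1 : orderOf (⟨x, hx⟩ : C) = orderOf x := by
      rw [← Subgroup.orderOf_coe]
    have e2 : Nat.card ((L ⊓ C).subgroupOf C) = Nat.card (L ⊓ C : Subgroup G) :=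
      Nat.card_congr (Subgroup.subgroupOfEquivOfLe inf_le_right).toEquiv
    rw [e1, e2]
    exact hord
  have := Cfsg.Agent.S1498.mem_of_coprime ((H a).subgroupOf C) ((L ⊓ C).subgroupOf C) hsup
    ⟨x, hx⟩ hord'
  rw [Subgroup.mem_subgroupOf] at this
  exact this

theorem dHs_inf_centralizer [Finite G] [DecidableEq G] (hD : DadeHypothesis A L H) {B : Finset G}
    (hB : ∀ b ∈ B, b ∈ A) (hne : B.Nonempty) {a : G} (ha : a ∈ A) :
    dHs H B ⊓ Subgroup.centralizer ({a} : Set G) = dHs H (insert a B) := by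
  ext x
  rw [Subgroup.mem_inf, mem_dHs, mem_dHs]
  constructor
  · rintro ⟨h1, h2⟩ b hb
    rcases Finset.mem_insert.mp hb with rfl | hb
    · obtain ⟨b₀, hb₀⟩ := hne
      apply dade_mem_H_of_coprime hD ha h2
      exact Nat.Coprime.coprime_dvd_left (Subgroup.orderOf_dvd_natCard _ (h1 b₀ hb₀))
        (hD.coprime b₀ (hB b₀ hb₀) b ha)
    · exact h1 b hb
  · intro h
    exact ⟨fun b hb => h b (Finset.mem_insert_of_mem hb),
      hD.le_centralizer a ha (h a (Finset.mem_insert_self a B))⟩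

theorem dHs_singleton (H : G → Subgroup G) (a : G) : dHs H {a} = H a := by
  ext x
  rw [mem_dHs]
  simp

theorem dade_coprime_order [Finite G] (hD : DadeHypothesis A L H) {B : Finset G}
    (hB : ∀ b ∈ B, b ∈ A) (hne : B.Nonempty) {a : G} (ha : a ∈ A) :
    Nat.Coprime (orderOf a) (Nat.card (dHs H B)) := by
  obtain ⟨b₀, hb₀⟩ := hne
  have h1 : orderOf a ∣ Nat.card ↥(L ⊓ Subgroup.centralizer ({a} : Set G)) := by
    apply Subgroup.orderOf_dvd_natCard
    exact Subgroup.mem_inf.mpr ⟨hD.subset ha, Subgroup.mem_centralizer_singleton_iff.mpr rfl⟩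
  have h2 : Nat.card (dHs H B) ∣ Nat.card (H b₀) := by
    apply Subgroup.card_dvd_of_le
    intro x hx
    exact mem_dHs.mp hx b₀ hb₀
  exact (Nat.Coprime.coprime_dvd_left h2
    (Nat.Coprime.coprime_dvd_right h1 (hD.coprime b₀ (hB b₀ hb₀) a ha))).symm

end basics

section sums

variable {G : Type*} [Group G] [Fintype G]

open Classical in
/-- Average of `conj χ` over the coset `a K`. -/
noncomputable def dAvg (χ : G → ℂ) (K : Subgroup G) (a : G) : ℂ :=
  (Nat.card K : ℂ)⁻¹ * ∑ u : K, conj (χ (a * (u : G)))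

open Classical in
/-- The unnormalized inner product attached to `B`. -/
noncomputable def dT (L : Subgroup G) (H : G → Subgroup G) (α : L → ℂ) (χ : G → ℂ)
    (B : Finset G) : ℂ :=
  ∑ p : ↥(dHs H B) × ↥(dNs L B),
    α ⟨(p.2 : G), dNs_le L B p.2.2⟩ * conj (χ ((p.1 : G) * (p.2 : G)))

theorem dT_int {A : Set G} {L : Subgroup G} [Fintype L] {H : G → Subgroup G}
    (hD : DadeHypothesis A L H) {B : Finset G}
    (hB : ∀ b ∈ B, b ∈ A) (hne : B.Nonempty) {α : L → ℂ} (hα : IsGeneralizedCharacter L α)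
    {χ : G → ℂ} (hχ : IsCharacter G χ) :
    ∃ z : ℤ, dT L H α χ B =
      (z : ℂ) * ((Nat.card (dHs H B) : ℂ) * (Nat.card (dNs L B) : ℂ)) := by
  classical
  have hnorm := dNs_normalizes hD hB
  have hdisj := dHs_inf_dNs hD hB hne
  obtain ⟨f, hf⟩ : ∃ f : semiSub (dHs H B) (dNs L B) hnorm →* L,
      ∀ p, f (semiEquiv _ _ hnorm hdisj p) = ⟨(p.2 : G), dNs_le L B p.2.2⟩ :=
    ⟨(Subgroup.inclusion (dNs_le L B)).comp (semiProj _ _ hnorm hdisj), fun p => by
      rw [MonoidHom.comp_apply, semiProj_apply]; rfl⟩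
  have hβ : IsGeneralizedCharacter (semiSub (dHs H B) (dNs L B) hnorm) (fun m => α (f m)) := by
    obtain ⟨χ₁, χ₂, ⟨n₁, ρ₁, h₁⟩, ⟨n₂, ρ₂, h₂⟩, rfl⟩ := hα
    refine ⟨fun m => χ₁ (f m), fun m => χ₂ (f m), ⟨n₁, ρ₁.comp f, ?_⟩, ⟨n₂, ρ₂.comp f, ?_⟩, rfl⟩
    · rw [← h₁]; rfl
    · rw [← h₂]; rfl
  have hχM : IsGeneralizedCharacter (semiSub (dHs H B) (dNs L B) hnorm)
      (fun m => χ (m : G)) :=
    Helper82.isGeneralizedCharacter_of_isCharacter (Helper81.isCharacter_restrict _ hχ)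
  obtain ⟨z, hz⟩ := Helper82.genChar_inner_int hβ hχM
  refine ⟨z, ?_⟩
  unfold classInner at hz
  rw [← Equiv.sum_comp (semiEquiv _ _ hnorm hdisj), card_semiSub _ _ hnorm hdisj] at hz
  have hterm : ∀ p : ↥(dHs H B) × ↥(dNs L B),
      α (f (semiEquiv _ _ hnorm hdisj p)) * conj (χ ((semiEquiv _ _ hnorm hdisj p : _) : G)) =
      α ⟨(p.2 : G), dNs_le L B p.2.2⟩ * conj (χ ((p.1 : G) * (p.2 : G))) := by
    intro p
    rw [hf, semiEquiv_apply]
  rw [Finset.sum_congr rfl (fun p _ => hterm p)] at hz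
  have h1 : (Nat.card (dHs H B) : ℂ) ≠ 0 := by exact_mod_cast (Nat.card_pos (α := dHs H B)).ne'
  have h2 : (Nat.card (dNs L B) : ℂ) ≠ 0 := by exact_mod_cast (Nat.card_pos (α := dNs L B)).ne'
  unfold dT
  rw [← hz]
  push_cast
  field_simp

/-- Conjugation by `l` as a bijection between two subgroups. -/
def conjSubEquiv (K K' : Subgroup G) (l : G) (h1 : ∀ x ∈ K, l * x * l⁻¹ ∈ K')
    (h2 : ∀ y ∈ K', l⁻¹ * y * l ∈ K) : ↥K ≃ ↥K' where
  toFun x := ⟨l * x * l⁻¹, h1 x x.2⟩
  invFun y := ⟨l⁻¹ * y * l, h2 y y.2⟩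
  left_inv x := by
    apply Subtype.ext
    show l⁻¹ * (l * (x : G) * l⁻¹) * l = x
    group
  right_inv y := by
    apply Subtype.ext
    show l * (l⁻¹ * (y : G) * l) * l⁻¹ = y
    group

theorem dT_conj {A : Set G} {L : Subgroup G} [Fintype L] {H : G → Subgroup G}
    (hD : DadeHypothesis A L H) {B B' : Finset G} (hB : ∀ b ∈ B, b ∈ A) {l : G} (hl : l ∈ L)
    (h1 : ∀ b ∈ B, l * b * l⁻¹ ∈ B') (h2 : ∀ b' ∈ B', l⁻¹ * b' * l ∈ B)
    {α : L → ℂ} (hα : IsClassFunction L α) {χ : G → ℂ} (hχ : IsClassFunction G χ) :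
    dT L H α χ B' = dT L H α χ B ∧ Nat.card (dHs H B') = Nat.card (dHs H B) ∧
      Nat.card (dNs L B') = Nat.card (dNs L B) := by
  classical
  have hB' : ∀ b' ∈ B', b' ∈ A := by
    intro b' hb'
    have := hD.conj_mem l hl _ (hB _ (h2 b' hb'))
    have e : l * (l⁻¹ * b' * l) * l⁻¹ = b' := by group
    rwa [e] at this
  have h1' : ∀ b ∈ B, l⁻¹⁻¹ * b * l⁻¹ ∈ B' := by
    intro b hb; rw [inv_inv]; exact h1 b hb
  have h2' : ∀ b' ∈ B', l⁻¹ * b' * l⁻¹⁻¹ ∈ B := by
    intro b hb; rw [inv_inv]; exact h2 b hb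
  obtain ⟨eH, heH⟩ : ∃ eH : ↥(dHs H B) ≃ ↥(dHs H B'), ∀ x, ((eH x : _) : G) = l * x * l⁻¹ :=
    ⟨conjSubEquiv _ _ l (fun x hx => dHs_conj_mem hD hB hl h2 hx) (fun y hy => by
      have := dHs_conj_mem hD hB' (L.inv_mem hl) h1' hy
      rwa [inv_inv] at this), fun x => rfl⟩
  obtain ⟨eN, heN⟩ : ∃ eN : ↥(dNs L B) ≃ ↥(dNs L B'), ∀ x, ((eN x : _) : G) = l * x * l⁻¹ :=
    ⟨conjSubEquiv _ _ l (fun x hx => dNs_conj_mem hl h1 h2 hx) (fun y hy => by
      have := dNs_conj_mem (L.inv_mem hl) h2' h1' hy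
      rwa [inv_inv] at this), fun x => rfl⟩
  refine ⟨?_, (Nat.card_congr eH).symm, (Nat.card_congr eN).symm⟩
  unfold dT
  rw [← Equiv.sum_comp (Equiv.prodCongr eH eN)]
  apply Finset.sum_congr rfl
  intro p _
  have e1 : α ⟨((Equiv.prodCongr eH eN p).2 : G), dNs_le L B' (Equiv.prodCongr eH eN p).2.2⟩ =
      α ⟨(p.2 : G), dNs_le L B p.2.2⟩ := by
    have := hα ⟨(p.2 : G), dNs_le L B p.2.2⟩ ⟨l, hl⟩
    rw [← this]
    congr 1
    apply Subtype.ext
    show ((eN p.2 : _) : G) = _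
    rw [heN]
    rfl
  have e2 : χ (((Equiv.prodCongr eH eN p).1 : G) * ((Equiv.prodCongr eH eN p).2 : G)) =
      χ ((p.1 : G) * (p.2 : G)) := by
    have := hχ ((p.1 : G) * (p.2 : G)) l
    rw [← this]
    congr 1
    show ((eH p.1 : _) : G) * ((eN p.2 : _) : G) = _
    rw [heH, heN]
    group
  rw [e1, e2]

open Classical in
theorem dT_eq_sum {A : Set G} {L : Subgroup G} [Fintype L] {H : G → Subgroup G}
    (hD : DadeHypothesis A L H) {B : Finset G} (hB : ∀ b ∈ B, b ∈ A) (hne : B.Nonempty)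
    {α : L → ℂ} (hαA : ∀ x : L, (x : G) ∉ A → α x = 0)
    {χ : G → ℂ} (hχ : IsClassFunction G χ) :
    dT L H α χ B = (Nat.card (dHs H B) : ℂ) * ∑ a : L,
      if (a : G) ∈ dNs L B then α a * dAvg χ (dHs H (insert (a : G) B)) (a : G) else 0 := by
  unfold dT
  rw [Fintype.sum_prod_type_right]
  have key : ∀ y : ↥(dNs L B), ∑ x : ↥(dHs H B),
      α ⟨(y : G), dNs_le L B y.2⟩ * conj (χ ((x : G) * (y : G))) =
      (Nat.card (dHs H B) : ℂ) *
        (α ⟨(y : G), dNs_le L B y.2⟩ * dAvg χ (dHs H (insert (y : G) B)) (y : G)) := by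
    intro y
    rw [← Finset.mul_sum]
    by_cases hy : (y : G) ∈ A
    · have hav := coset_avg (dHs H B) (y : G) (dNs_normalizes hD hB (y : G) y.2)
        (dade_coprime_order hD hB hne hy) (fun g => conj (χ g))
        (fun g x => by show conj (χ (x * g * x⁻¹)) = conj (χ g); rw [hχ g x])
      have e := dHs_inf_centralizer hD hB hne hy
      have hc : (Nat.card ↥(dHs H B ⊓ Subgroup.centralizer ({(y : G)} : Set G)) : ℂ) ≠ 0 := by
        exact_mod_cast (Nat.card_pos
          (α := ↥(dHs H B ⊓ Subgroup.centralizer ({(y : G)} : Set G)))).ne'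
      have hav' : ∑ h : ↥(dHs H B), conj (χ ((h : G) * (y : G))) =
          (Nat.card (dHs H B) : ℂ) *
            dAvg χ (dHs H B ⊓ Subgroup.centralizer ({(y : G)} : Set G)) (y : G) := by
        unfold dAvg
        field_simp
        linear_combination hav
      rw [hav', e]
      ring
    · rw [hαA ⟨(y : G), dNs_le L B y.2⟩ hy]
      simp
  rw [Finset.sum_congr rfl (fun y _ => key y), ← Finset.mul_sum]
  congr 1
  rw [← Finset.sum_filter]
  symm
  apply Finset.sum_bij (fun (a : L) ha => (⟨(a : G), (Finset.mem_filter.mp ha).2⟩ : ↥(dNs L B)))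
  · intro a ha; exact Finset.mem_univ _
  · intro a ha a' ha' h
    apply Subtype.ext
    have h' : ((⟨(a : G), (Finset.mem_filter.mp ha).2⟩ : ↥(dNs L B)) : G) =
        ((⟨(a' : G), (Finset.mem_filter.mp ha').2⟩ : ↥(dNs L B)) : G) := by rw [h]
    exact h'
  · intro y _
    exact ⟨⟨(y : G), dNs_le L B y.2⟩, Finset.mem_filter.mpr ⟨Finset.mem_univ _, y.2⟩, rfl⟩
  · intro a ha
    rfl

end sums

theorem toggle_sum {X : Type*} [DecidableEq X] (a : X) (S : Finset (Finset X)) (f : Finset X → ℂ)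
    (h0 : ∅ ∉ S) (ha : {a} ∈ S)
    (hS : ∀ B ∈ S, B ≠ {a} → (if a ∈ B then B.erase a else insert a B) ∈ S) :
    ∑ B ∈ S, (-1 : ℂ) ^ (B.card + 1) * f (insert a B) = f {a} := by
  rw [← Finset.add_sum_erase S _ ha]
  have hrest : ∑ B ∈ S.erase {a}, (-1 : ℂ) ^ (B.card + 1) * f (insert a B) = 0 := by
    apply Finset.sum_involution (fun B _ => if a ∈ B then B.erase a else insert a B)
    · intro B hB
      by_cases haB : a ∈ B
      · rw [if_pos haB, Finset.insert_erase haB, Finset.insert_eq_of_mem haB]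
        have hc : B.card = (B.erase a).card + 1 := (Finset.card_erase_add_one haB).symm
        rw [hc]
        ring
      · rw [if_neg haB, Finset.insert_idem, Finset.card_insert_of_notMem haB]
        ring
    · intro B hB _
      by_cases haB : a ∈ B
      · rw [if_pos haB]
        intro h
        have := Finset.notMem_erase a B
        rw [h] at this
        exact this haB
      · rw [if_neg haB]
        intro h
        apply haB
        rw [← h]
        exact Finset.mem_insert_self a B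
    · intro B hB
      by_cases haB : a ∈ B
      · have h1 : a ∉ B.erase a := Finset.notMem_erase a B
        simp only [if_pos haB, if_neg h1]
        exact Finset.insert_erase haB
      · have h1 : a ∈ insert a B := Finset.mem_insert_self a B
        simp only [if_neg haB, if_pos h1]
        exact Finset.erase_insert haB
    · intro B hB
      obtain ⟨hne, hBS⟩ := Finset.mem_erase.mp hB
      refine Finset.mem_erase.mpr ⟨?_, hS B hBS hne⟩
      by_cases haB : a ∈ B
      · rw [if_pos haB]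
        intro h
        have := Finset.notMem_erase a B
        rw [h] at this
        exact this (Finset.mem_singleton_self a)
      · rw [if_neg haB]
        intro h
        have hB0 : B = ∅ := by
          apply Finset.eq_empty_of_forall_notMem
          intro x hx
          have : x ∈ insert a B := Finset.mem_insert_of_mem hx
          rw [h, Finset.mem_singleton] at this
          exact haB (this ▸ hx)
        exact h0 (hB0 ▸ hBS)
  rw [hrest, add_zero, Finset.card_singleton, Finset.insert_eq_of_mem (Finset.mem_singleton_self a)]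
  norm_num


theorem dade_toggle {G : Type*} [Group G] [DecidableEq G] {A : Set G} {L : Subgroup G} {a : G}
    (ha : a ∈ A) (haL : a ∈ L) (S : Finset (Finset G))
    (hS : ∀ B, B ∈ S ↔ (B.Nonempty ∧ ∀ b ∈ B, b ∈ A) ∧ a ∈ dNs L B) (f : Finset G → ℂ) :
    ∑ B ∈ S, (-1 : ℂ) ^ (B.card + 1) * f (insert a B) = f {a} := by
  have haa : a * a * a⁻¹ = a := by group
  have haa' : a⁻¹ * a * a = a := by group
  apply toggle_sum a S f
  · intro h
    exact Finset.not_nonempty_empty ((hS ∅).mp h).1.1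
  · rw [hS]
    refine ⟨⟨Finset.singleton_nonempty a, fun b hb => ?_⟩, haL, fun b hb => ?_⟩
    · rw [Finset.mem_singleton] at hb; rw [hb]; exact ha
    · rw [Finset.mem_singleton] at hb
      rw [hb, haa, haa']
      exact ⟨Finset.mem_singleton_self a, Finset.mem_singleton_self a⟩
  · intro B hB hBa
    obtain ⟨⟨hne, hBA⟩, haN⟩ := (hS B).mp hB
    by_cases haB : a ∈ B
    · rw [if_pos haB, hS]
      refine ⟨⟨?_, fun b hb => hBA b (Finset.mem_of_mem_erase hb)⟩, haL, fun b hb => ?_⟩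
      · rw [Finset.nonempty_iff_ne_empty]
        intro h
        rcases (Finset.erase_eq_empty_iff B a).mp h with h | h
        · exact Finset.not_nonempty_empty (h ▸ hne)
        · exact hBa h
      · obtain ⟨hba, hbB⟩ := Finset.mem_erase.mp hb
        refine ⟨Finset.mem_erase.mpr ⟨?_, (haN.2 b hbB).1⟩, Finset.mem_erase.mpr ⟨?_, (haN.2 b hbB).2⟩⟩
        · intro h
          apply hba
          calc b = a⁻¹ * (a * b * a⁻¹) * a := by group
            _ = a := by rw [h]; group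
        · intro h
          apply hba
          calc b = a * (a⁻¹ * b * a) * a⁻¹ := by group
            _ = a := by rw [h]; group
    · rw [if_neg haB, hS]
      refine ⟨⟨Finset.insert_nonempty a B, fun b hb => ?_⟩, haL, fun b hb => ?_⟩
      · rcases Finset.mem_insert.mp hb with rfl | hb
        · exact ha
        · exact hBA b hb
      · rcases Finset.mem_insert.mp hb with rfl | hb
        · rw [haa, haa']
          exact ⟨Finset.mem_insert_self _ B, Finset.mem_insert_self _ B⟩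
        · exact ⟨Finset.mem_insert_of_mem (haN.2 b hb).1, Finset.mem_insert_of_mem (haN.2 b hb).2⟩


section main

variable {G : Type*} [Group G] [Fintype G]

omit [Fintype G] in
/-- The conjugation action of `L` on finite subsets of `G`. -/
@[reducible] def dadeAct [DecidableEq G] (L : Subgroup G) : MulAction L (Finset G) where
  smul l B := B.image (fun g => (l : G) * g * (l : G)⁻¹)
  one_smul B := by
    show B.image (fun g => ((1 : L) : G) * g * ((1 : L) : G)⁻¹) = B
    simp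
  mul_smul l l' B := by
    show B.image (fun g => ((l * l' : L) : G) * g * ((l * l' : L) : G)⁻¹) =
      (B.image (fun g => (l' : G) * g * (l' : G)⁻¹)).image (fun g => (l : G) * g * (l : G)⁻¹)
    rw [Finset.image_image]
    congr 1
    funext g
    simp only [Function.comp, Subgroup.coe_mul]
    group

omit [Fintype G] in
theorem dadeAct_stabilizer_card [DecidableEq G] (L : Subgroup G) (B : Finset G) :
    Nat.card (@MulAction.stabilizer L (Finset G) _ (dadeAct L) B) = Nat.card (dNs L B) := by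
  have h : (@MulAction.stabilizer L (Finset G) _ (dadeAct L) B).map L.subtype = dNs L B := by
    ext x
    constructor
    · rintro ⟨l, hl, rfl⟩
      have hl' : B.image (fun g => (l : G) * g * (l : G)⁻¹) = B := hl
      refine ⟨l.2, fun b hb => ⟨?_, ?_⟩⟩
      · rw [← hl']
        exact Finset.mem_image_of_mem _ hb
      · have hb' := hb
        rw [← hl'] at hb'
        obtain ⟨b₀, hb₀, rfl⟩ := Finset.mem_image.mp hb'
        have e : (L.subtype l)⁻¹ * ((l : G) * b₀ * (l : G)⁻¹) * L.subtype l = b₀ := by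
          show (l : G)⁻¹ * ((l : G) * b₀ * (l : G)⁻¹) * (l : G) = b₀
          group
        rw [e]
        exact hb₀
    · intro hx
      refine ⟨⟨x, hx.1⟩, ?_, rfl⟩
      show B.image (fun g => x * g * x⁻¹) = B
      ext g
      rw [Finset.mem_image]
      constructor
      · rintro ⟨b, hb, rfl⟩
        exact (hx.2 b hb).1
      · intro hg
        exact ⟨x⁻¹ * g * x, (hx.2 g hg).2, by group⟩
  rw [← h]
  exact (Subgroup.card_map_of_injective L.subtype_injective).symm

theorem dade_inner_int {A : Set G} {L : Subgroup G} [Fintype L] {H : G → Subgroup G}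
    (hD : DadeHypothesis A L H) {α : L → ℂ} (hα : IsGeneralizedCharacter L α)
    (hαA : ∀ x : L, (x : G) ∉ A → α x = 0) {χ : G → ℂ} (hχ : IsCharacter G χ) :
    ∃ m : ℤ, ∑ a : L, α a * dAvg χ (H a) a = (Nat.card L : ℂ) * m := by
  classical
  have hαc : IsClassFunction L α := by
    obtain ⟨χ₁, χ₂, h₁, h₂, rfl⟩ := hα
    intro g h
    show χ₁ _ - χ₂ _ = χ₁ _ - χ₂ _
    rw [Helper81.isClassFunction_of_isCharacter h₁ g h,
      Helper81.isClassFunction_of_isCharacter h₂ g h]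
  have hχc : IsClassFunction G χ := Helper81.isClassFunction_of_isCharacter hχ
  obtain ⟨P, hP⟩ : ∃ P : Finset G → Prop, ∀ B, P B ↔ (B.Nonempty ∧ ∀ b ∈ B, b ∈ A) :=
    ⟨_, fun _ => Iff.rfl⟩
  have hz : ∀ B : Finset G, ∃ z : ℤ, P B → dT L H α χ B =
      (z : ℂ) * ((Nat.card (dHs H B) : ℂ) * (Nat.card (dNs L B) : ℂ)) := by
    intro B
    by_cases h : P B
    · obtain ⟨z, hz⟩ := dT_int hD ((hP B).mp h).2 ((hP B).mp h).1 hα hχ
      exact ⟨z, fun _ => hz⟩
    · exact ⟨0, fun h' => absurd h' h⟩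
  choose z hz using hz
  obtain ⟨s, hs⟩ : ∃ s : Finset G → ℤ,
      ∀ B, s B = if P B then (-1) ^ (B.card + 1) * z B else 0 := ⟨_, fun _ => rfl⟩
  -- invariance
  have hinv : ∀ (l : L) (B : Finset G), s (B.image (fun g => (l : G) * g * (l : G)⁻¹)) = s B := by
    intro l B
    have h1 : ∀ b ∈ B, (l : G) * b * (l : G)⁻¹ ∈ B.image (fun g => (l : G) * g * (l : G)⁻¹) :=
      fun b hb => Finset.mem_image_of_mem _ hb
    have h2 : ∀ b' ∈ B.image (fun g => (l : G) * g * (l : G)⁻¹), (l : G)⁻¹ * b' * (l : G) ∈ B := by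
      intro b' hb'
      obtain ⟨b, hb, rfl⟩ := Finset.mem_image.mp hb'
      have e : (l : G)⁻¹ * ((l : G) * b * (l : G)⁻¹) * (l : G) = b := by group
      rw [e]; exact hb
    have hPiff : P (B.image (fun g => (l : G) * g * (l : G)⁻¹)) ↔ P B := by
      rw [hP, hP, Finset.image_nonempty]
      constructor
      · rintro ⟨hne, hA⟩
        refine ⟨hne, fun b hb => ?_⟩
        have := hD.conj_mem (l : G)⁻¹ (L.inv_mem l.2) _ (hA _ (h1 b hb))
        have e : (l : G)⁻¹ * ((l : G) * b * (l : G)⁻¹) * (l : G)⁻¹⁻¹ = b := by group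
        rwa [e] at this
      · rintro ⟨hne, hA⟩
        refine ⟨hne, fun b' hb' => ?_⟩
        obtain ⟨b, hb, rfl⟩ := Finset.mem_image.mp hb'
        exact hD.conj_mem (l : G) l.2 b (hA b hb)
    rw [hs, hs]
    by_cases hPB : P B
    · have hPB' := hPiff.mpr hPB
      rw [if_pos hPB, if_pos hPB']
      have hcard : (B.image (fun g => (l : G) * g * (l : G)⁻¹)).card = B.card := by
        apply Finset.card_image_of_injective
        intro g g' hgg
        have : (l : G) * g * (l : G)⁻¹ = (l : G) * g' * (l : G)⁻¹ := hgg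
        exact mul_left_cancel (mul_right_cancel this)
      obtain ⟨e1, e2, e3⟩ := dT_conj hD ((hP B).mp hPB).2 l.2 h1 h2 hαc hχc (α := α) (χ := χ)
      have hz1 := hz _ hPB'
      have hz2 := hz _ hPB
      rw [e1, e2, e3, hz2] at hz1
      have hc1 : (Nat.card (dHs H B) : ℂ) ≠ 0 := by
        exact_mod_cast (Nat.card_pos (α := dHs H B)).ne'
      have hc2 : (Nat.card (dNs L B) : ℂ) ≠ 0 := by
        exact_mod_cast (Nat.card_pos (α := dNs L B)).ne'
      have hz3 : (z B : ℂ) = (z (B.image (fun g => (l : G) * g * (l : G)⁻¹)) : ℂ) :=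
        mul_right_cancel₀ (mul_ne_zero hc1 hc2) hz1
      have hz4 : z (B.image (fun g => (l : G) * g * (l : G)⁻¹)) = z B := by
        exact_mod_cast hz3.symm
      rw [hcard, hz4]
    · have hPB' : ¬ P (B.image (fun g => (l : G) * g * (l : G)⁻¹)) := fun h => hPB (hPiff.mp h)
      rw [if_neg hPB, if_neg hPB']
  obtain ⟨m, hm⟩ := @orbit_sum_dvd L (Finset G) _ _ (dadeAct L) _ s hinv
  refine ⟨m, ?_⟩
  have hm' : ∑ B : Finset G, (s B : ℂ) * (Nat.card (dNs L B) : ℂ) = (Nat.card L : ℂ) * m := by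
    have h1 := congrArg (Int.cast : ℤ → ℂ) hm
    push_cast at h1
    rw [← h1]
    apply Finset.sum_congr rfl
    intro B _
    rw [dadeAct_stabilizer_card]
  have hterm : ∀ B : Finset G, (s B : ℂ) * (Nat.card (dNs L B) : ℂ) =
      ∑ a : L, if P B ∧ (a : G) ∈ dNs L B then
        (-1 : ℂ) ^ (B.card + 1) * (α a * dAvg χ (dHs H (insert (a : G) B)) (a : G)) else 0 := by
    intro B
    by_cases hPB : P B
    · have hc1 : (Nat.card (dHs H B) : ℂ) ≠ 0 := by
        exact_mod_cast (Nat.card_pos (α := dHs H B)).ne'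
      have h1 := dT_eq_sum hD ((hP B).mp hPB).2 ((hP B).mp hPB).1 hαA hχc (α := α) (χ := χ)
      rw [hz B hPB] at h1
      have h2 : (z B : ℂ) * (Nat.card (dNs L B) : ℂ) = ∑ a : L,
          if (a : G) ∈ dNs L B then α a * dAvg χ (dHs H (insert (a : G) B)) (a : G) else 0 := by
        apply mul_left_cancel₀ hc1
        rw [← h1]
        ring
      rw [hs, if_pos hPB]
      push_cast
      rw [mul_assoc, h2, Finset.mul_sum]
      apply Finset.sum_congr rfl
      intro a _
      by_cases ha : (a : G) ∈ dNs L B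
      · rw [if_pos ha, if_pos ⟨hPB, ha⟩]
      · rw [if_neg ha, if_neg (fun h => ha h.2), mul_zero]
    · rw [hs, if_neg hPB]
      push_cast
      rw [zero_mul]
      symm
      apply Finset.sum_eq_zero
      intro a _
      rw [if_neg (fun h => hPB h.1)]
  rw [← hm', Finset.sum_congr rfl (fun B _ => hterm B), Finset.sum_comm]
  apply Finset.sum_congr rfl
  intro a _
  by_cases ha : (a : G) ∈ A
  · have htog := dade_toggle ha (hD.subset ha)
      (Finset.univ.filter (fun B : Finset G => P B ∧ (a : G) ∈ dNs L B))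
      (by intro B; rw [Finset.mem_filter, hP]; simp)
      (fun B' => dAvg χ (dHs H B') (a : G))
    rw [dHs_singleton] at htog
    rw [← htog, Finset.mul_sum, Finset.sum_filter]
    apply Finset.sum_congr rfl
    intro B _
    by_cases hc : P B ∧ (a : G) ∈ dNs L B
    · rw [if_pos hc, if_pos hc]; ring
    · rw [if_neg hc, if_neg hc]
  · rw [hαA a ha, zero_mul]
    symm
    apply Finset.sum_eq_zero
    intro B _
    by_cases hc : P B ∧ (a : G) ∈ dNs L B
    · rw [if_pos hc, zero_mul, mul_zero]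
    · rw [if_neg hc]

end main

end Cfsg.Agent.Helper25
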