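import Mathlib
import Cfsg.Prelude.Def_GeometricClasses
import Cfsg.Agent.Lib.Helper97.ESDefs

set_option autoImplicit false
set_option linter.style.haveILetI false
set_option linter.unusedSectionVars false

/-!
# ES (A5c) `grid_bound` (helper97's server for S5877), by helper25

The grid lemma: commuting `g, ρ` of order `r` and a twisted `x`; simultaneous eigenspaces on the grid
`ZMod r × ZMod r`.
-/

namespace Cfsg.Agent.Helper25.ES

open Cfsg Cfsg.Geo Cfsg.Agent.Helper97.ES
open scoped MatrixGroups

/-- `2 * C(j,2) = j * j - j` in `ZMod r`. -/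
theorem a5c_two_choose (r : ℕ) (j : ℕ) :
    (2 : ZMod r) * ((j.choose 2 : ℕ) : ZMod r) = (j : ZMod r) * j - j := by
  induction j with
  | zero => simp
  | succ j ih =>
    have e2 : (j + 1).choose 2 = j + j.choose 2 := by
      have := Nat.choose_succ_succ' j 1
      simpa using this
    rw [e2]
    push_cast
    rw [mul_add, ih]
    ring

/-- sum over a map with fibres of size at most two. -/
theorem a5c_sum_fiber_le {ι κ : Type*} [Fintype ι] [Fintype κ] [DecidableEq κ] (f : ι → κ)
    (φ : κ → ℕ) (hf : ∀ t, (Finset.univ.filter (fun i => f i = t)).card ≤ 2) :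
    ∑ i, φ (f i) ≤ 2 * ∑ t, φ t := by
  rw [← Finset.sum_fiberwise' Finset.univ f φ, Finset.mul_sum]
  apply Finset.sum_le_sum
  intro t _
  rw [Finset.sum_const, smul_eq_mul]
  exact Nat.mul_le_mul_right _ (hf t)

/-- the combinatorial core of the grid lemma. -/
theorem a5c_comb (r : ℕ) [Fact r.Prime] (hr5 : 5 ≤ r) (n : ℕ) (d : ZMod r → ZMod r → ℕ)
    (e k : ZMod r)
    (hinv : ∀ a b, d (a + b + k + e) (b + e) = d a b)
    (hcol : ∀ b, r * ∑ a, d a b ≤ n) (a : ZMod r) :
    2 * ∑ b, d a b ≤ n := by
  classical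
  have hrpos : 0 < r := by omega
  have hcard : Fintype.card (ZMod r) = r := ZMod.card r
  by_cases he : e = 0
  · -- rotation of the columns
    subst he
    have hinv' : ∀ a b, d (a + b + k) b = d a b := by
      intro a b; have := hinv a b; simpa using this
    have hiter : ∀ (j : ℕ) (a b : ZMod r), d (a + j * (b + k)) b = d a b := by
      intro j
      induction j with
      | zero => intro a b; simp
      | succ j ih =>
        intro a b
        have h1 := hinv' (a + j * (b + k)) b
        rw [ih] at h1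
        rw [← h1]
        congr 1
        push_cast
        ring
    have hconst : ∀ b, b + k ≠ 0 → ∀ a a', d a' b = d a b := by
      intro b hb a a'
      have h1 := hiter ((a' - a) / (b + k)).val a b
      rw [ZMod.natCast_zmod_val, div_mul_cancel₀ _ hb] at h1
      rw [← h1]
      congr 1
      ring
    have hb1 : ∀ b, b + k ≠ 0 → r * (r * d a b) ≤ n := by
      intro b hb
      have h1 : ∑ a', d a' b = r * d a b := by
        rw [Finset.sum_congr rfl (fun a' _ => hconst b hb a a'), Finset.sum_const, Finset.card_univ,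
          hcard, smul_eq_mul]
      have := hcol b
      rwa [h1] at this
    have hb0 : r * d a (-k) ≤ n := by
      have h1 : d a (-k) ≤ ∑ a', d a' (-k) :=
        Finset.single_le_sum (f := fun a' => d a' (-k)) (fun _ _ => Nat.zero_le _)
          (Finset.mem_univ a)
      exact le_trans (Nat.mul_le_mul_left r h1) (hcol (-k))
    have hsplit : d a (-k) + ∑ b ∈ Finset.univ.erase (-k), d a b = ∑ b, d a b :=
      Finset.add_sum_erase Finset.univ (fun b => d a b) (Finset.mem_univ (-k))
    have hrest : r * r * ∑ b ∈ Finset.univ.erase (-k), d a b ≤ (r - 1) * n := by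
      rw [Finset.mul_sum]
      have h1 : ∑ b ∈ Finset.univ.erase (-k), r * r * d a b ≤
          ∑ _b ∈ (Finset.univ.erase (-k) : Finset (ZMod r)), n := by
        apply Finset.sum_le_sum
        intro b hb
        have hbk : b + k ≠ 0 := by
          intro h
          apply (Finset.mem_erase.1 hb).1
          exact eq_neg_of_add_eq_zero_left h
        have := hb1 b hbk
        rwa [← mul_assoc] at this
      refine le_trans h1 ?_
      rw [Finset.sum_const, Finset.card_erase_of_mem (Finset.mem_univ _), Finset.card_univ, hcard,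
        smul_eq_mul]
    have htot : r * r * ∑ b, d a b ≤ r * n + (r - 1) * n := by
      rw [← hsplit, mul_add]
      refine Nat.add_le_add ?_ hrest
      rw [mul_assoc]
      exact Nat.mul_le_mul_left r hb0
    have hfin : r * r * (2 * ∑ b, d a b) ≤ r * r * n := by
      have h2 : 2 * (r * n + (r - 1) * n) ≤ r * r * n := by
        obtain ⟨s, rfl⟩ : ∃ s, r = s + 5 := ⟨r - 5, by omega⟩
        have : s + 5 - 1 = s + 4 := by omega
        rw [this]
        nlinarith [Nat.zero_le (s * n), Nat.zero_le (s * s * n), Nat.zero_le n]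
      calc r * r * (2 * ∑ b, d a b) = 2 * (r * r * ∑ b, d a b) := by ring
        _ ≤ 2 * (r * n + (r - 1) * n) := Nat.mul_le_mul_left 2 htot
        _ ≤ r * r * n := h2
    exact Nat.le_of_mul_le_mul_left hfin (Nat.mul_pos hrpos hrpos)
  · -- the orbits cross every column
    have hiter : ∀ (j : ℕ) (a b : ZMod r),
        d (a + j * b + e * ((j.choose 2 : ℕ) : ZMod r) + j * (k + e)) (b + j * e) = d a b := by
      intro j
      induction j with
      | zero => intro a b; simp
      | succ j ih =>
        intro a b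
        have h1 := hinv (a + j * b + e * ((j.choose 2 : ℕ) : ZMod r) + j * (k + e)) (b + j * e)
        rw [ih] at h1
        rw [← h1]
        have e2 : (j + 1).choose 2 = j + j.choose 2 := by
          have := Nat.choose_succ_succ' j 1
          simpa using this
        rw [e2]
        push_cast
        congr 1 <;> ring
    -- reparametrise the row by `j ↦ -j e`
    let σ : ZMod r ≃ ZMod r :=
      { toFun := fun j => -(j * e)
        invFun := fun b => -(b / e)
        left_inv := fun j => by
          show -(-(j * e) / e) = j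
          rw [neg_div, neg_neg, mul_div_cancel_right₀ _ he]
        right_inv := fun b => by
          show -(-(b / e) * e) = b
          rw [neg_mul, neg_neg, div_mul_cancel₀ _ he] }
    let Fm : ZMod r → ZMod r := fun j =>
      a + (j.val : ZMod r) * (-(j * e)) + e * (((j.val).choose 2 : ℕ) : ZMod r) + (j.val : ZMod r) * (k + e)
    have hrow : ∑ b, d a b = ∑ j, d (Fm j) 0 := by
      rw [← Equiv.sum_comp σ (fun b => d a b)]
      apply Finset.sum_congr rfl
      intro j _
      have h1 := hiter j.val a (-(j * e))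
      rw [ZMod.natCast_zmod_val] at h1
      have h0 : -(j * e) + j * e = 0 := by ring
      rw [h0] at h1
      show d a (-(j * e)) = d (Fm j) 0
      rw [← h1]
      simp only [Fm, ZMod.natCast_zmod_val]
    have h2ne : (2 : ZMod r) ≠ 0 := by
      intro h
      have h2 : ((2 : ℕ) : ZMod r) = 0 := by exact_mod_cast h
      rw [ZMod.natCast_eq_zero_iff] at h2
      have := Nat.le_of_dvd (by norm_num) h2
      omega
    have hQ : ∀ j : ZMod r, 2 * Fm j = 2 * a - e * (j * j) + j * (2 * k + e) := by
      intro j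
      have hc := a5c_two_choose r j.val
      rw [ZMod.natCast_zmod_val] at hc
      simp only [Fm, ZMod.natCast_zmod_val]
      have : 2 * (a + j * -(j * e) + e * (((j.val).choose 2 : ℕ) : ZMod r) + j * (k + e)) =
          2 * a + 2 * (j * -(j * e)) + e * (2 * (((j.val).choose 2 : ℕ) : ZMod r)) +
            2 * (j * (k + e)) := by ring
      rw [this, hc]
      ring
    have hfib : ∀ t, (Finset.univ.filter (fun j => Fm j = t)).card ≤ 2 := by
      intro t
      by_contra hlt
      push Not at hlt
      obtain ⟨j₁, h₁, j₂, h₂, j₃, h₃, h12, h13, h23⟩ := Finset.two_lt_card.1 hlt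
      simp only [Finset.mem_filter, Finset.mem_univ, true_and] at h₁ h₂ h₃
      have key : ∀ i j : ZMod r, Fm i = Fm j → i ≠ j → e * (i + j) = 2 * k + e := by
        intro i j hij hne
        have h1 : 2 * Fm i = 2 * Fm j := by rw [hij]
        rw [hQ, hQ] at h1
        have h2 : (i - j) * (2 * k + e - e * (i + j)) = 0 := by linear_combination h1
        rcases mul_eq_zero.1 h2 with h | h
        · exact absurd (sub_eq_zero.1 h) hne
        · exact (sub_eq_zero.1 h).symm
      have k12 := key j₁ j₂ (by rw [h₁, h₂]) h12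
      have k13 := key j₁ j₃ (by rw [h₁, h₃]) h13
      have h3 : e * (j₂ - j₃) = 0 := by linear_combination k12 - k13
      rcases mul_eq_zero.1 h3 with h | h
      · exact he h
      · exact h23 (sub_eq_zero.1 h)
    have hle : ∑ b, d a b ≤ 2 * ∑ t, d t 0 := by
      rw [hrow]
      exact a5c_sum_fiber_le Fm (fun t => d t 0) hfib
    have hc0 := hcol 0
    have h4 : 4 * ∑ b, d a b ≤ 2 * n := by
      calc 4 * ∑ b, d a b ≤ r * ∑ b, d a b := Nat.mul_le_mul_right _ (by omega)
        _ ≤ r * (2 * ∑ t, d t 0) := Nat.mul_le_mul_left r hle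
        _ = 2 * (r * ∑ t, d t 0) := by ring
        _ ≤ 2 * n := Nat.mul_le_mul_left 2 hc0
    omega


section lin

variable {F V : Type*} [Field F] [AddCommGroup V] [Module F V] [FiniteDimensional F V]

theorem a5c_finrank_sup_le {ι : Type*} [DecidableEq ι] (p : ι → Submodule F V) (s : Finset ι) :
    Module.finrank F ↥(s.sup p) ≤ ∑ i ∈ s, Module.finrank F (p i) := by
  induction s using Finset.induction_on with
  | empty => simp
  | insert i s hi ih =>
    rw [Finset.sup_insert, Finset.sum_insert hi]
    exact le_trans (Submodule.finrank_add_le_finrank_add_finrank _ _) (Nat.add_le_add_left ih _)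

theorem a5c_sum_finrank_eq {ι : Type*} [DecidableEq ι] (p : ι → Submodule F V) (hp : iSupIndep p)
    (s : Finset ι) : ∑ i ∈ s, Module.finrank F (p i) = Module.finrank F ↥(s.sup p) := by
  induction s using Finset.induction_on with
  | empty => rw [Finset.sum_empty, Finset.sup_empty, finrank_bot]
  | insert i s hi ih =>
    rw [Finset.sup_insert, Finset.sum_insert hi, ih]
    have hdisj : Disjoint (p i) (s.sup p) := by
      refine (hp i).mono_right ?_
      apply Finset.sup_le
      intro j hj
      exact le_iSup₂_of_le j (fun h => hi (h ▸ hj)) le_rfl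
    have h := Submodule.finrank_sup_add_finrank_inf_eq (p i) (s.sup p)
    rw [hdisj.eq_bot, finrank_bot, add_zero] at h
    exact h.symm

/-- Lagrange interpolation: a `P`-invariant subspace is spanned by its intersections with the
eigenspaces of `P` when `P ^ r = 1` and `ζ` is a primitive `r`-th root of unity. -/
theorem a5c_decomp {r : ℕ} (hr : 0 < r) (P : Module.End F V) (hP : P ^ r = 1) (ζ : F)
    (hζ : IsPrimitiveRoot ζ r) (E : Submodule F V) (hE : ∀ v ∈ E, P v ∈ E) :
    E ≤ (Finset.range r).sup (fun b => E ⊓ Module.End.eigenspace P (ζ ^ b)) := by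
  classical
  haveI : NeZero r := ⟨hr.ne'⟩
  have hrF : (r : F) ≠ 0 := (hζ.neZero' (R := F)).out
  have hζr : ζ ^ r = 1 := hζ.pow_eq_one
  have hζ0 : ζ ≠ 0 := hζ.ne_zero hr.ne'
  intro v hv
  have hPj : ∀ j : ℕ, (P ^ j) v ∈ E := by
    intro j
    induction j with
    | zero => simpa using hv
    | succ j ih => rw [pow_succ', Module.End.mul_apply]; exact hE _ ih
  let S : ℕ → V := fun b => ∑ j ∈ Finset.range r, ((ζ ^ b)⁻¹) ^ j • (P ^ j) v
  have hS_mem : ∀ b, S b ∈ E := fun b =>
    Submodule.sum_mem _ (fun j _ => Submodule.smul_mem _ _ (hPj j))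
  have hS_eig : ∀ b, P (S b) = ζ ^ b • S b := by
    intro b
    obtain ⟨η, hη⟩ : ∃ η, η = (ζ ^ b)⁻¹ := ⟨_, rfl⟩
    have hηr : η ^ r = 1 := by
      rw [hη, inv_pow, ← pow_mul, mul_comm, pow_mul, hζr, one_pow, inv_one]
    have hSb : S b = ∑ j ∈ Finset.range r, η ^ j • (P ^ j) v := by rw [hη]
    have h1 : η • P (S b) = S b := by
      rw [hSb, map_sum, Finset.smul_sum]
      have hterm : ∀ j ∈ Finset.range r,
          η • P (η ^ j • (P ^ j) v) = η ^ (j + 1) • (P ^ (j + 1)) v := by
        intro j _
        rw [map_smul, smul_smul, ← pow_succ', pow_succ' P, Module.End.mul_apply]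
      rw [Finset.sum_congr rfl hterm]
      have h2 := Finset.sum_range_succ' (fun j => η ^ j • (P ^ j) v) r
      have h3 := Finset.sum_range_succ (fun j => η ^ j • (P ^ j) v) r
      rw [h2] at h3
      have h4 : η ^ r • (P ^ r) v = η ^ 0 • (P ^ 0) v := by rw [hηr, hP]; simp
      rw [h4] at h3
      exact add_right_cancel h3
    calc P (S b) = (ζ ^ b * η) • P (S b) := by
          rw [hη, mul_inv_cancel₀ (pow_ne_zero _ hζ0), one_smul]
      _ = ζ ^ b • (η • P (S b)) := by rw [smul_smul]
      _ = ζ ^ b • S b := by rw [h1]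
  have hsum : ∑ b ∈ Finset.range r, S b = (r : F) • v := by
    show ∑ b ∈ Finset.range r, ∑ j ∈ Finset.range r, ((ζ ^ b)⁻¹) ^ j • (P ^ j) v = _
    rw [Finset.sum_comm]
    simp_rw [← Finset.sum_smul]
    rw [Finset.sum_eq_single 0]
    · simp
    · intro j hj hj0
      have hθ : ∑ b ∈ Finset.range r, ((ζ ^ b)⁻¹) ^ j = 0 := by
        obtain ⟨θ, hθdef⟩ : ∃ θ, θ = (ζ ^ j)⁻¹ := ⟨_, rfl⟩
        have h1 : ∀ b, ((ζ ^ b)⁻¹) ^ j = θ ^ b := by
          intro b; rw [hθdef, inv_pow, inv_pow, ← pow_mul, ← pow_mul, mul_comm]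
        simp_rw [h1]
        have hθr : θ ^ r = 1 := by
          rw [hθdef, inv_pow, ← pow_mul, mul_comm, pow_mul, hζr, one_pow, inv_one]
        have hθ1 : θ ≠ 1 := by
          intro h
          rw [hθdef, inv_eq_one] at h
          have hd := (hζ.pow_eq_one_iff_dvd j).1 h
          have hjlt := Finset.mem_range.1 hj
          exact hj0 (Nat.eq_zero_of_dvd_of_lt hd hjlt)
        have h2 := geom_sum_mul θ r
        rw [hθr, sub_self] at h2
        exact (mul_eq_zero.1 h2).resolve_right (sub_ne_zero.2 hθ1)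
      rw [hθ, zero_smul]
    · intro h; exact absurd (Finset.mem_range.2 hr) h
  have hv' : v = ∑ b ∈ Finset.range r, (r : F)⁻¹ • S b := by
    rw [← Finset.smul_sum, hsum, smul_smul, inv_mul_cancel₀ hrF, one_smul]
  rw [hv']
  apply Submodule.sum_mem
  intro b hb
  have hmem : (r : F)⁻¹ • S b ∈ E ⊓ Module.End.eigenspace P (ζ ^ b) := by
    refine Submodule.mem_inf.2 ⟨Submodule.smul_mem _ _ (hS_mem b), ?_⟩
    rw [Module.End.mem_eigenspace_iff, map_smul, hS_eig, smul_comm]
  exact (Finset.le_sup (f := fun b => E ⊓ Module.End.eigenspace P (ζ ^ b)) hb) hmem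

/-- the grid lemma for abstract endomorphisms. -/
theorem a5c_lin {r : ℕ} (hr : r.Prime) (hr5 : 5 ≤ r) (G P X : Module.End F V) (ζ : F)
    (hζ : IsPrimitiveRoot ζ r) (hG : G ^ r = 1) (hP : P ^ r = 1) (hGP : G * P = P * G) (e k : ℕ)
    (hPX : P * X = ζ ^ e • (X * P)) (hGX : G * X = ζ ^ k • (P * X * G))
    (hX : Function.Injective X)
    (hK : ∀ b : ℕ, r * Module.finrank F (Module.End.eigenspace P (ζ ^ b)) ≤ Module.finrank F V)
    (c : F) : 2 * Module.finrank F (Module.End.eigenspace G c) ≤ Module.finrank F V := by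
  classical
  haveI : Fact r.Prime := ⟨hr⟩
  have hrpos : 0 < r := hr.pos
  haveI : NeZero r := ⟨hrpos.ne'⟩
  have hζr : ζ ^ r = 1 := hζ.pow_eq_one
  by_cases hc : c ^ r = 1
  swap
  · have hbot : Module.End.eigenspace G c = ⊥ := by
      rw [eq_bot_iff]
      intro v hv
      rw [Module.End.mem_eigenspace_iff] at hv
      have hj : ∀ j : ℕ, (G ^ j) v = c ^ j • v := by
        intro j
        induction j with
        | zero => simp
        | succ j ih =>
          rw [pow_succ', Module.End.mul_apply, ih, map_smul, hv, smul_smul, ← pow_succ]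
      have h1 := hj r
      rw [hG, Module.End.one_apply] at h1
      have h2 : (c ^ r - 1) • v = 0 := by rw [sub_smul, one_smul, ← h1, sub_self]
      rcases smul_eq_zero.1 h2 with h | h
      · exact absurd (sub_eq_zero.1 h) hc
      · exact (Submodule.mem_bot F).2 h
    rw [hbot, finrank_bot]
    omega
  obtain ⟨i, _, rfl⟩ := hζ.eq_pow_of_pow_eq_one hc
  let μ : ZMod r → F := fun a => ζ ^ a.val
  have hμ : ∀ m : ℕ, ζ ^ m = μ (m : ZMod r) := by
    intro m
    show ζ ^ m = ζ ^ ((m : ZMod r)).val
    rw [ZMod.val_natCast, ← pow_eq_pow_mod m hζr]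
  have hμinj : Function.Injective μ := by
    intro a b hab
    exact ZMod.val_injective r (hζ.pow_inj (ZMod.val_lt a) (ZMod.val_lt b) hab)
  let W : ZMod r → ZMod r → Submodule F V := fun a b =>
    Module.End.eigenspace G (μ a) ⊓ Module.End.eigenspace P (μ b)
  let d : ZMod r → ZMod r → ℕ := fun a b => Module.finrank F (W a b)
  have hmap : ∀ a b, (W a b).map X ≤ W (a + b + k + e) (b + e) := by
    intro a b w hw
    obtain ⟨v, hv, rfl⟩ := Submodule.mem_map.1 hw
    have hv1 : G v = μ a • v := Module.End.mem_eigenspace_iff.1 (Submodule.mem_inf.1 hv).1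
    have hv2 : P v = μ b • v := Module.End.mem_eigenspace_iff.1 (Submodule.mem_inf.1 hv).2
    have hs1 : ζ ^ e * μ b = μ (b + e) := by
      show ζ ^ e * ζ ^ b.val = μ (b + e)
      rw [← pow_add, hμ]
      congr 1
      push_cast
      rw [ZMod.natCast_zmod_val]
      ring
    have hs2 : ζ ^ k * μ a * μ (b + e) = μ (a + b + k + e) := by
      show ζ ^ k * ζ ^ a.val * ζ ^ (b + e).val = μ (a + b + k + e)
      rw [← pow_add, ← pow_add, hμ]
      congr 1
      push_cast
      rw [ZMod.natCast_zmod_val, ZMod.natCast_zmod_val]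
      ring
    have hPXv : P (X v) = μ (b + e) • X v := by
      calc P (X v) = (P * X) v := rfl
        _ = ζ ^ e • X (P v) := by rw [hPX]; rfl
        _ = μ (b + e) • X v := by rw [hv2, map_smul, smul_smul, hs1]
    have hGXv : G (X v) = μ (a + b + k + e) • X v := by
      calc G (X v) = (G * X) v := rfl
        _ = ζ ^ k • P (X (G v)) := by rw [hGX]; rfl
        _ = ζ ^ k • (μ a • (μ (b + e) • X v)) := by rw [hv1, map_smul, map_smul, hPXv]
        _ = μ (a + b + k + e) • X v := by rw [smul_smul, smul_smul, hs2]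
    exact Submodule.mem_inf.2
      ⟨Module.End.mem_eigenspace_iff.2 hGXv, Module.End.mem_eigenspace_iff.2 hPXv⟩
  have hle : ∀ a b, d a b ≤ d (a + b + k + e) (b + e) := by
    intro a b
    have h1 : Module.finrank F ((W a b).map X) = Module.finrank F (W a b) :=
      (Submodule.equivMapOfInjective X hX (W a b)).finrank_eq.symm
    show Module.finrank F (W a b) ≤ _
    rw [← h1]
    exact Submodule.finrank_mono (hmap a b)
  let Ψ : ZMod r × ZMod r ≃ ZMod r × ZMod r :=
    { toFun := fun p => (p.1 + p.2 + k + e, p.2 + e)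
      invFun := fun p => (p.1 - (p.2 - e) - k - e, p.2 - e)
      left_inv := fun p => by
        refine Prod.ext ?_ ?_
        · show p.1 + p.2 + k + e - (p.2 + e - e) - k - e = p.1
          ring
        · show p.2 + e - e = p.2
          ring
      right_inv := fun p => by
        refine Prod.ext ?_ ?_
        · show p.1 - (p.2 - e) - k - e + (p.2 - e) + k + e = p.1
          ring
        · show p.2 - e + e = p.2
          ring }
  have hinv : ∀ a b, d (a + b + k + e) (b + e) = d a b := by
    have hsum : ∑ p : ZMod r × ZMod r, d p.1 p.2 = ∑ p : ZMod r × ZMod r, d (Ψ p).1 (Ψ p).2 :=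
      (Equiv.sum_comp Ψ (fun p => d p.1 p.2)).symm
    have hall := (Finset.sum_eq_sum_iff_of_le (fun p _ => hle p.1 p.2)).1 hsum
    intro a b
    exact (hall (a, b) (Finset.mem_univ _)).symm
  have hcol : ∀ b : ZMod r, r * ∑ a, d a b ≤ Module.finrank F V := by
    intro b
    have hind : iSupIndep (fun a : ZMod r => W a b) := by
      have h1 : iSupIndep (fun a : ZMod r => Module.End.eigenspace G (μ a)) :=
        (Module.End.eigenspaces_iSupIndep G).comp hμinj
      exact h1.mono (fun a => inf_le_left)
    have h2 := a5c_sum_finrank_eq (fun a : ZMod r => W a b) hind Finset.univ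
    have h3 : (Finset.univ.sup (fun a : ZMod r => W a b)) ≤ Module.End.eigenspace P (μ b) :=
      Finset.sup_le (fun a _ => inf_le_right)
    have h4 := Submodule.finrank_mono h3
    have h5 := hK b.val
    calc r * ∑ a, d a b
        = r * Module.finrank F ↥(Finset.univ.sup (fun a : ZMod r => W a b)) := by rw [← h2]
      _ ≤ r * Module.finrank F (Module.End.eigenspace P (μ b)) := Nat.mul_le_mul_left r h4
      _ ≤ Module.finrank F V := h5
  have hrow : ∀ a : ZMod r,
      Module.finrank F (Module.End.eigenspace G (μ a)) ≤ ∑ b, d a b := by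
    intro a
    have hE : ∀ v ∈ Module.End.eigenspace G (μ a), P v ∈ Module.End.eigenspace G (μ a) := by
      intro v hv
      rw [Module.End.mem_eigenspace_iff] at hv ⊢
      have h1 : G (P v) = (G * P) v := rfl
      rw [h1, hGP, Module.End.mul_apply, hv, map_smul]
    have h1 := a5c_decomp hrpos P hP ζ hζ _ hE
    have h2 := Submodule.finrank_mono h1
    have h3 := a5c_finrank_sup_le
      (fun b => Module.End.eigenspace G (μ a) ⊓ Module.End.eigenspace P (ζ ^ b)) (Finset.range r)
    have h4 : ∑ b ∈ Finset.range r,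
        Module.finrank F ↥(Module.End.eigenspace G (μ a) ⊓ Module.End.eigenspace P (ζ ^ b)) =
          ∑ b : ZMod r, d a b := by
      refine Finset.sum_nbij' (s := Finset.range r) (t := (Finset.univ : Finset (ZMod r)))
        (f := fun b => Module.finrank F
          ↥(Module.End.eigenspace G (μ a) ⊓ Module.End.eigenspace P (ζ ^ b)))
        (g := fun z => d a z) (fun b => (b : ZMod r)) (fun z => z.val) ?_ ?_ ?_ ?_ ?_
      · intro b _; exact Finset.mem_univ _
      · intro z _; exact Finset.mem_range.2 (ZMod.val_lt z)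
      · intro b hb; exact ZMod.val_natCast_of_lt (Finset.mem_range.1 hb)
      · intro z _; exact ZMod.natCast_zmod_val z
      · intro b _
        show _ = Module.finrank F (W a (b : ZMod r))
        show _ = Module.finrank F
          ↥(Module.End.eigenspace G (μ a) ⊓ Module.End.eigenspace P (μ (b : ZMod r)))
        rw [hμ b]
    exact le_trans h2 (le_trans h3 h4.le)
  have hfin := a5c_comb r hr5 (Module.finrank F V) d (e : ZMod r) (k : ZMod r) hinv hcol
    (i : ZMod r)
  have hri := hrow (i : ZMod r)
  rw [← hμ i] at hri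
  exact le_trans (Nat.mul_le_mul_left 2 hri) hfin

end lin

section grp

variable {F : Type*} [Field F] [Finite F] {n r : ℕ} {R : Subgroup (GL (Fin n) F)}

/-- **(A5c) THE GRID LEMMA.** -/
theorem grid_bound (hr : r.Prime) (hr5 : 5 ≤ r) (g ρ x : GL (Fin n) F) (ζ : F)
    (hζ : IsPrimitiveRoot ζ r) (hgr : g ^ r = 1) (hρr : ρ ^ r = 1) (hcomm : g * ρ = ρ * g)
    (e k : ℕ)
    (hρx : (ρ : Matrix (Fin n) (Fin n) F) * (x : Matrix (Fin n) (Fin n) F) =
      ζ ^ e • ((x : Matrix (Fin n) (Fin n) F) * (ρ : Matrix (Fin n) (Fin n) F)))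
    (hgx : (g : Matrix (Fin n) (Fin n) F) * (x : Matrix (Fin n) (Fin n) F) =
      ζ ^ k • ((ρ : Matrix (Fin n) (Fin n) F) * (x : Matrix (Fin n) (Fin n) F) *
        (g : Matrix (Fin n) (Fin n) F)))
    (hK : ∀ b : ℕ, r * eDim ρ (ζ ^ b) ≤ n) (c : F) : 2 * eDim g c ≤ n := by
  have hG : Matrix.toLin' (g : Matrix (Fin n) (Fin n) F) ^ r = 1 := by
    rw [← Matrix.toLin'_pow, ← Units.val_pow_eq_pow_val, hgr, Units.val_one, Matrix.toLin'_one]
    rfl
  have hP : Matrix.toLin' (ρ : Matrix (Fin n) (Fin n) F) ^ r = 1 := by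
    rw [← Matrix.toLin'_pow, ← Units.val_pow_eq_pow_val, hρr, Units.val_one, Matrix.toLin'_one]
    rfl
  have hGP : Matrix.toLin' (g : Matrix (Fin n) (Fin n) F) * Matrix.toLin' (ρ : Matrix (Fin n) (Fin n) F)
      = Matrix.toLin' (ρ : Matrix (Fin n) (Fin n) F) * Matrix.toLin' (g : Matrix (Fin n) (Fin n) F) := by
    rw [Module.End.mul_eq_comp, Module.End.mul_eq_comp, ← Matrix.toLin'_mul, ← Matrix.toLin'_mul,
      ← Units.val_mul, ← Units.val_mul, hcomm]
  have hPX : Matrix.toLin' (ρ : Matrix (Fin n) (Fin n) F) * Matrix.toLin' (x : Matrix (Fin n) (Fin n) F)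
      = ζ ^ e • (Matrix.toLin' (x : Matrix (Fin n) (Fin n) F) *
        Matrix.toLin' (ρ : Matrix (Fin n) (Fin n) F)) := by
    rw [Module.End.mul_eq_comp, Module.End.mul_eq_comp, ← Matrix.toLin'_mul, ← Matrix.toLin'_mul,
      hρx, map_smul]
  have hGX : Matrix.toLin' (g : Matrix (Fin n) (Fin n) F) * Matrix.toLin' (x : Matrix (Fin n) (Fin n) F)
      = ζ ^ k • (Matrix.toLin' (ρ : Matrix (Fin n) (Fin n) F) *
        Matrix.toLin' (x : Matrix (Fin n) (Fin n) F) *
        Matrix.toLin' (g : Matrix (Fin n) (Fin n) F)) := by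
    rw [Module.End.mul_eq_comp, Module.End.mul_eq_comp, Module.End.mul_eq_comp,
      ← Matrix.toLin'_mul, ← Matrix.toLin'_mul, ← Matrix.toLin'_mul, hgx, map_smul]
  have hX : Function.Injective (Matrix.toLin' (x : Matrix (Fin n) (Fin n) F)) := by
    have hinv : (Matrix.toLin' ((x⁻¹ : GL (Fin n) F) : Matrix (Fin n) (Fin n) F)).comp
        (Matrix.toLin' (x : Matrix (Fin n) (Fin n) F)) = LinearMap.id := by
      rw [← Matrix.toLin'_mul, ← Units.val_mul, inv_mul_cancel, Units.val_one, Matrix.toLin'_one]
    exact Function.LeftInverse.injective (g := Matrix.toLin' ((x⁻¹ : GL (Fin n) F) : Matrix (Fin n) (Fin n) F))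
      (fun v => LinearMap.congr_fun hinv v)
  have hK' : ∀ b : ℕ, r * Module.finrank F
      (Module.End.eigenspace (Matrix.toLin' (ρ : Matrix (Fin n) (Fin n) F)) (ζ ^ b)) ≤
      Module.finrank F (Fin n → F) := by
    intro b
    rw [Module.finrank_fin_fun]
    exact hK b
  have key := a5c_lin hr hr5 _ _ _ ζ hζ hG hP hGP e k hPX hGX hX hK' c
  rw [Module.finrank_fin_fun] at key
  exact key

end grp

end Cfsg.Agent.Helper25.ES
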