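import Mathlib
import Cfsg.Agent.Lib.Helper86.ESREC

set_option autoImplicit false
set_option linter.style.haveILetI false
set_option linter.unusedSectionVars false

/-!
# ES (QUAD) `quad_bound` (helper97's server for S5877), by helper25

An operator killed by a quadratic polynomial has a commutant of dimension `≥ (dim V)² / 2`.
Split case via helper86's `rec_bound`; irreducible case: `V` is a vector space over the field
`AdjoinRoot q` and the commutant contains the `AdjoinRoot q`-linear endomorphisms.
-/

namespace Cfsg.Agent.Helper25.ES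

section lin

variable {F V : Type*} [Field F] [AddCommGroup V] [Module F V] [FiniteDimensional F V]

/-- the split case: the quadratic has a root `c` in `F`. -/
theorem quad_split (T : Module.End F V) (α β c : F) (h : T * T + α • T + β • 1 = 0)
    (hc : c * c + α * c + β = 0) :
    Module.finrank F V * Module.finrank F V ≤
      2 * Module.finrank F (Subalgebra.centralizer F ({T} : Set (Module.End F V))) := by
  have hTx : ∀ x : V, T (T x) = -(α • T x) - β • x := by
    intro x
    have h1 := LinearMap.congr_fun h x
    simp only [LinearMap.add_apply, Module.End.mul_apply, LinearMap.smul_apply,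
      Module.End.one_apply, LinearMap.zero_apply] at h1
    rw [← sub_eq_zero, ← h1]
    abel
  obtain ⟨W, hW⟩ : ∃ W, W = Module.End.eigenspace T c := ⟨_, rfl⟩
  have hinv : W ≤ W.comap T := by
    intro v hv
    rw [hW] at hv ⊢
    rw [Submodule.mem_comap, Module.End.mem_eigenspace_iff] at *
    rw [hv, map_smul, hv]
  have hsc : W.mapQ W T hinv = (-α - c) • (1 : Module.End F (V ⧸ W)) := by
    apply LinearMap.ext
    intro y
    induction y using Submodule.Quotient.induction_on with
    | H x =>
      rw [Submodule.mapQ_apply, LinearMap.smul_apply, Module.End.one_apply,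
        ← Submodule.Quotient.mk_smul, Submodule.Quotient.eq, hW, Module.End.mem_eigenspace_iff,
        map_sub, map_smul, hTx]
      have hβ : β = -(c * c) - α * c := by linear_combination hc
      rw [hβ]
      module
  have hcent : Subalgebra.centralizer F
      ({W.mapQ W T hinv} : Set (Module.End F (V ⧸ W))) = ⊤ := by
    rw [Subalgebra.centralizer_eq_top_iff_subset, Set.singleton_subset_iff, hsc]
    exact Subalgebra.smul_mem _ (one_mem _) _
  have hfr : Module.finrank F (Subalgebra.centralizer F
      ({W.mapQ W T hinv} : Set (Module.End F (V ⧸ W)))) =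
      Module.finrank F (V ⧸ W) * Module.finrank F (V ⧸ W) := by
    rw [hcent, (Subalgebra.topEquiv (R := F) (A := Module.End F (V ⧸ W))).toLinearEquiv.finrank_eq]
    exact Module.finrank_linearMap F F (V ⧸ W) (V ⧸ W)
  have hrec : Module.finrank F W * Module.finrank F W +
      Module.finrank F (Subalgebra.centralizer F
        ({W.mapQ W T hinv} : Set (Module.End F (V ⧸ W)))) ≤
      Module.finrank F (Subalgebra.centralizer F ({T} : Set (Module.End F V))) := by
    subst hW
    exact Cfsg.Agent.Helper86.ES.rec_bound T c _ (Submodule.mapQ_mkQ _ _ T)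
  have hdim := Submodule.finrank_quotient_add_finrank W
  rw [hfr] at hrec
  obtain ⟨m, hm⟩ : ∃ m, m = Module.finrank F (V ⧸ W) := ⟨_, rfl⟩
  obtain ⟨w, hw⟩ : ∃ w, w = Module.finrank F W := ⟨_, rfl⟩
  rw [← hm, ← hw] at hrec hdim
  rw [← hdim]
  have h2 : 2 * m * w ≤ m ^ 2 + w ^ 2 := two_mul_le_add_sq m w
  nlinarith [hrec, h2]

/-- the irreducible case: `V` is a vector space over the field `AdjoinRoot q`. -/
theorem quad_irred (T : Module.End F V) (α β : F) (h : T * T + α • T + β • 1 = 0)
    (hroot : ∀ c : F, c * c + α * c + β ≠ 0) :
    Module.finrank F V * Module.finrank F V ≤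
      2 * Module.finrank F (Subalgebra.centralizer F ({T} : Set (Module.End F V))) := by
  classical
  obtain ⟨q, hq⟩ : ∃ q : Polynomial F,
      q = Polynomial.X ^ 2 + (Polynomial.C α * Polynomial.X + Polynomial.C β) := ⟨_, rfl⟩
  have hdeg : (Polynomial.C α * Polynomial.X + Polynomial.C β : Polynomial F).degree <
      ((2 : ℕ) : WithBot ℕ) :=
    lt_of_le_of_lt Polynomial.degree_linear_le (by norm_num)
  have hqm : q.Monic := by rw [hq]; exact Polynomial.monic_X_pow_add hdeg
  have hqd : q.natDegree = 2 := by
    rw [hq, Polynomial.natDegree_add_eq_left_of_degree_lt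
      (by rw [Polynomial.degree_X_pow]; exact hdeg), Polynomial.natDegree_X_pow]
  have hirr : Irreducible q := by
    rw [Polynomial.Monic.irreducible_iff_roots_eq_zero_of_degree_le_three hqm (by omega)
      (by omega)]
    apply Multiset.eq_zero_of_forall_notMem
    intro c hc
    have h1 := (Polynomial.mem_roots hqm.ne_zero).1 hc
    rw [Polynomial.IsRoot.def, hq] at h1
    simp only [Polynomial.eval_add, Polynomial.eval_pow, Polynomial.eval_X, Polynomial.eval_mul,
      Polynomial.eval_C] at h1
    exact hroot c (by linear_combination h1)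
  haveI : Fact (Irreducible q) := ⟨hirr⟩
  have haeval : Polynomial.aeval T q = 0 := by
    rw [hq]
    simp only [map_add, map_mul, Polynomial.aeval_X, Polynomial.aeval_C,
      Algebra.algebraMap_eq_smul_one, smul_mul_assoc, one_mul, pow_two]
    rw [← add_assoc]
    exact h
  let φ : AdjoinRoot q →ₐ[F] Module.End F V :=
    Ideal.Quotient.liftₐ (Ideal.span {q}) (Polynomial.aeval T) (by
      intro a ha
      obtain ⟨b, rfl⟩ := Ideal.mem_span_singleton'.1 ha
      rw [map_mul, haeval, mul_zero])
  have hφroot : φ (AdjoinRoot.root q) = T := by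
    show (Polynomial.aeval T) Polynomial.X = T
    exact Polynomial.aeval_X T
  letI modK : Module (AdjoinRoot q) V :=
    Module.compHom V (φ : AdjoinRoot q →+* Module.End F V)
  have hsmul : ∀ (k : AdjoinRoot q) (v : V), k • v = φ k v := fun _ _ => rfl
  haveI : SMulCommClass (AdjoinRoot q) F V :=
    ⟨fun k c v => by rw [hsmul, hsmul, map_smul]⟩
  haveI : IsScalarTower F (AdjoinRoot q) V :=
    ⟨fun c k v => by rw [hsmul, hsmul, map_smul, LinearMap.smul_apply]⟩
  have hK2 : Module.finrank F (AdjoinRoot q) = 2 := by
    rw [(AdjoinRoot.powerBasis hqm.ne_zero).finrank, AdjoinRoot.powerBasis_dim, hqd]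
  haveI : Module.Finite (AdjoinRoot q) V :=
    Module.Finite.of_restrictScalars_finite F (AdjoinRoot q) V
  have hn : Module.finrank F V = 2 * Module.finrank (AdjoinRoot q) V := by
    rw [← hK2]
    exact (Module.finrank_mul_finrank F (AdjoinRoot q) V).symm
  have hEnd : Module.finrank F (V →ₗ[AdjoinRoot q] V) =
      Module.finrank (AdjoinRoot q) V * Module.finrank F V :=
    Module.finrank_linearMap (AdjoinRoot q) F V V
  have e1 : ∀ w : V, T w = (AdjoinRoot.root q) • w := fun w => by rw [hsmul, hφroot]
  let Θ : (V →ₗ[AdjoinRoot q] V) →ₗ[F]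
      ↥(Subalgebra.centralizer F ({T} : Set (Module.End F V))) :=
    { toFun := fun f => ⟨f.restrictScalars F, by
        rw [Subalgebra.mem_centralizer_iff]
        intro g hg
        rw [Set.mem_singleton_iff] at hg
        rw [hg]
        apply LinearMap.ext
        intro v
        show T (f v) = f (T v)
        rw [e1, e1, map_smul]⟩
      map_add' := fun f g => rfl
      map_smul' := fun c f => rfl }
  have hΘ : Function.Injective Θ := by
    intro f g hfg
    apply LinearMap.ext
    intro v
    have h1 := congrArg (fun z : ↥(Subalgebra.centralizer F ({T} : Set (Module.End F V))) =>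
      (z : Module.End F V) v) hfg
    exact h1
  have hle := LinearMap.finrank_le_finrank_of_injective hΘ
  rw [hEnd] at hle
  rw [hn] at hle ⊢
  nlinarith [hle]

/-- **(QUAD)** an operator killed by a quadratic polynomial has a commutant of dimension
`≥ (dim V)² / 2`. -/
theorem quad_bound (T : Module.End F V) (α β : F) (h : T * T + α • T + β • 1 = 0) :
    Module.finrank F V * Module.finrank F V ≤
      2 * Module.finrank F (Subalgebra.centralizer F ({T} : Set (Module.End F V))) := by
  by_cases hroot : ∃ c : F, c * c + α * c + β = 0
  · obtain ⟨c, hc⟩ := hroot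
    exact quad_split T α β c h hc
  · push Not at hroot
    exact quad_irred T α β h hroot

end lin

end Cfsg.Agent.Helper25.ES
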