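import Mathlib
import Cfsg.Prelude.Def_OddOrderChar
import Cfsg.Agent.Lib.Helper25.EqualDegree
import Cfsg.Agent.Lib.Helper25.CommonConst
import Cfsg.Agent.Lib.Helper82.Coherence
import Cfsg.Agent.Lib.Helper82.CoherenceSys
import Cfsg.Agent.S0198

set_option autoImplicit false

/-!
# Coherence of a set of irreducible characters of equal degree, for an arbitrary isometry `τ`
-/

namespace Cfsg.Agent.Helper25.EqDeg

open Cfsg
open scoped ComplexConjugate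

universe u v
variable {N : Type u} [Group N] [Fintype N] {G : Type v} [Group G] [Fintype G]

/-- every member of `zspan S` is an integer multiple of `χ₀` modulo the differences -/
theorem exists_sub_mem_zspan_diff (S : Set (N → ℂ)) (χ₀ : N → ℂ) {α : N → ℂ}
    (hα : α ∈ zspan S) :
    ∃ n : ℤ, α - n • χ₀ ∈ zspan {β : N → ℂ | ∃ χ ∈ S, χ ≠ χ₀ ∧ β = χ₀ - χ} := by
  rw [Helper82.mem_zspan] at hα
  induction hα using Submodule.span_induction with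
  | mem χ hχ =>
    refine ⟨1, ?_⟩
    by_cases h : χ = χ₀
    · rw [h, one_smul, sub_self]
      exact Helper82.zspan_zero_mem _
    · have h1 : χ - (1 : ℤ) • χ₀ = -(χ₀ - χ) := by rw [one_smul]; abel
      rw [h1]
      exact Helper82.zspan_neg_mem (Helper82.subset_zspan ⟨χ, hχ, h, rfl⟩)
  | zero =>
    refine ⟨0, ?_⟩
    rw [zero_smul, sub_zero]
    exact Helper82.zspan_zero_mem _
  | add a b _ _ iha ihb =>
    obtain ⟨n, hn⟩ := iha
    obtain ⟨m, hm⟩ := ihb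
    refine ⟨n + m, ?_⟩
    have h1 : a + b - (n + m) • χ₀ = (a - n • χ₀) + (b - m • χ₀) := by rw [add_smul]; abel
    rw [h1]
    exact Helper82.zspan_add_mem hn hm
  | smul k a _ iha =>
    obtain ⟨n, hn⟩ := iha
    refine ⟨k * n, ?_⟩
    have h1 : k • a - (k * n) • χ₀ = k • (a - n • χ₀) := by rw [smul_sub, mul_smul]
    rw [h1]
    exact Helper82.zspan_smul_mem k hn

/-- `zspanOn S {1}ᶜ` is spanned by the differences `χ₀ - χ` when all degrees agree. -/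
theorem zspanOn_subset_zspan_diff (S : Set (N → ℂ)) {χ₀ : N → ℂ} (hχ₀ : χ₀ ∈ S)
    (h0 : χ₀ 1 ≠ 0) (hdeg : ∀ χ ∈ S, χ 1 = χ₀ 1) {α : N → ℂ}
    (hα : α ∈ zspanOn S ({1}ᶜ : Set N)) :
    α ∈ zspan {β : N → ℂ | ∃ χ ∈ S, χ ≠ χ₀ ∧ β = χ₀ - χ} := by
  rw [Helper82.mem_zspanOn_compl_one] at hα
  obtain ⟨n, hn⟩ := exists_sub_mem_zspan_diff S χ₀ hα.1
  have hD : {β : N → ℂ | ∃ χ ∈ S, χ ≠ χ₀ ∧ β = χ₀ - χ} ⊆ zspanOn S ({1}ᶜ : Set N) := by
    rintro β ⟨χ, hχ, -, rfl⟩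
    rw [Helper82.mem_zspanOn_compl_one]
    refine ⟨Helper82.zspan_sub_mem (Helper82.subset_zspan hχ₀) (Helper82.subset_zspan hχ), ?_⟩
    rw [Pi.sub_apply, hdeg χ hχ, sub_self]
  have h1 := Helper82.zspan_subset_zspanOn hD hn
  rw [Helper82.mem_zspanOn_compl_one] at h1
  have h2 : (n : ℂ) * χ₀ 1 = 0 := by
    have := h1.2
    rw [Pi.sub_apply, hα.2, zero_sub, neg_eq_zero] at this
    simpa using this
  have h3 : n = 0 := by
    rcases mul_eq_zero.mp h2 with h | h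
    · exact_mod_cast h
    · exact absurd h h0
  rw [h3, zero_smul, sub_zero] at hn
  exact hn

/-- **Equal degree coherence**: a set of at least two irreducible characters of the same degree
is coherent with respect to any linear isometry `τ` defined on the differences and with values
vanishing at `1`. -/
theorem eqdeg_coherent (S : Set (N → ℂ)) (hS : ∀ χ ∈ S, IsIrrCharacter N χ)
    (hdeg : ∀ χ ∈ S, ∀ χ' ∈ S, χ 1 = χ' 1) (h2 : ∃ χ ∈ S, ∃ χ' ∈ S, χ ≠ χ')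
    (τ : (N → ℂ) → (G → ℂ)) (hτ : IsLinearIsometryOn (zspanOn S ({1}ᶜ : Set N)) τ)
    (hτ1 : ∀ α ∈ zspanOn S ({1}ᶜ : Set N), τ α 1 = 0) :
    IsCoherent S ({1}ᶜ : Set N) τ := by
  classical
  haveI : Fintype (IrrCharacter N) := Fintype.ofFinite _
  obtain ⟨χ₀, hχ₀, χ₁, hχ₁, hne01⟩ := h2
  have h0 : χ₀ 1 ≠ 0 := by
    obtain ⟨n, hn, hn1⟩ := Helper82.irr_degree_pos (hS χ₀ hχ₀)
    rw [hn1]
    exact_mod_cast hn.ne'
  have hdiff : ∀ χ ∈ S, χ₀ - χ ∈ zspanOn S ({1}ᶜ : Set N) := by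
    intro χ hχ
    rw [Helper82.mem_zspanOn_compl_one]
    refine ⟨Helper82.zspan_sub_mem (Helper82.subset_zspan hχ₀) (Helper82.subset_zspan hχ), ?_⟩
    rw [Pi.sub_apply, hdeg χ₀ hχ₀ χ hχ, sub_self]
  refine ⟨⟨χ₀ - χ₁, hdiff χ₁ hχ₁, sub_ne_zero.mpr hne01⟩, ?_⟩
  -- inner products of the differences
  have hinn : ∀ χ ∈ S, ∀ χ' ∈ S, χ ≠ χ₀ → χ' ≠ χ₀ →
      classInner (χ₀ - χ) (χ₀ - χ') = 1 + (if χ = χ' then 1 else 0) := by
    intro χ hχ χ' hχ' hn hn'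
    have := Helper25.classInner_irr_sub_sub (⟨χ₀, hS χ₀ hχ₀⟩ : IrrCharacter N) ⟨χ, hS χ hχ⟩
      ⟨χ₀, hS χ₀ hχ₀⟩ ⟨χ', hS χ' hχ'⟩
    simp only [Subtype.mk.injEq] at this
    rw [this, if_neg (Ne.symm hn'), if_neg hn]
    by_cases h : χ = χ'
    · simp [h]; norm_num
    · simp [h]
  haveI : Nonempty (IrrCharacter G) := ⟨⟨_, Helper81.isIrrCharacter_one⟩⟩
  -- decomposition of the images
  have hex : ∀ χ : N → ℂ, ∃ a b : IrrCharacter G, χ ∈ S → χ ≠ χ₀ →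
      a ≠ b ∧ τ (χ₀ - χ) = (a : G → ℂ) - (b : G → ℂ) := by
    intro χ
    by_cases hχ : χ ∈ S ∧ χ ≠ χ₀
    · have hn : classInner (τ (χ₀ - χ)) (τ (χ₀ - χ)) = 2 := by
        rw [hτ.2.2.1 _ (hdiff χ hχ.1) _ (hdiff χ hχ.1), hinn χ hχ.1 χ hχ.1 hχ.2 hχ.2, if_pos rfl]
        norm_num
      obtain ⟨a, b, hab, heq⟩ := Cfsg.Agent.S0198.eq_sub_of_norm_two
        (hτ.2.2.2 _ (hdiff χ hχ.1)) hn (hτ1 _ (hdiff χ hχ.1))
      exact ⟨a, b, fun _ _ => ⟨hab, heq⟩⟩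
    · obtain ⟨x⟩ := ‹Nonempty (IrrCharacter G)›
      exact ⟨x, x, fun h1 h2 => absurd ⟨h1, h2⟩ hχ⟩
  choose a b hab using hex
  obtain ⟨μ₀, hμ₀⟩ := Helper25.common_constituent {χ | χ ∈ S ∧ χ ≠ χ₀} a b
    (fun χ hχ => (hab χ hχ.1 hχ.2).1)
    (by
      intro χ hχ χ' hχ' hne
      have h1 := hτ.2.2.1 _ (hdiff χ hχ.1) _ (hdiff χ' hχ'.1)
      rw [hinn χ hχ.1 χ' hχ'.1 hχ.2 hχ'.2, if_neg hne, (hab χ hχ.1 hχ.2).2,
        (hab χ' hχ'.1 hχ'.2).2, Helper25.classInner_irr_sub_sub] at h1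
      have h3 : ((((if a χ = a χ' then (1 : ℤ) else 0) - (if a χ = b χ' then 1 else 0)
          - (if b χ = a χ' then 1 else 0) + (if b χ = b χ' then 1 else 0) : ℤ)) : ℂ)
          = ((1 : ℤ) : ℂ) := by
        rw [h1]; norm_num
      exact_mod_cast h3)
  -- uniform description: `τ (χ₀ - χ) = δ • (μ₀ - c χ)`
  obtain ⟨δ, c, hδ, hc⟩ : ∃ (δ : ℤ) (c : (N → ℂ) → IrrCharacter G), (δ = 1 ∨ δ = -1) ∧
      ∀ χ ∈ S, χ ≠ χ₀ → c χ ≠ μ₀ ∧
        τ (χ₀ - χ) = (δ : ℂ) • ((μ₀ : G → ℂ) - (c χ : G → ℂ)) := by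
    rcases hμ₀ with hA | hB
    · refine ⟨1, b, Or.inl rfl, fun χ hχ hn => ⟨?_, ?_⟩⟩
      · rw [← hA χ ⟨hχ, hn⟩]
        exact (hab χ hχ hn).1.symm
      · rw [(hab χ hχ hn).2, hA χ ⟨hχ, hn⟩]
        simp
    · refine ⟨-1, a, Or.inr rfl, fun χ hχ hn => ⟨?_, ?_⟩⟩
      · rw [← hB χ ⟨hχ, hn⟩]
        exact (hab χ hχ hn).1
      · rw [(hab χ hχ hn).2, hB χ ⟨hχ, hn⟩]
        funext g
        simp
  have hδ2 : (δ : ℂ) * conj (δ : ℂ) = 1 := by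
    rcases hδ with rfl | rfl <;> simp
  -- injectivity of `c`
  have hcinj : ∀ χ ∈ S, ∀ χ' ∈ S, χ ≠ χ₀ → χ' ≠ χ₀ → χ ≠ χ' → c χ ≠ c χ' := by
    intro χ hχ χ' hχ' hn hn' hne heq
    have h1 := hτ.2.2.1 _ (hdiff χ hχ) _ (hdiff χ' hχ')
    rw [hinn χ hχ χ' hχ' hn hn', if_neg hne, (hc χ hχ hn).2, (hc χ' hχ' hn').2,
      Helper25.classInner_smul_smul, Helper25.classInner_irr_sub_sub, hδ2, heq,
      if_pos rfl, if_pos rfl, if_neg (hc χ' hχ' hn').1.symm, if_neg (hc χ' hχ' hn').1] at h1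
    norm_num at h1
  -- the extension
  obtain ⟨g, hg⟩ : ∃ g : (N → ℂ) → IrrCharacter G, g = fun χ => if χ = χ₀ then μ₀ else c χ :=
    ⟨_, rfl⟩
  have hg0 : g χ₀ = μ₀ := by rw [hg]; exact if_pos rfl
  have hgc : ∀ χ, χ ≠ χ₀ → g χ = c χ := by intro χ h; rw [hg]; exact if_neg h
  have hginj : ∀ χ ∈ S, ∀ χ' ∈ S, g χ = g χ' → χ = χ' := by
    intro χ hχ χ' hχ' h
    by_contra hne
    by_cases h1 : χ = χ₀
    · by_cases h2 : χ' = χ₀
      · exact hne (h1.trans h2.symm)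
      · rw [h1, hg0, hgc χ' h2] at h
        exact (hc χ' hχ' h2).1 h.symm
    · by_cases h2 : χ' = χ₀
      · rw [h2, hg0, hgc χ h1] at h
        exact (hc χ hχ h1).1 h
      · rw [hgc χ h1, hgc χ' h2] at h
        exact hcinj χ hχ χ' hχ' h1 h2 hne h
  obtain ⟨f, hf⟩ : ∃ f : IrrCharacter N → (G → ℂ),
      f = fun ξ : IrrCharacter N => if (ξ : N → ℂ) ∈ S then (δ : ℂ) • (g (ξ : N → ℂ) : G → ℂ) else 0 := ⟨_, rfl⟩
  have hτ₁S : ∀ χ ∈ S, Helper82.extIrr f χ = (δ : ℂ) • (g χ : G → ℂ) := by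
    intro χ hχ
    have := Helper82.extIrr_irr f ⟨χ, hS χ hχ⟩
    rw [this, hf]
    exact if_pos hχ
  have hlin : Helper82.ZLinOn S (Helper82.extIrr f) := Helper82.extIrr_zlinOn f S
  refine ⟨Helper82.extIrr f, ⟨fun α _ β _ => Helper82.extIrr_add f α β,
    fun α _ n => Helper82.extIrr_zsmul f n α, ?_, ?_⟩, ?_⟩
  · -- isometry
    intro α hα β hβ
    apply Helper82.inner_eq_of_span hlin _ hα hβ
    intro x hx y hy
    rw [hτ₁S x hx, hτ₁S y hy, Helper25.classInner_smul_smul, hδ2, one_mul,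
      Helper80.classInner_irr, Helper81.irr_orthonormal (hS x hx) (hS y hy)]
    by_cases hxy : x = y
    · rw [if_pos hxy, if_pos (by rw [hxy])]
    · rw [if_neg hxy, if_neg (fun h => hxy (hginj x hx y hy h))]
  · -- generalized characters
    intro α hα
    apply hlin.induction (fun θ => IsGeneralizedCharacter G θ) _ Helper82.isGeneralizedCharacter_zero
      (fun x y hx hy => Helper82.isGeneralizedCharacter_add hx hy)
      (fun n x hx => Helper82.isGeneralizedCharacter_zsmul n hx) hα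
    intro x hx
    show IsGeneralizedCharacter G (Helper82.extIrr f x)
    rw [hτ₁S x hx]
    have hgen : IsGeneralizedCharacter G (g x : G → ℂ) :=
      Helper82.isGeneralizedCharacter_of_isCharacter (Helper81.IsIrrCharacter.isCharacter (g x).2)
    have := Helper82.isGeneralizedCharacter_zsmul δ hgen
    have e : (δ : ℂ) • (g x : G → ℂ) = δ • (g x : G → ℂ) := by
      funext y
      simp
    rw [e]
    exact this
  · -- agreement with τ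
    intro α hα
    have hα' := zspanOn_subset_zspan_diff S hχ₀ h0 (fun χ hχ => hdeg χ hχ χ₀ hχ₀) hα
    have hD : {β : N → ℂ | ∃ χ ∈ S, χ ≠ χ₀ ∧ β = χ₀ - χ} ⊆ zspanOn S ({1}ᶜ : Set N) := by
      rintro β ⟨χ, hχ, -, rfl⟩
      exact hdiff χ hχ
    have hsub := Helper82.zspan_subset_zspanOn hD
    have hlinτ : Helper82.ZLinOn {β : N → ℂ | ∃ χ ∈ S, χ ≠ χ₀ ∧ β = χ₀ - χ} τ :=
      ⟨fun x hx y hy => hτ.1 x (hsub hx) y (hsub hy), fun x hx n => hτ.2.1 x (hsub hx) n⟩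
    apply Helper82.ZLinOn.eq_of_span (Helper82.extIrr_zlinOn f _) hlinτ _ hα'
    rintro β ⟨χ, hχ, hn, rfl⟩
    have e1 : Helper82.extIrr f (χ₀ - χ) = Helper82.extIrr f χ₀ - Helper82.extIrr f χ :=
      hlin.map_sub (Helper82.subset_zspan hχ₀) (Helper82.subset_zspan hχ)
    rw [e1, hτ₁S χ₀ hχ₀, hτ₁S χ hχ, hg0, hgc χ hn, (hc χ hχ hn).2, smul_sub]

end Cfsg.Agent.Helper25.EqDeg
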