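import Mathlib
import Cfsg.Agent.Lib.Helper52.FCDefs
import Cfsg.Agent.Lib.Helper52.Coprime

set_option autoImplicit false

/-!
FC lemma server (helper52, S3816), piece (M3) `mc_quot` (the quotient step), by helper25.
Statement verbatim from `tools/fc_sigs_helper52.lean.txt`.
-/

namespace Cfsg.Agent.Helper25.FC

open Subgroup Cfsg.Agent.Helper52.FC
open scoped commutatorElement

universe u

variable {G : Type u} [Group G]

theorem h25_inv_pow (a : G) (X : Subgroup G) (hX : Inv a X) (i : ℕ) :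
    ∀ x ∈ X, a ^ i * x * (a ^ i)⁻¹ ∈ X := by
  induction i with
  | zero => intro x hx; simpa using hx
  | succ i ih =>
    intro x hx
    have h1 := hX _ (ih x hx)
    have h2 : a * (a ^ i * x * (a ^ i)⁻¹) * a⁻¹ = a ^ (i + 1) * x * (a ^ (i + 1))⁻¹ := by
      rw [pow_succ', mul_inv_rev]
      group
    rwa [h2] at h1

theorem h25_inv_normalizer [Finite G] (a : G) (X : Subgroup G) (hX : Inv a X) :
    a ∈ normalizer (X : Set G) := by
  rw [mem_normalizer_iff]
  intro x
  constructor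
  · exact fun hx => hX x hx
  · intro hx
    have hpos : 0 < orderOf a := orderOf_pos a
    have hk : a ^ (orderOf a - 1) * a = 1 := by
      rw [← pow_succ, Nat.sub_add_cancel hpos, pow_orderOf_eq_one]
    have h1 := h25_inv_pow a X hX (orderOf a - 1) _ hx
    have h2 : a ^ (orderOf a - 1) * (a * x * a⁻¹) * (a ^ (orderOf a - 1))⁻¹ = x := by
      have : a ^ (orderOf a - 1) = a⁻¹ := eq_inv_of_mul_eq_one_left hk
      rw [this]
      group
    rwa [h2] at h1

theorem h25_zpowers_le_normalizer [Finite G] (a : G) (X : Subgroup G) (hX : Inv a X) :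
    zpowers a ≤ normalizer (X : Set G) :=
  (zpowers_le).mpr (h25_inv_normalizer a X hX)

/-- (B1) -/
theorem h25_Lh_le (a : G) (X : Subgroup G) (hX : Inv a X) (h : G) (hh : h ∈ X) : Lh a h ≤ X := by
  unfold Lh
  rw [closure_le]
  rintro c ⟨i, rfl⟩
  exact X.mul_mem (X.inv_mem hh) (h25_inv_pow a X hX i h hh)

/-- (B2) -/
theorem h25_Lh_inv (a h : G) : Inv a (Lh a h) := by
  intro x hx
  unfold Lh at hx ⊢
  induction hx using closure_induction with
  | mem x hx =>
    obtain ⟨i, rfl⟩ := hx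
    have e : a * (h⁻¹ * (a ^ i * h * (a ^ i)⁻¹)) * a⁻¹ =
        (h⁻¹ * (a ^ 1 * h * (a ^ 1)⁻¹))⁻¹ * (h⁻¹ * (a ^ (i + 1) * h * (a ^ (i + 1))⁻¹)) := by
      group
    rw [e]
    exact mul_mem (inv_mem (subset_closure ⟨1, rfl⟩)) (subset_closure ⟨i + 1, rfl⟩)
  | one => simp
  | mul x y _ _ hx hy =>
    have e : a * (x * y) * a⁻¹ = (a * x * a⁻¹) * (a * y * a⁻¹) := by group
    rw [e]
    exact mul_mem hx hy
  | inv x _ hx =>
    have e : a * x⁻¹ * a⁻¹ = (a * x * a⁻¹)⁻¹ := by group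
    rw [e]
    exact inv_mem hx

theorem h25_star_le_Fix (a : G) (H : Subgroup G) : star a H ≤ Fix a := by
  unfold Cfsg.Agent.Helper52.FC.star
  exact iSup_le fun _ => inf_le_right

/-- (M3) QUOTIENT step. -/
theorem mc_quot [Finite G] {p : ℕ} {a : G} {H : Subgroup G} (mc : MC p G a H) (hcomm : comm a H = H) (N : Subgroup G) (hNH : N ≤ H)
    (hNn : NormBy H N) (hNa : Inv a N) (hN : N ≠ ⊥) (c : G) (hc : c ∈ H ⊓ Fix a) :
    ∃ s ∈ star a H, ∃ n ∈ N ⊓ Fix a, c = s * n := by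
  classical
  have hyp := mc.hyp
  have hsolH : Group.IsSolvable ↥H := hyp.sol
  have hHK : H ≤ normalizer (N : Set G) := by
    intro h hh
    rw [mem_normalizer_iff]
    intro n
    constructor
    · exact fun hn => hNn h hh n hn
    · intro hn
      have h1 := hNn h⁻¹ (H.inv_mem hh) _ hn
      have e : h⁻¹ * (h * n * h⁻¹) * h⁻¹⁻¹ = n := by group
      rwa [e] at h1
  have haK : a ∈ normalizer (N : Set G) := h25_inv_normalizer a N hNa
  have hNK : N ≤ normalizer (N : Set G) := le_normalizer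
  -- the quotient
  let ψ : ↥(normalizer (N : Set G)) →* ↥(normalizer (N : Set G)) ⧸ N.subgroupOf (normalizer (N : Set G)) :=
    QuotientGroup.mk' (N.subgroupOf (normalizer (N : Set G)))
  have hψ1 : ∀ z : ↥(normalizer (N : Set G)), ψ z = 1 ↔ (z : G) ∈ N := by
    intro z
    show (QuotientGroup.mk z : _ ⧸ N.subgroupOf (normalizer (N : Set G))) = 1 ↔ _
    rw [QuotientGroup.eq_one_iff, mem_subgroupOf]
  let aK : ↥(normalizer (N : Set G)) := ⟨a, haK⟩
  let HK : Subgroup ↥(normalizer (N : Set G)) := H.subgroupOf (normalizer (N : Set G))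
  have hHKmem : ∀ z : ↥(normalizer (N : Set G)), z ∈ HK ↔ (z : G) ∈ H := fun z => mem_subgroupOf
  -- hypotheses for the quotient
  have hcardHK : Nat.card ↥HK = Nat.card ↥H :=
    Nat.card_congr (subgroupOfEquivOfLe hHK).toEquiv
  have hsolHK : Group.IsSolvable ↥HK :=
    Group.isSolvable_of_isSolvable_injective (f := (subgroupOfEquivOfLe hHK).toMonoidHom)
      (subgroupOfEquivOfLe hHK).injective
  have hsurj := ψ.subgroupMap_surjective HK
  have hyp' : Hyp p (ψ aK) (HK.map ψ) := by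
    refine ⟨?_, ?_, ?_, ?_⟩
    · rw [← map_pow]
      have : aK ^ p = 1 := Subtype.ext (by simpa using hyp.pow)
      rw [this, map_one]
    · rintro x' ⟨x, hx, rfl⟩
      refine ⟨aK * x * aK⁻¹, ?_, by simp⟩
      have hx' : (x : G) ∈ H := (hHKmem x).mp hx
      exact (hHKmem _).mpr (hyp.inv _ hx')
    · exact Group.isSolvable_of_surjective hsurj
    · have hdvd : Nat.card ↥(HK.map ψ) ∣ Nat.card ↥H := hcardHK ▸ Subgroup.card_map_dvd HK ψ
      exact Nat.Coprime.coprime_dvd_left hdvd hyp.cop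
  have hlt : Nat.card ↥(HK.map ψ) < Nat.card ↥H := by
    rw [← hcardHK]
    set f := ψ.subgroupMap HK with hf
    have h1 : Nat.card ↥f.ker * f.ker.index = Nat.card ↥HK := f.ker.card_mul_index
    have h2 : f.ker.index = Nat.card ↥(HK.map ψ) := by
      rw [Subgroup.index_ker, MonoidHom.range_eq_top.mpr hsurj]
      exact Subgroup.card_top
    have h3 : 1 < Nat.card ↥f.ker := by
      rw [Subgroup.one_lt_card_iff_ne_bot]
      intro hbot
      apply hN
      rw [eq_bot_iff]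
      intro n hn
      have hnK : n ∈ normalizer (N : Set G) := hNK hn
      have hnHK : (⟨n, hnK⟩ : ↥(normalizer (N : Set G))) ∈ HK := (hHKmem _).mpr (hNH hn)
      have hker : (⟨⟨n, hnK⟩, hnHK⟩ : ↥HK) ∈ f.ker := by
        rw [MonoidHom.mem_ker]
        apply Subtype.ext
        show ψ ⟨n, hnK⟩ = 1
        exact (hψ1 _).mpr hn
      rw [hbot, mem_bot] at hker
      have := congrArg (fun z : ↥HK => ((z : ↥(normalizer (N : Set G))) : G)) hker
      simpa using this
    have hpos : 0 < Nat.card ↥(HK.map ψ) := Nat.card_pos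
    rw [h2] at h1
    nlinarith
  have thm : Thm (ψ aK) (HK.map ψ) := mc.ih _ (ψ aK) (HK.map ψ) hyp' hlt
  -- `c` in the quotient
  have hcH : c ∈ H := hc.1
  have hcF : c ∈ Fix a := hc.2
  have hca : a * c = c * a := (mem_centralizer_iff.mp hcF) a rfl
  let cK : ↥(normalizer (N : Set G)) := ⟨c, hHK hcH⟩
  -- Step A
  have hA : comm a H ≤ ((comm (ψ aK) (HK.map ψ)).comap ψ).map (normalizer (N : Set G)).subtype := by
    have hdef : comm a H =
        closure {c : G | ∃ h ∈ H, ∃ i : ℕ, c = h⁻¹ * (a ^ i * h * (a ^ i)⁻¹)} := rfl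
    rw [hdef, closure_le]
    rintro x ⟨h, hh, i, rfl⟩
    let hK : ↥(normalizer (N : Set G)) := ⟨h, hHK hh⟩
    refine ⟨hK⁻¹ * (aK ^ i * hK * (aK ^ i)⁻¹), ?_, by simp [hK, aK]⟩
    rw [SetLike.mem_coe, mem_comap]
    have hgen : ψ (hK⁻¹ * (aK ^ i * hK * (aK ^ i)⁻¹)) ∈
        {c' | ∃ h' ∈ HK.map ψ, ∃ i : ℕ, c' = h'⁻¹ * ((ψ aK) ^ i * h' * ((ψ aK) ^ i)⁻¹)} :=
      ⟨ψ hK, mem_map_of_mem ψ ((hHKmem _).mpr hh), i, by simp only [map_mul, map_inv, map_pow]⟩
    exact subset_closure hgen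
  have hcA : ψ cK ∈ comm (ψ aK) (HK.map ψ) := by
    have : c ∈ comm a H := by rw [hcomm]; exact hcH
    obtain ⟨y, hy, hyc⟩ := hA this
    have : y = cK := Subtype.ext hyc
    rw [← this]
    exact hy
  have hcB : ψ cK ∈ Fix (ψ aK) := by
    unfold Cfsg.Agent.Helper52.FC.Fix
    rw [mem_centralizer_iff]
    intro g hg
    rw [Set.mem_singleton_iff] at hg
    rw [hg, ← map_mul, ← map_mul]
    congr 1
    exact Subtype.ext hca
  have hcS : ψ cK ∈ star (ψ aK) (HK.map ψ) := thm ⟨hcA, hcB⟩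
  -- Step D
  have hD : star (ψ aK) (HK.map ψ) ≤ ((star a H).subgroupOf (normalizer (N : Set G))).map ψ := by
    unfold Cfsg.Agent.Helper52.FC.star
    refine iSup_le ?_
    rintro ⟨h', hK, hhK, rfl⟩
    have hh : (hK : G) ∈ H := (hHKmem _).mp hhK
    set L : Subgroup G := Lh a (hK : G) with hL
    have hLH : L ≤ H := h25_Lh_le a H hyp.inv _ hh
    have hLinv : Inv a L := h25_Lh_inv a _
    let genK : Set ↥(normalizer (N : Set G)) :=
      {y | ∃ i : ℕ, y = hK⁻¹ * (aK ^ i * hK * (aK ^ i)⁻¹)}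
    have hD1 : Lh (ψ aK) (ψ hK) = (closure genK).map ψ := by
      rw [MonoidHom.map_closure]
      unfold Lh
      congr 1
      ext x'
      constructor
      · rintro ⟨i, rfl⟩
        exact ⟨_, ⟨i, rfl⟩, by simp only [map_mul, map_inv, map_pow]⟩
      · rintro ⟨y, ⟨i, rfl⟩, rfl⟩
        exact ⟨i, by simp only [map_mul, map_inv, map_pow]⟩
    have hD2 : closure genK ≤ L.comap (normalizer (N : Set G)).subtype := by
      rw [closure_le]
      rintro y ⟨i, rfl⟩
      show ((hK⁻¹ * (aK ^ i * hK * (aK ^ i)⁻¹) : ↥(normalizer (N : Set G))) : G) ∈ L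
      rw [hL]
      unfold Lh
      refine subset_closure ⟨i, ?_⟩
      simp [aK]
    intro x' hx'
    have hx'1 : x' ∈ Lh (ψ aK) (ψ hK) := hx'.1
    have hx'2 : x' ∈ Fix (ψ aK) := hx'.2
    rw [hD1] at hx'1
    obtain ⟨y, hy, rfl⟩ := hx'1
    have hyL : (y : G) ∈ L := hD2 hy
    have hcomm' : ψ aK * ψ y = ψ y * ψ aK := (mem_centralizer_iff.mp hx'2) _ rfl
    have hnormL : zpowers a ≤ normalizer (L : Set G) := h25_zpowers_le_normalizer a L hLinv
    have hnormNL : zpowers a ≤ normalizer ((N ⊓ L : Subgroup G) : Set G) := by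
      apply h25_zpowers_le_normalizer
      intro x hx
      exact ⟨hNa x hx.1, hLinv x hx.2⟩
    have hcop : (Nat.card ↥(zpowers a)).Coprime (Nat.card ↥L) := by
      rw [Nat.card_zpowers]
      have h1 : orderOf a ∣ p := orderOf_dvd_of_pow_eq_one hyp.pow
      have h2 : Nat.card ↥L ∣ Nat.card ↥H := Subgroup.card_dvd_of_le hLH
      exact (Nat.Coprime.coprime_dvd_left h2 hyp.cop).symm.coprime_dvd_left h1
    have hsolv : Group.IsSolvable ↥(N ⊓ L : Subgroup G) ∨ Group.IsSolvable ↥(zpowers a) := by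
      right
      apply Group.isSolvable_of_comm
      rintro ⟨x, hx⟩ ⟨z, hz⟩
      obtain ⟨i, rfl⟩ := mem_zpowers_iff.mp hx
      obtain ⟨j, rfl⟩ := mem_zpowers_iff.mp hz
      apply Subtype.ext
      show a ^ i * a ^ j = a ^ j * a ^ i
      rw [← zpow_add, ← zpow_add, add_comm]
    have hcm : ∀ b ∈ zpowers a, (y : G) * b * (y : G)⁻¹ * b⁻¹ ∈ (N ⊓ L : Subgroup G) := by
      intro b hb
      obtain ⟨k, rfl⟩ := mem_zpowers_iff.mp hb
      constructor
      · have hck : Commute (ψ aK ^ k) (ψ y) := (show Commute (ψ aK) (ψ y) from hcomm').zpow_left k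
        have h1 : ψ (y * aK ^ k * y⁻¹ * (aK ^ k)⁻¹) = 1 := by
          simp only [map_mul, map_inv, map_zpow]
          rw [← hck.eq]
          group
        have h2 := (hψ1 _).mp h1
        simpa [aK] using h2
      · have hb' : a ^ k ∈ normalizer (L : Set G) := hnormL hb
        have h1 : a ^ k * (y : G)⁻¹ * (a ^ k)⁻¹ ∈ L :=
          (mem_normalizer_iff.mp hb' _).mp (L.inv_mem hyL)
        have e : (y : G) * a ^ k * (y : G)⁻¹ * (a ^ k)⁻¹ = (y : G) * (a ^ k * (y : G)⁻¹ * (a ^ k)⁻¹) := by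
          group
        rw [e]
        exact L.mul_mem hyL h1
    obtain ⟨n, hn, f, hf, hynf⟩ :=
      Cfsg.Agent.Helper52.exists_mul_centralizer_of_comm_mem L (N ⊓ L) (zpowers a) inf_le_right
        hnormL hnormNL hcop hsolv (y : G) hyL hcm
    have hfL : f ∈ L := hf.1
    have hfFix : f ∈ Fix a := by
      unfold Cfsg.Agent.Helper52.FC.Fix
      rw [mem_centralizer_iff]
      intro g hg
      rw [Set.mem_singleton_iff] at hg
      rw [hg]
      exact (mem_centralizer_iff.mp hf.2) a (mem_zpowers a)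
    have hfstar : f ∈ star a H := by
      have hle : Lh a ((⟨(hK : G), hh⟩ : ↥H) : G) ⊓ Fix a ≤ star a H :=
        le_iSup (fun h : ↥H => Lh a (h : G) ⊓ Fix a) ⟨(hK : G), hh⟩
      exact hle ⟨hfL, hfFix⟩
    have hfK : f ∈ normalizer (N : Set G) := hHK (hLH hfL)
    have hnK : n ∈ normalizer (N : Set G) := hNK hn.1
    refine ⟨⟨f, hfK⟩, mem_subgroupOf.mpr hfstar, ?_⟩
    have hy' : y = (⟨n, hnK⟩ : ↥(normalizer (N : Set G))) * ⟨f, hfK⟩ := Subtype.ext hynf
    rw [hy', map_mul, (hψ1 ⟨n, hnK⟩).mpr hn.1, one_mul]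
  -- Step E
  obtain ⟨sK, hsK, hsc⟩ := hD hcS
  have hs : (sK : G) ∈ star a H := mem_subgroupOf.mp hsK
  have h1 : ψ (sK⁻¹ * cK) = 1 := by
    rw [map_mul, map_inv, hsc, inv_mul_cancel]
  have hn0 : (sK : G)⁻¹ * c ∈ N := by
    have := (hψ1 _).mp h1
    simpa [cK] using this
  refine ⟨(sK : G), hs, (sK : G)⁻¹ * c, ⟨hn0, ?_⟩, by group⟩
  exact (Fix a).mul_mem ((Fix a).inv_mem (h25_star_le_Fix a H hs)) hcF

end Cfsg.Agent.Helper25.FC
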