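import Mathlib
import Cfsg.Agent.Lib.Helper97.FXDefs
import Cfsg.Agent.Lib.Helper48.SympRep
import Cfsg.Agent.Lib.Helper86.ESREC
import Cfsg.Agent.Lib.Helper8.FXSHIFT
import Cfsg.Agent.Lib.Helper25.FXSHC

/-!
# FX server (helper97, S3818): piece (TRANSV) `transv_bound`
-/

set_option autoImplicit false
set_option linter.style.haveILetI false

namespace Cfsg.Agent.Helper25.FX

open Cfsg.Agent.Helper97.FX Cfsg.Agent.Helper48.SympRep

universe u

section LA
variable {K : Type*} [Field K] {V : Type u} [AddCommGroup V] [Module K V] [FiniteDimensional K V]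

theorem tv_finrank_iSup {ι : Type*} [Fintype ι] (W : ι → Submodule K V) (h : iSupIndep W) :
    Module.finrank K (⨆ i, W i : Submodule K V) = ∑ i, Module.finrank K (W i) := by
  classical
  rw [← Module.finrank_directSum]
  have hinj : Function.Injective (DirectSum.coeLinearMap W) := h.dfinsupp_lsum_injective
  have hr : LinearMap.range (DirectSum.coeLinearMap W) = ⨆ i, W i :=
    (Submodule.iSup_eq_range_dfinsupp_lsum W).symm
  rw [← hr]
  exact LinearMap.finrank_range_of_inj hinj

theorem tv_sum_finrank_le {ι : Type*} [Fintype ι] (W : ι → Submodule K V) (h : iSupIndep W)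
    (U : Submodule K V) (hU : ∀ i, W i ≤ U) :
    ∑ i, Module.finrank K (W i) ≤ Module.finrank K U := by
  rw [← tv_finrank_iSup W h]
  exact Submodule.finrank_mono (iSup_le hU)

/-- the (unnormalised) projector onto the `ω`-eigenspace of `A` (`A ^ p = 1`, `ω ^ p = 1`) -/
noncomputable def tvQ (A : Module.End K V) (p : ℕ) (ω : K) : Module.End K V :=
  ∑ i ∈ Finset.range p, (ω⁻¹) ^ i • A ^ i

omit [FiniteDimensional K V] in
theorem tvQ_eigen (A : Module.End K V) (p : ℕ) (ω : K) (hA : A ^ p = 1) (hω : ω ^ p = 1)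
    (hω0 : ω ≠ 0) : A * tvQ A p ω = ω • tvQ A p ω := by
  unfold tvQ
  rw [Finset.mul_sum, Finset.smul_sum]
  have h1 : ∀ i, A * ((ω⁻¹) ^ i • A ^ i) = ω • ((ω⁻¹) ^ (i + 1) • A ^ (i + 1)) := by
    intro i
    have h0 : ω * (ω⁻¹) ^ (i + 1) = (ω⁻¹) ^ i := by
      rw [pow_succ, mul_comm ((ω⁻¹) ^ i), ← mul_assoc, mul_inv_cancel₀ hω0, one_mul]
    rw [mul_smul_comm, smul_smul, h0, pow_succ' A i]
  simp only [h1]
  rw [← Finset.smul_sum, ← Finset.smul_sum]
  congr 1
  have h2 := Finset.sum_range_succ' (fun i => (ω⁻¹) ^ i • A ^ i) p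
  have h3 := Finset.sum_range_succ (fun i => (ω⁻¹) ^ i • A ^ i) p
  rw [h3] at h2
  have h4 : (ω⁻¹) ^ p • A ^ p = (ω⁻¹) ^ 0 • A ^ 0 := by
    rw [inv_pow, hω, inv_one, hA, pow_zero, pow_zero]
  rw [h4] at h2
  exact (add_right_cancel h2).symm

omit [FiniteDimensional K V] in
theorem tvQ_comm (T A : Module.End K V) (hTA : T * A = A * T) (p : ℕ) (ω : K) :
    T * tvQ A p ω = tvQ A p ω * T := by
  unfold tvQ
  rw [Finset.mul_sum, Finset.sum_mul]
  apply Finset.sum_congr rfl
  intro i _
  have hc : Commute T (A ^ i) := (show Commute T A from hTA).pow_right i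
  rw [mul_smul_comm, smul_mul_assoc, hc.eq]

omit [FiniteDimensional K V] in
theorem tvQ_sum (A : Module.End K V) (p : ℕ) (hp : p.Prime) (κ : K) (hκ1 : κ ≠ 1)
    (hκp : κ ^ p = 1) :
    ∑ t ∈ Finset.range p, tvQ A p (κ ^ t) = (p : K) • (1 : Module.End K V) := by
  unfold tvQ
  rw [Finset.sum_comm]
  haveI : Fact p.Prime := ⟨hp⟩
  have hord : orderOf κ = p := orderOf_eq_prime hκp hκ1
  have hinner : ∀ i ∈ Finset.range p,
      ∑ t ∈ Finset.range p, ((κ ^ t)⁻¹) ^ i • A ^ i =
        (if i = 0 then (p : K) else 0) • A ^ i := by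
    intro i hi
    rw [← Finset.sum_smul]
    congr 1
    have h1 : ∀ t, ((κ ^ t)⁻¹) ^ i = ((κ⁻¹) ^ i) ^ t := by
      intro t
      rw [← inv_pow, ← pow_mul, ← pow_mul, mul_comm]
    simp only [h1]
    by_cases hi0 : i = 0
    · subst hi0
      simp
    · rw [if_neg hi0]
      have hr1 : (κ⁻¹) ^ i ≠ 1 := by
        intro h
        rw [inv_pow, inv_eq_one] at h
        have hdvd : p ∣ i := hord ▸ orderOf_dvd_of_pow_eq_one h
        have hlt : i < p := Finset.mem_range.mp hi
        exact hi0 (Nat.eq_zero_of_dvd_of_lt hdvd hlt)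
      rw [geom_sum_eq hr1]
      have : ((κ⁻¹) ^ i) ^ p = 1 := by
        rw [← pow_mul, mul_comm, pow_mul, inv_pow, hκp, inv_one, one_pow]
      rw [this, sub_self, zero_div]
  rw [Finset.sum_congr rfl hinner]
  rw [Finset.sum_eq_single 0]
  · simp
  · intro i _ hi0
    rw [if_neg hi0, zero_smul]
  · intro h0
    exact absurd (Finset.mem_range.mpr hp.pos) h0

/-- **(TRANSV)** -/
theorem transv_bound [IsAlgClosed K] (T A P P' : Module.End K V) (hPP' : P * P' = 1)
    (hP'P : P' * P = 1) (κ : K) {p : ℕ} (hp : p.Prime) (hp2 : p ≠ 2) (hpK : (p : K) ≠ 0)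
    (hκ1 : κ ≠ 1) (hκp : κ ^ p = 1) (hTp : T ^ p = 1) (hTA : T * A = A * T)
    (hPT : P * T * P' = T * A) (hPA : P * A * P' = κ • A) :
    p * fixDim T ≤ 2 * Module.finrank K V := by
  classical
  haveI : Fact p.Prime := ⟨hp⟩
  have hord : orderOf κ = p := orderOf_eq_prime hκp hκ1
  have hκ0 : κ ≠ 0 := by
    rintro rfl
    rw [zero_pow hp.ne_zero] at hκp
    exact zero_ne_one hκp
  -- A ^ p = 1
  have hAp : A ^ p = 1 := by
    have h1 : (T * A) ^ p = T ^ p * A ^ p := (show Commute T A from hTA).mul_pow p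
    have h2 : (P * T * P') ^ p = 1 := by
      rw [fx_conj_pow P P' T hPP' hP'P, hTp, mul_one, hPP']
    rw [hPT, h1, hTp, one_mul] at h2
    exact h2
  have hPA' : P * A = κ • (A * P) := by
    calc P * A = P * A * (P' * P) := by rw [hP'P, mul_one]
      _ = (P * A * P') * P := by simp only [mul_assoc]
      _ = κ • (A * P) := by rw [hPA, smul_mul_assoc]
  have hPT' : P * T = T * A * P := by
    calc P * T = P * T * (P' * P) := by rw [hP'P, mul_one]
      _ = (P * T * P') * P := by simp only [mul_assoc]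
      _ = T * A * P := by rw [hPT]
  have hPinj : Function.Injective P := by
    intro a b hab
    have h2 := congrArg P' hab
    rw [← Module.End.mul_apply, ← Module.End.mul_apply, hP'P] at h2
    exact h2
  -- joint eigenspaces
  let E : K → K → Submodule K V :=
    fun θ α => Module.End.eigenspace T θ ⊓ Module.End.eigenspace A α
  have hEmem : ∀ θ α v, v ∈ E θ α ↔ T v = θ • v ∧ A v = α • v := by
    intro θ α v
    simp only [E, Submodule.mem_inf, Module.End.mem_eigenspace_iff]
  have hstep : ∀ θ α : K, α ≠ 0 → (E θ α).map P ≤ E (θ * κ * α⁻¹) (α * κ⁻¹) := by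
    rintro θ α hα _ ⟨v, hv, rfl⟩
    obtain ⟨hTv, hAv⟩ := (hEmem θ α v).mp hv
    rw [hEmem]
    have hA' : A (P v) = (α * κ⁻¹) • P v := by
      have h1 := LinearMap.congr_fun hPA' v
      simp only [Module.End.mul_apply, LinearMap.smul_apply] at h1
      rw [hAv, map_smul] at h1
      have h3 : A (P v) = κ⁻¹ • (α • P v) := by
        rw [h1, smul_smul, inv_mul_cancel₀ hκ0, one_smul]
      rw [h3, smul_smul, mul_comm]
    refine ⟨?_, hA'⟩
    have h2 := LinearMap.congr_fun hPT' v
    simp only [Module.End.mul_apply] at h2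
    rw [hTv, map_smul, hA', map_smul] at h2
    have hne : α * κ⁻¹ ≠ 0 := mul_ne_zero hα (inv_ne_zero hκ0)
    have h3 : T (P v) = (α * κ⁻¹)⁻¹ • (θ • P v) := by
      rw [h2, smul_smul, inv_mul_cancel₀ hne, one_smul]
    rw [h3, smul_smul]
    congr 1
    field_simp
  have hdim : ∀ θ α : K, α ≠ 0 →
      Module.finrank K (E θ α) ≤ Module.finrank K (E (θ * κ * α⁻¹) (α * κ⁻¹)) := by
    intro θ α hα
    calc Module.finrank K (E θ α) = Module.finrank K ((E θ α).map P) :=
          LinearEquiv.finrank_eq (Submodule.equivMapOfInjective P hPinj _)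
      _ ≤ _ := Submodule.finrank_mono (hstep θ α hα)
  -- iterate
  let c : ℕ → ℕ := fun t => ∑ i ∈ Finset.range t, i
  have hc_succ : ∀ t, c (t + 1) = c t + t := fun t => Finset.sum_range_succ _ t
  have hiter : ∀ t : ℕ, ∀ θ : K,
      Module.finrank K (E θ (κ ^ t)) ≤ Module.finrank K (E (θ * (κ ^ c t)⁻¹) 1) := by
    intro t
    induction t with
    | zero =>
      intro θ
      have hc0 : c 0 = 0 := by simp [c]
      rw [hc0, pow_zero, inv_one, mul_one]
    | succ t ih =>
      intro θ
      have h1 := hdim θ (κ ^ (t + 1)) (pow_ne_zero _ hκ0)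
      have e1 : θ * κ * (κ ^ (t + 1))⁻¹ = θ * (κ ^ t)⁻¹ := by
        rw [pow_succ]
        field_simp
      have e2 : κ ^ (t + 1) * κ⁻¹ = κ ^ t := by
        rw [pow_succ, mul_assoc, mul_inv_cancel₀ hκ0, mul_one]
      rw [e1, e2] at h1
      refine h1.trans ((ih _).trans (le_of_eq ?_))
      rw [hc_succ, pow_add, mul_inv, mul_assoc, mul_comm ((κ ^ t)⁻¹)]
  -- independence
  have hkinj : Function.Injective (fun j : Fin p => κ ^ (j : ℕ)) := by
    intro i j hij
    apply Fin.ext
    exact pow_injOn_Iio_orderOf (by rw [hord]; exact i.2) (by rw [hord]; exact j.2) hij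
  have hindA : iSupIndep (fun t : Fin p => E 1 (κ ^ (t : ℕ))) := by
    have h1 : iSupIndep (fun t : Fin p => Module.End.eigenspace A (κ ^ (t : ℕ))) :=
      (Module.End.eigenspaces_iSupIndep A).comp hkinj
    exact h1.mono (fun t => inf_le_right)
  -- (iii)
  have hfix : fixDim T ≤ ∑ t : Fin p, Module.finrank K (E 1 (κ ^ (t : ℕ))) := by
    rw [← tv_finrank_iSup _ hindA, fixDim_def]
    apply Submodule.finrank_mono
    intro u hu
    have hTu : T u = u := by
      have h1 := LinearMap.mem_ker.mp hu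
      rw [LinearMap.sub_apply, Module.End.one_apply, sub_eq_zero] at h1
      exact h1
    have hsum := LinearMap.congr_fun (tvQ_sum A p hp κ hκ1 hκp) u
    rw [LinearMap.sum_apply, LinearMap.smul_apply, Module.End.one_apply] at hsum
    have hu' : u = (p : K)⁻¹ • ∑ t ∈ Finset.range p, tvQ A p (κ ^ t) u := by
      rw [hsum, smul_smul, inv_mul_cancel₀ hpK, one_smul]
    rw [hu']
    apply Submodule.smul_mem
    apply Submodule.sum_mem
    intro t ht
    have htp : t < p := Finset.mem_range.mp ht
    apply Submodule.mem_iSup_of_mem (⟨t, htp⟩ : Fin p)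
    rw [hEmem]
    constructor
    · have h1 := LinearMap.congr_fun (tvQ_comm T A hTA p (κ ^ t)) u
      simp only [Module.End.mul_apply] at h1
      rw [h1, hTu, one_smul]
    · have hωp : (κ ^ t) ^ p = 1 := by rw [← pow_mul, mul_comm, pow_mul, hκp, one_pow]
      have h1 := LinearMap.congr_fun (tvQ_eigen A p (κ ^ t) hAp hωp (pow_ne_zero _ hκ0)) u
      simp only [Module.End.mul_apply, LinearMap.smul_apply] at h1
      exact h1
  -- (iv)
  let f : Fin p → K := fun t => (κ ^ c (t : ℕ))⁻¹
  let g : K → ℕ := fun θ => Module.finrank K (E θ 1)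
  have hle1 : ∑ t : Fin p, Module.finrank K (E 1 (κ ^ (t : ℕ))) ≤ ∑ t : Fin p, g (f t) := by
    apply Finset.sum_le_sum
    intro t _
    have h1 := hiter (t : ℕ) 1
    rw [one_mul] at h1
    exact h1
  have hfibre : ∀ θ : K, (Finset.univ.filter (fun t : Fin p => f t = θ)).card ≤ 2 := by
    intro θ
    by_cases hne : (Finset.univ.filter (fun t : Fin p => f t = θ)).Nonempty
    · obtain ⟨t₀, ht₀⟩ := hne
      rw [Finset.mem_filter] at ht₀
      let b : Fin p := ⟨(1 - ((t₀ : ℕ) : ZMod p)).val, ZMod.val_lt _⟩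
      have hsub : Finset.univ.filter (fun t : Fin p => f t = θ) ⊆ {t₀, b} := by
        intro t ht
        rw [Finset.mem_filter] at ht
        have h1 : κ ^ c (t : ℕ) = κ ^ c (t₀ : ℕ) := by
          have h2 : f t = f t₀ := by rw [ht.2, ht₀.2]
          exact inv_injective h2
        have h3 : c (t : ℕ) ≡ c (t₀ : ℕ) [MOD p] := by
          have h1u : (Units.mk0 κ hκ0) ^ c (t : ℕ) = (Units.mk0 κ hκ0) ^ c (t₀ : ℕ) := by
            apply Units.ext
            simpa using h1
          have h2 := pow_eq_pow_iff_modEq.mp h1u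
          have hordu : orderOf (Units.mk0 κ hκ0) = p := by
            rw [← orderOf_units, Units.val_mk0, hord]
          rwa [hordu] at h2
        have h4 : ((c (t : ℕ) : ℕ) : ZMod p) = ((c (t₀ : ℕ) : ℕ) : ZMod p) :=
          (ZMod.natCast_eq_natCast_iff _ _ _).mpr h3
        have hcz : ∀ n : ℕ, ((c n : ℕ) : ZMod p) * 2 = (n : ZMod p) * n - n := by
          intro n
          have h5 : c (n + 1) * 2 = (n + 1) * n := by
            have := Finset.sum_range_id_mul_two (n + 1)
            simpa using this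
          rw [hc_succ] at h5
          have h6 := congrArg (fun m : ℕ => (m : ZMod p)) h5
          push_cast at h6
          linear_combination h6
        have h7 : ((t : ℕ) : ZMod p) * (t : ℕ) - (t : ℕ) =
            ((t₀ : ℕ) : ZMod p) * (t₀ : ℕ) - (t₀ : ℕ) := by
          rw [← hcz, ← hcz, h4]
        have h8 : (((t : ℕ) : ZMod p) - (t₀ : ℕ)) * (((t : ℕ) : ZMod p) - (1 - (t₀ : ℕ))) = 0 := by
          linear_combination h7
        rw [Finset.mem_insert, Finset.mem_singleton]
        rcases mul_eq_zero.mp h8 with h9 | h9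
        · left
          apply Fin.ext
          have h10 : ((t : ℕ) : ZMod p) = ((t₀ : ℕ) : ZMod p) := sub_eq_zero.mp h9
          have h11 := congrArg ZMod.val h10
          rw [ZMod.val_natCast_of_lt t.2, ZMod.val_natCast_of_lt t₀.2] at h11
          exact h11
        · right
          apply Fin.ext
          have h10 : ((t : ℕ) : ZMod p) = 1 - ((t₀ : ℕ) : ZMod p) := sub_eq_zero.mp h9
          have h11 := congrArg ZMod.val h10
          rw [ZMod.val_natCast_of_lt t.2] at h11
          exact h11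
      exact (Finset.card_le_card hsub).trans Finset.card_le_two
    · rw [Finset.not_nonempty_iff_eq_empty] at hne
      rw [hne]
      simp
  have hle2 : ∑ t : Fin p, g (f t) ≤ 2 * Module.finrank K (Module.End.eigenspace A 1) := by
    rw [Finset.sum_comp g f]
    have hS : ∑ θ ∈ Finset.univ.image f, g θ ≤ Module.finrank K (Module.End.eigenspace A 1) := by
      rw [← Finset.sum_coe_sort]
      apply tv_sum_finrank_le (fun θ : (Finset.univ.image f : Finset K) => E (θ : K) 1)
      · have h1 : iSupIndep (fun θ : (Finset.univ.image f : Finset K) =>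
            Module.End.eigenspace T (θ : K)) :=
          (Module.End.eigenspaces_iSupIndep T).comp Subtype.val_injective
        exact h1.mono (fun θ => inf_le_left)
      · intro θ
        exact inf_le_right
    calc ∑ θ ∈ Finset.univ.image f, (Finset.univ.filter (fun t : Fin p => f t = θ)).card • g θ
        ≤ ∑ θ ∈ Finset.univ.image f, 2 * g θ := by
          apply Finset.sum_le_sum
          intro θ _
          rw [smul_eq_mul]
          exact Nat.mul_le_mul_right _ (hfibre θ)
      _ = 2 * ∑ θ ∈ Finset.univ.image f, g θ := by rw [Finset.mul_sum]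
      _ ≤ _ := Nat.mul_le_mul_left _ hS
  -- (v)
  have hshift : p * fixDim A ≤ Module.finrank K V :=
    Cfsg.Agent.Helper8.FX.shift_bound A P P' hPP' hP'P κ hp hκ1 hκp hPA
  have hfA : fixDim A = Module.finrank K (Module.End.eigenspace A 1) := by
    rw [fixDim_def, Module.End.eigenspace_def, one_smul]
  calc p * fixDim T ≤ p * (2 * Module.finrank K (Module.End.eigenspace A 1)) :=
        Nat.mul_le_mul_left _ (hfix.trans (hle1.trans hle2))
    _ = 2 * (p * fixDim A) := by rw [hfA]; ring
    _ ≤ 2 * Module.finrank K V := Nat.mul_le_mul_left _ hshift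

end LA

end Cfsg.Agent.Helper25.FX
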