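import Mathlib
import Cfsg.Agent.Lib.Helper97.FXDefs
import Cfsg.Agent.Lib.Helper48.SympRep
import Cfsg.Agent.Lib.Helper86.ESREC
import Cfsg.Agent.Lib.Helper25.FXSHC

/-!
# FX server (helper97, S3818): piece (TRC) `transv_case`, core: `transv_case_of` takes the
statement of (TRANSV) for `V := M` as a hypothesis; plus the group lemma `trc_group`.
-/

set_option autoImplicit false
set_option linter.style.haveILetI false

namespace Cfsg.Agent.Helper25.FX

open Cfsg.Agent.Helper97.FX Cfsg.Agent.Helper48.SympRep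

universe u

/-- abelian group `B`, automorphism `σ` with `σ^p = 1` whose fixed subgroup has index `p`:
`σ` acts trivially on `B / Fix σ`, and `b^p ∈ Fix σ`. -/
theorem trc_group {B : Type*} [Group B] [Finite B] (hcomm : ∀ x y : B, x * y = y * x)
    (σ : B ≃* B) {p : ℕ} (hp : p.Prime)
    (hσp : (σ.toEquiv : Equiv.Perm B) ^ p = 1)
    (hidx : Nat.card B = p * Nat.card {w : B // σ w = w}) :
    (∀ b, σ (σ b * b⁻¹) = σ b * b⁻¹) ∧ (∀ b, σ (b ^ p) = b ^ p) := by
  classical
  letI : Fintype B := Fintype.ofFinite B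
  have : Fact p.Prime := ⟨hp⟩
  let δ : B →* B :=
    { toFun := fun b => σ b * b⁻¹
      map_one' := by simp
      map_mul' := fun x y => by
        rw [map_mul, mul_inv_rev]
        calc σ x * σ y * (y⁻¹ * x⁻¹) = σ x * ((σ y * y⁻¹) * x⁻¹) := by simp only [mul_assoc]
          _ = σ x * (x⁻¹ * (σ y * y⁻¹)) := by rw [hcomm (σ y * y⁻¹) x⁻¹]
          _ = σ x * x⁻¹ * (σ y * y⁻¹) := by simp only [mul_assoc] }
  have hδ : ∀ b, δ b = σ b * b⁻¹ := fun b => rfl
  have hker : ∀ b, b ∈ δ.ker ↔ σ b = b := by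
    intro b
    rw [MonoidHom.mem_ker, hδ, mul_inv_eq_one]
  have hcardker : Nat.card δ.ker = Nat.card {w : B // σ w = w} :=
    Nat.card_congr (Equiv.subtypeEquivRight hker)
  have hrange : Nat.card δ.range = p := by
    rw [← Subgroup.index_ker]
    have h1 := Subgroup.index_mul_card δ.ker
    rw [hcardker, hidx] at h1
    have hpos : 0 < Nat.card {w : B // σ w = w} := by
      have : Nonempty {w : B // σ w = w} := ⟨⟨1, map_one σ⟩⟩
      exact Nat.card_pos
    exact Nat.eq_of_mul_eq_mul_right hpos h1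
  -- σ commutes with δ
  have hσδ : ∀ b, σ (δ b) = δ (σ b) := by
    intro b
    rw [hδ, hδ, map_mul, map_inv]
  -- the restricted permutation
  set σP : Equiv.Perm B := σ.toEquiv with hσP
  have hσPa : ∀ x, σP x = σ x := fun x => rfl
  have hmem : ∀ x : B, σP x ∈ δ.range ↔ x ∈ δ.range := by
    intro x
    rw [hσPa]
    constructor
    · rintro ⟨b, hb⟩
      refine ⟨σ.symm b, ?_⟩
      apply σ.injective
      rw [hσδ, MulEquiv.apply_symm_apply, hb]
    · rintro ⟨b, rfl⟩
      exact ⟨σ b, (hσδ b).symm⟩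
  let τ : Equiv.Perm δ.range := σP.subtypePerm hmem
  have hτa : ∀ x : δ.range, ((τ x : δ.range) : B) = σ x := fun x => rfl
  have hτp : τ ^ p ^ 1 = 1 := by
    rw [pow_one]
    ext x
    have h1 : ((τ ^ p) x : B) = (σP ^ p) x := by
      simp only [τ, Equiv.Perm.subtypePerm_pow, Equiv.Perm.subtypePerm_apply]
    rw [h1, hσp]
    rfl
  have hmod := Equiv.Perm.card_compl_support_modEq hτp
  have hcardR : Fintype.card δ.range = p := by
    rw [← Nat.card_eq_fintype_card, hrange]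
  rw [hcardR] at hmod
  have hone : (1 : δ.range) ∈ τ.supportᶜ := by
    rw [Finset.mem_compl, Equiv.Perm.notMem_support]
    apply Subtype.ext
    rw [hτa]
    simp
  have hle : τ.supportᶜ.card ≤ p := by
    rw [← hcardR]
    exact Finset.card_le_univ _
  have hpos : 0 < τ.supportᶜ.card := Finset.card_pos.mpr ⟨1, hone⟩
  have hdvd : p ∣ τ.supportᶜ.card := by
    rw [Nat.ModEq, Nat.mod_self] at hmod
    exact Nat.dvd_of_mod_eq_zero hmod
  have hall : τ.supportᶜ.card = p := le_antisymm hle (Nat.le_of_dvd hpos hdvd)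
  have hfix : ∀ x : δ.range, τ x = x := by
    intro x
    have h1 : τ.supportᶜ = Finset.univ := by
      apply Finset.eq_univ_of_card
      rw [hall, hcardR]
    have h2 : x ∈ τ.supportᶜ := by rw [h1]; exact Finset.mem_univ x
    rw [Finset.mem_compl, Equiv.Perm.notMem_support] at h2
    exact h2
  have hpart1 : ∀ b, σ (σ b * b⁻¹) = σ b * b⁻¹ := by
    intro b
    have h1 := hfix ⟨δ b, b, rfl⟩
    have h2 := congrArg (fun y : δ.range => (y : B)) h1
    simp only [hτa] at h2
    exact h2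
  refine ⟨hpart1, ?_⟩
  intro b
  have h1 : δ (b ^ p) = 1 := by
    rw [map_pow]
    have h2 : (⟨δ b, b, rfl⟩ : δ.range) ^ p = 1 := by
      rw [← hrange]
      exact pow_card_eq_one'
    have h3 := congrArg (fun y : δ.range => (y : B)) h2
    simpa using h3
  have h4 : b ^ p ∈ δ.ker := h1
  exact (hker _).mp h4


section SY
variable {K : Type*} [Field K] {M : Type u} [AddCommGroup M] [Module K M] [FiniteDimensional K M]
variable {Q : Type*} [Group Q] [Fintype Q]
variable {ρ : Q →* Module.End K M} {a : Q ≃* Q} {g g' : Module.End K M}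

/-- a subgroup containing a subgroup of prime index and an element outside it is everything -/
theorem trc_eq_top {G : Type*} [Group G] (H C : Subgroup G) {p : ℕ} (hp : p.Prime)
    (hidx : H.index = p) (hHC : H ≤ C) (x : G) (hxC : x ∈ C) (hxH : x ∉ H) : C = ⊤ := by
  have h1 := Subgroup.relIndex_mul_index hHC
  rw [hidx] at h1
  have h2 : C.index ∣ p := ⟨H.relIndex C, by rw [← h1, mul_comm]⟩
  rcases (Nat.dvd_prime hp).mp h2 with h3 | h3
  · exact Subgroup.index_eq_one.mp h3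
  · exfalso
    rw [h3] at h1
    have h4 : H.relIndex C = 1 := by
      have hp0 : 0 < p := hp.pos
      exact Nat.eq_of_mul_eq_mul_right hp0 (by rw [h1, one_mul])
    exact hxH (Subgroup.relIndex_eq_one.mp h4 hxC)

/-- **(TRC)** with (TRANSV) as a hypothesis -/
theorem transv_case_of [IsAlgClosed K]
    (hTRANSV : ∀ (T A P P' : Module.End K M), P * P' = 1 → P' * P = 1 → ∀ (κ : K) {p : ℕ},
      p.Prime → p ≠ 2 → (p : K) ≠ 0 → κ ≠ 1 → κ ^ p = 1 → T ^ p = 1 → T * A = A * T →
      P * T * P' = T * A → P * A * P' = κ • A → p * fixDim T ≤ 2 * Module.finrank K M)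
    (hρ : Symp ρ) (hQ : (Fintype.card Q : K) ≠ 0)
    (h : Normalises ρ a g g') {p : ℕ} (hp : p.Prime) (hp2 : p ≠ 2) (hgp : g ^ p = 1)
    (hidx : Nat.card (Q ⧸ scalarSubgroup ρ) =
      p * Nat.card {w : Q ⧸ scalarSubgroup ρ // sigma h w = w})
    (hσ : ∃ u : Q, a u * u⁻¹ ∉ scalarSubgroup ρ)
    (hns : ∀ m : Q, a m * m⁻¹ ∈ scalarSubgroup ρ → ρ (a m * m⁻¹) = 1) :
    p * fixDim g ≤ 2 * Module.finrank K M := by
  classical
  obtain ⟨n₁, hn₁⟩ := hσ
  -- the endomorphism ring is nontrivial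
  have hnt : (1 : Module.End K M) ≠ 0 := by
    intro h10
    apply hn₁
    refine ⟨0, ?_⟩
    rw [zero_smul, ← mul_one (ρ _), h10, mul_zero]
  -- `Q ⧸ S` is abelian
  have hBcomm : ∀ x y : Q ⧸ scalarSubgroup ρ, x * y = y * x := by
    intro x y
    obtain ⟨u, rfl⟩ := QuotientGroup.mk_surjective x
    obtain ⟨w, rfl⟩ := QuotientGroup.mk_surjective y
    rw [← QuotientGroup.mk_mul, ← QuotientGroup.mk_mul]
    apply QuotientGroup.eq.mpr
    obtain ⟨l, hl⟩ := hρ.comm_scalar w u
    refine ⟨l, ?_⟩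
    rw [map_mul, map_mul ρ w u, hl, mul_smul_comm, ← map_mul ρ u w, rho_inv_mul]
  -- the automorphism of `Q ⧸ S`
  set σm : (Q ⧸ scalarSubgroup ρ) ≃* (Q ⧸ scalarSubgroup ρ) :=
    QuotientGroup.congr (scalarSubgroup ρ) (scalarSubgroup ρ) a h.map_eq with hσm
  have hσmk : ∀ w : Q, σm (QuotientGroup.mk w) = QuotientGroup.mk (a w) := fun w => sigma_mk h w
  have hσp : (σm.toEquiv : Equiv.Perm (Q ⧸ scalarSubgroup ρ)) ^ p = 1 := sigma_pow_eq_one h hgp
  have hidx' : Nat.card (Q ⧸ scalarSubgroup ρ) =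
      p * Nat.card {w : Q ⧸ scalarSubgroup ρ // σm w = w} := hidx
  obtain ⟨hG1, hG2⟩ := trc_group hBcomm σm hp hσp hidx'
  -- fixed cosets
  have hfix_iff : ∀ m : Q, σm (QuotientGroup.mk m) = QuotientGroup.mk m ↔
      a m * m⁻¹ ∈ scalarSubgroup ρ := by
    intro m
    rw [hσmk, QuotientGroup.eq, (scalarSubgroup_normal ρ).mem_comm_iff, ← inv_mem_iff,
      mul_inv_rev, inv_inv]
  -- `g` commutes with `ρ m` for `m ∈ M₀`
  have hcommM0 : ∀ m : Q, a m * m⁻¹ ∈ scalarSubgroup ρ → g * ρ m = ρ m * g := by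
    intro m hm
    have h1 : ρ (a m) = ρ (a m * m⁻¹) * ρ m := by rw [← map_mul, inv_mul_cancel_right]
    rw [hns m hm, one_mul] at h1
    rw [h.conj m, h1]
  have hcommM0' : ∀ m : Q, a m * m⁻¹ ∈ scalarSubgroup ρ → g' * ρ m = ρ m * g' := by
    intro m hm
    have h1 := hcommM0 m hm
    calc g' * ρ m = g' * ρ m * (g * g') := by rw [h.mul_inv, mul_one]
      _ = g' * (ρ m * g) * g' := by simp only [mul_assoc]
      _ = g' * (g * ρ m) * g' := by rw [h1]
      _ = (g' * g) * ρ m * g' := by simp only [mul_assoc]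
      _ = ρ m * g' := by rw [h.inv_mul, one_mul]
  -- the element a'
  set a' : Q := a.symm n₁ * n₁⁻¹ with ha'
  have ha'M0 : a a' * a'⁻¹ ∈ scalarSubgroup ρ := by
    rw [← hfix_iff]
    have h1 := hG1 (QuotientGroup.mk (a.symm n₁))
    rw [hσmk, MulEquiv.apply_symm_apply] at h1
    have h2 : (QuotientGroup.mk a' : Q ⧸ scalarSubgroup ρ) =
        ((QuotientGroup.mk n₁ : Q ⧸ scalarSubgroup ρ) * (QuotientGroup.mk (a.symm n₁))⁻¹)⁻¹ := by
      rw [ha', mul_inv_rev, inv_inv, QuotientGroup.mk_mul, QuotientGroup.mk_inv]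
    rw [h2, map_inv, h1]
  set A : Module.End K M := ρ a' with hA
  set P : Module.End K M := ρ n₁ with hP
  set P' : Module.End K M := ρ n₁⁻¹ with hP'
  have hPP' : P * P' = 1 := rho_mul_inv ρ n₁
  have hP'P : P' * P = 1 := rho_inv_mul ρ n₁
  have hAeq : A = g' * P * g * P' := by
    rw [hA, ha', map_mul, h.rho_symm]
  have hTA : g * A = A * g := hcommM0 a' ha'M0
  have hPT : P * g * P' = g * A := by
    rw [hAeq]
    calc P * g * P' = (g * g') * P * g * P' := by rw [h.mul_inv, one_mul]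
      _ = g * (g' * P * g * P') := by simp only [mul_assoc]
  obtain ⟨κ, hκ⟩ := hρ.comm_scalar n₁ a'
  have hPA : P * A * P' = κ • A := by
    rw [hP, hA, hκ, smul_mul_assoc, mul_assoc, rho_mul_inv, mul_one]
  -- `A` commutes with `ρ m`, `m ∈ M₀`
  have hA_M0 : ∀ m : Q, a m * m⁻¹ ∈ scalarSubgroup ρ → ρ m * A = A * ρ m := by
    intro m hm
    obtain ⟨c, hc⟩ := hρ.comm_scalar m n₁
    have hc' : c • (ρ m * P') = P' * ρ m := by
      calc c • (ρ m * P') = c • ((P' * P) * ρ m * P') := by rw [hP'P, one_mul]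
        _ = P' * (c • (P * ρ m)) * P' := by
            rw [mul_smul_comm, smul_mul_assoc]; simp only [mul_assoc]
        _ = P' * (ρ m * P) * P' := by rw [← hc]
        _ = P' * ρ m * (P * P') := by simp only [mul_assoc]
        _ = P' * ρ m := by rw [hPP', mul_one]
    have hg := hcommM0 m hm
    have hg' := hcommM0' m hm
    calc ρ m * A = ρ m * (g' * P * g * P') := by rw [hAeq]
      _ = (ρ m * g') * P * g * P' := by simp only [mul_assoc]
      _ = (g' * ρ m) * P * g * P' := by rw [hg']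
      _ = g' * (ρ m * P) * g * P' := by simp only [mul_assoc]
      _ = g' * (c • (P * ρ m)) * g * P' := by rw [hc]
      _ = c • (g' * P * (ρ m * g) * P') := by
          rw [mul_smul_comm, smul_mul_assoc, smul_mul_assoc]; simp only [mul_assoc]
      _ = c • (g' * P * (g * ρ m) * P') := by rw [hg]
      _ = g' * P * g * (c • (ρ m * P')) := by
          rw [mul_smul_comm]; simp only [mul_assoc]
      _ = g' * P * g * (P' * ρ m) := by rw [hc']
      _ = A * ρ m := by rw [hAeq]; simp only [mul_assoc]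
  -- the subgroup M₀
  set F : Subgroup (Q ⧸ scalarSubgroup ρ) :=
    (σm.toMonoidHom).eqLocus (MonoidHom.id (Q ⧸ scalarSubgroup ρ)) with hF
  have hFmem : ∀ w, w ∈ F ↔ σm w = w := fun w => Iff.rfl
  set M₀ : Subgroup Q := F.comap (QuotientGroup.mk' (scalarSubgroup ρ)) with hM₀
  have hM₀mem : ∀ m : Q, m ∈ M₀ ↔ a m * m⁻¹ ∈ scalarSubgroup ρ := by
    intro m
    rw [← hfix_iff]
    exact Iff.rfl
  have hFidx : F.index = p := by
    have h1 := Subgroup.index_mul_card F
    have h2 : Nat.card F = Nat.card {w : Q ⧸ scalarSubgroup ρ // σm w = w} :=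
      Nat.card_congr (Equiv.subtypeEquivRight hFmem)
    rw [h2, hidx'] at h1
    have hpos : 0 < Nat.card {w : Q ⧸ scalarSubgroup ρ // σm w = w} := by
      have : Nonempty {w : Q ⧸ scalarSubgroup ρ // σm w = w} := ⟨⟨1, map_one σm⟩⟩
      exact Nat.card_pos
    exact Nat.eq_of_mul_eq_mul_right hpos h1
  have hM₀idx : M₀.index = p := by
    rw [hM₀, Subgroup.index_comap_of_surjective _ (QuotientGroup.mk'_surjective _), hFidx]
  have hn₁M₀ : n₁ ∉ M₀ := fun hm => hn₁ ((hM₀mem n₁).mp hm)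
  -- κ ≠ 1
  have hκ1 : κ ≠ 1 := by
    rintro rfl
    rw [one_smul] at hκ
    let C : Subgroup Q :=
      { carrier := {u | ρ u * A = A * ρ u}
        one_mem' := by simp
        mul_mem' := by
          intro u w hu hw
          change ρ u * A = A * ρ u at hu
          change ρ w * A = A * ρ w at hw
          change ρ (u * w) * A = A * ρ (u * w)
          rw [map_mul, mul_assoc, hw, ← mul_assoc, hu, mul_assoc]
        inv_mem' := by
          intro u hu
          change ρ u * A = A * ρ u at hu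
          change ρ u⁻¹ * A = A * ρ u⁻¹
          calc ρ u⁻¹ * A = ρ u⁻¹ * A * (ρ u * ρ u⁻¹) := by rw [rho_mul_inv, mul_one]
            _ = ρ u⁻¹ * (A * ρ u) * ρ u⁻¹ := by simp only [mul_assoc]
            _ = ρ u⁻¹ * (ρ u * A) * ρ u⁻¹ := by rw [hu]
            _ = (ρ u⁻¹ * ρ u) * A * ρ u⁻¹ := by simp only [mul_assoc]
            _ = A * ρ u⁻¹ := by rw [rho_inv_mul, one_mul] }
    have hCmem : ∀ u, u ∈ C ↔ ρ u * A = A * ρ u := fun u => Iff.rfl
    have hM₀C : M₀ ≤ C := fun m hm => (hCmem m).mpr (hA_M0 m ((hM₀mem m).mp hm))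
    have hn₁C : n₁ ∈ C := (hCmem n₁).mpr hκ
    have hCtop := trc_eq_top M₀ C hp hM₀idx hM₀C n₁ hn₁C hn₁M₀
    have hall : ∀ w, ρ a' * ρ w = ρ w * ρ a' := by
      intro w
      have : w ∈ C := by rw [hCtop]; exact Subgroup.mem_top w
      exact ((hCmem w).mp this).symm
    have ha'S : a' ∈ scalarSubgroup ρ := hρ.nondeg a' hall
    have h1 : a a' ∈ scalarSubgroup ρ := (h.mem_iff a').mpr ha'S
    apply hn₁
    have h2 : a n₁ * n₁⁻¹ = (a a')⁻¹ := by
      rw [ha', map_mul, MulEquiv.apply_symm_apply, map_inv, mul_inv_rev, inv_inv]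
    rw [h2]
    exact inv_mem h1
  -- κ ^ p = 1
  have hκp : κ ^ p = 1 := by
    have hpow : ∀ n : ℕ, P ^ n * A * P' ^ n = κ ^ n • A := by
      intro n
      induction n with
      | zero => simp
      | succ n ih =>
        calc P ^ (n + 1) * A * P' ^ (n + 1) = P * (P ^ n * A * P' ^ n) * P' := by
              rw [pow_succ' P, pow_succ P']; simp only [mul_assoc]
          _ = κ ^ n • (P * A * P') := by rw [ih, mul_smul_comm, smul_mul_assoc]
          _ = κ ^ (n + 1) • A := by rw [hPA, smul_smul, pow_succ]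
    have hnp : a (n₁ ^ p) * (n₁ ^ p)⁻¹ ∈ scalarSubgroup ρ := by
      rw [← hfix_iff, QuotientGroup.mk_pow]
      exact hG2 _
    have h1 := hA_M0 _ hnp
    have h2 : P ^ p = ρ (n₁ ^ p) := by rw [hP, map_pow]
    have h3 : P' ^ p = ρ (n₁ ^ p)⁻¹ := by rw [hP', ← map_pow, inv_pow]
    have h4 := hpow p
    rw [h2, h3, h1, mul_assoc, rho_mul_inv, mul_one] at h4
    have h5 : κ ^ p • (1 : Module.End K M) = 1 := by
      calc κ ^ p • (1 : Module.End K M) = κ ^ p • (A * ρ a'⁻¹) := by rw [hA, rho_mul_inv]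
        _ = (κ ^ p • A) * ρ a'⁻¹ := by rw [smul_mul_assoc]
        _ = A * ρ a'⁻¹ := by rw [← h4]
        _ = 1 := by rw [hA, rho_mul_inv]
    exact fx_scalar_eq_one h5 hnt
  -- p ≠ 0 in K
  have hpK : (p : K) ≠ 0 := by
    intro hp0
    apply hQ
    have h1 := Subgroup.card_eq_card_quotient_mul_card_subgroup (scalarSubgroup ρ)
    rw [hidx, Nat.card_eq_fintype_card] at h1
    rw [h1]
    push_cast
    rw [hp0, zero_mul, zero_mul]
  exact hTRANSV g A P P' hPP' hP'P κ hp hp2 hpK hκ1 hκp hgp hTA hPT hPA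

end SY

end Cfsg.Agent.Helper25.FX
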