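import Mathlib
import Cfsg.Agent.Lib.Helper97.FXDefs
import Cfsg.Agent.Lib.Helper48.SympRep
import Cfsg.Agent.Lib.Helper86.ESREC
import Cfsg.Agent.Lib.Helper25.FXTRCCore
import Cfsg.Agent.Lib.Helper25.FXTRANSV

/-!
# FX server (helper97, S3818): piece (TRC) `transv_case` (verbatim), from `transv_case_of` + `transv_bound`.
-/

set_option autoImplicit false

namespace Cfsg.Agent.Helper25.FX

open Cfsg.Agent.Helper97.FX Cfsg.Agent.Helper48.SympRep

universe u

section SY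
variable {K : Type*} [Field K] {M : Type u} [AddCommGroup M] [Module K M] [FiniteDimensional K M]
variable {Q : Type*} [Group Q] [Fintype Q]
variable {ρ : Q →* Module.End K M} {a : Q ≃* Q} {g g' : Module.End K M}

/-- **(TRC)** -/
theorem transv_case [IsAlgClosed K] (hρ : Symp ρ) (hQ : (Fintype.card Q : K) ≠ 0)
    (h : Normalises ρ a g g') {p : ℕ} (hp : p.Prime) (hp2 : p ≠ 2) (hgp : g ^ p = 1)
    (hidx : Nat.card (Q ⧸ scalarSubgroup ρ) =
      p * Nat.card {w : Q ⧸ scalarSubgroup ρ // sigma h w = w})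
    (hσ : ∃ u : Q, a u * u⁻¹ ∉ scalarSubgroup ρ)
    (hns : ∀ m : Q, a m * m⁻¹ ∈ scalarSubgroup ρ → ρ (a m * m⁻¹) = 1) :
    p * fixDim g ≤ 2 * Module.finrank K M :=
  transv_case_of
    (fun T A P P' hPP' hP'P κ _ hp' hp2' hpK hκ1 hκp hTp hTA hPT hPA =>
      transv_bound T A P P' hPP' hP'P κ hp' hp2' hpK hκ1 hκp hTp hTA hPT hPA)
    hρ hQ h hp hp2 hgp hidx hσ hns

end SY

end Cfsg.Agent.Helper25.FX
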