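import Mathlib
import Cfsg.Prelude.Def_OddOrderChar
import Cfsg.Agent.Lib.Helper25.EqDegCoh
import Cfsg.Agent.Lib.Helper25.FeitCrit

set_option autoImplicit false

/-!
# Coherence by adding characters in order of increasing degree (Feit)
-/

namespace Cfsg.Agent.Helper25.FeitChain

open Cfsg
open scoped ComplexConjugate

universe u v
variable {N : Type u} [Group N] [Fintype N] {G : Type v} [Group G] [Fintype G]

theorem coherent_chain (T : Finset (N → ℂ)) (hirr : ∀ ξ ∈ T, IsIrrCharacter N ξ)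
    (d : (N → ℂ) → ℕ) (hd : ∀ ξ ∈ T, ξ 1 = (d ξ : ℂ)) (e : ℕ)
    (hdiv : ∀ ξ ∈ T, e ∣ d ξ)
    (hbase : ∃ ξ ∈ T, ∃ ξ' ∈ T, ξ ≠ ξ' ∧ d ξ = e ∧ d ξ' = e)
    (hsum : ∀ χ ∈ T, d χ ≠ e →
      2 * e * d χ < ∑ ξ ∈ T.filter (fun ξ => d ξ < d χ), d ξ ^ 2)
    (τ : (N → ℂ) → (G → ℂ))
    (hτ : IsLinearIsometryOn (zspanOn (↑T : Set (N → ℂ)) ({1}ᶜ : Set N)) τ)
    (hτ1 : ∀ α ∈ zspanOn (↑T : Set (N → ℂ)) ({1}ᶜ : Set N), τ α 1 = 0) :
    IsCoherent (↑T : Set (N → ℂ)) ({1}ᶜ : Set N) τ := by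
  classical
  obtain ⟨ψ, hψT, ψ', hψ'T, hψne, hψe, hψ'e⟩ := hbase
  have hdpos : ∀ ξ ∈ T, 0 < d ξ := by
    intro ξ hξ
    obtain ⟨n, hn, hn1⟩ := Helper82.irr_degree_pos (hirr ξ hξ)
    have h1 : (d ξ : ℂ) = (n : ℂ) := by rw [← hd ξ hξ, hn1]
    have h2 : d ξ = n := by exact_mod_cast h1
    omega
  have hele : ∀ ξ ∈ T, e ≤ d ξ := fun ξ hξ => Nat.le_of_dvd (hdpos ξ hξ) (hdiv ξ hξ)
  have key : ∀ k : ℕ, ∀ U : Finset (N → ℂ), U.card = k → U ⊆ T →
      (∀ ξ ∈ T, d ξ = e → ξ ∈ U) →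
      (∀ ξ ∈ U, ∀ ξ' ∈ T, d ξ' < d ξ → ξ' ∈ U) →
      IsCoherent (↑U : Set (N → ℂ)) ({1}ᶜ : Set N) τ := by
    intro k
    induction k with
    | zero =>
      intro U hU _ h1 _
      rw [Finset.card_eq_zero] at hU
      have := h1 ψ hψT hψe
      rw [hU] at this
      exact absurd this (Finset.notMem_empty ψ)
    | succ k ih =>
      intro U hU hUT h1 hdc
      have hsubU : (↑U : Set (N → ℂ)) ⊆ ↑T := by exact_mod_cast hUT
      have hτU : IsLinearIsometryOn (zspanOn (↑U : Set (N → ℂ)) ({1}ᶜ : Set N)) τ :=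
        Helper82.isLinearIsometryOn_mono hτ (Helper82.zspanOn_mono hsubU _)
      have hτ1U : ∀ α ∈ zspanOn (↑U : Set (N → ℂ)) ({1}ᶜ : Set N), τ α 1 = 0 :=
        fun α hα => hτ1 α (Helper82.zspanOn_mono hsubU _ hα)
      by_cases hall : ∀ ξ ∈ U, d ξ = e
      · -- all of degree `e`
        apply Helper25.EqDeg.eqdeg_coherent (↑U : Set (N → ℂ))
          (fun χ hχ => hirr χ (hUT hχ)) _ ⟨ψ, h1 ψ hψT hψe, ψ', h1 ψ' hψ'T hψ'e, hψne⟩ τ hτU hτ1U
        intro χ hχ χ' hχ'
        rw [hd χ (hUT hχ), hd χ' (hUT hχ'), hall χ hχ, hall χ' hχ']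
      · -- pick an element of maximal degree
        have hUne : U.Nonempty := ⟨ψ, h1 ψ hψT hψe⟩
        obtain ⟨χ, hχU, hχmax⟩ := Finset.exists_max_image U d hUne
        have hχe : d χ ≠ e := by
          intro h
          apply hall
          intro ξ hξ
          have := hχmax ξ hξ
          have := hele ξ (hUT hξ)
          omega
        obtain ⟨U', hU'⟩ : ∃ U' : Finset (N → ℂ), U' = U.erase χ := ⟨_, rfl⟩
        have hU'U : U' ⊆ U := by rw [hU']; exact Finset.erase_subset _ _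
        have hins : insert χ U' = U := by rw [hU']; exact Finset.insert_erase hχU
        have hχU' : χ ∉ U' := by rw [hU']; exact Finset.notMem_erase χ U
        have hcard : U'.card = k := by
          rw [hU', Finset.card_erase_of_mem hχU, hU]
          rfl
        have hmemU' : ∀ ξ ∈ U, ξ ≠ χ → ξ ∈ U' := by
          intro ξ hξ hne
          rw [hU']
          exact Finset.mem_erase.mpr ⟨hne, hξ⟩
        have hcoh' : IsCoherent (↑U' : Set (N → ℂ)) ({1}ᶜ : Set N) τ := by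
          apply ih U' hcard (hU'U.trans hUT)
          · intro ξ hξ hξe
            apply hmemU' ξ (h1 ξ hξ hξe)
            rintro rfl
            exact hχe hξe
          · intro ξ hξ ξ' hξ' hlt
            apply hmemU' ξ' (hdc ξ (hU'U hξ) ξ' hξ' hlt)
            rintro rfl
            have := hχmax ξ (hU'U hξ)
            omega
        have hψU' : ψ ∈ U' := by
          apply hmemU' ψ (h1 ψ hψT hψe)
          rintro rfl
          exact hχe hψe
        have hcoeU : (↑(insert χ U') : Set (N → ℂ)) = ↑U := by rw [hins]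
        have := Helper25.FeitCrit.feit_criterion U' χ (fun ξ hξ => hirr ξ (hUT (hU'U hξ)))
          (hirr χ (hUT hχU)) hχU' d
          (by
            intro ξ hξ
            rw [hins] at hξ
            exact hd ξ (hUT hξ))
          τ (by rw [hcoeU]; exact hτU) (by rw [hcoeU]; exact hτ1U) hcoh' ψ hψU'
          (by rw [hψe]; exact hdiv χ (hUT hχU))
          (by
            rw [hψe]
            refine lt_of_lt_of_le (hsum χ (hUT hχU) hχe) ?_
            apply Finset.sum_le_sum_of_subset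
            intro ξ hξ
            rw [Finset.mem_filter] at hξ
            apply hmemU' ξ (hdc χ hχU ξ hξ.1 hξ.2)
            rintro rfl
            exact lt_irrefl _ hξ.2)
        rw [hcoeU] at this
        exact this
  exact key T.card T rfl (Finset.Subset.refl T) (fun ξ hξ _ => hξ) (fun ξ _ ξ' hξ' _ => hξ')

end Cfsg.Agent.Helper25.FeitChain
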