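import Mathlib
import Cfsg.Agent.Lib.Helper14.GLIDefs
import Cfsg.Agent.Lib.Helper48.SPIMIN
import Cfsg.Agent.Lib.Helper46.SPIIRR
import Cfsg.Agent.Lib.Helper63.SPIMASCHKE

set_option autoImplicit false

/-!
GLI lemma server (helper14, S5958), piece (GST) `gl_block_decomp`, by helper25.
Statement verbatim from `tools/gli_sigs_helper14.lean.txt`.
-/

namespace Cfsg.Agent.Helper25.GLI

open Module Polynomial Cfsg.Agent.Helper14.GLI

/-- adjoining a complementary summand in front of an independent family -/
theorem h25_indep_cons {F V : Type*} [Field F] [AddCommGroup V] [Module F V]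
    (Y C R : Submodule F V) (hYC : Y ⊓ C = ⊥) (hsup : Y ⊔ C = R) {m : ℕ}
    (W : Fin m → Submodule F V) (hW : IsIndepFam C W) :
    IsIndepFam R (Fin.cons Y W : Fin (m + 1) → Submodule F V) := by
  have hWC : ∀ k, W k ≤ C := fun k => hW.sup ▸ le_iSup W k
  refine ⟨?_, ?_⟩
  · rw [iSupIndep_def]
    intro i
    refine Fin.cases ?_ (fun k => ?_) i
    · have hle : (⨆ (j : Fin (m + 1)) (_ : j ≠ 0),
          (Fin.cons Y W : Fin (m + 1) → Submodule F V) j) ≤ C := by
        refine iSup₂_le ?_
        intro j hj
        obtain ⟨k, rfl⟩ := Fin.exists_succ_eq.mpr hj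
        rw [Fin.cons_succ]
        exact hWC k
      rw [Fin.cons_zero]
      exact (disjoint_iff.mpr hYC).mono_right hle
    · have hle : (⨆ (j : Fin (m + 1)) (_ : j ≠ k.succ),
          (Fin.cons Y W : Fin (m + 1) → Submodule F V) j) ≤
          (⨆ (j : Fin m) (_ : j ≠ k), W j) ⊔ Y := by
        refine iSup₂_le ?_
        intro j
        refine Fin.cases ?_ (fun j' => ?_) j
        · intro _
          rw [Fin.cons_zero]
          exact le_sup_right
        · intro hj
          rw [Fin.cons_succ]
          refine le_sup_of_le_left (le_iSup₂_of_le j' ?_ le_rfl)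
          intro h
          exact hj (by rw [h])
      rw [Fin.cons_succ]
      refine Disjoint.mono_right hle ?_
      have h1 : Disjoint (W k) (⨆ (j : Fin m) (_ : j ≠ k), W j) :=
        (iSupIndep_def.mp hW.indep) k
      have hCY : Disjoint C Y := (disjoint_iff.mpr hYC).symm
      have h2 : Disjoint (W k ⊔ ⨆ (j : Fin m) (_ : j ≠ k), W j) Y := by
        refine Disjoint.mono_left ?_ hCY
        exact sup_le (hWC k) (iSup₂_le fun j _ => hWC j)
      exact h1.disjoint_sup_right_of_disjoint_sup_left h2
  · rw [← hsup, ← hW.sup]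
    apply le_antisymm
    · refine iSup_le ?_
      intro j
      refine Fin.cases ?_ (fun j' => ?_) j
      · rw [Fin.cons_zero]; exact le_sup_left
      · rw [Fin.cons_succ]; exact le_sup_of_le_right (le_iSup W j')
    · refine sup_le ?_ (iSup_le fun k => ?_)
      · exact le_iSup_of_le (0 : Fin (m + 1)) (by rw [Fin.cons_zero])
      · exact le_iSup_of_le k.succ (by rw [Fin.cons_succ])

/-- (GST) the moved part is a direct sum of irreducible invariant subspaces of dimension `c`. -/
theorem gl_block_decomp {F V : Type*} [Field F] [Fintype F] [AddCommGroup V] [Module F V]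
    [FiniteDimensional F V] (x : V →ₗ[F] V) (r : ℕ) [Fact r.Prime] (hr0 : (r : F) ≠ 0)
    (hrq : ¬ r ∣ Fintype.card F) (hxr : x ^ r = 1)
    (R : Submodule F V) (hRx : R.map x ≤ R) (hfpf : ∀ v ∈ R, x v = v → v = 0) :
    ∃ (m : ℕ) (W : Fin m → Submodule F V), IsIndepFam R W ∧ (∀ k, (W k).map x ≤ W k) ∧
      (∀ k, finrank F (W k) = orderOf ((Fintype.card F : ℕ) : ZMod r)) ∧
      (∀ k, ∀ Z : Submodule F V, Z ≤ W k → Z.map x ≤ Z → Z = ⊥ ∨ Z = W k) := by
  classical
  induction hn : finrank F R using Nat.strong_induction_on generalizing R with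
  | _ n ih =>
    by_cases hR : R = ⊥
    · subst hR
      refine ⟨0, Fin.elim0, ⟨?_, ?_⟩, fun k => k.elim0, fun k => k.elim0, fun k => k.elim0⟩
      · rw [iSupIndep_def]
        intro i
        exact i.elim0
      · simp
    · obtain ⟨Y, hYR, hY0, hYx, hmin⟩ :=
        Cfsg.Agent.Helper48.SPI.exists_min_invariant x R hRx hR
      have hprime := Cfsg.Agent.Helper48.SPI.prime_of_min x Y hYx hmin
      obtain ⟨u, hu, hu0⟩ := Submodule.exists_mem_ne_zero_of_ne_bot hY0
      obtain ⟨Y', hY'Y, huY', hY'x, hY'c⟩ :=
        Cfsg.Agent.Helper46.SPI.exists_cyclic_of_prime x r hrq hxr Y hYx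
          (fun v hv => hfpf v (hYR hv)) hprime u hu hu0
      have hY'eq : Y' = Y := by
        rcases hmin Y' hY'Y hY'x with h | h
        · exfalso
          rw [h] at huY'
          exact hu0 ((Submodule.mem_bot F).mp huY')
        · exact h
      rw [hY'eq] at hY'c
      obtain ⟨C, hCR, hCx, hYC, hsup⟩ :=
        Cfsg.Agent.Helper63.SPI.exists_inv_compl x r hr0 hxr R Y hRx hYx hYR
      have hdim : finrank F Y + finrank F C = finrank F R := by
        have := Submodule.finrank_sup_add_finrank_inf_eq Y C
        rw [hsup, hYC, finrank_bot, add_zero] at this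
        exact this.symm
      have hYpos : 0 < finrank F Y := by
        rw [Nat.pos_iff_ne_zero]
        intro h0
        exact hY0 (Submodule.finrank_eq_zero.mp h0)
      obtain ⟨m, W, hW, hWx, hWc, hWmin⟩ :=
        ih (finrank F C) (by omega) C hCx (fun v hv => hfpf v (hCR hv)) rfl
      refine ⟨m + 1, Fin.cons Y W, h25_indep_cons Y C R hYC hsup W hW, ?_, ?_, ?_⟩
      · intro k
        refine Fin.cases ?_ (fun k' => ?_) k
        · rw [Fin.cons_zero]; exact hYx
        · rw [Fin.cons_succ]; exact hWx k'
      · intro k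
        refine Fin.cases ?_ (fun k' => ?_) k
        · rw [Fin.cons_zero]; exact hY'c
        · rw [Fin.cons_succ]; exact hWc k'
      · intro k
        refine Fin.cases ?_ (fun k' => ?_) k
        · rw [Fin.cons_zero]; exact hmin
        · rw [Fin.cons_succ]; exact hWmin k'

end Cfsg.Agent.Helper25.GLI
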