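import Mathlib
import Cfsg.Agent.S1512

set_option autoImplicit false

namespace Cfsg.Agent.Helper25

/-- Fusion control in coprime cyclic action: two elements of the abelian group `W₂ = C_K(x)`
that are `K`-conjugate are equal. -/
theorem glauberman_fusion {L : Type*} [Group L] [Finite L] (K W₂ : Subgroup L) [hK : K.Normal] (x : L)
    (hx : Nat.Coprime (orderOf x) (Nat.card K))
    (hCx : K ⊓ Subgroup.centralizer ({x} : Set L) = W₂)
    (hcomm : ∀ a ∈ W₂, ∀ b ∈ W₂, a * b = b * a)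
    (w w' : L) (hw : w ∈ W₂) (hw' : w' ∈ W₂) (k : L) (hk : k ∈ K) (hkw : k * w * k⁻¹ = w') :
    w = w' := by
  have hmemW : ∀ a : L, a ∈ W₂ ↔ a ∈ K ∧ a * x = x * a := by
    intro a
    rw [← hCx, Subgroup.mem_inf, Subgroup.mem_centralizer_singleton_iff]
  have hwx : w * x = x * w := ((hmemW w).mp hw).2
  have hw'x : w' * x = x * w' := ((hmemW w').mp hw').2
  -- H = C_K(w')
  obtain ⟨H, hHdef⟩ : ∃ H : Subgroup L, H = K ⊓ Subgroup.centralizer ({w'} : Set L) := ⟨_, rfl⟩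
  have hmemH : ∀ a : L, a ∈ H ↔ a ∈ K ∧ a * w' = w' * a := by
    intro a
    rw [hHdef, Subgroup.mem_inf, Subgroup.mem_centralizer_singleton_iff]
  have hxN : x ∈ Subgroup.normalizer (H : Set L) := by
    rw [Subgroup.mem_set_normalizer_iff]
    intro a
    show a ∈ H ↔ x * a * x⁻¹ ∈ H
    rw [hmemH, hmemH]
    constructor
    · rintro ⟨haK, haw⟩
      refine ⟨hK.conj_mem a haK x, ?_⟩
      calc x * a * x⁻¹ * w' = x * a * (x⁻¹ * w') := by group
        _ = x * a * (w' * x⁻¹) := by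
            congr 1
            calc x⁻¹ * w' = x⁻¹ * (w' * x) * x⁻¹ := by group
              _ = x⁻¹ * (x * w') * x⁻¹ := by rw [hw'x]
              _ = w' * x⁻¹ := by group
        _ = x * (a * w') * x⁻¹ := by group
        _ = x * (w' * a) * x⁻¹ := by rw [haw]
        _ = (x * w') * a * x⁻¹ := by group
        _ = (w' * x) * a * x⁻¹ := by rw [hw'x]
        _ = w' * (x * a * x⁻¹) := by group
    · rintro ⟨haK, haw⟩
      have h1 : a = x⁻¹ * (x * a * x⁻¹) * x := by group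
      refine ⟨?_, ?_⟩
      · rw [h1]
        have := hK.conj_mem _ haK x⁻¹
        simpa using this
      · have hx'w : x⁻¹ * w' = w' * x⁻¹ := by
          calc x⁻¹ * w' = x⁻¹ * (w' * x) * x⁻¹ := by group
            _ = x⁻¹ * (x * w') * x⁻¹ := by rw [hw'x]
            _ = w' * x⁻¹ := by group
        calc a * w' = x⁻¹ * (x * a * x⁻¹) * (x * w') := by group
          _ = x⁻¹ * (x * a * x⁻¹) * (w' * x) := by rw [hw'x]
          _ = x⁻¹ * ((x * a * x⁻¹) * w') * x := by group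
          _ = x⁻¹ * (w' * (x * a * x⁻¹)) * x := by rw [haw]
          _ = (x⁻¹ * w') * (x * a * x⁻¹) * x := by group
          _ = (w' * x⁻¹) * (x * a * x⁻¹) * x := by rw [hx'w]
          _ = w' * a := by group
  have hHK : H ≤ K := by rw [hHdef]; exact inf_le_left
  have hcopH : Nat.Coprime (orderOf x) (Nat.card H) :=
    Nat.Coprime.coprime_dvd_right (Subgroup.card_dvd_of_le hHK) hx
  -- h = k x k⁻¹ x⁻¹ ∈ H
  have hkxk : (k * x * k⁻¹) * w' = w' * (k * x * k⁻¹) := by
    rw [← hkw]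
    calc k * x * k⁻¹ * (k * w * k⁻¹) = k * (x * w) * k⁻¹ := by group
      _ = k * (w * x) * k⁻¹ := by rw [hwx]
      _ = k * w * k⁻¹ * (k * x * k⁻¹) := by group
  have hx'w : x⁻¹ * w' = w' * x⁻¹ := by
    calc x⁻¹ * w' = x⁻¹ * (w' * x) * x⁻¹ := by group
      _ = x⁻¹ * (x * w') * x⁻¹ := by rw [hw'x]
      _ = w' * x⁻¹ := by group
  have hh : k * x * k⁻¹ * x⁻¹ ∈ H := by
    rw [hmemH]
    refine ⟨?_, ?_⟩
    · have h1 : x * k⁻¹ * x⁻¹ ∈ K := hK.conj_mem _ (K.inv_mem hk) x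
      have h2 : k * x * k⁻¹ * x⁻¹ = k * (x * k⁻¹ * x⁻¹) := by group
      rw [h2]; exact K.mul_mem hk h1
    · calc k * x * k⁻¹ * x⁻¹ * w' = k * x * k⁻¹ * (x⁻¹ * w') := by group
        _ = k * x * k⁻¹ * (w' * x⁻¹) := by rw [hx'w]
        _ = (k * x * k⁻¹ * w') * x⁻¹ := by group
        _ = (w' * (k * x * k⁻¹)) * x⁻¹ := by rw [hkxk]
        _ = w' * (k * x * k⁻¹ * x⁻¹) := by group
  obtain ⟨y, hy, c, hc, hcx, hyc⟩ := Cfsg.Agent.S1496.result H x hxN hcopH _ hh
  have hyc' : (y * k) * x * (y * k)⁻¹ = c * x := by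
    rw [← hyc]; group
  -- c = 1
  have hc1 : c = 1 := by
    have hcK : c ∈ K := hHK hc
    have h1 : c ^ (Nat.card K) = 1 := by
      have := Subgroup.orderOf_dvd_natCard K hcK
      exact orderOf_dvd_iff_pow_eq_one.mp this
    have h2 : c ^ (orderOf x) = 1 := by
      have hcomm' : Commute c x := hcx
      have h3 : (c * x) ^ (orderOf x) = c ^ (orderOf x) := by
        rw [hcomm'.mul_pow, pow_orderOf_eq_one, mul_one]
      rw [← h3, ← hyc']
      have h4 : ((y * k) * x * (y * k)⁻¹) ^ (orderOf x) = (y * k) * x ^ (orderOf x) * (y * k)⁻¹ :=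
        conj_pow
      rw [h4, pow_orderOf_eq_one]; group
    have h5 : orderOf c ∣ Nat.gcd (orderOf x) (Nat.card K) :=
      Nat.dvd_gcd (orderOf_dvd_of_pow_eq_one h2) (orderOf_dvd_of_pow_eq_one h1)
    rw [hx] at h5
    exact orderOf_eq_one_iff.mp (Nat.dvd_one.mp h5)
  rw [hc1, one_mul] at hyc'
  have hyK : y ∈ K := hHK hy
  have hykW : y * k ∈ W₂ := by
    rw [hmemW]
    refine ⟨K.mul_mem hyK hk, ?_⟩
    calc y * k * x = ((y * k) * x * (y * k)⁻¹) * (y * k) := by group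
      _ = x * (y * k) := by rw [hyc']
  have h6 : (y * k) * w = w * (y * k) := hcomm _ hykW _ hw
  have hyw' : y * w' = w' * y := ((hmemH y).mp hy).2
  calc w = (y * k) * w * (y * k)⁻¹ := by rw [h6]; group
    _ = y * (k * w * k⁻¹) * y⁻¹ := by group
    _ = y * w' * y⁻¹ := by rw [hkw]
    _ = w' := by rw [hyw']; group

/-- For a coprime cyclic action with abelian centralizer `W₂ = C_K(x)`, the number of `x`-invariant
classes of `K` is `|W₂|`. -/
theorem card_fixed_classes {L : Type*} [Group L] [Finite L] (K W₂ : Subgroup L) [hK : K.Normal]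
    (x : L) (hx : Nat.Coprime (orderOf x) (Nat.card K))
    (hCx : K ⊓ Subgroup.centralizer ({x} : Set L) = W₂)
    (hcomm : ∀ a ∈ W₂, ∀ b ∈ W₂, a * b = b * a) :
    Nat.card {C : ConjClasses K // ConjClasses.map
      (MulEquiv.toMonoidHom ((MulAut.conjNormal x : MulAut K))) C = C} = Nat.card W₂ := by
  have hW₂K : W₂ ≤ K := by rw [← hCx]; exact inf_le_left
  have hmemW : ∀ a : L, a ∈ W₂ ↔ a ∈ K ∧ a * x = x * a := by
    intro a
    rw [← hCx, Subgroup.mem_inf, Subgroup.mem_centralizer_singleton_iff]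
  symm
  have hfix : ∀ w : W₂, ConjClasses.map (MulEquiv.toMonoidHom ((MulAut.conjNormal x : MulAut K)))
      (ConjClasses.mk (⟨w, hW₂K w.2⟩ : K)) = ConjClasses.mk (⟨w, hW₂K w.2⟩ : K) := by
    intro w
    have hmap : ConjClasses.map (MulEquiv.toMonoidHom ((MulAut.conjNormal x : MulAut K)))
        (ConjClasses.mk (⟨w, hW₂K w.2⟩ : K))
        = ConjClasses.mk ((MulAut.conjNormal x : MulAut K) ⟨w, hW₂K w.2⟩) := rfl
    rw [hmap]
    congr 1
    apply Subtype.ext
    rw [MulAut.conjNormal_apply]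
    show x * (w : L) * x⁻¹ = w
    rw [← ((hmemW w).mp w.2).2]; group
  refine Nat.card_congr (Equiv.ofBijective
    (fun w : W₂ => (⟨ConjClasses.mk (⟨w, hW₂K w.2⟩ : K), hfix w⟩ :
      {C : ConjClasses K // ConjClasses.map
        (MulEquiv.toMonoidHom ((MulAut.conjNormal x : MulAut K))) C = C})) ⟨?_, ?_⟩)
  · intro w w' hww
    have h1 := congrArg Subtype.val hww
    simp only at h1
    rw [ConjClasses.mk_eq_mk_iff_isConj, isConj_iff] at h1
    obtain ⟨k, hk⟩ := h1
    have hk' : (k : L) * w * (k : L)⁻¹ = w' := by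
      have := congrArg Subtype.val hk
      simpa using this
    apply Subtype.ext
    exact glauberman_fusion K W₂ x hx hCx hcomm w w' w.2 w'.2 k k.2 hk'
  · rintro ⟨C, hC⟩
    obtain ⟨w, hw, hwC⟩ := Cfsg.Agent.S1512.exists_rep K W₂ x hx hCx C hC
    refine ⟨w, ?_⟩
    apply Subtype.ext
    exact hwC

end Cfsg.Agent.Helper25
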