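import Mathlib
import Cfsg.Agent.Lib.Helper53.IPDefs
import Cfsg.Agent.Lib.Helper76.CD2Basic
import Cfsg.Agent.Lib.Helper79.DG2GT
import Cfsg.Agent.Lib.Helper78.CharCount
import Cfsg.Agent.Lib.Helper81.CharInd

/-!
# IP server (helper53, S4463), piece (G7): if `G/K` is nonabelian, the irreducible characters of `K` have degree
at most `b/2`.
-/

set_option autoImplicit false
set_option linter.unusedSectionVars false
set_option linter.unusedVariables false
set_option linter.style.haveILetI false

namespace Cfsg.Agent.Helper25.IP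

open Cfsg Cfsg.Agent.Helper53.IP
open scoped ComplexConjugate commutatorElement

universe u

/-- degree squeeze: a character `α` of `K` with `[α, φ] ≠ 0` and `α(1) = φ(1)` equals `φ` -/
theorem g7_squeeze {K : Type u} [Group K] [Fintype K] {α : K → ℂ} (hα : IsCharacter K α)
    (φ : IrrCharacter K) (hne : classInner α (φ : K → ℂ) ≠ 0)
    (h1 : α 1 = (charDegree (φ : K → ℂ) : ℂ)) : α = (φ : K → ℂ) := by
  classical
  letI : Fintype (IrrCharacter K) := @Fintype.ofFinite _ Cfsg.Agent.Helper81.irr_finite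
  obtain ⟨m, hm⟩ := Cfsg.Agent.Helper81.exists_nat_decomp hα
  have hmφ : m φ ≠ 0 := by
    intro h0
    apply hne
    rw [hm, Cfsg.Agent.Helper81.classInner_nat_decomp (fun χ' => (m χ' : ℂ)) φ, h0]
    simp
  have hdeg : ∀ θ : IrrCharacter K, (θ : K → ℂ) 1 = (charDegree (θ : K → ℂ) : ℂ) :=
    fun θ => (Cfsg.Agent.Helper78.irr_charDegree θ.2).1
  have hpos : ∀ θ : IrrCharacter K, 0 < charDegree (θ : K → ℂ) :=
    fun θ => (Cfsg.Agent.Helper78.irr_charDegree θ.2).2
  have hsum : charDegree (φ : K → ℂ) = ∑ θ : IrrCharacter K, m θ * charDegree (θ : K → ℂ) := by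
    have h := congrFun hm 1
    rw [h1] at h
    simp only [Finset.sum_apply, Pi.smul_apply, smul_eq_mul, hdeg] at h
    have h4 : ((charDegree (φ : K → ℂ) : ℕ) : ℂ) =
        ((∑ θ : IrrCharacter K, m θ * charDegree (θ : K → ℂ) : ℕ) : ℂ) := by
      push_cast
      exact h
    exact_mod_cast h4
  have hsplit := Finset.add_sum_erase Finset.univ
    (fun θ : IrrCharacter K => m θ * charDegree (θ : K → ℂ)) (Finset.mem_univ φ)
  rw [← hsum] at hsplit
  have hge : charDegree (φ : K → ℂ) ≤ m φ * charDegree (φ : K → ℂ) :=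
    Nat.le_mul_of_pos_left _ (Nat.pos_of_ne_zero hmφ)
  have hrest : ∑ θ ∈ Finset.univ.erase φ, m θ * charDegree (θ : K → ℂ) = 0 := by
    have := hsplit
    omega
  have hmφ1 : m φ = 1 := by
    have h5 : m φ * charDegree (φ : K → ℂ) = charDegree (φ : K → ℂ) := by
      have := hsplit
      omega
    have h6 := hpos φ
    exact Nat.eq_of_mul_eq_mul_right h6 (by rw [h5, one_mul])
  have hzero : ∀ θ : IrrCharacter K, θ ≠ φ → m θ = 0 := by
    intro θ hθ
    have h7 := (Finset.sum_eq_zero_iff.mp hrest) θ (Finset.mem_erase.mpr ⟨hθ, Finset.mem_univ θ⟩)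
    rcases Nat.mul_eq_zero.mp h7 with h8 | h8
    · exact h8
    · have := hpos θ
      omega
  rw [hm, Finset.sum_eq_single φ]
  · rw [hmφ1]
    simp
  · intro θ _ hθ
    rw [hzero θ hθ]
    simp
  · intro h
    exact absurd (Finset.mem_univ _) h

/-- (G7) -/
theorem degLe_half {G : Type u} [Group G] [Finite G] (b : ℕ) (h : DegLe G b) (K : Subgroup G)
    [K.Normal] (hK : ¬ commutator G ≤ K) : DegLe K (b / 2) := by
  classical
  letI : Fintype G := Fintype.ofFinite G
  letI : Fintype K := Fintype.ofFinite K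
  intro φ
  obtain ⟨χ, e, hχe, -, hne⟩ := Cfsg.Agent.Helper76.CD2.exists_over K φ
  have hχb := h χ
  have hφpos := (Cfsg.Agent.Helper78.irr_charDegree φ.2).2
  have hχpos := (Cfsg.Agent.Helper78.irr_charDegree χ.2).2
  rcases Nat.lt_or_ge e 2 with he | he
  · -- `e = 1`
    have he1 : e = 1 := by
      rcases Nat.eq_zero_or_pos e with h0 | h0
      · rw [h0, zero_mul] at hχe
        omega
      · omega
    rw [he1, one_mul] at hχe
    have hres : (fun k : K => (χ : G → ℂ) k) = (φ : K → ℂ) := by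
      apply g7_squeeze (Cfsg.Agent.Helper81.isCharacter_restrict K
        (Cfsg.Agent.Helper81.IsIrrCharacter.isCharacter χ.2)) φ hne
      show (χ : G → ℂ) ((1 : K) : G) = _
      rw [Subgroup.coe_one, (Cfsg.Agent.Helper78.irr_charDegree χ.2).1, hχe]
    have hirr : IsIrrCharacter K (fun k : K => (χ : G → ℂ) k) := by
      rw [hres]
      exact φ.2
    -- a nonlinear character of `G ⧸ K`
    have hex : ∃ ν : IrrCharacter (G ⧸ K), charDegree (ν : G ⧸ K → ℂ) ≠ 1 := by
      by_contra hall
      push Not at hall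
      have hcomm := Cfsg.Agent.Helper76.CD2.comm_of_all_linear hall
      apply hK
      rw [commutator_def, Subgroup.commutator_le]
      intro a _ c _
      rw [← QuotientGroup.eq_one_iff, commutatorElement_def]
      simp only [QuotientGroup.mk_mul, QuotientGroup.mk_inv]
      rw [hcomm (a : G ⧸ K) (c : G ⧸ K)]
      group
    obtain ⟨ν, hν⟩ := hex
    have hνpos := (Cfsg.Agent.Helper78.irr_charDegree ν.2).2
    obtain ⟨ψ, hψ⟩ := Cfsg.Agent.Helper79.DG2.gallagher_deg K χ hirr ν
    have hψb := h ψ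
    have h2 : 2 * charDegree (φ : K → ℂ) ≤ charDegree (ν : G ⧸ K → ℂ) * charDegree (χ : G → ℂ) := by
      rw [hχe]
      exact Nat.mul_le_mul_right _ (by omega)
    omega
  · -- `e ≥ 2`
    have h2 : 2 * charDegree (φ : K → ℂ) ≤ e * charDegree (φ : K → ℂ) :=
      Nat.mul_le_mul_right _ he
    omega

end Cfsg.Agent.Helper25.IP
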