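import Mathlib
import Cfsg.Agent.Lib.Helper53.IPDefs
import Cfsg.Agent.Lib.Helper79.Integrality
import Cfsg.Agent.Lib.Helper78.CharCount
import Cfsg.Agent.Lib.Helper81.CharCore

/-!
# IP server (helper53, S4463), piece (N3b): a nonabelian simple group has no irreducible character of degree 2.
-/

set_option autoImplicit false
set_option linter.unusedSectionVars false
set_option linter.unusedVariables false
set_option linter.style.haveILetI false

namespace Cfsg.Agent.Helper25.IP

open Cfsg Cfsg.Agent.Helper53.IP
open scoped ComplexConjugate commutatorElement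

universe u

/-- a `2 × 2` complex matrix with `A² = 1` and `det A = 1` is scalar -/
theorem n3b_scalar (A : Matrix (Fin 2) (Fin 2) ℂ) (h : A * A = 1) (hd : A.det = 1) :
    A = A 0 0 • (1 : Matrix (Fin 2) (Fin 2) ℂ) := by
  have h00 := congrFun (congrFun h 0) 0
  have h01 := congrFun (congrFun h 0) 1
  have h10 := congrFun (congrFun h 1) 0
  have h11 := congrFun (congrFun h 1) 1
  simp only [Matrix.mul_apply, Fin.sum_univ_two, Matrix.one_apply_eq, Matrix.one_apply_ne,
    ne_eq, zero_ne_one, one_ne_zero, not_false_eq_true, Fin.isValue] at h00 h01 h10 h11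
  rw [Matrix.det_fin_two] at hd
  have hs : A 0 0 * (A 0 0 + A 1 1) = 2 := by linear_combination h00 + hd
  have hsne : A 0 0 + A 1 1 ≠ 0 := by
    intro h0
    rw [h0, mul_zero] at hs
    exact two_ne_zero hs.symm
  have hb : A 0 1 = 0 := by
    have : A 0 1 * (A 0 0 + A 1 1) = 0 := by linear_combination h01
    rcases mul_eq_zero.mp this with h1 | h1
    · exact h1
    · exact absurd h1 hsne
  have hc : A 1 0 = 0 := by
    have : A 1 0 * (A 0 0 + A 1 1) = 0 := by linear_combination h10
    rcases mul_eq_zero.mp this with h1 | h1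
    · exact h1
    · exact absurd h1 hsne
  have ha : A 0 0 ≠ 0 := by
    intro h0
    rw [h0, zero_mul] at hs
    exact two_ne_zero hs.symm
  have hda : A 1 1 = A 0 0 := by
    have h1 : A 0 0 * (A 1 1 - A 0 0) = 0 := by
      linear_combination hd - h00 + 2 * A 1 0 * hb
    rcases mul_eq_zero.mp h1 with h2 | h2
    · exact absurd h2 ha
    · exact sub_eq_zero.mp h2
  ext i j
  fin_cases i <;> fin_cases j <;> simp [hb, hc, hda]

/-- (N3b) -/
theorem no_deg_two {S : Type u} [Group S] [Finite S] [IsSimpleGroup S]
    (hna : ¬ ∀ a b : S, a * b = b * a) (χ : IrrCharacter S) :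
    charDegree (χ : S → ℂ) ≠ 2 := by
  classical
  intro hdeg
  letI : Fintype S := Fintype.ofFinite S
  have hχ1 : (χ : S → ℂ) 1 = 2 := by
    rw [(Cfsg.Agent.Helper78.irr_charDegree χ.2).1, hdeg]
    norm_num
  have hdvd : 2 ∣ Nat.card S := hdeg ▸ Cfsg.Agent.Helper79.irr_degree_dvd_card χ
  have horth : classInner (χ : S → ℂ) (χ : S → ℂ) = 1 := by
    rw [Cfsg.Agent.Helper81.irr_orthonormal χ.2 χ.2, if_pos rfl]
  obtain ⟨n, ρ, hirr, hρχ⟩ := χ.2
  have hn : n = 2 := by
    have h1 : ρ.character 1 = 2 := by rw [hρχ]; exact hχ1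
    rw [Representation.char_one, Module.finrank_fin_fun] at h1
    exact_mod_cast h1
  subst hn
  -- an involution
  haveI : Fact (Nat.Prime 2) := ⟨Nat.prime_two⟩
  obtain ⟨t, ht⟩ := exists_prime_orderOf_dvd_card' (G := S) 2 hdvd
  have htt : t * t = 1 := by
    rw [← pow_two, ← ht]
    exact pow_orderOf_eq_one t
  have ht1 : t ≠ 1 := by
    intro h
    rw [h, orderOf_one] at ht
    omega
  -- `S` is perfect
  have hperf : commutator S = ⊤ := by
    rcases (inferInstance : (commutator S).Normal).eq_bot_or_eq_top with h | h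
    · exfalso
      apply hna
      rw [commutator_def, Subgroup.commutator_eq_bot_iff_le_centralizer] at h
      intro a b
      have h1 : a ∈ Subgroup.centralizer ((⊤ : Subgroup S) : Set S) := h (Subgroup.mem_top a)
      rw [Subgroup.mem_centralizer_iff] at h1
      exact (h1 b (Subgroup.mem_top b)).symm
    · exact h
  -- determinant one
  have hdet : ∀ g : S, LinearMap.det (ρ g) = 1 := by
    intro g
    let d : S →* ℂˣ := MonoidHom.toHomUnits (LinearMap.det.comp ρ)
    have h2 : g ∈ d.ker := Abelianization.commutator_subset_ker d (by rw [hperf]; trivial)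
    rw [MonoidHom.mem_ker] at h2
    have h3 : ((d g : ℂˣ) : ℂ) = 1 := by rw [h2]; rfl
    exact h3
  -- `ρ t` is scalar
  have hA2 : LinearMap.toMatrix' (ρ t) * LinearMap.toMatrix' (ρ t) = 1 := by
    rw [← LinearMap.toMatrix'_mul, ← map_mul, htt, map_one, LinearMap.toMatrix'_one]
  have hAd : (LinearMap.toMatrix' (ρ t)).det = 1 := by
    rw [LinearMap.det_toMatrix']
    exact hdet t
  have hsc := n3b_scalar _ hA2 hAd
  have hρt : ρ t = (LinearMap.toMatrix' (ρ t) 0 0) • (1 : Module.End ℂ (Fin 2 → ℂ)) := by
    apply LinearMap.toMatrix'.injective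
    rw [map_smul, LinearMap.toMatrix'_one]
    exact hsc
  have hcomm : ∀ g : S, ρ (t * g) = ρ (g * t) := by
    intro g
    rw [map_mul, map_mul, hρt, smul_mul_assoc, mul_smul_comm, one_mul, mul_one]
  -- the kernel
  rcases (MonoidHom.normal_ker ρ).eq_bot_or_eq_top with hk | hk
  · -- faithful: `t` is central
    have hinj : Function.Injective ρ := (MonoidHom.ker_eq_bot_iff ρ).mp hk
    have htc : t ∈ Subgroup.center S := by
      rw [Subgroup.mem_center_iff]
      intro g
      exact (hinj (hcomm g)).symm
    rcases (inferInstance : (Subgroup.center S).Normal).eq_bot_or_eq_top with hz | hz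
    · rw [hz, Subgroup.mem_bot] at htc
      exact ht1 htc
    · apply hna
      intro a b
      have : a ∈ Subgroup.center S := by rw [hz]; trivial
      rw [Subgroup.mem_center_iff] at this
      exact (this b).symm
  · -- trivial representation: `[χ,χ] = 4`
    have hconst : ∀ g : S, (χ : S → ℂ) g = 2 := by
      intro g
      have hg : g ∈ MonoidHom.ker ρ := by rw [hk]; trivial
      rw [MonoidHom.mem_ker] at hg
      rw [← hρχ]
      unfold Representation.character
      rw [hg]
      change LinearMap.trace ℂ (Fin 2 → ℂ) (LinearMap.id) = 2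
      rw [LinearMap.trace_id, Module.finrank_fin_fun]
      norm_num
    have hGne : (Nat.card S : ℂ) ≠ 0 := by
      have : Nat.card S ≠ 0 := Nat.card_pos.ne'
      exact_mod_cast this
    unfold classInner at horth
    simp only [hconst, Finset.sum_const, Finset.card_univ, nsmul_eq_mul] at horth
    rw [← Nat.card_eq_fintype_card, ← mul_assoc, inv_mul_cancel₀ hGne, one_mul] at horth
    have h2 : (starRingEnd ℂ) (2 : ℂ) = 2 := by
      rw [show (2 : ℂ) = ((2 : ℕ) : ℂ) by norm_num]
      exact Complex.conj_natCast 2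
    rw [h2] at horth
    norm_num at horth

end Cfsg.Agent.Helper25.IP
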