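import Mathlib
import Cfsg.Agent.Lib.Helper5.Order60
import Cfsg.Agent.Lib.Helper33.JPCB
import Cfsg.Agent.Lib.Helper41.JPCTR2

set_option autoImplicit false

namespace Cfsg.Agent.Helper25.JPC

open Equiv Equiv.Perm MulAction Subgroup

universe u

/-- JPC (M6a) for helper35's server (S4150): `⟨x,y⟩` with `x` of type `3,3` and `y` a 5-cycle on
6 points has order 60 or 360. -/

theorem card_closure_six {Ω : Type u} [Fintype Ω] [DecidableEq Ω]
    (hcard : Fintype.card Ω = 6) {x y : Perm Ω} (hxt : x.cycleType = {3, 3}) (hy : y.IsCycle)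
    (hy5 : y.support.card = 5) :
    Nat.card (closure ({x, y} : Set (Perm Ω))) = 60 ∨
      Nat.card (closure ({x, y} : Set (Perm Ω))) = 360 := by
  classical
  have htr : IsPretransitive (closure ({x, y} : Set (Perm Ω))) Ω :=
    Cfsg.Agent.Helper41.JPC.isPretransitive_closure_pair' hxt (by rw [hcard]) hy (by omega)
  set G := closure ({x, y} : Set (Perm Ω)) with hG
  have hxG : x ∈ G := subset_closure (by simp)
  have hyG : y ∈ G := subset_closure (by simp)
  have hxA : x ∈ alternatingGroup Ω := by
    rw [mem_alternatingGroup, sign_of_cycleType, hxt]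
    simp
    decide
  have hyA : y ∈ alternatingGroup Ω := by
    rw [mem_alternatingGroup, hy.sign, hy5]
    decide
  have hGA : G ≤ alternatingGroup Ω := by
    rw [hG, closure_le]
    intro z hz
    rcases hz with rfl | rfl
    exacts [hxA, hyA]
  have hA : Nat.card (alternatingGroup Ω) = 360 := by
    have : Nontrivial Ω := Fintype.one_lt_card_iff_nontrivial.mp (by omega)
    have h2 := two_mul_card_alternatingGroup (α := Ω)
    rw [Fintype.card_perm, hcard] at h2
    rw [Nat.card_eq_fintype_card]
    have : (6 : ℕ).factorial = 720 := by decide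
    omega
  -- the fixed point of y
  obtain ⟨a, ha⟩ : ∃ a, y.supportᶜ = {a} := by
    rw [← Finset.card_eq_one, Finset.card_compl, hcard, hy5]
  have haf : a ∉ y.support := by
    have : a ∈ y.supportᶜ := by rw [ha]; simp
    simpa using this
  have hya : y a = a := notMem_support.mp haf
  -- 6 ∣ |G|
  have hidx : (stabilizer G a).index = 6 := by
    rw [index_stabilizer_of_transitive, Nat.card_eq_fintype_card, hcard]
  have hmul := (stabilizer G a).card_mul_index
  rw [hidx] at hmul
  -- 5 ∣ |G|
  have hord : orderOf (⟨y, hyG⟩ : G) = 5 := by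
    rw [Subgroup.orderOf_mk, hy.orderOf, hy5]
  have h5 : 5 ∣ Nat.card G := hord ▸ orderOf_dvd_natCard _
  have h360 : Nat.card G ∣ 360 := hA ▸ Subgroup.card_dvd_of_le hGA
  -- index in A
  have hcardH : Nat.card (G.subgroupOf (alternatingGroup Ω)) = Nat.card G :=
    Nat.card_congr (Subgroup.subgroupOfEquivOfLe hGA).toEquiv
  have hmulH := (G.subgroupOf (alternatingGroup Ω)).card_mul_index
  rw [hcardH, hA] at hmulH
  have hsimple : IsSimpleGroup (alternatingGroup Ω) :=
    alternatingGroup.isSimpleGroup (by rw [Nat.card_eq_fintype_card, hcard]; omega)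
  by_cases h360' : Nat.card G = 360
  · right; exact h360'
  have hne : G.subgroupOf (alternatingGroup Ω) ≠ ⊤ := by
    intro htop
    rw [htop, Subgroup.index_top, mul_one] at hmulH
    exact h360' hmulH
  have hfac := Cfsg.Agent.Helper5.card_le_factorial_index _ hne
  rw [hA] at hfac
  set c := Nat.card G with hc
  set idx := (G.subgroupOf (alternatingGroup Ω)).index with hidx'
  have h30 : 30 ∣ c := by omega
  obtain ⟨k, hk⟩ := h30
  have hk12 : k * idx = 12 := by
    rw [hk] at hmulH
    nlinarith
  have hidx12 : idx ≤ 12 := Nat.le_of_dvd (by norm_num) ⟨k, by rw [← hk12, mul_comm]⟩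
  have hidx6 : 6 ≤ idx := by
    by_contra hlt
    rw [not_le] at hlt
    have : idx.factorial ≤ (5 : ℕ).factorial := Nat.factorial_le (by omega)
    have h5f : (5 : ℕ).factorial = 120 := by decide
    omega
  have hk2 : k = 1 ∨ k = 2 := by
    have : k * 6 ≤ 12 := by nlinarith
    have hk0 : k ≠ 0 := by rintro rfl; simp at hk12
    omega
  rcases hk2 with rfl | rfl
  · -- |G| = 30
    exfalso
    have hc30 : c = 30 := by omega
    have hS5 : Nat.card (stabilizer G a) = 5 := by omega
    have hPS : zpowers (⟨y, hyG⟩ : G) ≤ stabilizer G a := by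
      rw [zpowers_le, mem_stabilizer_iff]
      exact hya
    have hPSeq : zpowers (⟨y, hyG⟩ : G) = stabilizer G a := by
      apply Subgroup.eq_of_le_of_card_ge hPS
      rw [Nat.card_zpowers, hord, hS5]
    refine Cfsg.Agent.Helper33.JPC.no_sharp_frobenius (K := G) (zpowers (⟨y, hyG⟩ : G)) (ℓ := 5) (by norm_num)
      (by rw [Nat.card_zpowers, hord]) ?_ (by rw [← hc, hc30]) (by norm_num) (by norm_num)
    intro n hn
    rw [hPSeq, mem_stabilizer_iff]
    have h1 : n * ⟨y, hyG⟩ * n⁻¹ ∈ zpowers (⟨y, hyG⟩ : G) :=
      (mem_normalizer_iff.mp hn _).mp (mem_zpowers _)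
    obtain ⟨i, hi⟩ := mem_zpowers_iff.mp h1
    have hi' : y ^ i = (n : Perm Ω) * y * (n : Perm Ω)⁻¹ := by
      have := congrArg (fun z : G => (z : Perm Ω)) hi
      simpa using this
    have hsub : y.support.map (n : Perm Ω).toEmbedding ⊆ y.support := by
      rw [← support_conj, ← hi']
      exact support_zpow_le y i
    have hseq : y.support.map (n : Perm Ω).toEmbedding = y.support :=
      Finset.eq_of_subset_of_card_le hsub (by rw [Finset.card_map])
    have hna : (n : Perm Ω) a ∉ y.support := by
      intro hmem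
      rw [← hseq, Finset.mem_map] at hmem
      obtain ⟨b, hb, hba⟩ := hmem
      have : b = a := (n : Perm Ω).injective hba
      exact haf (this ▸ hb)
    have : (n : Perm Ω) a ∈ y.supportᶜ := by simpa using hna
    rw [ha, Finset.mem_singleton] at this
    exact this
  · left; omega

end Cfsg.Agent.Helper25.JPC
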