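import Mathlib
import Cfsg.Agent.S1504

set_option autoImplicit false

namespace Cfsg.Agent.Helper25

open scoped Pointwise

/-- Structural facts about the configuration `L = K ⋊ W₁`, `W₂ = C_K(x)` for `x ∈ W₁#`. -/
theorem kw_struct {L : Type*} [Group L] [Finite L] (K W₁ W₂ : Subgroup L) [hK : K.Normal]
    (hKW₁ : K ⊓ W₁ = ⊥) (hKW₁' : K ⊔ W₁ = ⊤) (hW₁c : IsCyclic W₁)
    (hHall : Nat.Coprime (Nat.card W₁) W₁.index) (hW₂c : IsCyclic W₂) (hW₂K : W₂ ≤ K)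
    (hC : ∀ x ∈ W₁, x ≠ 1 → K ⊓ Subgroup.centralizer ({x} : Set L) = W₂) :
    (∀ a ∈ W₁, ∀ b ∈ W₂, a * b = b * a) ∧ W₁ ⊓ W₂ = ⊥ ∧
    Nat.Coprime (Nat.card W₁) (Nat.card W₂) ∧ IsCyclic ↥(W₁ ⊔ W₂) ∧
    (∀ w : L, w ∈ W₁ ⊔ W₂ → w ∉ W₂ → ∀ x : L, x⁻¹ * w * x ∈ W₁ ⊔ W₂ → x ∈ W₁ ⊔ W₂) := by
  have hmul : (K : Set L) * (W₁ : Set L) = Set.univ := by
    rw [← Subgroup.normal_mul, hKW₁']; rfl
  have hcompl : K.IsComplement' W₁ :=
    Subgroup.isComplement'_of_disjoint_and_mul_eq_univ (disjoint_iff.mpr hKW₁) hmul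
  have hidxW : W₁.index = Nat.card K := hcompl.index_eq_card
  have hcop : Nat.Coprime (Nat.card W₁) (Nat.card K) := by rw [← hidxW]; exact hHall
  have hdecomp : ∀ g : L, ∃ k ∈ K, ∃ y ∈ W₁, g = k * y := by
    intro g
    have : g ∈ (K : Set L) * (W₁ : Set L) := by rw [hmul]; trivial
    obtain ⟨k, hk, y, hy, hky⟩ := Set.mem_mul.mp this
    exact ⟨k, hk, y, hy, hky.symm⟩
  have hcomm12 : ∀ a ∈ W₁, ∀ b ∈ W₂, a * b = b * a := by
    intro a ha b hb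
    by_cases ha1 : a = 1
    · rw [ha1, one_mul, mul_one]
    · have hb' : b ∈ K ⊓ Subgroup.centralizer ({a} : Set L) := by rw [hC a ha ha1]; exact hb
      have := (Subgroup.mem_inf.mp hb').2
      rw [Subgroup.mem_centralizer_singleton_iff] at this
      exact this.symm
  have hinf : W₁ ⊓ W₂ = ⊥ := by
    rw [eq_bot_iff, ← hKW₁]
    intro x hx
    exact Subgroup.mem_inf.mpr ⟨hW₂K (Subgroup.mem_inf.mp hx).2, (Subgroup.mem_inf.mp hx).1⟩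
  have hcop12 : Nat.Coprime (Nat.card W₁) (Nat.card W₂) :=
    Nat.Coprime.coprime_dvd_right (Subgroup.card_dvd_of_le hW₂K) hcop
  have hcyc : IsCyclic ↥(W₁ ⊔ W₂) := by
    have hprod : IsCyclic (W₁ × W₂) := Group.isCyclic_prod_iff.mpr ⟨hW₁c, hW₂c, hcop12⟩
    let f : W₁ × W₂ →* ↥(W₁ ⊔ W₂) :=
      { toFun := fun p => ⟨(p.1 : L) * p.2,
          mul_mem (Subgroup.mem_sup_left p.1.2) (Subgroup.mem_sup_right p.2.2)⟩
        map_one' := by apply Subtype.ext; simp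
        map_mul' := by
          intro p q
          apply Subtype.ext
          simp only [Prod.fst_mul, Prod.snd_mul, Subgroup.coe_mul]
          have := hcomm12 q.1 q.1.2 p.2 p.2.2
          calc (p.1 : L) * q.1 * (p.2 * q.2) = p.1 * (q.1 * p.2) * q.2 := by group
            _ = p.1 * (p.2 * q.1) * q.2 := by rw [this]
            _ = p.1 * p.2 * (q.1 * q.2) := by group }
    have hf : Function.Surjective f := by
      rintro ⟨w, hw⟩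
      obtain ⟨a, ha, b, hb, rfl⟩ := Cfsg.Agent.S1504.mem_sup_comm W₁ W₂ hcomm12 w hw
      exact ⟨(⟨a, ha⟩, ⟨b, hb⟩), rfl⟩
    exact isCyclic_of_surjective f hf
  refine ⟨hcomm12, hinf, hcop12, hcyc, ?_⟩
  intro w hw hw2 x hx
  obtain ⟨a, ha, b, hb, rfl⟩ := Cfsg.Agent.S1504.mem_sup_comm W₁ W₂ hcomm12 w hw
  have ha1 : a ≠ 1 := by
    intro h; apply hw2; rw [h, one_mul]; exact hb
  obtain ⟨m, hm⟩ : ∃ m, m = Nat.card W₂ := ⟨_, rfl⟩
  have hbm : b ^ m = 1 := by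
    rw [hm]
    exact orderOf_dvd_iff_pow_eq_one.mp (Subgroup.orderOf_dvd_natCard W₂ hb)
  have hab : Commute a b := hcomm12 a ha b hb
  have hwm : (a * b) ^ m = a ^ m := by rw [hab.mul_pow, hbm, mul_one]
  have ham1 : a ^ m ≠ 1 := by
    intro h
    apply ha1
    have h1 : orderOf a ∣ m := orderOf_dvd_of_pow_eq_one h
    have h2 : orderOf a ∣ Nat.card W₁ := Subgroup.orderOf_dvd_natCard W₁ ha
    have h3 : orderOf a ∣ Nat.gcd (Nat.card W₁) m := Nat.dvd_gcd h2 h1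
    rw [hm, hcop12] at h3
    exact orderOf_eq_one_iff.mp (Nat.dvd_one.mp h3)
  have ham : a ^ m ∈ W₁ := W₁.pow_mem ha m
  -- the conjugate
  obtain ⟨a₁, ha₁, b₁, hb₁, hw'⟩ := Cfsg.Agent.S1504.mem_sup_comm W₁ W₂ hcomm12 _ hx
  have hb₁m : b₁ ^ m = 1 := by
    rw [hm]
    exact orderOf_dvd_iff_pow_eq_one.mp (Subgroup.orderOf_dvd_natCard W₂ hb₁)
  have hab₁ : Commute a₁ b₁ := hcomm12 a₁ ha₁ b₁ hb₁
  have hconj : x⁻¹ * a ^ m * x = a₁ ^ m := by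
    have h1 : (x⁻¹ * (a * b) * x) ^ m = x⁻¹ * (a * b) ^ m * x := by
      have := conj_pow (a := x⁻¹) (b := a * b) (i := m)
      simpa using this
    rw [← hwm, ← h1, hw', hab₁.mul_pow, hb₁m, mul_one]
  obtain ⟨k, hk, y, hy, rfl⟩ := hdecomp x
  -- k⁻¹ a^m k ∈ W₁
  have h2 : k⁻¹ * a ^ m * k ∈ W₁ := by
    have h3 : k⁻¹ * a ^ m * k = y * (a₁ ^ m) * y⁻¹ := by
      rw [← hconj]; group
    rw [h3]
    exact W₁.mul_mem (W₁.mul_mem hy (W₁.pow_mem ha₁ m)) (W₁.inv_mem hy)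
  have h4 : k⁻¹ * a ^ m * k * (a ^ m)⁻¹ ∈ K ⊓ W₁ := by
    refine Subgroup.mem_inf.mpr ⟨?_, W₁.mul_mem h2 (W₁.inv_mem ham)⟩
    have h5 : k⁻¹ * a ^ m * k * (a ^ m)⁻¹ = k⁻¹ * (a ^ m * k * (a ^ m)⁻¹) := by group
    rw [h5]
    exact K.mul_mem (K.inv_mem hk) (hK.conj_mem k hk (a ^ m))
  rw [hKW₁, Subgroup.mem_bot] at h4
  have h6 : k * a ^ m = a ^ m * k := by
    have h7 : k⁻¹ * a ^ m * k = a ^ m := by
      calc k⁻¹ * a ^ m * k = (k⁻¹ * a ^ m * k * (a ^ m)⁻¹) * a ^ m := by group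
        _ = a ^ m := by rw [h4, one_mul]
    calc k * a ^ m = k * (k⁻¹ * a ^ m * k) := by rw [h7]
      _ = a ^ m * k := by group
  have hkW₂ : k ∈ W₂ := by
    rw [← hC (a ^ m) ham ham1]
    exact Subgroup.mem_inf.mpr ⟨hk, Subgroup.mem_centralizer_singleton_iff.mpr h6⟩
  exact mul_mem (Subgroup.mem_sup_right hkW₂) (Subgroup.mem_sup_left hy)

end Cfsg.Agent.Helper25
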