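import Mathlib
import Cfsg.Prelude.Def_OddOrderLocal
import Cfsg.Agent.Lib.Helper53.MC3Defs

set_option autoImplicit false

/-!
# MC3 (B2) `pow_three` (helper53's server for S4079), by helper25
-/

namespace Cfsg.Agent.Helper25.MC3

open Cfsg.Agent.Helper53.MC3
open Subgroup

section B
variable {L : Type*} [Group L] {p : ℕ} [Fact p.Prime]

/-- the iteration formula `a^n(g1) = g1 g2^n w^C(n,2) d^C(n,3)`. -/
theorem b2_iter (a : MulAut L) (g1 g2 w d : L)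
    (h1 : a g1 = g1 * g2) (h2 : a g2 = g2 * w) (h3 : a w = w * d) (h4 : a d = d)
    (c1 : Commute g2 w) (c2 : Commute w d) (n : ℕ) :
    (a ^ n) g1 = g1 * g2 ^ n * w ^ (n.choose 2) * d ^ (n.choose 3) := by
  induction n with
  | zero => simp
  | succ n ih =>
    have e2 : (n + 1).choose 2 = n + n.choose 2 := by
      have := Nat.choose_succ_succ' n 1
      simpa using this
    have e3 : (n + 1).choose 3 = n.choose 2 + n.choose 3 := by
      have := Nat.choose_succ_succ' n 2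
      simpa using this
    rw [pow_succ', MulAut.mul_apply, ih]
    simp only [map_mul, map_pow, h1, h2, h3, h4]
    rw [c1.mul_pow, c2.mul_pow, e2, e3, pow_succ', pow_add, pow_add]
    simp only [mul_assoc]

/-- (B2) THE COMPUTATION. -/
theorem pow_three (hp2 : p ≠ 2) (D : OmData p L)
    (a : MulAut L) (ha : a ^ p = 1) (w2 : L) (hw2 : w2 ≠ 1) (hw2p : w2 ^ p = 1) (haw2 : a w2 = w2)
    (hdel : ∀ w : L, w ^ p = 1 → ∃ k : ℕ, w⁻¹ * a w = w2 ^ k)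
    (hfix : ∀ w : L, w ^ p = 1 → a w = w → ∃ k : ℕ, w = w2 ^ k)
    (x : L) (hx : x ^ p = 1) (hax : a x ≠ x) :
    p = 3 ∧ ∀ g : L, g ^ p ^ 2 = 1 → a g = g → g ^ p = 1 := by
  have hpp : p.Prime := Fact.out
  have o12 : ∀ w : L, w ^ p = 1 → w ^ p ^ 2 = 1 := by
    intro w hw; rw [pow_two, pow_mul, hw, one_pow]
  have o2p : ∀ g : L, g ^ p ^ 2 = 1 → (g ^ p) ^ p = 1 := by
    intro g hg; rw [← pow_mul, ← pow_two]; exact hg
  have inv2 : ∀ w : L, w ^ p ^ 2 = 1 → w⁻¹ ^ p ^ 2 = 1 := by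
    intro w hw; rw [inv_pow, hw, inv_one]
  have a2 : ∀ w : L, w ^ p ^ 2 = 1 → (a w) ^ p ^ 2 = 1 := by
    intro w hw; rw [← map_pow a, hw, map_one]
  have pw2 : ∀ (w : L) (n : ℕ), w ^ p ^ 2 = 1 → (w ^ n) ^ p ^ 2 = 1 := by
    intro w n hw; rw [← pow_mul, mul_comm, pow_mul, hw, one_pow]
  have pw1 : ∀ (w : L) (n : ℕ), w ^ p = 1 → (w ^ n) ^ p = 1 := by
    intro w n hw; rw [← pow_mul, mul_comm, pow_mul, hw, one_pow]
  have afix : ∀ k : ℕ, a (w2 ^ k) = w2 ^ k := by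
    intro k; rw [map_pow, haw2]
  obtain ⟨g1, hg1⟩ := D.surj x hx
  have g1o : g1 ^ p ^ 2 = 1 := by rw [pow_two, pow_mul, hg1, hx]
  obtain ⟨g2, hg2⟩ : ∃ g2, g2 = g1⁻¹ * a g1 := ⟨_, rfl⟩
  have g2o : g2 ^ p ^ 2 = 1 := by rw [hg2]; exact D.mul2 _ _ (inv2 _ g1o) (a2 _ g1o)
  obtain ⟨v, hv⟩ : ∃ v, v = g2 ^ p := ⟨_, rfl⟩
  have hvx : v = x⁻¹ * a x := by
    rw [hv, hg2, D.pow_mul _ _ (inv2 _ g1o) (a2 _ g1o), inv_pow, hg1, ← map_pow a, hg1]
  have hv1 : v ≠ 1 := by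
    intro h; rw [hvx] at h; exact hax (inv_mul_eq_one.1 h).symm
  have hvo : v ^ p = 1 := by rw [hv]; exact o2p _ g2o
  obtain ⟨kv, hkv⟩ := hdel x hx
  have hvw : v = w2 ^ kv := by rw [hvx, hkv]
  have hav : a v = v := by rw [hvw]; exact afix kv
  obtain ⟨w', hw'⟩ : ∃ w', w' = g2⁻¹ * a g2 := ⟨_, rfl⟩
  have w'o : w' ^ p = 1 := by
    rw [hw', D.pow_mul _ _ (inv2 _ g2o) (a2 _ g2o), inv_pow, ← map_pow a, ← hv, hav, inv_mul_cancel]
  obtain ⟨kd, hkd⟩ := hdel w' w'o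
  obtain ⟨d, hd⟩ : ∃ d, d = w'⁻¹ * a w' := ⟨_, rfl⟩
  have hdw : d = w2 ^ kd := by rw [hd, hkd]
  have had : a d = d := by rw [hdw]; exact afix kd
  have hdo : d ^ p = 1 := by rw [hdw]; exact pw1 _ _ hw2p
  have e1 : a g1 = g1 * g2 := by rw [hg2, mul_inv_cancel_left]
  have e2 : a g2 = g2 * w' := by rw [hw', mul_inv_cancel_left]
  have e3 : a w' = w' * d := by rw [hd, mul_inv_cancel_left]
  have c1 : Commute g2 w' := (D.central w' g2 w'o g2o).symm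
  have c2 : Commute w' d := D.central w' d w'o (o12 _ hdo)
  have iter := b2_iter a g1 g2 w' d e1 e2 e3 had c1 c2
  have key : v * d ^ (p.choose 3) = 1 := by
    have h := iter p
    rw [ha, MulAut.one_apply] at h
    have hc2 : w' ^ (p.choose 2) = 1 := by
      obtain ⟨m, hm⟩ := hpp.dvd_choose_self (k := 2) (by norm_num)
        (by have := hpp.two_le; omega)
      rw [hm, pow_mul, w'o, one_pow]
    rw [hc2, mul_one, mul_assoc, left_eq_mul, ← hv] at h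
    exact h
  have hp3 : p = 3 := by
    by_contra hne
    have h3 : 3 < p := by have := hpp.two_le; omega
    obtain ⟨m, hm⟩ := hpp.dvd_choose_self (k := 3) (by norm_num) h3
    rw [hm, pow_mul, hdo, one_pow, mul_one] at key
    exact hv1 key
  refine ⟨hp3, ?_⟩
  subst hp3
  have hdv : d = v⁻¹ := by
    have h33 : Nat.choose 3 3 = 1 := by decide
    rw [h33, pow_one] at key
    exact eq_inv_of_mul_eq_one_right key
  intro g hg hag
  by_contra hg3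
  have hg3o : (g ^ 3) ^ 3 = 1 := o2p g hg
  obtain ⟨k, hk⟩ := hfix (g ^ 3) hg3o (by rw [map_pow, hag])
  have hkv3 : kv % 3 = 1 ∨ kv % 3 = 2 := by
    have : kv % 3 ≠ 0 := by
      intro h0
      apply hv1
      rw [hvw, pow_eq_pow_mod kv hw2p, h0, pow_zero]
    omega
  have hw2v : w2 = v ^ kv := by
    rw [hvw, ← pow_mul, pow_eq_pow_mod (kv * kv) hw2p, Nat.mul_mod]
    rcases hkv3 with h | h <;> rw [h] <;> simp
  obtain ⟨j, hj⟩ : ∃ j, j = kv * k := ⟨_, rfl⟩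
  have hgj : g ^ 3 = v ^ j := by rw [hk, hw2v, ← pow_mul, hj]
  have hho : (g2 ^ j) ^ 3 ^ 2 = 1 := pw2 g2 j g2o
  have hh3 : (g2 ^ j) ^ 3 = v ^ j := by rw [← pow_mul, mul_comm, pow_mul, ← hv]
  obtain ⟨ω, hω⟩ : ∃ ω, ω = (g2 ^ j)⁻¹ * g := ⟨_, rfl⟩
  have hωo : ω ^ 3 = 1 := by
    rw [hω, D.pow_mul _ _ (inv2 _ hho) hg, inv_pow, hh3, hgj, inv_mul_cancel]
  have hgω : g = g2 ^ j * ω := by rw [hω, mul_inv_cancel_left]
  obtain ⟨kω, hkω⟩ := hdel ω hωo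
  have haω : a ω = ω * w2 ^ kω := by rw [← hkω, mul_inv_cancel_left]
  have hah : a (g2 ^ j) = g2 ^ j * w' ^ j := by rw [map_pow, e2, c1.mul_pow]
  have h5 : w' ^ j * w2 ^ kω = 1 := by
    have h := hag
    rw [hgω, map_mul, hah, haω] at h
    have cω : Commute (w' ^ j) ω := D.central _ _ (pw1 _ _ w'o) (o12 _ hωo)
    rw [mul_assoc, mul_right_inj, ← mul_assoc, cω.eq, mul_assoc, mul_eq_left] at h
    exact h
  have h6 : w' ^ j = (w2 ^ kω)⁻¹ := eq_inv_of_mul_eq_one_left h5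
  have h7 : a (w' ^ j) = w' ^ j := by rw [h6, map_inv, afix]
  have h8 : d ^ j = 1 := by
    rw [map_pow, e3, c2.mul_pow, mul_eq_left] at h7
    exact h7
  apply hg3
  rw [hgj]
  rw [hdv, inv_pow, inv_eq_one] at h8
  exact h8

end B

end Cfsg.Agent.Helper25.MC3
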