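import Mathlib
import Cfsg.Prelude.Def_OddOrderLocal
import Cfsg.Agent.Lib.Helper53.MC3Defs
import Cfsg.Agent.Lib.Helper53.MaxClass

set_option autoImplicit false
set_option linter.style.haveILetI false

/-!
# MC3 (C1) `false_of_centralizes` (helper53's server for S4079), by helper25
-/

namespace Cfsg.Agent.Helper25.MC3

open Cfsg.Agent.Helper53.MC3
open Subgroup
open scoped commutatorElement

universe u

/-- the subgroup `{x ∈ Lh | x ^ k = 1}` (given that it is closed under multiplication). -/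
def c1Om {X : Type*} [Group X] (Lh : Subgroup X) (k : ℕ)
    (hmul : ∀ x y : X, x ∈ Lh → y ∈ Lh → x ^ k = 1 → y ^ k = 1 → (x * y) ^ k = 1) :
    Subgroup X where
  carrier := {x | x ∈ Lh ∧ x ^ k = 1}
  mul_mem' := fun {a b} ha hb => ⟨Lh.mul_mem ha.1 hb.1, hmul a b ha.1 hb.1 ha.2 hb.2⟩
  one_mem' := ⟨Lh.one_mem, one_pow k⟩
  inv_mem' := fun {a} ha => ⟨Lh.inv_mem ha.1, by rw [inv_pow, ha.2, inv_one]⟩

theorem mem_c1Om {X : Type*} [Group X] (Lh : Subgroup X) (k : ℕ)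
    (hmul : ∀ x y : X, x ∈ Lh → y ∈ Lh → x ^ k = 1 → y ^ k = 1 → (x * y) ^ k = 1) (x : X) :
    x ∈ c1Om Lh k hmul ↔ x ∈ Lh ∧ x ^ k = 1 := Iff.rfl

theorem c1Om_normal {X : Type*} [Group X] (Lh : Subgroup X) [hn : Lh.Normal] (k : ℕ)
    (hmul : ∀ x y : X, x ∈ Lh → y ∈ Lh → x ^ k = 1 → y ^ k = 1 → (x * y) ^ k = 1) :
    (c1Om Lh k hmul).Normal :=
  ⟨fun n h g => ⟨hn.conj_mem n h.1 g, by rw [conj_pow, h.2, mul_one, mul_inv_cancel]⟩⟩

theorem card_c1Om {X : Type*} [Group X] (Lh : Subgroup X) (k : ℕ)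
    (hmul : ∀ x y : X, x ∈ Lh → y ∈ Lh → x ^ k = 1 → y ^ k = 1 → (x * y) ^ k = 1) :
    Nat.card (c1Om Lh k hmul) = Nat.card {x : X // x ∈ Lh ∧ x ^ k = 1} :=
  Nat.card_congr (Equiv.subtypeEquivRight (fun _ => Iff.rfl))

/-- index of a subgroup of order `3 ^ k` in a group of order `3 ^ n`. -/
theorem c1_index {X : Type*} [Group X] [Finite X] (H : Subgroup X) (n k : ℕ) (hk : k ≤ n)
    (hX : Nat.card X = 3 ^ n) (hH : Nat.card H = 3 ^ k) : H.index = 3 ^ (n - k) := by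
  have h := Subgroup.card_mul_index H
  rw [hH, hX] at h
  have e : 3 ^ n = 3 ^ k * 3 ^ (n - k) := by
    rw [← pow_add]; congr 1; omega
  rw [e] at h
  exact Nat.eq_of_mul_eq_mul_left (by positivity) h

/-- (C1) abstract form of the converse. -/
theorem false_of_centralizes {X : Type u} [Group X] [Finite X] (m : ℕ) (hm : 4 ≤ m)
    (hX : Nat.card X = 3 ^ (m + 1)) (hcl : Group.nilpotencyClass X = m)
    (Lh : Subgroup X) [Lh.Normal]
    (hΩ : Nat.card {x : X // x ∈ Lh ∧ x ^ 3 = 1} = 9)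
    (hmul1 : ∀ x y : X, x ∈ Lh → y ∈ Lh → x ^ 3 = 1 → y ^ 3 = 1 → (x * y) ^ 3 = 1)
    (hY : Nat.card {x : X // x ∈ Lh ∧ x ^ 9 = 1} = 81)
    (hmul2 : ∀ x y : X, x ∈ Lh → y ∈ Lh → x ^ 9 = 1 → y ^ 9 = 1 → (x * y) ^ 9 = 1)
    (hpow : ∀ x y : X, x ∈ Lh → y ∈ Lh → x ^ 9 = 1 → y ^ 9 = 1 → (x * y) ^ 3 = x ^ 3 * y ^ 3)
    (hcyc : ∃ c : X, ∀ x y : X, x ∈ Lh → y ∈ Lh → x * y * x⁻¹ * y⁻¹ ∈ Subgroup.zpowers c)
    (a : X) (hgen : ∀ x : X, ∃ l ∈ Lh, ∃ k : ℕ, x = l * a ^ k)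
    (hcent : ∀ w : X, w ∈ Lh → w ^ 3 = 1 → a * w = w * a) : False := by
  haveI : Fact (Nat.Prime 3) := ⟨Nat.prime_three⟩
  have hpX : IsPGroup 3 X := IsPGroup.of_card hX
  haveI hnil : Group.IsNilpotent X := hpX.isNilpotent
  have hcl' : Group.nilpotencyClass X = (m + 1) - 1 := by rw [hcl]; rfl
  obtain ⟨Ω, hΩdef⟩ : ∃ Ω, Ω = c1Om Lh 3 hmul1 := ⟨_, rfl⟩
  obtain ⟨Y, hYdef⟩ : ∃ Y, Y = c1Om Lh 9 hmul2 := ⟨_, rfl⟩
  have memΩ : ∀ x, x ∈ Ω ↔ x ∈ Lh ∧ x ^ 3 = 1 := by intro x; rw [hΩdef]; exact Iff.rfl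
  have memY : ∀ x, x ∈ Y ↔ x ∈ Lh ∧ x ^ 9 = 1 := by intro x; rw [hYdef]; exact Iff.rfl
  haveI hΩn : Ω.Normal := by rw [hΩdef]; exact c1Om_normal Lh 3 hmul1
  haveI hYn : Y.Normal := by rw [hYdef]; exact c1Om_normal Lh 9 hmul2
  have hΩc : Nat.card Ω = 3 ^ 2 := by rw [hΩdef, card_c1Om, hΩ]; norm_num
  have hYc : Nat.card Y = 3 ^ 4 := by rw [hYdef, card_c1Om, hY]; norm_num
  have hΩi : Ω.index = 3 ^ (m - 1) := by
    have := c1_index Ω (m + 1) 2 (by omega) hX hΩc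
    rwa [show m + 1 - 2 = m - 1 by omega] at this
  have hYi : Y.index = 3 ^ (m - 3) := by
    have := c1_index Y (m + 1) 4 (by omega) hX hYc
    rwa [show m + 1 - 4 = m - 3 by omega] at this
  have hΩlcs : Ω = (⊤ : Subgroup X).lowerCentralSeries (m - 2) := by
    have := Cfsg.Agent.Helper53.eq_lcs_of_maxClass (p := 3) (m + 1) hX hcl' (by omega) Ω (m - 1)
      (by omega) hΩi
    rwa [show m - 1 - 1 = m - 2 by omega] at this
  obtain ⟨c, hc⟩ := hcyc
  have hYL : Y ≤ Lh := fun y hy => ((memY y).1 hy).1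
  obtain ⟨T, hT⟩ : ∃ T : Subgroup X, T = ⁅Y, Lh⁆ := ⟨_, rfl⟩
  have hTc : T ≤ Subgroup.zpowers c := by
    rw [hT, Subgroup.commutator_le]
    intro y hy l hl
    rw [commutatorElement_def]
    exact hc y l (hYL hy) hl
  have hTY : T ≤ Y := by rw [hT]; exact Subgroup.commutator_le_left Y Lh
  haveI hTn : T.Normal := by rw [hT]; infer_instance
  have hTcyc : IsCyclic T := Subgroup.isCyclic_of_le hTc
  obtain ⟨t, ht⟩ := (Subgroup.isCyclic_iff_exists_zpowers_eq_top T).mp hTcyc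
  have htT : t ∈ T := by rw [← ht]; exact Subgroup.mem_zpowers t
  have ht9 : t ^ 9 = 1 := ((memY t).1 (hTY htT)).2
  have ht3 : t ^ 3 = 1 := by
    by_contra h3
    have hord : orderOf t = 9 := by
      have hd : orderOf t ∣ 9 := orderOf_dvd_of_pow_eq_one ht9
      have hnd : ¬ orderOf t ∣ 3 := fun h => h3 (orderOf_dvd_iff_pow_eq_one.1 h)
      have hmem : orderOf t ∈ Nat.divisors 9 := Nat.mem_divisors.2 ⟨hd, by norm_num⟩
      have hdiv : Nat.divisors 9 = {1, 3, 9} := by decide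
      rw [hdiv] at hmem
      simp only [Finset.mem_insert, Finset.mem_singleton] at hmem
      rcases hmem with h | h | h
      · rw [h] at hnd; exact absurd (one_dvd 3) hnd
      · rw [h] at hnd; exact absurd (dvd_refl 3) hnd
      · exact h
    have hTcard : Nat.card T = 3 ^ 2 := by rw [← ht, Nat.card_zpowers, hord]; norm_num
    have hTi : T.index = 3 ^ (m - 1) := by
      have := c1_index T (m + 1) 2 (by omega) hX hTcard
      rwa [show m + 1 - 2 = m - 1 by omega] at this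
    have hTlcs : T = (⊤ : Subgroup X).lowerCentralSeries (m - 2) := by
      have := Cfsg.Agent.Helper53.eq_lcs_of_maxClass (p := 3) (m + 1) hX hcl' (by omega) T (m - 1)
        (by omega) hTi
      rwa [show m - 1 - 1 = m - 2 by omega] at this
    have htΩ : t ∈ Ω := by rw [hΩlcs, ← hTlcs]; exact htT
    exact h3 ((memΩ t).1 htΩ).2
  have hTΩ : T ≤ Ω := by
    intro s hs
    refine (memΩ s).2 ⟨hYL (hTY hs), ?_⟩
    rw [← ht] at hs
    obtain ⟨k, rfl⟩ := Subgroup.mem_zpowers_iff.1 hs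
    rw [← zpow_natCast, ← zpow_mul, mul_comm, zpow_mul, zpow_natCast, ht3, one_zpow]
  have haY : ∀ y ∈ Y, ⁅a, y⁆ ∈ Ω := by
    intro y hy
    have hyL := ((memY y).1 hy).1
    have hy9 := ((memY y).1 hy).2
    have h1 : a * y * a⁻¹ ∈ Lh := Subgroup.Normal.conj_mem inferInstance y hyL a
    have h1' : (a * y * a⁻¹) ^ 9 = 1 := by rw [conj_pow, hy9, mul_one, mul_inv_cancel]
    have h2 : y⁻¹ ∈ Lh := Lh.inv_mem hyL
    have h2' : y⁻¹ ^ 9 = 1 := by rw [inv_pow, hy9, inv_one]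
    have hy3 : a * y ^ 3 = y ^ 3 * a :=
      hcent (y ^ 3) (Lh.pow_mem hyL 3) (by rw [← pow_mul]; exact hy9)
    rw [commutatorElement_def]
    refine (memΩ _).2 ⟨Lh.mul_mem h1 h2, ?_⟩
    rw [hpow _ _ h1 h2 h1' h2', conj_pow, hy3, mul_inv_cancel_right, inv_pow, mul_inv_cancel]
  have hπ : ∀ u v : X, ⁅u, v⁆ ∈ Ω ↔
      Commute (QuotientGroup.mk' Ω u) (QuotientGroup.mk' Ω v) := by
    intro u v
    rw [← commutatorElement_eq_one_iff_commute, ← map_commutatorElement, QuotientGroup.mk'_apply,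
      QuotientGroup.eq_one_iff]
  have hYall : ∀ y ∈ Y, ∀ x : X, Commute (QuotientGroup.mk' Ω y) (QuotientGroup.mk' Ω x) := by
    intro y hy x
    obtain ⟨l, hl, k, rfl⟩ := hgen x
    rw [map_mul, map_pow]
    have c1 : Commute (QuotientGroup.mk' Ω y) (QuotientGroup.mk' Ω l) :=
      (hπ y l).1 (hTΩ (by rw [hT]; exact Subgroup.commutator_mem_commutator hy hl))
    have c2 : Commute (QuotientGroup.mk' Ω y) (QuotientGroup.mk' Ω a) :=
      ((hπ a y).1 (haY y hy)).symm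
    exact c1.mul_right (c2.pow_right k)
  have hYtop : ⁅Y, (⊤ : Subgroup X)⁆ ≤ Ω := by
    rw [Subgroup.commutator_le]
    intro y hy x _
    exact (hπ y x).2 (hYall y hy x)
  rcases Nat.lt_or_ge m 5 with h5 | h5
  · -- `m = 4`
    have hm4 : m = 4 := by omega
    have hYi3 : Nat.card (X ⧸ Y) = 3 := by
      rw [← Subgroup.index_eq_card, hYi, hm4]; norm_num
    haveI : IsCyclic (X ⧸ Y) := isCyclic_of_prime_card hYi3
    have hΩY : Ω ≤ Y := by
      intro w hw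
      have := (memΩ w).1 hw
      refine (memY w).2 ⟨this.1, ?_⟩
      rw [show 9 = 3 * 3 by norm_num, pow_mul, this.2, one_pow]
    have hΩY' : Ω ≤ Subgroup.comap (MonoidHom.id X) Y := fun w hw => hΩY hw
    let f : X ⧸ Ω →* X ⧸ Y := QuotientGroup.map Ω Y (MonoidHom.id X) hΩY'
    have hker : f.ker ≤ Subgroup.center (X ⧸ Ω) := by
      intro q hq
      induction q using QuotientGroup.induction_on with
      | H x =>
        have hxY : x ∈ Y := by
          have h1 : (x : X ⧸ Y) = 1 := hq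
          rw [QuotientGroup.eq_one_iff] at h1
          exact h1
        rw [Subgroup.mem_center_iff]
        intro q'
        induction q' using QuotientGroup.induction_on with
        | H x' => exact ((hYall x hxY x').eq).symm
    have hab : ∀ u v : X, ⁅u, v⁆ ∈ Ω := by
      intro u v
      rw [hπ]
      have hcm : IsMulCommutative (X ⧸ Ω) :=
        MonoidHom.isMulCommutative_of_isCyclic_of_ker_le_center f hker
      exact hcm.is_comm.comm _ _
    have h1 : (⊤ : Subgroup X).lowerCentralSeries 1 ≤ Ω := by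
      rw [Subgroup.lowerCentralSeries_succ, Subgroup.lowerCentralSeries_zero,
        Subgroup.commutator_le]
      intro u _ v _
      exact hab u v
    have h2 := Cfsg.Agent.Helper53.lcs_lt (G := X) 1 (by rw [hcl]; omega)
    rw [show 1 + 1 = m - 2 by omega, ← hΩlcs] at h2
    exact absurd h1 (not_le_of_gt h2)
  · -- `m ≥ 5`
    have hYlcs : Y = (⊤ : Subgroup X).lowerCentralSeries (m - 4) := by
      have := Cfsg.Agent.Helper53.eq_lcs_of_maxClass (p := 3) (m + 1) hX hcl' (by omega) Y (m - 3)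
        (by omega) hYi
      rwa [show m - 3 - 1 = m - 4 by omega] at this
    have h1 : (⊤ : Subgroup X).lowerCentralSeries (m - 3) ≤ Ω := by
      rw [show m - 3 = (m - 4) + 1 by omega, Subgroup.lowerCentralSeries_succ, ← hYlcs]
      exact hYtop
    have h2 := Cfsg.Agent.Helper53.lcs_lt (G := X) (m - 3) (by rw [hcl]; omega)
    rw [show m - 3 + 1 = m - 2 by omega, ← hΩlcs] at h2
    exact absurd h1 (not_le_of_gt h2)

end Cfsg.Agent.Helper25.MC3
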