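import Mathlib

set_option autoImplicit false

namespace Cfsg.Agent.Helper25

open Finset

section
variable {I J : Type*} [Fintype I] [Fintype J] [DecidableEq I] [DecidableEq J]

/-- number of nonzero entries of the matrix `f i + g j` -/
noncomputable def nzCount (f : I → ℂ) (g : J → ℂ) : ℕ :=
  ((univ : Finset (I × J)).filter (fun p => f p.1 + g p.2 ≠ 0)).card

theorem nzCount_eq_sum (f : I → ℂ) (g : J → ℂ) :
    nzCount f g = ∑ i : I, ((univ : Finset J).filter (fun j => f i + g j ≠ 0)).card := by
  classical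
  unfold nzCount
  rw [Finset.card_filter, Fintype.sum_prod_type]
  apply Finset.sum_congr rfl
  intro i _
  rw [Finset.card_filter]

theorem nzCount_swap (f : I → ℂ) (g : J → ℂ) : nzCount g f = nzCount f g := by
  classical
  unfold nzCount
  apply Finset.card_nbij' (fun p : J × I => (p.2, p.1)) (fun p : I × J => (p.2, p.1))
  · intro p hp
    simp only [Finset.coe_filter, Finset.mem_univ, true_and, Set.mem_setOf_eq] at hp ⊢
    rwa [add_comm]
  · intro p hp
    simp only [Finset.coe_filter, Finset.mem_univ, true_and, Set.mem_setOf_eq] at hp ⊢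
    rwa [add_comm]
  · intro p _; rfl
  · intro p _; rfl

/-- if some row of `f i + g j` vanishes, and there are fewer than `2 |J|` nonzero entries, then the
matrix vanishes or is supported on a single row on which it is constant -/
theorem zero_row_case (f : I → ℂ) (g : J → ℂ) (i₀ : I) (h0 : ∀ j, f i₀ + g j = 0)
    (hN : nzCount f g < 2 * Fintype.card J) :
    (∀ i j, f i + g j = 0) ∨ ∃ (i₁ : I) (a : ℂ), ∀ i j, f i + g j = if i = i₁ then a else 0 := by
  classical
  have hg : ∀ j, g j = - f i₀ := fun j => by linear_combination h0 j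
  have hM : ∀ i j, f i + g j = f i - f i₀ := fun i j => by rw [hg j]; ring
  by_cases hR : ∀ i, f i = f i₀
  · left
    intro i j
    rw [hM, hR i, sub_self]
  · right
    push_neg at hR
    obtain ⟨i₁, hi₁⟩ := hR
    refine ⟨i₁, f i₁ - f i₀, fun i j => ?_⟩
    rw [hM]
    split_ifs with h
    · rw [h]
    · -- a second nonzero row gives too many nonzero entries
      by_contra hne
      have hi : f i ≠ f i₀ := fun h' => hne (by rw [h', sub_self])
      have hsub : (({i₁, i} : Finset I) ×ˢ (univ : Finset J)) ⊆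
          (univ : Finset (I × J)).filter (fun p => f p.1 + g p.2 ≠ 0) := by
        intro p hp
        rw [Finset.mem_product] at hp
        rw [Finset.mem_filter]
        refine ⟨Finset.mem_univ _, ?_⟩
        rw [hM]
        rcases Finset.mem_insert.mp hp.1 with h1 | h1
        · rw [h1]; exact sub_ne_zero.mpr hi₁
        · rw [Finset.mem_singleton.mp h1]; exact sub_ne_zero.mpr hi
      have hcard := Finset.card_le_card hsub
      rw [Finset.card_product, Finset.card_pair (Ne.symm h), Finset.card_univ] at hcard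
      unfold nzCount at hN
      omega

/-- the combinatorial lemma on matrices of the form `f i + g j` with few nonzero entries -/
theorem matrix_lemma (f : I → ℂ) (g : J → ℂ) (hIJ : Fintype.card I + 2 ≤ Fintype.card J)
    (hN : nzCount f g < 2 * Fintype.card I) :
    (∀ i j, f i + g j = 0) ∨
    (∃ (j₁ : J) (a : ℂ), ∀ i j, f i + g j = if j = j₁ then a else 0) ∨
    (∃ (i₁ : I) (a : ℂ), ∀ i j, f i + g j = if i = i₁ then a else 0) := by
  classical
  by_cases hA : ∃ i₀, ∀ j, f i₀ + g j = 0
  · obtain ⟨i₀, h0⟩ := hA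
    rcases zero_row_case f g i₀ h0 (by omega) with h | h
    · exact Or.inl h
    · exact Or.inr (Or.inr h)
  by_cases hB : ∃ j₀, ∀ i, f i + g j₀ = 0
  · obtain ⟨j₀, h0⟩ := hB
    have h0' : ∀ i, g j₀ + f i = 0 := fun i => by rw [add_comm]; exact h0 i
    rcases zero_row_case g f j₀ h0' (by rw [nzCount_swap]; exact hN) with h | h
    · left
      intro i j
      rw [add_comm]; exact h j i
    · right; left
      obtain ⟨j₁, a, h⟩ := h
      refine ⟨j₁, a, fun i j => ?_⟩
      rw [add_comm]; exact h j i
  -- every row and every column has a nonzero entry : contradiction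
  exfalso
  push_neg at hA hB
  rw [nzCount_eq_sum] at hN
  obtain ⟨r, hr⟩ : ∃ r : I → ℕ, r = fun i => ((univ : Finset J).filter (fun j => f i + g j ≠ 0)).card :=
    ⟨_, rfl⟩
  have hN' : ∑ i : I, r i < 2 * Fintype.card I := by rw [hr]; exact hN
  have hr1 : ∀ i, 1 ≤ r i := by
    intro i
    obtain ⟨j, hj⟩ := hA i
    rw [hr]
    exact Finset.card_pos.mpr ⟨j, Finset.mem_filter.mpr ⟨Finset.mem_univ _, hj⟩⟩
  -- some row has exactly one nonzero entry
  have hex : ∃ i₁, r i₁ < 2 := by
    by_contra hcon
    push_neg at hcon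
    have : ∑ _i : I, 2 ≤ ∑ i : I, r i := Finset.sum_le_sum (fun i _ => hcon i)
    rw [Finset.sum_const, Finset.card_univ, smul_eq_mul] at this
    omega
  obtain ⟨i₁, hi₁⟩ := hex
  have hri₁ : r i₁ = 1 := by have := hr1 i₁; omega
  rw [hr] at hri₁
  obtain ⟨j₁, hj₁⟩ := Finset.card_eq_one.mp hri₁
  have hz : ∀ j, j ≠ j₁ → f i₁ + g j = 0 := by
    intro j hj
    by_contra hne
    have : j ∈ (univ : Finset J).filter (fun j => f i₁ + g j ≠ 0) :=
      Finset.mem_filter.mpr ⟨Finset.mem_univ _, hne⟩
    rw [hj₁, Finset.mem_singleton] at this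
    exact hj this
  have hJ : 1 < Fintype.card J := by omega
  obtain ⟨j₂, hj₂⟩ := Fintype.exists_ne_of_one_lt_card hJ j₁
  obtain ⟨i₂, hi₂⟩ := hB j₂
  have hgj : ∀ j, j ≠ j₁ → g j = - f i₁ := fun j hj => by linear_combination hz j hj
  have hrow : ∀ j, j ≠ j₁ → f i₂ + g j ≠ 0 := by
    intro j hj
    rw [hgj j hj, ← hgj j₂ hj₂]
    exact hi₂
  have hr2 : Fintype.card J - 1 ≤ r i₂ := by
    rw [hr]
    have hsub : (univ : Finset J).erase j₁ ⊆ (univ : Finset J).filter (fun j => f i₂ + g j ≠ 0) := by
      intro j hj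
      rw [Finset.mem_erase] at hj
      exact Finset.mem_filter.mpr ⟨Finset.mem_univ _, hrow j hj.1⟩
    have := Finset.card_le_card hsub
    rw [Finset.card_erase_of_mem (Finset.mem_univ _), Finset.card_univ] at this
    exact this
  have hsum : ∑ i : I, r i = r i₂ + ∑ i ∈ (univ : Finset I).erase i₂, r i :=
    (Finset.add_sum_erase _ _ (Finset.mem_univ i₂)).symm
  have hrest : Fintype.card I - 1 ≤ ∑ i ∈ (univ : Finset I).erase i₂, r i := by
    have : ∑ _i ∈ (univ : Finset I).erase i₂, 1 ≤ ∑ i ∈ (univ : Finset I).erase i₂, r i :=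
      Finset.sum_le_sum (fun i _ => hr1 i)
    rw [Finset.sum_const, Finset.card_erase_of_mem (Finset.mem_univ _), Finset.card_univ,
      smul_eq_mul, mul_one] at this
    exact this
  have hIpos : 0 < Fintype.card I := Fintype.card_pos_iff.mpr ⟨i₁⟩
  omega

end

end Cfsg.Agent.Helper25
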