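import Mathlib

/-!
# Sub-server N5400 (helper25) for helper17's O6232 server (S0983): no simple group of order 5400.
Shared definition.
-/

set_option autoImplicit false

namespace Cfsg.Agent.Helper25.N5400

/-- `F` is a subgroup of order `5` of the Sylow `5`-subgroup `P` that lies in another Sylow `5`-subgroup. -/
def Shared {G : Type*} [Group G] (P : Sylow 5 G) (F : Subgroup G) : Prop :=
  F ≤ (P : Subgroup G) ∧ Nat.card F = 5 ∧ ∃ R : Sylow 5 G, R ≠ P ∧ F ≤ (R : Subgroup G)

end Cfsg.Agent.Helper25.N5400
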