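import Mathlib
import Cfsg.Agent.Lib.Helper25.N5400Defs

/-!
# N5400 (FIB) `card_meeting` (helper25 sub-server, order 5400 of O6232, S0983)
-/

set_option autoImplicit false

namespace Cfsg.Agent.Helper25.N5400

open Cfsg MulAction

universe u

section NoSimple

variable {G : Type u} [Group G] [Finite G]

theorem card_meeting (hP25 : ∀ Q : Sylow 5 G, Nat.card (Q : Subgroup G) = 25) (P : Sylow 5 G)
    (h6 : ∀ F : Subgroup G, Shared P F → Nat.card {Q : Sylow 5 G // F ≤ (Q : Subgroup G)} = 6) :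
    Nat.card {R : Sylow 5 G // R ≠ P ∧ (P : Subgroup G) ⊓ (R : Subgroup G) ≠ ⊥} =
      5 * Nat.card {F : Subgroup G // Shared P F} := by
  classical
  have hA : ∀ R : Sylow 5 G, R ≠ P → (P : Subgroup G) ⊓ (R : Subgroup G) ≠ ⊥ →
      Nat.card ↥((P : Subgroup G) ⊓ (R : Subgroup G)) = 5 := by
    intro R hRP hne
    have hdvd : Nat.card ↥((P : Subgroup G) ⊓ (R : Subgroup G)) ∣ 5 ^ 2 := by
      have := Subgroup.card_dvd_of_le (inf_le_left : (P : Subgroup G) ⊓ (R : Subgroup G) ≤ P)
      rw [hP25 P] at this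
      exact this
    obtain ⟨m, hm, hcard⟩ := (Nat.dvd_prime_pow Nat.prime_five).1 hdvd
    interval_cases m
    · exfalso
      exact hne (Subgroup.card_eq_one.1 (by simpa using hcard))
    · simpa using hcard
    · exfalso
      have hPR : (P : Subgroup G) ⊓ (R : Subgroup G) = P :=
        Subgroup.eq_of_le_of_card_ge inf_le_left (by rw [hcard, hP25 P]; norm_num)
      have hle : (P : Subgroup G) ≤ R := by
        rw [← hPR]
        exact inf_le_right
      have : (P : Subgroup G) = R := Subgroup.eq_of_le_of_card_ge hle (by rw [hP25 P, hP25 R])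
      exact hRP (Sylow.ext this).symm
  let f : {R : Sylow 5 G // R ≠ P ∧ (P : Subgroup G) ⊓ (R : Subgroup G) ≠ ⊥} →
      {F : Subgroup G // Shared P F} :=
    fun R => ⟨(P : Subgroup G) ⊓ (R.1 : Subgroup G), inf_le_left, hA R.1 R.2.1 R.2.2,
      R.1, R.2.1, inf_le_right⟩
  have hfib : ∀ F : {F : Subgroup G // Shared P F}, Nat.card {R // f R = F} = 5 := by
    rintro ⟨F, hS⟩
    have h6F := h6 F hS
    have hFP : F ≤ (P : Subgroup G) := hS.1
    have hF5 : Nat.card F = 5 := hS.2.1
    have hFne : F ≠ ⊥ := by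
      intro h
      rw [h] at hF5
      simp at hF5
    have e1 : {R // f R = ⟨F, hS⟩} ≃
        {R : {R : Sylow 5 G // R ≠ P ∧ (P : Subgroup G) ⊓ (R : Subgroup G) ≠ ⊥} //
          (P : Subgroup G) ⊓ (R.1 : Subgroup G) = F} :=
      Equiv.subtypeEquivRight (fun R => by
        constructor
        · intro h
          exact congrArg Subtype.val h
        · intro h
          exact Subtype.ext h)
    have e2 := Equiv.subtypeSubtypeEquivSubtypeInter
      (fun R : Sylow 5 G => R ≠ P ∧ (P : Subgroup G) ⊓ (R : Subgroup G) ≠ ⊥)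
      (fun R : Sylow 5 G => (P : Subgroup G) ⊓ (R : Subgroup G) = F)
    have e3 : {R : Sylow 5 G // (R ≠ P ∧ (P : Subgroup G) ⊓ (R : Subgroup G) ≠ ⊥) ∧
        (P : Subgroup G) ⊓ (R : Subgroup G) = F} ≃
        ↥(({Q : Sylow 5 G | F ≤ (Q : Subgroup G)} \ {P} : Set (Sylow 5 G))) :=
      Equiv.subtypeEquivRight (fun R => by
        constructor
        · rintro ⟨⟨hRP, _⟩, hPR⟩
          refine ⟨?_, hRP⟩
          show F ≤ (R : Subgroup G)
          rw [← hPR]
          exact inf_le_right
        · rintro ⟨hFR, hRP⟩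
          have hFR' : F ≤ (R : Subgroup G) := hFR
          have hRP' : R ≠ P := hRP
          have hle : F ≤ (P : Subgroup G) ⊓ (R : Subgroup G) := le_inf hFP hFR'
          have hne : (P : Subgroup G) ⊓ (R : Subgroup G) ≠ ⊥ := by
            intro h
            rw [h] at hle
            exact hFne (le_bot_iff.1 hle)
          refine ⟨⟨hRP', hne⟩, ?_⟩
          exact (Subgroup.eq_of_le_of_card_ge hle (by rw [hA R hRP' hne, hF5])).symm)
    rw [Nat.card_congr (e1.trans (e2.trans e3)), Nat.card_coe_set_eq,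
      Set.ncard_sdiff_singleton_of_mem (show P ∈ {Q : Sylow 5 G | F ≤ (Q : Subgroup G)} from hFP),
      ← Nat.card_coe_set_eq]
    show Nat.card {Q : Sylow 5 G // F ≤ (Q : Subgroup G)} - 1 = 5
    rw [h6F]
  have : Fintype {F : Subgroup G // Shared P F} := Fintype.ofFinite _
  calc Nat.card {R : Sylow 5 G // R ≠ P ∧ (P : Subgroup G) ⊓ (R : Subgroup G) ≠ ⊥}
      = Nat.card (Σ F : {F : Subgroup G // Shared P F}, {R // f R = F}) :=
        Nat.card_congr (Equiv.sigmaFiberEquiv f).symm
    _ = ∑ F : {F : Subgroup G // Shared P F}, Nat.card {R // f R = F} := Nat.card_sigma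
    _ = ∑ _F : {F : Subgroup G // Shared P F}, 5 := Finset.sum_congr rfl (fun F _ => hfib F)
    _ = 5 * Nat.card {F : Subgroup G // Shared P F} := by
        rw [Finset.sum_const, Finset.card_univ, smul_eq_mul, Nat.card_eq_fintype_card, mul_comm]

end NoSimple

end Cfsg.Agent.Helper25.N5400
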