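import Mathlib
import Cfsg.Agent.S1017
import Cfsg.Agent.Lib.Helper54.O5760BDefs

set_option autoImplicit false

/-!
N96 lemma server (helper54, S0980, case n_5 = 96), piece (P8) `c360_false` (transfer into a Sylow
3-subgroup), by helper25.  Statement verbatim from `tools/o5760b_sigs_helper54.lean.txt`.
-/

namespace Cfsg.Agent.Helper25.N96

open Cfsg MulAction Cfsg.Agent.Helper54.O5760B

universe u

section Sylow

variable {G : Type u} [Group G] [Finite G] [IsSimpleGroup G]

omit [Finite G] [IsSimpleGroup G] in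
theorem h25_conj_pow (g y : G) (j : ℕ) : (g⁻¹ * y * g) ^ j = g⁻¹ * y ^ j * g := by
  induction j with
  | zero => simp
  | succ j ih =>
    rw [pow_succ, ih, pow_succ]
    group

/-- (P8) TRANSFER. -/
theorem c360_false (hG : Nat.card G = 5760) (x : G) (hx : orderOf x = 3) (M : Subgroup G)
    (hCM : Subgroup.centralizer ({x} : Set G) ≤ M)
    (hC : Nat.card (Subgroup.centralizer ({x} : Set G)) = 360) (hM : Nat.card M = 360)
    (hfx : ∀ g : G, g⁻¹ * x * g ∈ M → g ∈ M) : False := by
  classical
  haveI : Fact (Nat.Prime 3) := ⟨by norm_num⟩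
  have hx3 : x ^ 3 = 1 := hx ▸ pow_orderOf_eq_one x
  have hx1 : x ≠ 1 := by
    intro h
    rw [h, orderOf_one] at hx
    omega
  -- `M = C(x)`
  have hMC : Subgroup.centralizer ({x} : Set G) = M :=
    Subgroup.eq_of_le_of_card_ge hCM (by rw [hC, hM])
  -- a Sylow 3-subgroup containing `x`
  have hxp : IsPGroup 3 (Subgroup.zpowers x) := by
    apply IsPGroup.of_card (n := 1)
    rw [Nat.card_zpowers, hx, pow_one]
  obtain ⟨P, hP⟩ := hxp.exists_le_sylow
  have hxP : x ∈ (P : Subgroup G) := hP (Subgroup.mem_zpowers x)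
  have hPcard : Nat.card (P : Subgroup G) = 3 ^ 2 :=
    Cfsg.Agent.S1017.sylow_card_eq P 2 640 (by rw [hG]; norm_num) (by norm_num)
  have hPcomm : ∀ a b : (P : Subgroup G), a * b = b * a :=
    (IsPGroup.isMulCommutative_of_card_eq_prime_sq hPcard).is_comm.comm
  have hPM : (P : Subgroup G) ≤ M := by
    rw [← hMC]
    intro y hy
    rw [Subgroup.mem_centralizer_iff]
    intro z hz
    rw [Set.mem_singleton_iff] at hz
    rw [hz]
    exact congrArg Subtype.val (hPcomm ⟨x, hxP⟩ ⟨y, hy⟩)
  letI : CommGroup (P : Subgroup G) :=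
    { (inferInstance : Group (P : Subgroup G)) with mul_comm := hPcomm }
  -- the key property
  have key : ∀ (k : ℕ) (g₀ : G), g₀⁻¹ * x ^ k * g₀ ∈ (P : Subgroup G) →
      g₀⁻¹ * x ^ k * g₀ = x ^ k := by
    intro k g₀ hk
    by_cases h1 : x ^ k = 1
    · rw [h1]
      group
    · have h3 : ¬ 3 ∣ k := by
        intro h
        apply h1
        rw [← hx] at h
        exact orderOf_dvd_iff_pow_eq_one.mp h
      have hmod : x ^ k = x ^ (k % 3) := by
        rw [← hx]
        exact (pow_mod_orderOf x k).symm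
      obtain ⟨j, hj⟩ : ∃ j : ℕ, (x ^ k) ^ j = x := by
        rcases (by omega : k % 3 = 1 ∨ k % 3 = 2) with h | h
        · exact ⟨1, by rw [pow_one, hmod, h, pow_one]⟩
        · refine ⟨2, ?_⟩
          rw [hmod, h, ← pow_mul]
          calc x ^ (2 * 2) = x ^ 3 * x := by rw [← pow_succ]
            _ = x := by rw [hx3, one_mul]
      have h4 : g₀⁻¹ * x * g₀ ∈ M := by
        have e : g₀⁻¹ * x * g₀ = (g₀⁻¹ * x ^ k * g₀) ^ j := by
          rw [h25_conj_pow, hj]
        rw [e]
        exact hPM (Subgroup.pow_mem _ hk j)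
      have h5 : g₀ ∈ M := hfx g₀ h4
      rw [← hMC, Subgroup.mem_centralizer_iff] at h5
      have h6 : x * g₀ = g₀ * x := h5 x rfl
      have h7 : Commute (x ^ k) g₀ := (show Commute x g₀ from h6).pow_left k
      calc g₀⁻¹ * x ^ k * g₀ = g₀⁻¹ * (x ^ k * g₀) := mul_assoc _ _ _
        _ = g₀⁻¹ * (g₀ * x ^ k) := by rw [h7.eq]
        _ = x ^ k := inv_mul_cancel_left _ _
  have htr := MonoidHom.transfer_eq_pow (MonoidHom.id (P : Subgroup G)) x key
  have hidx : (P : Subgroup G).index = 640 := by
    have := (P : Subgroup G).card_mul_index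
    rw [hPcard, hG] at this
    omega
  have hx640 : x ^ 640 = x := by
    calc x ^ 640 = (x ^ 3) ^ 213 * x := by rw [← pow_mul, ← pow_succ]
      _ = x := by rw [hx3, one_pow, one_mul]
  have hτx : MonoidHom.transfer (MonoidHom.id (P : Subgroup G)) x ≠ 1 := by
    rw [htr]
    intro h
    have h' := congrArg Subtype.val h
    simp only [MonoidHom.id_apply, hidx, hx640] at h'
    exact hx1 h'
  have hker : (MonoidHom.transfer (MonoidHom.id (P : Subgroup G))).ker = ⊥ := by
    rcases (MonoidHom.normal_ker (MonoidHom.transfer (MonoidHom.id (P : Subgroup G)))).eq_bot_or_eq_top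
      with h | h
    · exact h
    · exfalso
      apply hτx
      have : x ∈ (MonoidHom.transfer (MonoidHom.id (P : Subgroup G))).ker := h ▸ Subgroup.mem_top x
      exact this
  have hinj : Function.Injective (MonoidHom.transfer (MonoidHom.id (P : Subgroup G))) :=
    (MonoidHom.ker_eq_bot_iff _).mp hker
  have hle : Nat.card G ≤ Nat.card (P : Subgroup G) := Nat.card_le_card_of_injective _ hinj
  rw [hG, hPcard] at hle
  omega

end Sylow

end Cfsg.Agent.Helper25.N96
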