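import Mathlib

/-!
# O2520 server (row S0984), piece S3C: the uniform counting lemma

For `y` with `y ^ 3 = 1` and a finite set `S` of elements `s` with `s ^ 8 = 1` commuting with `y`:
`|G| * |S| ≤ |C(y)| * |{g : g ^ 16 is conjugate to y}|`.
-/

set_option autoImplicit false

namespace Cfsg.Agent.Helper25.O2520

open scoped Classical

universe u

theorem h25_pow16 {G : Type u} [Group G] (y s : G) (hy : y ^ 3 = 1) (hs : s ^ 8 = 1)
    (hc : s * y = y * s) : (s * y) ^ 16 = y := by
  have hcm : Commute s y := hc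
  rw [hcm.mul_pow]
  have h1 : s ^ 16 = 1 := by
    rw [show 16 = 8 * 2 from rfl, pow_mul, hs, one_pow]
  have h2 : y ^ 16 = y := by
    rw [show 16 = 3 * 5 + 1 from rfl, pow_succ, pow_mul, hy, one_pow, one_mul]
  rw [h1, h2, one_mul]

theorem h25_pow9 {G : Type u} [Group G] (y s : G) (hy : y ^ 3 = 1) (hs : s ^ 8 = 1)
    (hc : s * y = y * s) : (s * y) ^ 9 = s := by
  have hcm : Commute s y := hc
  rw [hcm.mul_pow]
  have h1 : s ^ 9 = s := by
    rw [show 9 = 8 + 1 from rfl, pow_succ, hs, one_mul]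
  have h2 : y ^ 9 = 1 := by
    rw [show 9 = 3 * 3 from rfl, pow_mul, hy, one_pow]
  rw [h1, h2, mul_one]

theorem h25_conj_pow {G : Type u} [Group G] (c g : G) (n : ℕ) :
    (c * g * c⁻¹) ^ n = c * g ^ n * c⁻¹ := by
  have := map_pow (MulAut.conj c) g n
  simp only [MulAut.conj_apply] at this
  exact this.symm

/-- the uniform counting lemma. -/
theorem h25_count {G : Type u} [Group G] [Finite G] (y : G) (hy : y ^ 3 = 1) (S : Finset G)
    (hS : ∀ s ∈ S, s ^ 8 = 1 ∧ s * y = y * s) :
    Nat.card G * S.card ≤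
      Nat.card (Subgroup.centralizer ({y} : Set G)) * Nat.card {g : G // IsConj (g ^ 16) y} := by
  have := Fintype.ofFinite G
  let f : G × G → G := fun p => p.1 * (p.2 * y) * p.1⁻¹
  let dom : Finset (G × G) := Finset.univ ×ˢ S
  have hdom : dom.card = Nat.card G * S.card := by
    rw [Finset.card_product, Finset.card_univ, Nat.card_eq_fintype_card]
  have himg : dom.image f ⊆ Finset.univ.filter (fun g : G => IsConj (g ^ 16) y) := by
    intro g hg
    obtain ⟨⟨c, s⟩, hcs, rfl⟩ := Finset.mem_image.1 hg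
    have hsS : s ∈ S := (Finset.mem_product.1 hcs).2
    obtain ⟨hs8, hsc⟩ := hS s hsS
    rw [Finset.mem_filter]
    refine ⟨Finset.mem_univ _, ?_⟩
    show IsConj ((c * (s * y) * c⁻¹) ^ 16) y
    rw [h25_conj_pow, h25_pow16 y s hy hs8 hsc, isConj_iff]
    exact ⟨c⁻¹, by group⟩
  have hcardB : (Finset.univ.filter (fun g : G => IsConj (g ^ 16) y)).card =
      Nat.card {g : G // IsConj (g ^ 16) y} := by
    rw [Nat.card_eq_fintype_card, Fintype.card_subtype]
  have hcardC : (Finset.univ.filter (fun d : G => d ∈ Subgroup.centralizer ({y} : Set G))).card =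
      Nat.card (Subgroup.centralizer ({y} : Set G)) := by
    rw [Nat.card_eq_fintype_card, Fintype.card_subtype]
  have hfib : ∀ a ∈ dom.image f,
      (dom.filter fun p => f p = a).card ≤ Nat.card (Subgroup.centralizer ({y} : Set G)) := by
    intro a ha
    obtain ⟨⟨c0, s0⟩, hcs0, rfl⟩ := Finset.mem_image.1 ha
    have hs0S : s0 ∈ S := (Finset.mem_product.1 hcs0).2
    obtain ⟨hs08, hs0c⟩ := hS s0 hs0S
    rw [← hcardC]
    apply Finset.card_le_card_of_injOn (fun p => c0⁻¹ * p.1)
    · intro p hp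
      obtain ⟨hpd, hpf⟩ := Finset.mem_filter.1 hp
      have hsS : p.2 ∈ S := (Finset.mem_product.1 hpd).2
      obtain ⟨hs8, hsc⟩ := hS p.2 hsS
      have h16 := congrArg (fun g => g ^ 16) hpf
      simp only [f] at h16
      rw [h25_conj_pow, h25_conj_pow, h25_pow16 y p.2 hy hs8 hsc,
        h25_pow16 y s0 hy hs08 hs0c] at h16
      simp only [Finset.coe_filter, Finset.mem_univ, true_and]
      show c0⁻¹ * p.1 ∈ Subgroup.centralizer ({y} : Set G)
      rw [Subgroup.mem_centralizer_iff]
      intro h hh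
      rw [Set.mem_singleton_iff] at hh
      subst hh
      -- p.1 * h * p.1⁻¹ = c0 * h * c0⁻¹
      calc h * (c0⁻¹ * p.1) = c0⁻¹ * (c0 * h * c0⁻¹) * p.1 := by group
        _ = c0⁻¹ * (p.1 * h * p.1⁻¹) * p.1 := by rw [h16]
        _ = c0⁻¹ * p.1 * h := by group
    · intro p hp q hq hpq
      have hp' := (Finset.mem_filter.1 (Finset.mem_coe.1 hp)).2
      have hq' := (Finset.mem_filter.1 (Finset.mem_coe.1 hq)).2
      have h1 : p.1 = q.1 := mul_left_cancel hpq
      have h2 : f p = f q := hp'.trans hq'.symm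
      simp only [f] at h2
      rw [h1] at h2
      have h3 : p.2 * y = q.2 * y := by
        have := mul_left_cancel (mul_right_cancel h2)
        exact this
      exact Prod.ext h1 (mul_right_cancel h3)
  have hmain := Finset.card_le_mul_card_image (f := f) dom _ hfib
  calc Nat.card G * S.card = dom.card := hdom.symm
    _ ≤ Nat.card (Subgroup.centralizer ({y} : Set G)) * (dom.image f).card := hmain
    _ ≤ Nat.card (Subgroup.centralizer ({y} : Set G)) *
          (Finset.univ.filter (fun g : G => IsConj (g ^ 16) y)).card :=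
        Nat.mul_le_mul_left _ (Finset.card_le_card himg)
    _ = _ := by rw [hcardB]

end Cfsg.Agent.Helper25.O2520
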