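import Mathlib
import Cfsg.Agent.Lib.Helper18.O3K0
import Cfsg.Agent.S0245
import Cfsg.Agent.S0246

/-!
# O3K (PSP) `concl_psp` (helper18 server, S2363)
-/

set_option autoImplicit false

namespace Cfsg.Agent.Helper25.O3K

open Cfsg Cfsg.Agent.Helper18.O3K

variable {p : ℕ}

theorem psp_sum (m : ℕ) : ∑ i ∈ Finset.range m, 2 * (i + 1) = m * (m + 1) := by
  induction m with
  | zero => simp
  | succ k ih =>
    rw [Finset.sum_range_succ, ih]
    ring

/- (PSP) -/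
theorem concl_psp (hp : p.Prime) (F : Type) [Field F] [Fintype F] [CharP F p] (m : ℕ) (hm : 2 ≤ m) :
    Concl p (PSp m F) := by
  obtain ⟨f, hf, hq⟩ := card_eq_pow hp F
  have hcard := Cfsg.Agent.S0245.result (F := F) (q := p ^ f) hq m
  have hcen := Cfsg.Agent.S0246.result (F := F) (q := p ^ f) hq m (by omega)
  have hquot := Subgroup.card_eq_card_quotient_mul_card_subgroup
    (Subgroup.center (Matrix.symplecticGroup (Fin m) F))
  have hp2 : 2 ≤ p ^ f := by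
    calc 2 ≤ p := hp.two_le
      _ = p ^ 1 := (pow_one p).symm
      _ ≤ p ^ f := Nat.pow_le_pow_right hp.pos hf
  have hd1 : 1 ≤ Nat.gcd 2 (p ^ f - 1) := Nat.gcd_pos_of_pos_left _ (by norm_num)
  refine concl_of_mul hp (Nat.gcd 2 (p ^ f - 1)) (f * m ^ 2)
    (∏ i ∈ Finset.range m, ((p ^ f) ^ (2 * (i + 1)) - 1)) ?_ ?_ ?_ ?_
  · show Nat.gcd 2 (p ^ f - 1) * Nat.card (PSp m F) = _
    rw [← hcen, mul_comm, ← hquot, hcard, ← pow_mul]
  · intro h
    have h1 : p ∣ p ^ f - 1 := dvd_trans h (Nat.gcd_dvd_right _ _)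
    have := not_dvd_pow_sub_one hp (q := p ^ f) rfl hf (e := 1) le_rfl
    rw [pow_one] at this
    exact this h1
  · exact not_dvd_prod_sub_one hp (q := p ^ f) rfl hf (fun i => 2 * (i + 1)) (fun i => by omega) m
  · have hlt := prod_sub_one_lt (q := p ^ f) (by omega) (fun i => 2 * (i + 1)) (m := m) (by omega)
    rw [psp_sum] at hlt
    have h3 : (∏ i ∈ Finset.range m, ((p ^ f) ^ (2 * (i + 1)) - 1)) ^ 3 <
        ((p ^ f) ^ (m * (m + 1))) ^ 3 := Nat.pow_lt_pow_left hlt (by norm_num)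
    have h4 : ((p ^ f) ^ (m * (m + 1))) ^ 3 ≤ p ^ (5 * (f * m ^ 2)) := by
      rw [← pow_mul, ← pow_mul]
      apply Nat.pow_le_pow_right hp.pos
      have h1 : m * (m + 1) * 3 ≤ 5 * m ^ 2 := by nlinarith
      calc f * (m * (m + 1) * 3) ≤ f * (5 * m ^ 2) := Nat.mul_le_mul_left f h1
        _ = 5 * (f * m ^ 2) := by ring
    have h5 : p ^ (5 * (f * m ^ 2)) ≤ Nat.gcd 2 (p ^ f - 1) ^ 3 * p ^ (5 * (f * m ^ 2)) :=
      Nat.le_mul_of_pos_left _ (pow_pos hd1 3)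
    exact lt_of_lt_of_le h3 (le_trans h4 h5)

end Cfsg.Agent.Helper25.O3K
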