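import Mathlib
import Cfsg.Agent.S1017
import Cfsg.Agent.Lib.Helper17.Simple
import Cfsg.Agent.Lib.Helper25.N5400Defs
import Cfsg.Agent.Lib.Helper25.N5400FIB
import Cfsg.Agent.Lib.Helper42.N5400SIX
import Cfsg.Agent.Lib.Helper42.N5400K36
import Cfsg.Agent.Lib.Helper63.N5400CNT
import Cfsg.Agent.Lib.Helper63.N5400NF
import Cfsg.Agent.Lib.Helper65.N5400FREE
import Cfsg.Agent.Lib.Helper74.N5400FIN
import Cfsg.Agent.Lib.Helper79.N5400ODD
import Cfsg.Agent.Lib.Helper86.N5400IDX
import Cfsg.Agent.Lib.Helper94.N5400PART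
import Cfsg.Agent.Lib.Helper42.N5400N5

/-!
# No simple group of order 5400 (for helper17's O6232 server, S0983): assembly of the N5400 pieces (helper25).
Pieces: N5 (helper42), IDX (helper86), K36 SIX (helper42), NF CNT (helper63), ODD (helper79), FREE (helper65), FIB (helper25),
PART (helper94), FIN (helper74).  Paper proof: helper79.
-/

set_option autoImplicit false

namespace Cfsg.Agent.Helper25.O6232

open Cfsg MulAction Cfsg.Agent.Helper25.N5400

universe u

/-- arithmetic of step (1) -/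
private theorem arith_one (k s idx : ℕ) (hk2 : 2 ≤ k) (hk35 : k ≤ 35) (hmod : k % 5 = 1) (h25 : 25 ∣ s)
    (h150 : s ∣ 150) (hmul : k * s * idx = 5400) (hidx : 10 ≤ idx) :
    k = 6 ∧ (s = 25 ∨ s = 50 ∨ s = 75) := by
  obtain ⟨t, rfl⟩ := h25
  have ht : t ∣ 6 := (Nat.mul_dvd_mul_iff_left (by norm_num : 0 < 25)).1 (h150 : 25 * t ∣ 25 * 6)
  have ht6 : t ≤ 6 := Nat.le_of_dvd (by norm_num) ht
  obtain ⟨j, rfl⟩ : ∃ j, k = 5 * j + 1 := ⟨k / 5, by omega⟩
  have hj : j ≤ 6 := by omega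
  interval_cases t <;> interval_cases j <;> omega

theorem no_5400 {G : Type u} [Group G] [Finite G] [IsSimpleGroup G] : Nat.card G ≠ 5400 := by
  intro hG
  obtain ⟨h36, hPdata⟩ := Cfsg.Agent.Helper42.N5400.n5_data hG
  have hP25 : ∀ Q : Sylow 5 G, Nat.card (Q : Subgroup G) = 25 := fun Q => (hPdata Q).1
  have hN150 : ∀ Q : Sylow 5 G,
      Nat.card (Subgroup.normalizer ((Q : Subgroup G) : Set G)) = 150 := fun Q => (hPdata Q).2
  have hNF : ∀ Q : Sylow 5 G, ∀ F : Subgroup G, Nat.card F = 5 →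
      ((Q : Subgroup G) ≤ Subgroup.normalizer (F : Set G) ↔ F ≤ (Q : Subgroup G)) :=
    fun Q F hF => Cfsg.Agent.Helper63.N5400.le_normalizer_iff Q (hP25 Q) F hF
  -- step (1)
  have key : ∀ (P : Sylow 5 G) (F : Subgroup G), Shared P F →
      Nat.card {Q : Sylow 5 G // F ≤ (Q : Subgroup G)} = 6 ∧
      Nat.card ↥(Subgroup.normalizer ((P : Subgroup G) : Set G) ⊓
        Subgroup.normalizer (F : Set G)) = 50 := by
    intro P F hS
    obtain ⟨hFP, hF5, R, hRP, hFR⟩ := hS
    obtain ⟨hcard, hmod⟩ := Cfsg.Agent.Helper63.N5400.card_normalizer_eq hNF P F hF5 hFP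
    have hPM : (P : Subgroup G) ≤ Subgroup.normalizer (F : Set G) := (hNF P F hF5).2 hFP
    -- 2 ≤ k
    have hk2 : 2 ≤ Nat.card {Q : Sylow 5 G // F ≤ (Q : Subgroup G)} := by
      have : Nontrivial {Q : Sylow 5 G // F ≤ (Q : Subgroup G)} :=
        ⟨⟨⟨P, hFP⟩, ⟨R, hFR⟩, fun h => hRP (congrArg Subtype.val h).symm⟩⟩
      exact Finite.one_lt_card_iff_nontrivial.2 this
    -- k ≤ 35
    have hk36 : Nat.card {Q : Sylow 5 G // F ≤ (Q : Subgroup G)} ≤ 36 := by
      rw [← h36]
      exact Nat.card_le_card_of_injective Subtype.val Subtype.val_injective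
    have hkne : Nat.card {Q : Sylow 5 G // F ≤ (Q : Subgroup G)} ≠ 36 := by
      intro h
      obtain ⟨Q₀, hQ₀⟩ := Cfsg.Agent.Helper42.N5400.exists_not_le hG hP25 F hF5
      have hbij : Function.Bijective (Subtype.val : {Q : Sylow 5 G // F ≤ (Q : Subgroup G)} → Sylow 5 G) :=
        Subtype.val_injective.bijective_of_nat_card_le (by rw [h, h36])
      obtain ⟨⟨Q, hQ⟩, rfl⟩ := hbij.2 Q₀
      exact hQ₀ hQ
    have hk35 : Nat.card {Q : Sylow 5 G // F ≤ (Q : Subgroup G)} ≤ 35 := by omega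
    -- 25 ∣ s ∣ 150
    have h25s : 25 ∣ Nat.card ↥(Subgroup.normalizer ((P : Subgroup G) : Set G) ⊓
        Subgroup.normalizer (F : Set G)) := by
      rw [← hP25 P]
      exact Subgroup.card_dvd_of_le (le_inf Subgroup.le_normalizer hPM)
    have hs150 : Nat.card ↥(Subgroup.normalizer ((P : Subgroup G) : Set G) ⊓
        Subgroup.normalizer (F : Set G)) ∣ 150 := by
      rw [← hN150 P]
      exact Subgroup.card_dvd_of_le inf_le_left
    -- index
    have hMtop : Subgroup.normalizer (F : Set G) ≠ ⊤ := by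
      intro h
      have hn : F.Normal := Subgroup.normalizer_eq_top_iff.1 h
      rcases hn.eq_bot_or_eq_top with h0 | h0
      · rw [h0] at hF5
        simp at hF5
      · rw [h0] at hF5
        rw [Subgroup.card_top, hG] at hF5
        omega
    have hidx := Cfsg.Agent.Helper86.N5400.index_ge_ten hG _ hMtop
    have hmul := (Subgroup.normalizer (F : Set G)).card_mul_index
    rw [hG, hcard] at hmul
    obtain ⟨hk6, hs⟩ := arith_one _ _ _ hk2 hk35 hmod h25s hs150 hmul hidx
    have h6' : Nat.card {Q : Sylow 5 G // (Q : Subgroup G) ≤ Subgroup.normalizer (F : Set G)} = 6 := by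
      rw [← hk6]
      exact Nat.card_congr (Equiv.subtypeEquivRight (fun Q => hNF Q F hF5))
    refine ⟨hk6, ?_⟩
    rcases hs with hs | hs | hs
    · exfalso
      refine Cfsg.Agent.Helper79.N5400.not_two_mul_odd hP25 (Subgroup.normalizer (F : Set G)) 75 ⟨37, by norm_num⟩ ?_ P hPM h6'
      rw [hcard, hk6, hs]
    · exact hs
    · exfalso
      refine Cfsg.Agent.Helper79.N5400.not_two_mul_odd hP25 (Subgroup.normalizer (F : Set G)) 225 ⟨112, by norm_num⟩ ?_ P hPM h6'
      rw [hcard, hk6, hs]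
  -- steps (2), (3)
  obtain ⟨P⟩ := (inferInstance : Nonempty (Sylow 5 G))
  have hfree := Cfsg.Agent.Helper65.N5400.free_orbits P (hP25 P)
  have hfib := Cfsg.Agent.Helper25.N5400.card_meeting hP25 P (fun F hS => (key P F hS).1)
  have hsix := Cfsg.Agent.Helper42.N5400.card_shared_le P (hP25 P)
  have hpart := Cfsg.Agent.Helper94.N5400.card_partition P (hP25 P)
  rw [h36, hfib] at hpart
  have hl : Nat.card {F : Subgroup G // Shared P F} = 2 := by
    obtain ⟨j, hj⟩ := hfree
    omega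
  exact Cfsg.Agent.Helper74.N5400.false_of_two P (hN150 P) hl (fun F hS => (key P F hS).2)

end Cfsg.Agent.Helper25.O6232
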