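import Mathlib
import Cfsg.Prelude.Def_Spor_Fi22
import Cfsg.Prelude.Def_Classical
import Cfsg.Agent.Lib.Helper84.O7Defs
import Cfsg.Agent.S0292

/-!
# O7F server (helper84, S1686): piece (FIN) `final_of_hom`
-/

set_option autoImplicit false

namespace Cfsg.Agent.Helper25.O7F

open Cfsg.Agent.Helper84.O7
open Cfsg.Spor.Fi22 (Gen)
open Matrix

/-- `|PΩ(7,3)| = 4585351680` -/
theorem card_POmega73 : Nat.card (Cfsg.POmega (ZMod 3) Q) = 4585351680 := by
  have h := Cfsg.Agent.S0292.result (F := ZMod 3) (q := 3) (ZMod.card 3) (by decide) 3 (le_refl 3)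
  have h2 : 3 ^ (3 ^ 2) * ∏ i ∈ Finset.range 3, (3 ^ (2 * (i + 1)) - 1) = 2 * 4585351680 := by
    simp [Finset.prod_range_succ]
  rw [h2] at h
  exact Nat.eq_of_mul_eq_mul_left (by norm_num) h

/-- (FIN) -/
theorem final_of_hom (hiso : Nonempty (A1G ≃* ↥K)) (hcard : Nat.card A1G = 4585351680)
    (hperf : commutator A1G = ⊤)
    (hcen : Nat.card (Subgroup.center (Cfsg.Omega (ZMod 3) Q)) = 1)
    (ψ : A1G →* ↥(Cfsg.isometryGroup (ZMod 3) Q)) (hψ : 4585351680 ≤ Nat.card ψ.range) :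
    Nonempty (↥K ≃* Cfsg.POmega (ZMod 3) Q) := by
  classical
  obtain ⟨e⟩ := hiso
  have : Finite A1G := Nat.finite_of_card_ne_zero (by rw [hcard]; norm_num)
  -- ψ is injective
  have hψinj : Function.Injective ψ := by
    have hsurj : Function.Surjective ψ.rangeRestrict := ψ.rangeRestrict_surjective
    have hbij := hsurj.bijective_of_nat_card_le (by rw [hcard]; exact hψ)
    intro x y hxy
    apply hbij.1
    exact Subtype.ext hxy
  -- ψ lands in Ω
  have hmem : ∀ a : A1G, ψ a ∈ Cfsg.Omega (ZMod 3) Q := by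
    intro a
    have ha : a ∈ commutator A1G := by rw [hperf]; exact Subgroup.mem_top a
    rw [commutator_def] at ha
    have h1 : ψ a ∈ Subgroup.map ψ ⁅(⊤ : Subgroup A1G), (⊤ : Subgroup A1G)⁆ :=
      Subgroup.mem_map_of_mem ψ ha
    rw [Subgroup.map_commutator] at h1
    exact Subgroup.commutator_mono le_top le_top h1
  let ψ₁ : A1G →* ↥(Cfsg.Omega (ZMod 3) Q) := ψ.codRestrict _ hmem
  have hψ₁inj : Function.Injective ψ₁ := by
    intro x y hxy
    apply hψinj
    have := congrArg (fun z : ↥(Cfsg.Omega (ZMod 3) Q) => (z : ↥(Cfsg.isometryGroup (ZMod 3) Q))) hxy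
    exact this
  have hbot : Subgroup.center (Cfsg.Omega (ZMod 3) Q) = ⊥ := Subgroup.card_eq_one.mp hcen
  let ψb : A1G →* Cfsg.POmega (ZMod 3) Q :=
    (QuotientGroup.mk' (Subgroup.center (Cfsg.Omega (ZMod 3) Q))).comp ψ₁
  have hψbinj : Function.Injective ψb := by
    rw [injective_iff_map_eq_one]
    intro a ha
    have h1 : ψ₁ a ∈ Subgroup.center (Cfsg.Omega (ZMod 3) Q) := by
      rw [← QuotientGroup.ker_mk' (Subgroup.center (Cfsg.Omega (ZMod 3) Q))]
      exact ha
    rw [hbot, Subgroup.mem_bot] at h1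
    exact (injective_iff_map_eq_one ψ₁).mp hψ₁inj a h1
  have hbij : Function.Bijective ψb :=
    hψbinj.bijective_of_nat_card_le (by rw [hcard, card_POmega73])
  exact ⟨e.symm.trans (MulEquiv.ofBijective ψb hbij)⟩

end Cfsg.Agent.Helper25.O7F
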