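import Mathlib
import Cfsg.Prelude.Def_LieExceptional

set_option autoImplicit false

/-!
REE lemma server (helper36, S1091/S1073), piece (BN) `bnpair_rank_one`, by helper25.
Statement verbatim from `tools/ree_sigs_helper36.lean.txt`.
-/

namespace Cfsg.Agent.Helper25.REE

open Cfsg

universe u

/-- (BN) a split BN-pair of rank one on `↥T` from `T = B ∪ B n0 B`. -/
theorem bnpair_rank_one {M : Type u} [Group M] (T B N H : Subgroup M) (hBT : B ≤ T) (hNT : N ≤ T)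
    (n0 : M) (hn0N : n0 ∈ N)
    (hBN : B ⊓ N = H) (hHnorm : ∀ n ∈ N, ∀ h ∈ H, n * h * n⁻¹ ∈ H) (hn0H : n0 ∉ H)
    (hN : ∀ n ∈ N, n ∈ H ∨ n0 * n ∈ H)
    (hG : ∀ g ∈ T, g ∈ B ∨ ∃ b ∈ B, ∃ b' ∈ B, g = b * n0 * b')
    (hne : ∃ b ∈ B, n0 * b * n0 ∉ B) :
    ∃ P : Cfsg.BNPair ↥T, P.B = B.subgroupOf T ∧ P.N = N.subgroupOf T ∧
      P.S = {(⟨n0, hNT hn0N⟩ : ↥T)} := by
  classical
  have hHB : H ≤ B := hBN ▸ inf_le_left
  have hHN : H ≤ N := hBN ▸ inf_le_right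
  have hHmem : ∀ x, x ∈ B → x ∈ N → x ∈ H := fun x hb hn => hBN ▸ (⟨hb, hn⟩ : x ∈ B ⊓ N)
  have hsq : n0 * n0 ∈ H := (hN n0 hn0N).resolve_left hn0H
  have hs0N : (⟨n0, hNT hn0N⟩ : ↥T) ∈ N.subgroupOf T := Subgroup.mem_subgroupOf.mpr hn0N
  refine ⟨{ B := B.subgroupOf T, N := N.subgroupOf T, S := {(⟨n0, hNT hn0N⟩ : ↥T)},
            sup_eq_top := ?_, conj_mem := ?_, subset := ?_, sq_mem := ?_, inj := ?_,
            closure_sup := ?_, mul_mem_union := ?_, conj_ne := ?_ }, rfl, rfl, rfl⟩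
  · -- sup_eq_top
    rw [eq_top_iff]
    intro g _
    rcases hG g g.2 with hgB | ⟨b, hb, b', hb', hg⟩
    · exact Subgroup.mem_sup_left (Subgroup.mem_subgroupOf.mpr hgB)
    · have : g = (⟨b, hBT hb⟩ : ↥T) * ⟨n0, hNT hn0N⟩ * ⟨b', hBT hb'⟩ := Subtype.ext hg
      rw [this]
      refine Subgroup.mul_mem _ (Subgroup.mul_mem _ ?_ ?_) ?_
      · exact Subgroup.mem_sup_left (Subgroup.mem_subgroupOf.mpr hb)
      · exact Subgroup.mem_sup_right hs0N
      · exact Subgroup.mem_sup_left (Subgroup.mem_subgroupOf.mpr hb')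
  · -- conj_mem
    intro n hn t ht
    rw [Subgroup.mem_subgroupOf] at hn ⊢
    have ht' : (t : M) ∈ H :=
      hHmem _ (Subgroup.mem_subgroupOf.mp ht.1) (Subgroup.mem_subgroupOf.mp ht.2)
    have h1 := hHB (hHnorm _ hn _ ht')
    simpa using h1
  · -- subset
    intro s hs
    rw [Set.mem_singleton_iff] at hs
    rw [hs]
    exact hs0N
  · -- sq_mem
    intro s hs
    rw [Set.mem_singleton_iff] at hs
    rw [hs, Subgroup.mem_subgroupOf]
    exact hHB hsq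
  · -- inj
    intro s hs s' hs' _
    rw [Set.mem_singleton_iff] at hs hs'
    rw [hs, hs']
  · -- closure_sup
    apply le_antisymm
    · refine sup_le ?_ inf_le_right
      rw [Subgroup.closure_le]
      intro s hs
      rw [Set.mem_singleton_iff] at hs
      rw [hs]
      exact hs0N
    · intro n hn
      have hn' : (n : M) ∈ N := Subgroup.mem_subgroupOf.mp hn
      rcases hN _ hn' with h | h
      · refine Subgroup.mem_sup_right ⟨?_, hn⟩
        exact Subgroup.mem_subgroupOf.mpr (hHB h)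
      · have hdec : n = (⟨n0, hNT hn0N⟩ : ↥T)⁻¹ * ((⟨n0, hNT hn0N⟩ : ↥T) * n) := by
          rw [inv_mul_cancel_left]
        rw [hdec]
        refine Subgroup.mul_mem _ ?_ ?_
        · exact Subgroup.mem_sup_left
            (Subgroup.inv_mem _ (Subgroup.subset_closure (Set.mem_singleton _)))
        · refine Subgroup.mem_sup_right ⟨?_, ?_⟩
          · exact Subgroup.mem_subgroupOf.mpr (hHB h)
          · exact Subgroup.mem_subgroupOf.mpr (hHN h)
  · -- mul_mem_union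
    intro s hs n hn b hb
    rw [Set.mem_singleton_iff] at hs
    rw [hs]
    have hn' : (n : M) ∈ N := Subgroup.mem_subgroupOf.mp hn
    have hb' : (b : M) ∈ B := Subgroup.mem_subgroupOf.mp hb
    rcases hN _ hn' with h | h
    · -- `n ∈ H`
      left
      rw [DoubleCoset.mem_doubleCoset]
      refine ⟨1, Subgroup.one_mem _, n⁻¹ * b * n, ?_, ?_⟩
      · have hnB : n ∈ B.subgroupOf T := Subgroup.mem_subgroupOf.mpr (hHB h)
        exact Subgroup.mul_mem _ (Subgroup.mul_mem _ (Subgroup.inv_mem _ hnB) hb) hnB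
      · group
    · -- `n0 * n ∈ H`
      have hhB : (⟨n0, hNT hn0N⟩ : ↥T) * n ∈ B.subgroupOf T :=
        Subgroup.mem_subgroupOf.mpr (hHB h)
      have hsqB : (⟨n0, hNT hn0N⟩ : ↥T) * ⟨n0, hNT hn0N⟩ ∈ B.subgroupOf T :=
        Subgroup.mem_subgroupOf.mpr (hHB hsq)
      set x : ↥T := (⟨n0, hNT hn0N⟩ : ↥T) * b * n with hx
      rcases hG x x.2 with hxB | ⟨b1, hb1, b2, hb2, hxe⟩
      · left
        rw [DoubleCoset.mem_doubleCoset]
        refine ⟨x * ((⟨n0, hNT hn0N⟩ : ↥T) * n)⁻¹, ?_, 1, Subgroup.one_mem _, ?_⟩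
        · exact Subgroup.mul_mem _ (Subgroup.mem_subgroupOf.mpr hxB) (Subgroup.inv_mem _ hhB)
        · group
      · right
        rw [DoubleCoset.mem_doubleCoset]
        have hxe' : x = (⟨b1, hBT hb1⟩ : ↥T) * ⟨n0, hNT hn0N⟩ * ⟨b2, hBT hb2⟩ := Subtype.ext hxe
        refine ⟨⟨b1, hBT hb1⟩, Subgroup.mem_subgroupOf.mpr hb1,
          ((⟨n0, hNT hn0N⟩ : ↥T) * n)⁻¹ * ((⟨n0, hNT hn0N⟩ : ↥T) * ⟨n0, hNT hn0N⟩) * ⟨b2, hBT hb2⟩,
          ?_, ?_⟩
        · exact Subgroup.mul_mem _ (Subgroup.mul_mem _ (Subgroup.inv_mem _ hhB) hsqB)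
            (Subgroup.mem_subgroupOf.mpr hb2)
        · rw [hxe']
          group
  · -- conj_ne
    intro s hs
    rw [Set.mem_singleton_iff] at hs
    rw [hs]
    obtain ⟨b, hb, hnb⟩ := hne
    intro heq
    have hmem : (⟨n0, hNT hn0N⟩ : ↥T) * ⟨b, hBT hb⟩ * ⟨n0, hNT hn0N⟩ ∈
        (fun b : ↥T => (⟨n0, hNT hn0N⟩ : ↥T) * b * ⟨n0, hNT hn0N⟩) ''
          ((B.subgroupOf T : Subgroup ↥T) : Set ↥T) :=
      ⟨⟨b, hBT hb⟩, Subgroup.mem_subgroupOf.mpr hb, rfl⟩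
    rw [heq] at hmem
    exact hnb (Subgroup.mem_subgroupOf.mp hmem)

end Cfsg.Agent.Helper25.REE
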