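import Mathlib
import Cfsg.Agent.Lib.Helper98.RT0

set_option autoImplicit false

/-!
RT lemma server (helper98, S2278), pieces (J1) `conj_lower` and (J2) `conj_diag`, by helper25
(with own copies of the values V1, V2, V4).  Statements verbatim from `tools/rt_sigs_helper98.lean.txt`.
-/

namespace Cfsg.Agent.Helper25.RT

open Matrix Cfsg.Agent.Helper93.RU Cfsg.Agent.Helper98.RT

variable {F : Type*} [Field F]

theorem h25_Ymat_det (n w : F) : (Ymat n w).det = 1 := by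
  show Matrix.det (Ymat n w : Matrix (Fin 3) (Fin 3) F) = 1
  rw [Matrix.det_fin_three]
  simp [Ymat]
  try ring

theorem h25_yEl_val (n w : F) : (yEl n w).1 = Ymat n w := by
  have h1 : yEl n w = ⟨Ymat n w, h25_Ymat_det n w⟩ := by
    unfold yEl
    exact dif_pos (h25_Ymat_det n w)
  rw [h1]

theorem h25_Smat_det (ζ ρ : F) (hζ : ζ ≠ 0) : (Smat ζ ρ).det = 1 := by
  show Matrix.det (Smat ζ ρ : Matrix (Fin 3) (Fin 3) F) = 1
  rw [Matrix.det_fin_three]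
  simp [Smat]
  field_simp

theorem h25_sEl_val (ζ ρ : F) (hζ : ζ ≠ 0) : (sEl ζ ρ).1 = Smat ζ ρ := by
  have h1 : sEl ζ ρ = ⟨Smat ζ ρ, h25_Smat_det ζ ρ hζ⟩ := by
    unfold sEl
    exact dif_pos (h25_Smat_det ζ ρ hζ)
  rw [h1]

theorem h25_Dmat_det (ζ : F) (hζ : ζ ≠ 0) : (Dmat ζ).det = 1 := by
  show Matrix.det (Dmat ζ : Matrix (Fin 3) (Fin 3) F) = 1
  rw [Matrix.det_fin_three]
  simp [Dmat]
  field_simp

theorem h25_dEl_val (ζ : F) (hζ : ζ ≠ 0) : (dEl ζ).1 = Dmat ζ := by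
  have h1 : dEl ζ = ⟨Dmat ζ, h25_Dmat_det ζ hζ⟩ := by
    unfold dEl
    exact dif_pos (h25_Dmat_det ζ hζ)
  rw [h1]

/-- the conjugating lower unitriangular matrix -/
def h25B (n w : F) : Matrix (Fin (0 + 3)) (Fin (0 + 3)) F :=
  !![1, 0, 0; 1, 1, 0; (3 - w) * w - n - 3 + (w - 1) ^ 2, w - 1, 1]

/-- the upper Jordan block -/
def h25J : Matrix (Fin (0 + 3)) (Fin (0 + 3)) F :=
  !![1, 1, 0; 0, 1, 1; 0, 0, 1]

theorem h25B_det (n w : F) : (h25B n w).det = 1 := by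
  show Matrix.det (h25B n w : Matrix (Fin 3) (Fin 3) F) = 1
  rw [Matrix.det_fin_three]
  simp [h25B]

theorem h25J_det : (h25J : Matrix (Fin (0 + 3)) (Fin (0 + 3)) F).det = 1 := by
  show Matrix.det (h25J : Matrix (Fin 3) (Fin 3) F) = 1
  rw [Matrix.det_fin_three]
  simp [h25J]

theorem h25_YB (n w : F) : Ymat n w * h25B n w = h25B n w * h25J := by
  ext i j
  fin_cases i <;> fin_cases j <;>
    simp [Ymat, h25B, h25J, Matrix.mul_apply, Fin.sum_univ_three] <;> ring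

/-- (J1) all `Ymat n w` are conjugate in `SL_3`. -/
theorem conj_lower (n w n' w' : F) : ∃ b : G3 F, b * yEl n w * b⁻¹ = yEl n' w' := by
  let BE : F → F → G3 F := fun n w => ⟨h25B n w, h25B_det n w⟩
  let JE : G3 F := ⟨h25J, h25J_det⟩
  have hY : ∀ n w : F, yEl n w = BE n w * JE * (BE n w)⁻¹ := by
    intro n w
    rw [eq_mul_inv_iff_mul_eq]
    apply Subtype.ext
    show (yEl n w * BE n w).1 = (BE n w * JE).1
    rw [Matrix.SpecialLinearGroup.coe_mul, Matrix.SpecialLinearGroup.coe_mul, h25_yEl_val]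
    exact h25_YB n w
  refine ⟨BE n' w' * (BE n w)⁻¹, ?_⟩
  rw [hY n w, hY n' w']
  group

/-- (J2) entrywise: `Dmat ζ * Ymat n' w' = Smat ζ ρ * Ymat n w * Dmat ζ`. -/
theorem conj_diag (ζ ρ n w n' w' : F) (hζ : ζ ≠ 0) (hw : w' * ζ ^ 2 = w) (hn : n' = ζ ^ 2 * n)
    (hT : 3 - w' = ρ + ζ * (3 - w))
    (hE : ((3 - w') * w' - n' - 3) * ζ = (3 - w) * w - n - 3) :
    dEl ζ * yEl n' w' * (dEl ζ)⁻¹ = sEl ζ ρ * yEl n w := by
  rw [mul_inv_eq_iff_eq_mul]
  apply Subtype.ext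
  show (dEl ζ * yEl n' w').1 = (sEl ζ ρ * yEl n w * dEl ζ).1
  rw [Matrix.SpecialLinearGroup.coe_mul, Matrix.SpecialLinearGroup.coe_mul,
    Matrix.SpecialLinearGroup.coe_mul, h25_yEl_val, h25_yEl_val, h25_dEl_val ζ hζ,
    h25_sEl_val ζ ρ hζ]
  subst hw hn
  ext i j
  fin_cases i <;> fin_cases j <;>
    simp [Ymat, Dmat, Smat, Matrix.mul_apply, Fin.sum_univ_three]
  all_goals
    first
    | exact hT
    | (rw [← hE]; field_simp)
    | ring1
    | field_simp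

end Cfsg.Agent.Helper25.RT
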