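import Mathlib
import Cfsg.Agent.Lib.Helper93.RU0

set_option autoImplicit false

/-!
RU lemma server (helper93, S2280), piece (B3) `uEl_regular`, by helper25 (with self-contained base facts:
`det (1 + v φᵀ)`, `tvS` value, `det (1 + N) = 1`, powers of `N`).
Statement verbatim from `tools/ru_sigs_helper93.lean.txt`.
-/

namespace Cfsg.Agent.Helper25.RU

open Matrix Cfsg.Agent.Helper93.RU

variable {F : Type*} [Field F] {m : ℕ}

theorem h25_tvM_det (v φ : Fin (m + 3) → F) : (tvM v φ).det = 1 + φ ⬝ᵥ v := by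
  unfold tvM
  rw [Matrix.vecMulVec_eq Unit, Matrix.det_one_add_replicateCol_mul_replicateRow]

theorem h25_tvS_val (v φ : Fin (m + 3) → F) (h : φ ⬝ᵥ v = 0) : (tvS v φ).1 = tvM v φ := by
  have hdet : (tvM v φ).det = 1 := by rw [h25_tvM_det, h, add_zero]
  have h1 : tvS v φ = ⟨tvM v φ, hdet⟩ := by
    unfold tvS
    exact dif_pos hdet
  rw [h1]

theorem h25_uEl_det : (1 + Nmat m F).det = 1 := by
  have htri : (1 + Nmat m F).BlockTriangular id := by
    intro i j hij
    have hij' : j.val < i.val := hij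
    have h1 : i ≠ j := fun h => by rw [h] at hij'; exact lt_irrefl _ hij'
    have h2 : ¬ (i.val + 1 = j.val) := by omega
    simp [Nmat, h1, h2]
  rw [Matrix.det_of_upperTriangular htri]
  apply Finset.prod_eq_one
  intro i _
  simp [Nmat]

theorem h25_uEl_val : (uEl m F).1 = 1 + Nmat m F := by
  have h1 : uEl m F = ⟨1 + Nmat m F, h25_uEl_det⟩ := by
    unfold uEl
    exact dif_pos h25_uEl_det
  rw [h1]

theorem h25_Npow (k : ℕ) (i j : Fin (m + 3)) :
    (Nmat m F ^ k) i j = if i.val + k = j.val then 1 else 0 := by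
  induction k generalizing i j with
  | zero => simp [Matrix.one_apply, Fin.ext_iff]
  | succ k ih =>
    rw [pow_succ, Matrix.mul_apply]
    by_cases h : i.val + (k + 1) = j.val
    · rw [if_pos h]
      have hlt : i.val + k < m + 3 := by have := j.isLt; omega
      rw [Finset.sum_eq_single (⟨i.val + k, hlt⟩ : Fin (m + 3))]
      · rw [ih]
        simp only [Nmat, Matrix.of_apply]
        have h3 : i.val + k + 1 = j.val := by omega
        simp [h3]
      · intro l _ hl
        rw [ih]
        have : ¬ (i.val + k = l.val) := fun h' => hl (Fin.ext h'.symm)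
        rw [if_neg this, zero_mul]
      · intro h'
        exact absurd (Finset.mem_univ _) h'
    · rw [if_neg h]
      apply Finset.sum_eq_zero
      intro l _
      rw [ih]
      by_cases h1 : i.val + k = l.val
      · have h2 : ¬ (l.val + 1 = j.val) := by omega
        simp only [Nmat, Matrix.of_apply]
        rw [if_neg h2, mul_zero]
      · rw [if_neg h1, zero_mul]

/-- (B3) `u - 1 = N`, `N^(m+3) = 0`, `N^(m+2) = E_{0,m+2} ≠ 0`. -/
theorem uEl_regular : IsNilpotent ((uEl m F).1 - 1) ∧ ((uEl m F).1 - 1) ^ (m + 2) ≠ 0 := by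
  have hN : (uEl m F).1 - 1 = Nmat m F := by rw [h25_uEl_val, add_sub_cancel_left]
  rw [hN]
  constructor
  · refine ⟨m + 3, ?_⟩
    ext i j
    rw [h25_Npow]
    have : ¬ (i.val + (m + 3) = j.val) := by have := j.isLt; omega
    rw [if_neg this]
    rfl
  · intro h0
    have h1 : (Nmat m F ^ (m + 2)) (0 : Fin (m + 3)) (⟨m + 2, by omega⟩ : Fin (m + 3)) = 1 := by
      rw [h25_Npow]
      rw [if_pos (by simp)]
    rw [h0] at h1
    simp at h1

end Cfsg.Agent.Helper25.RU
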