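import Mathlib
import Cfsg.Agent.Lib.Helper93.RU0
import Cfsg.Agent.Lib.Helper25.RUB3

set_option autoImplicit false

/-!
RU lemma server (helper93, S2280), piece (B4) `conj_upper`, by helper25.
Statement verbatim from `tools/ru_sigs_helper93.lean.txt`.
-/

namespace Cfsg.Agent.Helper25.RU

open Matrix Cfsg.Agent.Helper93.RU

variable {F : Type*} [Field F] {m : ℕ}

theorem h25_eV_dot (i j : Fin (m + 3)) (hij : i ≠ j) (a : F) :
    (a • (eV i : Fin (m + 3) → F)) ⬝ᵥ eV j = 0 := by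
  unfold eV
  rw [dotProduct_single_one]
  simp [hij.symm]

theorem h25_N_mulVec_e0 : Nmat m F *ᵥ (eV 0 : Fin (m + 3) → F) = 0 := by
  unfold eV
  rw [Matrix.mulVec_single_one]
  ext i
  simp [Nmat]

theorem h25_e1_vecMul_N :
    (eV (1 : Fin (m + 3)) : Fin (m + 3) → F) ᵥ* Nmat m F = eV (2 : Fin (m + 3)) := by
  unfold eV
  rw [Matrix.single_one_vecMul]
  ext j
  have h1 : ((1 : Fin (m + 3)) : ℕ) = 1 := Fin.val_one (m + 1)
  have h2 : ((2 : Fin (m + 3)) : ℕ) = 2 := Fin.val_two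
  simp only [Nmat, Matrix.row, Matrix.of_apply, Pi.single_apply, h1]
  by_cases h : j = 2
  · subst h
    rw [h2]
    simp
  · have : ¬ (1 + 1 = j.val) := by
      intro h'
      apply h
      apply Fin.ext
      rw [h2]
      omega
    simp [h, this]

/-- (B4) `x_{01}(a) u x_{01}(a)⁻¹ = u x_{02}(a)`. -/
theorem conj_upper (a : F) : t12 a * uEl m F * (t12 (m := m) a)⁻¹ = uEl m F * t13 a := by
  rw [mul_inv_eq_iff_eq_mul]
  apply Subtype.ext
  have h10 : (1 : Fin (m + 3)) ≠ 0 := by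
    intro h
    have := congrArg Fin.val h
    rw [Fin.val_zero] at this
    have h3 : ((1 : Fin (m + 3)) : ℕ) = 1 := Fin.val_one (m + 1)
    omega
  have h20 : (2 : Fin (m + 3)) ≠ 0 := by
    intro h
    have := congrArg Fin.val h
    rw [Fin.val_zero] at this
    have h3 : ((2 : Fin (m + 3)) : ℕ) = 2 := Fin.val_two
    omega
  have hv12 : (t12 (m := m) a).1 = 1 + vecMulVec (eV 0) (a • eV 1) :=
    h25_tvS_val _ _ (h25_eV_dot 1 0 h10 a)
  have hv13 : (t13 (m := m) a).1 = 1 + vecMulVec (eV 0) (a • eV 2) :=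
    h25_tvS_val _ _ (h25_eV_dot 2 0 h20 a)
  set V1 : Matrix (Fin (m + 3)) (Fin (m + 3)) F := vecMulVec (eV 0) (a • eV 1) with hV1
  set V2 : Matrix (Fin (m + 3)) (Fin (m + 3)) F := vecMulVec (eV 0) (a • eV 2) with hV2
  have hV1N : V1 * Nmat m F = V2 := by
    rw [hV1, hV2, Matrix.vecMulVec_mul, Matrix.smul_vecMul, h25_e1_vecMul_N]
  have hNV1 : Nmat m F * V1 = 0 := by
    rw [hV1, Matrix.mul_vecMulVec, h25_N_mulVec_e0, Matrix.zero_vecMulVec]
  have hNV2 : Nmat m F * V2 = 0 := by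
    rw [hV2, Matrix.mul_vecMulVec, h25_N_mulVec_e0, Matrix.zero_vecMulVec]
  have hV2V1 : V2 * V1 = 0 := by
    rw [hV1, hV2, Matrix.vecMulVec_mul_vecMulVec, h25_eV_dot 2 0 h20 a, zero_smul,
      Matrix.vecMulVec_zero]
  show (t12 a * uEl m F).1 = (uEl m F * t13 a * t12 a).1
  rw [Matrix.SpecialLinearGroup.coe_mul, Matrix.SpecialLinearGroup.coe_mul,
    Matrix.SpecialLinearGroup.coe_mul, hv12, hv13, h25_uEl_val]
  have e1 : (1 + V1) * (1 + Nmat m F) = 1 + Nmat m F + V1 + V2 := by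
    simp only [add_mul, mul_add, one_mul, mul_one, hV1N]
    abel
  have e2 : (1 + Nmat m F) * (1 + V2) * (1 + V1) = 1 + Nmat m F + V1 + V2 := by
    have : (1 + Nmat m F) * (1 + V2) = 1 + Nmat m F + V2 := by
      simp only [add_mul, mul_add, one_mul, mul_one, hNV2, add_zero]
      try abel
    rw [this]
    simp only [add_mul, mul_add, one_mul, mul_one, hNV1, hV2V1, add_zero]
    abel
  rw [e1, e2]

end Cfsg.Agent.Helper25.RU
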