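import Mathlib
import Cfsg.Agent.Lib.Helper76.RuZDefs

/-!
# RUZ server (helper76, S3174): piece (QUAD) `exists_small_index`

Pure: in `W / Z2` the subgroup `D / Z2` is central and elementary abelian; a complement `E / Z2` of `F / Z2` in it,
extended by a singular vector of the squaring form when `|D / Z2| = 32`, gives a subgroup `U` of index `≤ 16` in `W`
not containing `F`.  Everything is done with subgroups of `T` (no quotients): `ext E u` is `E ∪ E u`.
-/

set_option autoImplicit false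
set_option linter.unusedVariables false
set_option linter.unusedSectionVars false

namespace Cfsg.Agent.Helper25.RuZ

open Cfsg.Agent.Helper76.RuZ

variable {T : Type*} [Group T] [Finite T]

/-- `E ∪ E u` as a subgroup, when `u u ∈ E` and `u` normalizes `E`. -/
def ext (E : Subgroup T) (u : T) (hu2 : u * u ∈ E) (hn : ∀ e ∈ E, u * e * u⁻¹ ∈ E) : Subgroup T where
  carrier := {g | g ∈ E ∨ ∃ e ∈ E, g = e * u}
  one_mem' := Or.inl E.one_mem
  mul_mem' := by
    rintro a b (ha | ⟨e1, he1, rfl⟩) (hb | ⟨e2, he2, rfl⟩)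
    · exact Or.inl (E.mul_mem ha hb)
    · exact Or.inr ⟨a * e2, E.mul_mem ha he2, by group⟩
    · exact Or.inr ⟨e1 * (u * b * u⁻¹), E.mul_mem he1 (hn b hb), by group⟩
    · refine Or.inl ?_
      have : e1 * u * (e2 * u) = e1 * (u * e2 * u⁻¹) * (u * u) := by group
      rw [this]
      exact E.mul_mem (E.mul_mem he1 (hn e2 he2)) hu2
  inv_mem' := by
    rintro a (ha | ⟨e, he, rfl⟩)
    · exact Or.inl (E.inv_mem ha)
    · exact Or.inr ⟨(u * u)⁻¹ * (u * e⁻¹ * u⁻¹),
        E.mul_mem (E.inv_mem hu2) (hn _ (E.inv_mem he)), by group⟩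

section ext
variable {E : Subgroup T} {u : T} {hu2 : u * u ∈ E} {hn : ∀ e ∈ E, u * e * u⁻¹ ∈ E}

theorem mem_ext {g : T} : g ∈ ext E u hu2 hn ↔ g ∈ E ∨ ∃ e ∈ E, g = e * u := Iff.rfl

theorem le_ext : E ≤ ext E u hu2 hn := fun g hg => Or.inl hg

theorem self_mem_ext : u ∈ ext E u hu2 hn := Or.inr ⟨1, E.one_mem, by simp⟩

theorem ext_le {H : Subgroup T} (hE : E ≤ H) (hu : u ∈ H) : ext E u hu2 hn ≤ H := by
  rintro g (hg | ⟨e, he, rfl⟩)
  · exact hE hg
  · exact H.mul_mem (hE he) hu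

theorem card_ext_le : Nat.card (ext E u hu2 hn) ≤ 2 * Nat.card E := by
  have h1 : ((ext E u hu2 hn : Subgroup T) : Set T) = (E : Set T) ∪ (fun e => e * u) '' (E : Set T) := by
    ext g
    constructor
    · rintro (hg | ⟨e, he, rfl⟩)
      · exact Or.inl hg
      · exact Or.inr ⟨e, he, rfl⟩
    · rintro (hg | ⟨e, he, rfl⟩)
      · exact Or.inl hg
      · exact Or.inr ⟨e, he, rfl⟩
  have h2 : Nat.card (ext E u hu2 hn) = Set.ncard ((ext E u hu2 hn : Subgroup T) : Set T) :=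
    Nat.card_coe_set_eq _
  have h3 : Nat.card E = Set.ncard (E : Set T) := Nat.card_coe_set_eq _
  rw [h2, h1, h3]
  calc Set.ncard ((E : Set T) ∪ (fun e => e * u) '' (E : Set T))
      ≤ Set.ncard (E : Set T) + Set.ncard ((fun e => e * u) '' (E : Set T)) := Set.ncard_union_le _ _
    _ ≤ Set.ncard (E : Set T) + Set.ncard (E : Set T) :=
        Nat.add_le_add_left (Set.ncard_image_le (Set.toFinite _)) _
    _ = 2 * Set.ncard (E : Set T) := by ring

theorem two_mul_card_le_card_ext (hu : u ∉ E) : 2 * Nat.card E ≤ Nat.card (ext E u hu2 hn) := by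
  have hle : E ≤ ext E u hu2 hn := le_ext
  obtain ⟨k, hk⟩ := Subgroup.card_dvd_of_le hle
  have hne : ¬ Nat.card (ext E u hu2 hn) ≤ Nat.card E := by
    intro h
    have := Subgroup.eq_of_le_of_card_ge hle h
    apply hu
    rw [this]
    exact self_mem_ext
  have hpos : 0 < Nat.card E := Nat.card_pos
  rw [hk] at hne ⊢
  have hk2 : 2 ≤ k := by
    by_contra hlt
    push Not at hlt
    apply hne
    have : k ≤ 1 := by omega
    calc Nat.card E * k ≤ Nat.card E * 1 := Nat.mul_le_mul_left _ this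
      _ = Nat.card E := by ring
  calc 2 * Nat.card E = Nat.card E * 2 := by ring
    _ ≤ Nat.card E * k := Nat.mul_le_mul_left _ hk2

end ext

/-- `(x y)² = x² [x⁻¹, y] y²`; with `x², y² ∉ Z2` and `[x⁻¹, y] ∈ Z2` we get `(x y)² ∈ Z2`. -/
theorem sq_mul_mem {W F Z2 : Subgroup T} (hc : Cfg W F Z2) {x y : T} (hx : x ∈ W) (hy : y ∈ W)
    (hx2 : x * x ∉ Z2) (hy2 : y * y ∉ Z2) (hk : x⁻¹ * y * x * y⁻¹ ∈ Z2) : (x * y) * (x * y) ∈ Z2 := by
  have e : (x * y) * (x * y) = (x * x) * (x⁻¹ * y * x * y⁻¹) * (y * y) := by group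
  rw [e]
  have h1 : (x * x) * (x⁻¹ * y * x * y⁻¹) ∉ Z2 := by
    intro h
    apply hx2
    have : x * x = (x * x) * (x⁻¹ * y * x * y⁻¹) * (x⁻¹ * y * x * y⁻¹)⁻¹ := by group
    rw [this]
    exact Z2.mul_mem h (Z2.inv_mem hk)
  have h2 : (x * x) * (x⁻¹ * y * x * y⁻¹) ∈ F :=
    F.mul_mem (hc.sq x hx) (hc.ZF hk)
  exact hc.two _ h2 _ (hc.sq y hy) h1 hy2

/-- with `x², y², (x y)² ∉ Z2` the commutator `[x⁻¹, y] ∉ Z2`. -/
theorem comm_not_mem {W F Z2 : Subgroup T} (hc : Cfg W F Z2) {x y : T} (hx : x ∈ W) (hy : y ∈ W)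
    (hx2 : x * x ∉ Z2) (hy2 : y * y ∉ Z2) (hxy : (x * y) * (x * y) ∉ Z2) :
    x⁻¹ * y * x * y⁻¹ ∉ Z2 := fun hk => hxy (sq_mul_mem hc hx hy hx2 hy2 hk)

/-- (QUAD) -/
theorem exists_small_index (W F Z2 D : Subgroup T) (hc : Cfg W F Z2) (hFD : F ≤ D) (hDW : D ≤ W)
    (hcen : ∀ u ∈ D, ∀ a ∈ W, u * a * u⁻¹ * a⁻¹ ∈ Z2) (hsq : ∀ u ∈ D, u * u ∈ Z2)
    (hD : 16 * Nat.card F ≤ Nat.card D) (hW : Nat.card W = 2 ^ 8 * Nat.card F)
    (hFZ : Nat.card F = 2 * Nat.card Z2) :
    ∃ U : Subgroup T, U ≤ W ∧ ¬ F ≤ U ∧ Nat.card W ≤ 16 * Nat.card U := by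
  have hFpos : 0 < Nat.card F := Nat.card_pos
  -- an element of `F \ Z2`
  obtain ⟨f, hfF, hfZ⟩ : ∃ f ∈ F, f ∉ Z2 := by
    by_contra hcon
    push Not at hcon
    have hle : F ≤ Z2 := hcon
    have := Subgroup.card_le_of_le hle
    have hpos : 0 < Nat.card Z2 := Nat.card_pos
    omega
  -- `u e u⁻¹ e⁻¹ ∈ Z2` for `u ∈ W`, `e ∈ D`
  have hN1 : ∀ u ∈ W, ∀ e ∈ D, u * e * u⁻¹ * e⁻¹ ∈ Z2 := by
    intro u hu e he
    have h := Z2.inv_mem (hcen e he u hu)
    have e1 : (e * u * e⁻¹ * u⁻¹)⁻¹ = u * e * u⁻¹ * e⁻¹ := by group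
    rwa [e1] at h
  -- conjugation by `u ∈ W` preserves every `E` with `Z2 ≤ E ≤ D`
  have hnorm : ∀ E : Subgroup T, Z2 ≤ E → E ≤ D → ∀ u ∈ W, ∀ e ∈ E, u * e * u⁻¹ ∈ E := by
    intro E hZE hED u hu e he
    have e1 : u * e * u⁻¹ = (u * e * u⁻¹ * e⁻¹) * e := by group
    rw [e1]
    exact E.mul_mem (hZE (hN1 u hu e (hED he))) he
  -- conjugation by `u ∈ W` preserves every `H` with `F ≤ H ≤ W`
  have hnormF : ∀ H : Subgroup T, F ≤ H → H ≤ W → ∀ u ∈ W, ∀ h ∈ H, u * h * u⁻¹ ∈ H := by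
    intro H hFH hHW u hu h hh
    have e1 : u * h * u⁻¹ = (u * h * u⁻¹ * h⁻¹) * h := by group
    rw [e1]
    exact H.mul_mem (hFH (hc.comm u hu h (hHW hh))) hh
  -- Step A: a maximal `E` with `Z2 ≤ E ≤ D`, `f ∉ E`
  obtain ⟨E, ⟨hZE, hED, hfE⟩, hmax⟩ : ∃ E : Subgroup T, (Z2 ≤ E ∧ E ≤ D ∧ f ∉ E) ∧
      ∀ E' : Subgroup T, (Z2 ≤ E' ∧ E' ≤ D ∧ f ∉ E') → Nat.card E' ≤ Nat.card E := by
    have : Nonempty {E : Subgroup T // Z2 ≤ E ∧ E ≤ D ∧ f ∉ E} :=
      ⟨⟨Z2, le_refl _, hc.ZF.trans hFD, hfZ⟩⟩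
    obtain ⟨E, hE⟩ := Finite.exists_max
      (fun E : {E : Subgroup T // Z2 ≤ E ∧ E ≤ D ∧ f ∉ E} => Nat.card E.1)
    exact ⟨E.1, E.2, fun E' hE' => hE ⟨E', hE'⟩⟩
  have hEW : E ≤ W := hED.trans hDW
  have hEpos : 0 < Nat.card E := Nat.card_pos
  have hcardED : Nat.card D ≤ 2 * Nat.card E := by
    have hf2 : f * f ∈ E := by rw [hc.fsq f hfF]; exact E.one_mem
    have hfn : ∀ e ∈ E, f * e * f⁻¹ ∈ E := by
      intro e he
      have : f * e * f⁻¹ = e := by rw [hc.cen f hfF e (hEW he)]; group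
      rw [this]; exact he
    have hDle : D ≤ ext E f hf2 hfn := by
      intro x hx
      by_cases hxE : x ∈ E
      · exact Or.inl hxE
      · have hx2 : x * x ∈ E := hZE (hsq x hx)
        have hxn : ∀ e ∈ E, x * e * x⁻¹ ∈ E := hnorm E hZE hED x (hDW hx)
        have hfx : f ∈ ext E x hx2 hxn := by
          by_contra hfx
          have h1 := hmax (ext E x hx2 hxn) ⟨hZE.trans le_ext, ext_le hED hx, hfx⟩
          have h2 := two_mul_card_le_card_ext (hu2 := hx2) (hn := hxn) hxE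
          omega
        rcases hfx with hfx | ⟨e, he, hfe⟩
        · exact absurd hfx hfE
        · refine Or.inr ⟨e⁻¹, E.inv_mem he, ?_⟩
          rw [hfe]; group
    exact (Subgroup.card_le_of_le hDle).trans card_ext_le
  by_cases hbig : 32 * Nat.card F ≤ Nat.card D
  · -- Case 1: `U = E`
    refine ⟨E, hEW, fun h => hfE (h hfF), ?_⟩
    rw [hW]; omega
  · -- Case 2: find a singular `u ∈ W \ D`
    push Not at hbig
    obtain ⟨u, huW, huD, hu2⟩ : ∃ u ∈ W, u ∉ D ∧ u * u ∈ Z2 := by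
      by_contra hcon
      push Not at hcon
      -- `a`
      obtain ⟨a, haW, haD⟩ : ∃ a ∈ W, a ∉ D := by
        by_contra h
        push Not at h
        have hle : W ≤ D := h
        have := Subgroup.card_le_of_le hle
        omega
      have ha2 : a * a ∈ D := hFD (hc.sq a haW)
      have han : ∀ e ∈ D, a * e * a⁻¹ ∈ D := hnormF D hFD hDW a haW
      have hDaW : ext D a ha2 han ≤ W := ext_le hDW haW
      have hcDa : Nat.card (ext D a ha2 han) ≤ 2 * Nat.card D := card_ext_le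
      -- `b`
      obtain ⟨b, hbW, hbDa⟩ : ∃ b ∈ W, b ∉ ext D a ha2 han := by
        by_contra h
        push Not at h
        have hle : W ≤ ext D a ha2 han := h
        have := Subgroup.card_le_of_le hle
        omega
      have hFDa : F ≤ ext D a ha2 han := hFD.trans le_ext
      have hb2 : b * b ∈ ext D a ha2 han := hFDa (hc.sq b hbW)
      have hbn : ∀ e ∈ ext D a ha2 han, b * e * b⁻¹ ∈ ext D a ha2 han :=
        hnormF _ hFDa hDaW b hbW
      have hDabW : ext (ext D a ha2 han) b hb2 hbn ≤ W := ext_le hDaW hbW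
      have hcDab : Nat.card (ext (ext D a ha2 han) b hb2 hbn) ≤ 2 * Nat.card (ext D a ha2 han) :=
        card_ext_le
      -- `c`
      obtain ⟨c, hcW, hcDab'⟩ : ∃ c ∈ W, c ∉ ext (ext D a ha2 han) b hb2 hbn := by
        by_contra h
        push Not at h
        have hle : W ≤ ext (ext D a ha2 han) b hb2 hbn := h
        have := Subgroup.card_le_of_le hle
        omega
      -- abbreviations
      set Da := ext D a ha2 han with hDa
      set Dab := ext Da b hb2 hbn with hDab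
      have hDDa : D ≤ Da := le_ext
      have hDaDab : Da ≤ Dab := le_ext
      have haDa : a ∈ Da := self_mem_ext
      have hbDab : b ∈ Dab := self_mem_ext
      have hbD : b ∉ D := fun h => hbDa (hDDa h)
      have hcD : c ∉ D := fun h => hcDab' (hDaDab (hDDa h))
      have habD : a * b ∉ D := by
        intro h
        apply hbDa
        have : b = a⁻¹ * (a * b) := by group
        rw [this]
        exact Da.mul_mem (Da.inv_mem haDa) (hDDa h)
      have hacD : a * c ∉ D := by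
        intro h
        apply hcDab'
        have : c = a⁻¹ * (a * c) := by group
        rw [this]
        exact hDaDab (Da.mul_mem (Da.inv_mem haDa) (hDDa h))
      have hbcD : b * c ∉ D := by
        intro h
        apply hcDab'
        have : c = b⁻¹ * (b * c) := by group
        rw [this]
        exact Dab.mul_mem (Dab.inv_mem hbDab) (hDaDab (hDDa h))
      have habcD : a * b * c ∉ D := by
        intro h
        apply hcDab'
        have : c = (a * b)⁻¹ * (a * b * c) := by group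
        rw [this]
        exact Dab.mul_mem (Dab.inv_mem (Dab.mul_mem (hDaDab haDa) hbDab)) (hDaDab (hDDa h))
      have habW : a * b ∈ W := W.mul_mem haW hbW
      -- the squares
      have qa := hcon a haW haD
      have qb := hcon b hbW hbD
      have qc := hcon c hcW hcD
      have qab := hcon (a * b) habW habD
      have qac := hcon (a * c) (W.mul_mem haW hcW) hacD
      have qbc := hcon (b * c) (W.mul_mem hbW hcW) hbcD
      have qabc := hcon (a * b * c) (W.mul_mem habW hcW) habcD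
      have kac := comm_not_mem hc haW hcW qa qc qac
      have kbc := comm_not_mem hc hbW hcW qb qc qbc
      have kacF : a⁻¹ * c * a * c⁻¹ ∈ F := by
        have := hc.comm a⁻¹ (W.inv_mem haW) c hcW
        rwa [inv_inv] at this
      have kbcF : b⁻¹ * c * b * c⁻¹ ∈ F := by
        have := hc.comm b⁻¹ (W.inv_mem hbW) c hcW
        rwa [inv_inv] at this
      have hK : (a * b)⁻¹ * c * (a * b) * c⁻¹ ∈ Z2 := by
        have e1 : (a * b)⁻¹ * c * (a * b) * c⁻¹ =
            b⁻¹ * (a⁻¹ * c * a * c⁻¹) * b * (b⁻¹ * c * b * c⁻¹) := by group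
        have e2 : b⁻¹ * (a⁻¹ * c * a * c⁻¹) * b = a⁻¹ * c * a * c⁻¹ := by
          have := hc.cen _ kacF b⁻¹ (W.inv_mem hbW)
          rw [← this]; group
        rw [e1, e2]
        exact hc.two _ kacF _ kbcF kac kbc
      exact qabc (sq_mul_mem hc habW hcW qab qc hK)
    -- `U = E ∪ E u`
    have huE2 : u * u ∈ E := hZE hu2
    have hun : ∀ e ∈ E, u * e * u⁻¹ ∈ E := hnorm E hZE hED u huW
    have huE : u ∉ E := fun h => huD (hED h)
    refine ⟨ext E u huE2 hun, ext_le hEW huW, ?_, ?_⟩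
    · intro h
      rcases h hfF with hf | ⟨e, he, hfe⟩
      · exact hfE hf
      · apply huD
        have : u = e⁻¹ * f := by rw [hfe]; group
        rw [this]
        exact D.mul_mem (D.inv_mem (hED he)) (hFD hfF)
    · have h2 := two_mul_card_le_card_ext (hu2 := huE2) (hn := hun) huE
      rw [hW]; omega

end Cfsg.Agent.Helper25.RuZ
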