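import Mathlib
import Cfsg.Agent.Lib.Helper31.SCHDefs
import Cfsg.Agent.Lib.Helper55.Cores
import Cfsg.Agent.Lib.Helper63.PLen

/-!
# SCH server (helper31, S4394), piece (G3a): `P` is normal in every subgroup `G₁ ≥ P` of `p`-length `≤ 1`
(when `C_G(O_p(G)) ≤ O_p(G)`).
-/

set_option autoImplicit false
set_option linter.style.haveILetI false
set_option linter.unusedSectionVars false
set_option linter.unusedVariables false

namespace Cfsg.Agent.Helper25.SCH

open Cfsg Cfsg.Agent.Helper31.SCH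

section G
variable {G : Type*} [Group G] [Finite G] {p : ℕ} [Fact p.Prime]

/-- a normal `p'`-subgroup is trivial when a normal `p`-subgroup contains its own centraliser -/
theorem g3a_eq_bot (H₁ B : Subgroup G) [H₁.Normal] [B.Normal] (hH : IsPGroup p H₁)
    (hC : Subgroup.centralizer (H₁ : Set G) ≤ H₁) (hB : (Nat.card B).Coprime p) : B = ⊥ := by
  obtain ⟨k, hk⟩ := IsPGroup.iff_card.mp hH
  have hcop : (Nat.card B).Coprime (Nat.card H₁) := by
    rw [hk]
    exact Nat.Coprime.pow_right k hB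
  have hinf : B ⊓ H₁ = ⊥ := (Subgroup.disjoint_of_coprime_natCard hcop).eq_bot
  rw [eq_bot_iff]
  intro b hb
  have hbc : b ∈ Subgroup.centralizer (H₁ : Set G) := by
    rw [Subgroup.mem_centralizer_iff]
    intro h hh
    have h1 : b * h * b⁻¹ * h⁻¹ ∈ B ⊓ H₁ := by
      refine Subgroup.mem_inf.mpr ⟨?_, ?_⟩
      · have : h * b⁻¹ * h⁻¹ ∈ B :=
          (inferInstance : B.Normal).conj_mem _ (B.inv_mem hb) h
        have h2 := B.mul_mem hb this
        simpa [mul_assoc] using h2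
      · have : b * h * b⁻¹ ∈ H₁ := (inferInstance : H₁.Normal).conj_mem _ hh b
        exact H₁.mul_mem this (H₁.inv_mem hh)
    rw [hinf, Subgroup.mem_bot] at h1
    have h2 : b * h * b⁻¹ = h := mul_inv_eq_one.mp h1
    have h3 : b * h = h * b := mul_inv_eq_iff_eq_mul.mp h2
    exact h3.symm
  have : b ∈ B ⊓ H₁ := Subgroup.mem_inf.mpr ⟨hb, hC hbc⟩
  rw [hinf] at this
  exact this

/-- a normal `p`-subgroup of index prime to `p` contains every `p`-subgroup -/
theorem g3a_le_of_normal (C Q : Subgroup G) [C.Normal] (hCp : IsPGroup p C)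
    (hidx : C.index.Coprime p) (hQ : IsPGroup p Q) : Q ≤ C := by
  have hp : p.Prime := Fact.out
  have hnd : ¬ p ∣ C.index := by
    intro h
    have := Nat.Coprime.eq_one_of_dvd hidx.symm h
    exact hp.one_lt.ne' this
  let S : Sylow p G := hCp.toSylow hnd
  have hS : (S : Subgroup G) = C := rfl
  have hSn : (S : Subgroup G).Normal := by rw [hS]; infer_instance
  letI : Unique (Sylow p G) := Sylow.unique_of_normal S hSn
  obtain ⟨T, hT⟩ := hQ.exists_le_sylow
  have : T = S := Subsingleton.elim _ _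
  rw [this, hS] at hT
  exact hT

/-- (G3a) -/
theorem normal_in_sub (hC : Subgroup.centralizer (pCore p G : Set G) ≤ pCore p G) (P : Sylow p G)
    (G₁ : Subgroup G) (hle : (P : Subgroup G) ≤ G₁) (hpl : PLengthLE p 1 ↥G₁) :
    ∀ g ∈ G₁, ∀ x ∈ (P : Subgroup G), g * x * g⁻¹ ∈ (P : Subgroup G) := by
  have hp : p.Prime := Fact.out
  have hHP : pCore p G ≤ (P : Subgroup G) := Cfsg.Agent.Helper55.pCore_le_sylow P
  have hHG : pCore p G ≤ G₁ := hHP.trans hle
  have hPL := Cfsg.Agent.Helper63.PL_of_PLengthLE p hpl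
  -- unfold the chain
  obtain ⟨B, C, hBn, hCn, hBC, hBcop, ⟨m, hm⟩, hCidx⟩ :
      ∃ B C : Subgroup ↥G₁, B.Normal ∧ C.Normal ∧ B ≤ C ∧ (Nat.card B).Coprime p ∧
        (∃ m : ℕ, B.relIndex C = p ^ m) ∧ C.index.Coprime p := by
    cases hPL with
    | step k A B C D h0 hBC hCD hCn hDn hpow hc =>
      cases h0 with
      | base A B' hAB hA hBn hc0 =>
        refine ⟨B, C, hBn, hCn, hBC, ?_, hpow, ?_⟩
        · rwa [Subgroup.relIndex_bot_left] at hc0
        · rwa [Subgroup.relIndex_top_right] at hc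
  -- `B = ⊥`
  haveI : ((pCore p G).subgroupOf G₁).Normal := inferInstance
  have hH1p : IsPGroup p ((pCore p G).subgroupOf G₁) :=
    (Cfsg.Agent.Helper55.isPGroup_pCore (G := G) (p := p)).comap_subtype
  have hH1c : Subgroup.centralizer (((pCore p G).subgroupOf G₁ : Subgroup ↥G₁) : Set ↥G₁) ≤
      (pCore p G).subgroupOf G₁ := by
    intro γ hγ
    rw [Subgroup.mem_subgroupOf]
    apply hC
    rw [Subgroup.mem_centralizer_iff] at hγ ⊢
    intro h hh
    have h1 := hγ ⟨h, hHG hh⟩ (by rw [SetLike.mem_coe, Subgroup.mem_subgroupOf]; exact hh)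
    exact congrArg Subtype.val h1
  have hB : B = ⊥ := g3a_eq_bot _ B hH1p hH1c hBcop
  -- `C` is a normal `p`-subgroup of `p'`-index
  have hCp : IsPGroup p C := by
    apply IsPGroup.of_card (n := m)
    rw [← hm, hB, Subgroup.relIndex_bot_left]
  have hPle : (P : Subgroup G).subgroupOf G₁ ≤ C :=
    g3a_le_of_normal C _ hCp hCidx P.isPGroup'.comap_subtype
  have hCP : C.map G₁.subtype = (P : Subgroup G) := by
    apply P.is_maximal' (hCp.map _)
    intro x hx
    exact Subgroup.mem_map.mpr ⟨⟨x, hle hx⟩, hPle (by rw [Subgroup.mem_subgroupOf]; exact hx), rfl⟩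
  intro g hg x hx
  have hxC : (⟨x, hle hx⟩ : ↥G₁) ∈ C := hPle (by rw [Subgroup.mem_subgroupOf]; exact hx)
  have h1 : (⟨g, hg⟩ : ↥G₁) * ⟨x, hle hx⟩ * (⟨g, hg⟩ : ↥G₁)⁻¹ ∈ C := hCn.conj_mem _ hxC _
  rw [← hCP]
  exact Subgroup.mem_map.mpr ⟨_, h1, rfl⟩

end G

end Cfsg.Agent.Helper25.SCH
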