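import Mathlib
import Cfsg.Agent.Lib.Helper31.SCHDefs
import Cfsg.Agent.Lib.Helper55.Cores
import Cfsg.Agent.Lib.Helper76.PSolvable
import Cfsg.Agent.Lib.Helper10.PSolvDual
import Cfsg.Agent.Lib.Helper48.CoprimeGen

/-!
# SCH server (helper31, S4394), piece (G3b2): `|P : O_p(G)| = p` from generation by centralisers.
-/

set_option autoImplicit false
set_option linter.unusedSectionVars false
set_option linter.unusedVariables false

namespace Cfsg.Agent.Helper25.SCH

open Cfsg Cfsg.Agent.Helper31.SCH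

section G
variable {G : Type*} [Group G] [Finite G] {p : ℕ} [Fact p.Prime]

omit [Finite G] in
/-- `O_p(G / O_p(G)) = 1` (copy of `Cfsg.Agent.Helper31.HHB.pCore_quot_pCore_eq_bot`, light imports). -/
theorem g3b2_pCore_quot_eq_bot (p : ℕ) [Fact p.Prime] : pCore p (G ⧸ pCore p G) = ⊥ := by
  have hNn : ((pCore p (G ⧸ pCore p G)).comap (QuotientGroup.mk' (pCore p G))).Normal :=
    inferInstance
  have hNp : IsPGroup p ((pCore p (G ⧸ pCore p G)).comap (QuotientGroup.mk' (pCore p G))) := by
    intro x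
    have hx : QuotientGroup.mk' (pCore p G) (x : G) ∈ pCore p (G ⧸ pCore p G) := x.2
    obtain ⟨k, hk⟩ := (Cfsg.Agent.Helper55.isPGroup_pCore (G := G ⧸ pCore p G) (p := p)) ⟨_, hx⟩
    have hk' : (QuotientGroup.mk' (pCore p G) (x : G)) ^ (p ^ k) = 1 := by
      have := congrArg Subtype.val hk
      simpa using this
    rw [← map_pow, QuotientGroup.mk'_apply, QuotientGroup.eq_one_iff] at hk'
    obtain ⟨j, hj⟩ := (Cfsg.Agent.Helper55.isPGroup_pCore (G := G) (p := p)) ⟨_, hk'⟩
    have hj' : ((x : G) ^ (p ^ k)) ^ (p ^ j) = 1 := by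
      have := congrArg Subtype.val hj
      simpa using this
    refine ⟨k + j, ?_⟩
    apply Subtype.ext
    rw [Subgroup.coe_pow, pow_add, pow_mul, hj']
    rfl
  have hle := Cfsg.Agent.Helper55.le_pCore hNn hNp
  rw [eq_bot_iff]
  intro q hq
  obtain ⟨g, rfl⟩ := QuotientGroup.mk_surjective q
  have hg : g ∈ (pCore p (G ⧸ pCore p G)).comap (QuotientGroup.mk' (pCore p G)) := hq
  rw [Subgroup.mem_bot]
  exact (QuotientGroup.eq_one_iff g).mpr (hle hg)

omit [Finite G] [Fact p.Prime] in
/-- `|P.map π| = |P : ker π ⊓ P|` for `π = mk' H`. -/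
theorem g3b2_card_map (H : Subgroup G) [H.Normal] (P : Subgroup G) :
    Nat.card (P.map (QuotientGroup.mk' H)) = H.relIndex P := by
  have h1 : ((QuotientGroup.mk' H).comp P.subtype).range = P.map (QuotientGroup.mk' H) := by
    rw [MonoidHom.range_comp, Subgroup.range_subtype]
  have h2 : ((QuotientGroup.mk' H).comp P.subtype).ker = H.subgroupOf P := by
    rw [← MonoidHom.comap_ker, QuotientGroup.ker_mk']
    rfl
  have h3 := Subgroup.index_ker ((QuotientGroup.mk' H).comp P.subtype)
  rw [h2, h1] at h3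
  exact h3.symm

/-- (G3b2) -/
theorem index_eq_p (hsol : IsPSolvable p G) (P : Sylow p G)
    (hPne : (P : Subgroup G) ≠ pCore p G)
    (hPab : ∀ x ∈ (P : Subgroup G), ∀ y ∈ (P : Subgroup G), cmt x y ∈ pCore p G)
    (hPexp : ∀ x ∈ (P : Subgroup G), x ^ p ∈ pCore p G)
    (hdag : ∀ U : Subgroup G, pCore p G ≤ U → U ≤ Kc p G → U ≠ Kc p G →
      (∀ x ∈ (P : Subgroup G), ∀ u ∈ U, x * u * x⁻¹ ∈ U) →
      ∀ u ∈ U, ∀ x ∈ (P : Subgroup G), cmt u x ∈ pCore p G) :
    (pCore p G).relIndex (P : Subgroup G) = p := by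
  have hp : p.Prime := Fact.out
  have hHP : pCore p G ≤ (P : Subgroup G) := Cfsg.Agent.Helper55.pCore_le_sylow P
  -- commuting images
  have hcomm_of : ∀ u x : G, cmt u x ∈ pCore p G →
      QuotientGroup.mk' (pCore p G) u * QuotientGroup.mk' (pCore p G) x =
        QuotientGroup.mk' (pCore p G) x * QuotientGroup.mk' (pCore p G) u := by
    intro u x h
    have h1 : QuotientGroup.mk' (pCore p G) (cmt u x) = 1 := by
      rw [QuotientGroup.mk'_apply, QuotientGroup.eq_one_iff]
      exact h
    unfold cmt at h1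
    rw [map_mul, map_mul, map_mul, map_inv, map_inv] at h1
    have h2 := mul_inv_eq_one.mp h1
    have h3 := mul_inv_eq_iff_eq_mul.mp h2
    exact h3
  set Pb : Subgroup (G ⧸ pCore p G) := (P : Subgroup G).map (QuotientGroup.mk' (pCore p G))
    with hPb
  have hcard : Nat.card Pb = (pCore p G).relIndex (P : Subgroup G) := g3b2_card_map _ _
  have hcomm : ∀ a ∈ Pb, ∀ b ∈ Pb, a * b = b * a := by
    intro a ha b hb
    obtain ⟨x, hx, rfl⟩ := Subgroup.mem_map.mp ha
    obtain ⟨y, hy, rfl⟩ := Subgroup.mem_map.mp hb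
    exact hcomm_of x y (hPab x hx y hy)
  have hexp : ∀ a ∈ Pb, a ^ p = 1 := by
    intro a ha
    obtain ⟨x, hx, rfl⟩ := Subgroup.mem_map.mp ha
    rw [← map_pow, QuotientGroup.mk'_apply, QuotientGroup.eq_one_iff]
    exact hPexp x hx
  have hPbne : Pb ≠ ⊥ := by
    intro h
    apply hPne
    apply le_antisymm _ hHP
    intro x hx
    have h1 : QuotientGroup.mk' (pCore p G) x ∈ Pb := Subgroup.mem_map_of_mem _ hx
    rw [h, Subgroup.mem_bot, QuotientGroup.mk'_apply, QuotientGroup.eq_one_iff] at h1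
    exact h1
  have hPbp : IsPGroup p Pb := P.isPGroup'.map _
  obtain ⟨k, hk⟩ := IsPGroup.iff_card.mp hPbp
  rw [← hcard, hk]
  -- `k = 1`
  have hk0 : k ≠ 0 := by
    intro h0
    rw [h0, pow_zero] at hk
    exact hPbne (Subgroup.card_eq_one.mp hk)
  by_cases hk1 : k = 1
  · rw [hk1, pow_one]
  exfalso
  have hk2 : 2 ≤ k := by omega
  have hcard2 : p ^ 2 ≤ Nat.card Pb := by
    rw [hk]
    exact Nat.pow_le_pow_right hp.pos hk2
  -- the quotient
  have hsolb : IsPSolvable p (G ⧸ pCore p G) :=
    Cfsg.Agent.Helper76.IsPSolvable.quotient hsol (pCore p G)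
  have hcoreb : pCore p (G ⧸ pCore p G) = ⊥ := g3b2_pCore_quot_eq_bot p
  have hcent := Cfsg.Agent.Helper10.centralizer_pPrimeCore_le_of_isPSolvable hsolb hcoreb
  have hKcop : (Nat.card (pPrimeCore p (G ⧸ pCore p G))).Coprime p :=
    Cfsg.Agent.Helper55.pPrimeCore_coprime p
  set Kb : Subgroup (G ⧸ pCore p G) := pPrimeCore p (G ⧸ pCore p G) with hKb
  have hKbn : Kb.Normal := inferInstance
  have hKle : Kb ≤ Subgroup.centralizer (Pb : Set (G ⧸ pCore p G)) := by
    apply Cfsg.Agent.Helper48.le_of_forall_inf_centralizer_le Pb Kb _ hcomm hexp hcard2 _ hKcop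
    · -- the main point
      intro c hc hc1
      set Ub : Subgroup (G ⧸ pCore p G) :=
        Kb ⊓ Subgroup.centralizer ({c} : Set (G ⧸ pCore p G)) with hUb
      have hHU : pCore p G ≤ Ub.comap (QuotientGroup.mk' (pCore p G)) := by
        intro h hh
        rw [Subgroup.mem_comap]
        have : QuotientGroup.mk' (pCore p G) h = 1 := by
          rw [QuotientGroup.mk'_apply, QuotientGroup.eq_one_iff]
          exact hh
        rw [this]
        exact Subgroup.one_mem _
      have hUK : Ub.comap (QuotientGroup.mk' (pCore p G)) ≤ Kc p G := by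
        unfold Kc
        exact Subgroup.comap_mono inf_le_left
      have hUne : Ub.comap (QuotientGroup.mk' (pCore p G)) ≠ Kc p G := by
        intro h
        unfold Kc at h
        have h1 : Ub = Kb :=
          Subgroup.comap_injective (QuotientGroup.mk'_surjective (pCore p G)) h
        have h2 : c ∈ Subgroup.centralizer (Kb : Set (G ⧸ pCore p G)) := by
          rw [Subgroup.mem_centralizer_iff]
          intro k hk'
          have h3 : k ∈ Ub := by rw [h1]; exact hk'
          have h4 := (Subgroup.mem_inf.mp h3).2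
          rw [Subgroup.mem_centralizer_iff] at h4
          exact (h4 c rfl).symm
        have h5 : c ∈ Kb := hcent h2
        apply hc1
        apply Cfsg.Agent.Helper10.eq_one_of_pow_prime_pow_eq_one_of_coprime hKcop h5 (m := 1)
        rw [pow_one]
        exact hexp c hc
      have hPU : ∀ x ∈ (P : Subgroup G), ∀ u ∈ Ub.comap (QuotientGroup.mk' (pCore p G)),
          x * u * x⁻¹ ∈ Ub.comap (QuotientGroup.mk' (pCore p G)) := by
        intro x hx u hu
        rw [Subgroup.mem_comap] at hu ⊢
        rw [map_mul, map_mul, map_inv]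
        have hxb : QuotientGroup.mk' (pCore p G) x ∈ Pb := Subgroup.mem_map_of_mem _ hx
        obtain ⟨hu1, hu2⟩ := Subgroup.mem_inf.mp hu
        refine Subgroup.mem_inf.mpr ⟨hKbn.conj_mem _ hu1 _, ?_⟩
        rw [Subgroup.mem_centralizer_iff] at hu2 ⊢
        intro d hd
        rw [Set.mem_singleton_iff] at hd
        subst hd
        have c1 : Commute d (QuotientGroup.mk' (pCore p G) x) := hcomm d hc _ hxb
        have c2 : Commute d (QuotientGroup.mk' (pCore p G) u) := hu2 d rfl
        exact ((c1.mul_right c2).mul_right c1.inv_right).eq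
      have hcm := hdag _ hHU hUK hUne hPU
      intro ub hub
      obtain ⟨u, rfl⟩ := QuotientGroup.mk'_surjective (pCore p G) ub
      rw [Subgroup.mem_centralizer_iff]
      intro b hb
      obtain ⟨x, hx, rfl⟩ := Subgroup.mem_map.mp hb
      exact (hcomm_of u x (hcm u hub x hx)).symm
    · -- `Pb` normalises `Kb`
      intro a _
      rw [Subgroup.mem_normalizer_iff]
      intro k
      constructor
      · intro hk'
        exact hKbn.conj_mem k hk' a
      · intro hk'
        have := hKbn.conj_mem _ hk' a⁻¹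
        simpa [mul_assoc] using this
  -- `Pb ≤ C(Kb) ≤ Kb`
  have hPK : Pb ≤ Kb := by
    intro a ha
    apply hcent
    rw [Subgroup.mem_centralizer_iff]
    intro k hk'
    have h1 := hKle hk'
    rw [Subgroup.mem_centralizer_iff] at h1
    exact (h1 a ha).symm
  apply hPbne
  rw [eq_bot_iff]
  intro a ha
  rw [Subgroup.mem_bot]
  apply Cfsg.Agent.Helper10.eq_one_of_pow_prime_pow_eq_one_of_coprime hKcop (hPK ha) (m := 1)
  rw [pow_one]
  exact hexp a ha

end G

end Cfsg.Agent.Helper25.SCH
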