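import Mathlib
import Cfsg.Agent.Lib.Helper62.SLN0
import Cfsg.Agent.Lib.Helper78.SLN_G11

/-!
# SLN (G13) `tvEl_comm_fix_vec_three` (helper62 server, S2332): torus commutator, basis-free
-/

set_option autoImplicit false

namespace Cfsg.Agent.Helper25.SLN

open Matrix Module Cfsg.Agent.Helper93.U2 Cfsg.Agent.Helper62.SLN

section GRP

variable {F : Type*} [Field F] {κ : Type} [Fintype κ] [DecidableEq κ]

/-- the matrix identity behind the torus commutator -/
theorem g13_mat (e s z : κ → F) (a b c : F) (hee : e ⬝ᵥ e = 1) (hse : s ⬝ᵥ e = 0)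
    (hez : e ⬝ᵥ z = 0) (h : c * a = (1 + c) * (1 + b * (s ⬝ᵥ z))) :
    ((1 + vecMulVec e ((a - 1) • e)) * (1 + vecMulVec z (b • s))) * (1 + vecMulVec e (c • s))
      = (1 + vecMulVec e s) * ((1 + vecMulVec e (c • s)) *
          ((1 + vecMulVec e ((a - 1) • e)) * (1 + vecMulVec z (b • s)))) := by
  simp only [Matrix.vecMulVec_smul, Matrix.add_mul, Matrix.mul_add, Matrix.one_mul, Matrix.mul_one,
    Matrix.smul_mul, Matrix.mul_smul,
    Matrix.vecMulVec_mul_vecMulVec, hee, hse, hez, zero_smul, one_smul, smul_zero,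
    Matrix.vecMulVec_zero, add_zero]
  have h1 : 1 + (a - 1) • vecMulVec e e + b • vecMulVec z s +
      c • (vecMulVec e s + (a - 1) • vecMulVec e s) =
      1 + (a - 1) • vecMulVec e e + b • vecMulVec z s + (c * a) • vecMulVec e s := by
    module
  have h2 : 1 + vecMulVec e s + c • vecMulVec e s + (a - 1) • vecMulVec e e +
      b • (vecMulVec z s + (s ⬝ᵥ z) • vecMulVec e s + c • (s ⬝ᵥ z) • vecMulVec e s) =
      1 + (a - 1) • vecMulVec e e + b • vecMulVec z s +
        ((1 + c) * (1 + b * (s ⬝ᵥ z))) • vecMulVec e s := by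
    module
  rw [h1, h2, h]

theorem g13_update_smul (j : κ) (t : κ → F) (c : F) :
    Function.update (c • t) j 0 = c • Function.update t j 0 := by
  funext k
  by_cases hk : k = j
  · subst hk
    simp
  · simp [Function.update_of_ne hk]

theorem g13_update_dot (j : κ) (t w : κ → F) (hwj : w j = 0) :
    Function.update t j 0 ⬝ᵥ w = t ⬝ᵥ w := by
  unfold dotProduct
  apply Finset.sum_congr rfl
  intro k _
  by_cases hk : k = j
  · subst hk
    rw [hwj, mul_zero, mul_zero]
  · rw [Function.update_of_ne hk]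

/-- piece G13 -/
theorem tvEl_comm_fix_vec_three [Fintype F] (hκ : Fintype.card κ = 3) (hq : 4 ≤ Fintype.card F)
    (j : κ) (w t : κ → F) (hwj : w j = 0) (hw : w ≠ 0) (ht : t ⬝ᵥ w = 0) :
    ∃ X Y : SpecialLinearGroup κ F, X.1 *ᵥ w = w ∧ Y.1 *ᵥ w = w ∧ tvEl j t = X * Y * X⁻¹ * Y⁻¹ := by
  classical
  by_cases h0 : Function.update t j 0 = 0
  · refine ⟨1, 1, ?_, ?_, ?_⟩
    · rw [Matrix.SpecialLinearGroup.coe_one, Matrix.one_mulVec]
    · rw [Matrix.SpecialLinearGroup.coe_one, Matrix.one_mulVec]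
    · apply Subtype.ext
      rw [tvEl_val, h0]
      simp
  · obtain ⟨i, hi⟩ : ∃ i, Function.update t j 0 i ≠ 0 := by
      by_contra hcon
      apply h0
      funext i
      by_contra hi
      exact hcon ⟨i, hi⟩
    have hij : i ≠ j := by
      intro h
      rw [h, Function.update_self] at hi
      exact hi rfl
    obtain ⟨α, hα⟩ : ∃ α : F, α ∉ ({0, 1, -1} : Finset F) := by
      by_contra hcon
      have hall : ∀ α : F, α ∈ ({0, 1, -1} : Finset F) := fun α => by
        by_contra h
        exact hcon ⟨α, h⟩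
      have h3 : Fintype.card F ≤ 3 := by
        calc Fintype.card F = (Finset.univ : Finset F).card := Finset.card_univ.symm
          _ ≤ ({0, 1, -1} : Finset F).card := Finset.card_le_card (fun a _ => hall a)
          _ ≤ 3 := Finset.card_le_three
      omega
    simp only [Finset.mem_insert, Finset.mem_singleton, not_or] at hα
    obtain ⟨hα0, hα1, hαm⟩ := hα
    have hα2 : α ^ 2 - 1 ≠ 0 := by
      intro h
      have h' : (α - 1) * (α + 1) = 0 := by
        rw [← h]
        ring
      rcases mul_eq_zero.1 h' with h'' | h''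
      · exact hα1 (sub_eq_zero.1 h'')
      · exact hαm (eq_neg_of_add_eq_zero_left h'')
    have hsw : Function.update t j 0 ⬝ᵥ w = 0 := by
      rw [g13_update_dot j t w hwj]
      exact ht
    have hee : (Pi.single j 1 : κ → F) ⬝ᵥ (Pi.single j 1 : κ → F) = 1 := by
      rw [dotProduct_single, mul_one, Pi.single_eq_same]
    have hse : Function.update t j 0 ⬝ᵥ (Pi.single j 1 : κ → F) = 0 :=
      Cfsg.Agent.Helper78.SLN.g11_update_dot_single j t
    have hez : (Pi.single j 1 : κ → F) ⬝ᵥ (Pi.single i 1 : κ → F) = 0 := by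
      rw [dotProduct_single, mul_one]
      exact Pi.single_eq_of_ne hij _
    have hsz : Function.update t j 0 ⬝ᵥ (Pi.single i 1 : κ → F) = Function.update t j 0 i := by
      rw [dotProduct_single, mul_one]
    have hdet : ((1 + vecMulVec (Pi.single j 1 : κ → F) ((α - 1) • (Pi.single j 1 : κ → F))) *
        (1 + vecMulVec (Pi.single i 1 : κ → F)
          (((α⁻¹ - 1) * (Function.update t j 0 i)⁻¹) • Function.update t j 0))).det = 1 := by
      rw [det_mul, vecMulVec_eq Unit, det_one_add_replicateCol_mul_replicateRow, vecMulVec_eq Unit,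
        det_one_add_replicateCol_mul_replicateRow, smul_dotProduct, smul_dotProduct, hee, hsz]
      simp only [smul_eq_mul]
      field_simp
      ring
    refine ⟨⟨_, hdet⟩, tvEl j ((α ^ 2 - 1)⁻¹ • t), ?_, ?_, ?_⟩
    · show ((1 + vecMulVec (Pi.single j 1 : κ → F) ((α - 1) • (Pi.single j 1 : κ → F))) *
        (1 + vecMulVec (Pi.single i 1 : κ → F)
          (((α⁻¹ - 1) * (Function.update t j 0 i)⁻¹) • Function.update t j 0))) *ᵥ w = w
      rw [← Matrix.mulVec_mulVec, Cfsg.Agent.Helper78.SLN.g11_mulVec,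
        Cfsg.Agent.Helper78.SLN.g11_mulVec, smul_dotProduct, hsw, smul_zero, zero_smul, add_zero,
        smul_dotProduct, single_dotProduct, one_mul, hwj, smul_zero, zero_smul, add_zero]
    · apply Cfsg.Agent.Helper78.SLN.g11_tvEl_fix
      rw [g13_update_smul, smul_dotProduct, hsw, smul_zero]
    · apply Cfsg.Agent.Helper78.SLN.g11_comm
      show ((1 + vecMulVec (Pi.single j 1 : κ → F) ((α - 1) • (Pi.single j 1 : κ → F))) *
        (1 + vecMulVec (Pi.single i 1 : κ → F)
          (((α⁻¹ - 1) * (Function.update t j 0 i)⁻¹) • Function.update t j 0))) *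
          (tvEl j ((α ^ 2 - 1)⁻¹ • t)).1 = (tvEl j t).1 * ((tvEl j ((α ^ 2 - 1)⁻¹ • t)).1 *
          ((1 + vecMulVec (Pi.single j 1 : κ → F) ((α - 1) • (Pi.single j 1 : κ → F))) *
        (1 + vecMulVec (Pi.single i 1 : κ → F)
          (((α⁻¹ - 1) * (Function.update t j 0 i)⁻¹) • Function.update t j 0))))
      rw [tvEl_val, tvEl_val, g13_update_smul]
      apply g13_mat _ _ _ α _ _ hee hse hez
      rw [hsz]
      field_simp
      ring

end GRP

end Cfsg.Agent.Helper25.SLN
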