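import Mathlib
import Cfsg.Agent.Lib.Helper62.SLN0
import Cfsg.Agent.Lib.Helper70.SLN_ORB
import Cfsg.Agent.Lib.Helper60.SLN_S3
import Cfsg.Agent.Lib.Helper88.SLN_S4
import Cfsg.Agent.Lib.Helper5.SLN_S6
import Cfsg.Agent.Lib.Helper67.SLN_K1b
import Cfsg.Agent.Lib.Helper3.SLN_S0
import Cfsg.Agent.Lib.Helper60.SLN_S2
import Cfsg.Agent.Lib.Helper57.SLN_K1a
import Cfsg.Agent.Lib.Helper3.SLN_S9
import Cfsg.Agent.Lib.Helper47.SLN_R7
import Cfsg.Agent.Lib.Helper66.SLN_G10

/-!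
# SLN (TOP-A) `topA` (helper62 server, S2332): assembly for `n ≥ 4`
-/

set_option autoImplicit false

namespace Cfsg.Agent.Helper25.SLN

open Matrix Module Cfsg.Agent.Helper93.U2 Cfsg.Agent.Helper62.SLN

section TOP

variable {F : Type*} [Field F] [Fintype F] [DecidableEq F] {κ : Type} [Fintype κ] [DecidableEq κ]

/-- piece TOP-A -/
theorem topA (hκ : 3 ≤ Fintype.card κ) (hq : Fintype.card κ = 3 → 4 ≤ Fintype.card F) {k : ℕ}
    (ρ : Representation ℂ (SpecialLinearGroup (Unit ⊕ κ) F) (Fin k → ℂ)) (hρ : ρ.IsIrreducible)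
    (hk : 2 ≤ k) :
    2 * (Fintype.card F ^ Fintype.card κ - 1) ≤ k ∨
    ∃ c : ℕ, k = c + (Fintype.card F ^ Fintype.card κ - 1) ∧
      ((k : ℤ) ∣ ((gs (Fintype.card F) (Fintype.card κ + 1) *
          (Fintype.card F ^ Fintype.card κ - 1) : ℕ) : ℤ) * ((c : ℤ) - 1)) ∧
      ∃ (k' : ℕ) (σ : Representation ℂ (SpecialLinearGroup κ F) (Fin k' → ℂ)),
        σ.IsIrreducible ∧ 2 ≤ k' ∧ k' ≤ c := by
  obtain ⟨ψ, pr, hpr⟩ := Cfsg.Agent.Helper3.SLN.exists_pairing F κ
  obtain ⟨j, j', hjj'⟩ : ∃ j j' : κ, j ≠ j' :=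
    Fintype.exists_pair_of_one_lt_card (by omega)
  have hk' : finrank ℂ (Fin k → ℂ) = k := by simp
  have hsne : (Pi.single j' (1 : F) : κ → F) ≠ 0 := by
    intro h
    have := congrFun h j'
    simp at this
  have hsj : (Pi.single j' (1 : F) : κ → F) j = 0 := by
    simp [hjj']
  have hd : ∀ w : κ → F, w ≠ 0 →
      finrank ℂ (wt pr ρ w) = finrank ℂ (wt pr ρ (Pi.single j' (1 : F))) := fun w hw =>
    Cfsg.Agent.Helper60.SLN.finrank_wt_const ψ pr hpr ρ (by omega) w _ hw hsne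
  generalize finrank ℂ (wt pr ρ (Pi.single j' (1 : F))) = d at hd
  have hdim := Cfsg.Agent.Helper88.SLN.dim_formula ψ pr hpr ρ d hd
  rw [hk'] at hdim
  obtain ⟨w₀, hw₀, hw₀b⟩ := Cfsg.Agent.Helper60.SLN.exists_wt_ne_bot ψ pr hpr ρ hρ hk (by omega)
  have hd1 : 1 ≤ d := by
    rw [← hd w₀ hw₀]
    exact Nat.one_le_iff_ne_zero.2 (fun h => hw₀b (Submodule.finrank_eq_zero.1 h))
  by_cases hd2 : 2 ≤ d
  · left
    calc 2 * (Fintype.card F ^ Fintype.card κ - 1)
        ≤ d * (Fintype.card F ^ Fintype.card κ - 1) := Nat.mul_le_mul_right _ hd2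
      _ ≤ k := by omega
  · right
    have hd_one : d = 1 := by omega
    subst hd_one
    rw [one_mul] at hdim
    refine ⟨finrank ℂ (wt pr ρ 0), hdim, ?_, ?_⟩
    · have := Cfsg.Agent.Helper5.SLN.div_transvections ψ pr hpr ρ hρ (by omega) 1 hd
      rw [hk'] at this
      simpa using this
    · have h1a := Cfsg.Agent.Helper57.SLN.k1a ψ pr hpr ρ hκ hd
      have h1b := Cfsg.Agent.Helper67.SLN.k1b ψ pr hpr ρ hκ hq hd
      have horb := Cfsg.Agent.Helper70.SLN.orb ψ pr hpr ρ j hd (fun a ha t v hv => h1a j a ha t v hv)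
        {Pi.single j' (1 : F)}
        (by
          intro w hw
          rw [Finset.mem_singleton] at hw
          subst hw
          exact ⟨hsj, hsne⟩)
        (by
          intro w hw t ht v hv
          rw [Finset.mem_singleton] at hw
          subst hw
          exact h1b j _ hsj hsne t ht v hv)
      rw [Finset.card_singleton] at horb
      obtain ⟨τ, hτ⟩ := Cfsg.Agent.Helper3.SLN.exists_levi_rep ψ pr hpr ρ
      have hnt : ∃ (g : SpecialLinearGroup κ F) (w : wt pr ρ 0), τ g w ≠ w := by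
        by_contra hcon0
        have hcon : ∀ (g : SpecialLinearGroup κ F) (w : wt pr ρ 0), τ g w = w :=
          fun g w => by_contra (fun h => hcon0 ⟨g, w, h⟩)
        have hle : wt pr ρ 0 ≤ fixSp ρ (Qset (F := F) j) := by
          intro v hv g hg
          obtain ⟨t, rfl⟩ := hg
          have h1 := hcon (tvEl j t) ⟨v, hv⟩
          have h2 := hτ (tvEl j t) ⟨v, hv⟩
          rw [h1] at h2
          exact h2.symm
        have : fixSp ρ (Qset (F := F) j) ⊓ wt pr ρ 0 = wt pr ρ 0 := inf_eq_right.2 hle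
        rw [this] at horb
        omega
      exact Cfsg.Agent.Helper47.SLN.exists_irr_of_nontrivial (Cfsg.Agent.Helper66.SLN.sl_perfect hκ) τ hnt

end TOP

end Cfsg.Agent.Helper25.SLN
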