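import Mathlib
import Cfsg.Agent.Lib.Helper62.SLN0
import Cfsg.Agent.Lib.Helper70.SLN_ORB
import Cfsg.Agent.Lib.Helper60.SLN_S3
import Cfsg.Agent.Lib.Helper88.SLN_S4
import Cfsg.Agent.Lib.Helper5.SLN_S6
import Cfsg.Agent.Lib.Helper57.SLN_K1a3
import Cfsg.Agent.Lib.Helper3.SLN_S0
import Cfsg.Agent.Lib.Helper60.SLN_S2
import Cfsg.Agent.Lib.Helper30.SLN_K1b3

/-!
# SLN (TOP-B) `topB` (helper62 server, S2332): assembly for `n = 3`, `q ∉ {2, 4}`
-/

set_option autoImplicit false

namespace Cfsg.Agent.Helper25.SLN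

open Matrix Module Cfsg.Agent.Helper93.U2 Cfsg.Agent.Helper62.SLN

section TOP

variable {F : Type*} [Field F] [Fintype F] [DecidableEq F] {κ : Type} [Fintype κ] [DecidableEq κ]

/-- piece TOP-B -/
theorem topB (hκ : Fintype.card κ = 2) (hq2 : Fintype.card F ≠ 2) (hq4 : Fintype.card F ≠ 4) {k : ℕ}
    (ρ : Representation ℂ (SpecialLinearGroup (Unit ⊕ κ) F) (Fin k → ℂ)) (hρ : ρ.IsIrreducible)
    (hk : 2 ≤ k) :
    2 * (Fintype.card F ^ 2 - 1) ≤ k ∨
    ∃ c : ℕ, k = c + (Fintype.card F ^ 2 - 1) ∧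
      ((k : ℤ) ∣ ((gs (Fintype.card F) 3 * (Fintype.card F ^ 2 - 1) : ℕ) : ℤ) * ((c : ℤ) - 1)) ∧
      Fintype.card F - 1 ≤ c := by
  obtain ⟨ψ, pr, hpr⟩ := Cfsg.Agent.Helper3.SLN.exists_pairing F κ
  obtain ⟨j, j', hjj'⟩ : ∃ j j' : κ, j ≠ j' :=
    Fintype.exists_pair_of_one_lt_card (by omega)
  have hk' : finrank ℂ (Fin k → ℂ) = k := by simp
  have hsne : (Pi.single j' (1 : F) : κ → F) ≠ 0 := by
    intro h
    have := congrFun h j'
    simp at this
  have hsj : (Pi.single j' (1 : F) : κ → F) j = 0 := by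
    simp [hjj']
  have hd : ∀ w : κ → F, w ≠ 0 →
      finrank ℂ (wt pr ρ w) = finrank ℂ (wt pr ρ (Pi.single j' (1 : F))) := fun w hw =>
    Cfsg.Agent.Helper60.SLN.finrank_wt_const ψ pr hpr ρ (by omega) w _ hw hsne
  generalize finrank ℂ (wt pr ρ (Pi.single j' (1 : F))) = d at hd
  have hdim := Cfsg.Agent.Helper88.SLN.dim_formula ψ pr hpr ρ d hd
  rw [hk', hκ] at hdim
  obtain ⟨w₀, hw₀, hw₀b⟩ := Cfsg.Agent.Helper60.SLN.exists_wt_ne_bot ψ pr hpr ρ hρ hk (by omega)
  have hd1 : 1 ≤ d := by
    rw [← hd w₀ hw₀]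
    exact Nat.one_le_iff_ne_zero.2 (fun h => hw₀b (Submodule.finrank_eq_zero.1 h))
  by_cases hd2 : 2 ≤ d
  · left
    calc 2 * (Fintype.card F ^ 2 - 1)
        ≤ d * (Fintype.card F ^ 2 - 1) := Nat.mul_le_mul_right _ hd2
      _ ≤ k := by omega
  · right
    have hd_one : d = 1 := by omega
    subst hd_one
    rw [one_mul] at hdim
    refine ⟨finrank ℂ (wt pr ρ 0), hdim, ?_, ?_⟩
    · have := Cfsg.Agent.Helper5.SLN.div_transvections ψ pr hpr ρ hρ (by omega) 1 hd
      rw [hk', hκ] at this
      simpa using this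
    · have h1a := Cfsg.Agent.Helper57.SLN.k1a_three ψ pr hpr ρ hκ hq2 hq4 hd
      have hinj : Function.Injective (fun a : F => a • (Pi.single j' (1 : F) : κ → F)) := by
        intro a b hab
        have := congrFun hab j'
        simpa using this
      have horb := Cfsg.Agent.Helper70.SLN.orb ψ pr hpr ρ j hd
        (fun a ha t v hv => h1a j a ha t v hv)
        ((Finset.univ.filter (fun a : F => a ≠ 0)).image
          (fun a : F => a • (Pi.single j' (1 : F) : κ → F)))
        (by
          intro w hw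
          rw [Finset.mem_image] at hw
          obtain ⟨a, ha, rfl⟩ := hw
          rw [Finset.mem_filter] at ha
          refine ⟨by simp [hjj'], ?_⟩
          intro h
          have := congrFun h j'
          simp at this
          exact ha.2 this)
        (by
          intro w hw t ht v hv
          rw [Finset.mem_image] at hw
          obtain ⟨a, ha, rfl⟩ := hw
          rw [Finset.mem_filter] at ha
          have hw0 : a • (Pi.single j' (1 : F) : κ → F) ≠ 0 := by
            intro h
            have := congrFun h j'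
            simp at this
            exact ha.2 this
          have h1 : qEl (F := F) j t = 1 :=
            Cfsg.Agent.Helper30.SLN.k1b_three ψ pr hpr hκ j _ (by simp [hjj']) hw0 t ht
          rw [h1, map_one]
          rfl)
      rw [Finset.card_image_of_injective _ hinj, Finset.filter_ne' , Finset.card_erase_of_mem (Finset.mem_univ _),
        Finset.card_univ] at horb
      omega

end TOP

end Cfsg.Agent.Helper25.SLN
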