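import Mathlib
import Cfsg.Agent.Lib.Helper14.SPIDefs
import Cfsg.Agent.Lib.Helper66.SPIORTHC
import Cfsg.Agent.Lib.Helper29.SPIEVEN
import Cfsg.Agent.Lib.Helper62.SPIJOIN

/-!
# SPI server (helper14, S5961), piece (SPLIT): a nondegenerate subspace splits orthogonally into nondegenerate
subspaces of prescribed even dimensions.
-/

set_option autoImplicit false
set_option linter.unusedSectionVars false
set_option linter.unusedVariables false

namespace Cfsg.Agent.Helper25.SPI

open Module Polynomial Cfsg.Agent.Helper14.SPI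

section
variable {F V : Type*} [Field F] [AddCommGroup V] [Module F V]

/-- the sum of two orthogonal nondegenerate subspaces is nondegenerate -/
theorem split_sup_nondeg (B : LinearMap.BilinForm F V) (hB : B.IsAlt) (E P : Submodule F V)
    (hE : NondegOn B E) (hP : NondegOn B P) (horth : ∀ u ∈ E, ∀ v ∈ P, B u v = 0) :
    NondegOn B (E ⊔ P) := by
  intro w hw hw0
  obtain ⟨u, hu, v, hv, rfl⟩ := Submodule.mem_sup.mp hw
  by_cases hu0 : u = 0
  · have hv0 : v ≠ 0 := by
      intro h
      apply hw0
      rw [hu0, h, add_zero]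
    obtain ⟨v', hv', hne⟩ := hP v hv hv0
    refine ⟨v', Submodule.mem_sup_right hv', ?_⟩
    rw [hu0, zero_add]
    exact hne
  · obtain ⟨u', hu', hne⟩ := hE u hu hu0
    refine ⟨u', Submodule.mem_sup_left hu', ?_⟩
    have h1 : B v u' = 0 := by
      rw [← hB.neg_eq u' v, horth u' hu' v hv, neg_zero]
    rw [map_add, LinearMap.add_apply, h1, add_zero]
    exact hne

/-- a hyperbolic plane inside a nonzero nondegenerate subspace -/
theorem split_plane [FiniteDimensional F V] (B : LinearMap.BilinForm F V) (hB : B.IsAlt)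
    (U : Submodule F V) (hU : NondegOn B U) (hU0 : U ≠ ⊥) :
    ∃ P : Submodule F V, P ≤ U ∧ finrank F P = 2 ∧ NondegOn B P := by
  classical
  obtain ⟨u, hu, hu0⟩ := (Submodule.ne_bot_iff U).mp hU0
  obtain ⟨v, hv, huv⟩ := hU u hu hu0
  have hPU : Submodule.span F ({u, v} : Set V) ≤ U := by
    rw [Submodule.span_le]
    intro z hz
    rcases hz with rfl | rfl
    · exact hu
    · exact hv
  have hPnd : NondegOn B (Submodule.span F ({u, v} : Set V)) := by
    intro w hw hw0
    obtain ⟨a, c, rfl⟩ := Submodule.mem_span_pair.mp hw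
    by_cases ha : a = 0
    · have hc : c ≠ 0 := by
        intro h
        apply hw0
        rw [ha, h, zero_smul, zero_smul, add_zero]
      refine ⟨u, Submodule.subset_span (by simp), ?_⟩
      rw [ha, zero_smul, zero_add, map_smul, LinearMap.smul_apply, smul_eq_mul,
        ← hB.neg_eq u v]
      exact mul_ne_zero hc (neg_ne_zero.mpr huv)
    · refine ⟨v, Submodule.subset_span (by simp), ?_⟩
      rw [map_add, LinearMap.add_apply, map_smul, map_smul, LinearMap.smul_apply,
        LinearMap.smul_apply, hB.self_eq_zero v, smul_zero, add_zero, smul_eq_mul]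
      exact mul_ne_zero ha huv
  refine ⟨Submodule.span F ({u, v} : Set V), hPU, ?_, hPnd⟩
  have hev := Cfsg.Agent.Helper29.SPI.even_finrank_of_nondegOn B hB _ hPnd
  have hle : finrank F (Submodule.span F ({u, v} : Set V)) ≤ 2 := by
    have h := finrank_span_finset_le_card (R := F) ({u, v} : Finset V)
    have h2 : (({u, v} : Finset V) : Set V) = ({u, v} : Set V) := by simp
    rw [h2] at h
    exact h.trans (Finset.card_le_two)
  have hpos : 0 < finrank F (Submodule.span F ({u, v} : Set V)) := by
    rw [Module.finrank_pos_iff, Submodule.nontrivial_iff_ne_bot]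
    intro h
    have : u ∈ Submodule.span F ({u, v} : Set V) := Submodule.subset_span (by simp)
    rw [h, Submodule.mem_bot] at this
    exact hu0 this
  obtain ⟨k, hk⟩ := hev
  omega

/-- nondegenerate subspaces of every even dimension up to `dim U` -/
theorem split_sub [FiniteDimensional F V] (B : LinearMap.BilinForm F V) (hB : B.IsAlt)
    (U : Submodule F V) (hU : NondegOn B U) (n : ℕ) (hn : 2 * n ≤ finrank F U) :
    ∃ E : Submodule F V, E ≤ U ∧ finrank F E = 2 * n ∧ NondegOn B E := by
  induction n with
  | zero =>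
    refine ⟨⊥, bot_le, by simp, ?_⟩
    intro u hu hu0
    exact absurd ((Submodule.mem_bot F).mp hu) hu0
  | succ n ih =>
    obtain ⟨E, hEU, hEd, hEnd⟩ := ih (by omega)
    obtain ⟨h1, h2, h3⟩ := Cfsg.Agent.Helper66.SPI.orth_compl_on B hB U E hEU hEnd hU
    have hdim := Submodule.finrank_sup_add_finrank_inf_eq E (U ⊓ B.orthogonal E)
    rw [h1, h2, finrank_bot, add_zero, hEd] at hdim
    have hU'0 : U ⊓ B.orthogonal E ≠ ⊥ := by
      intro h
      rw [h, finrank_bot] at hdim
      omega
    obtain ⟨P, hPU', hPd, hPnd⟩ := split_plane B hB _ h3 hU'0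
    refine ⟨E ⊔ P, sup_le hEU (hPU'.trans inf_le_left), ?_, ?_⟩
    · have hEP : E ⊓ P = ⊥ := by
        rw [eq_bot_iff, ← h1]
        exact inf_le_inf_left E hPU'
      have hd2 := Submodule.finrank_sup_add_finrank_inf_eq E P
      rw [hEP, finrank_bot, add_zero, hEd, hPd] at hd2
      omega
    · apply split_sup_nondeg B hB E P hEnd hPnd
      intro u hu v hv
      exact (LinearMap.BilinForm.mem_orthogonal_iff.mp (hPU' hv).2) u hu

/-- `Fin (t+1) ≃ Unit ⊕ Fin t` -/
def splitEquiv (t : ℕ) : Fin (t + 1) ≃ Unit ⊕ Fin t where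
  toFun := fun j => Fin.cases (Sum.inl ()) (fun i => Sum.inr i) j
  invFun := Sum.elim (fun _ => 0) Fin.succ
  left_inv := by
    intro j
    refine Fin.cases ?_ ?_ j
    · simp
    · intro i; simp
  right_inv := by
    rintro (⟨⟩ | i)
    · simp
    · simp

/-- transport of an orthogonal family along an equivalence of index types -/
theorem split_transport {K K' : Type*} (B : LinearMap.BilinForm F V) (R : Submodule F V)
    (W : K → Submodule F V) (hW : IsOrthFam B R W) (φ : K' ≃ K) :
    IsOrthFam B R (fun j => W (φ j)) where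
  indep := hW.indep.comp φ.injective
  sup := by
    rw [← hW.sup]
    exact φ.iSup_comp (g := W)
  nondeg := fun k => hW.nondeg (φ k)
  orth := fun k k' hkk' => hW.orth (φ k) (φ k') (fun h => hkk' (φ.injective h))

/-- (SPLIT) -/
theorem exists_split {F V : Type*} [Field F] [AddCommGroup V] [Module F V]
    [FiniteDimensional F V] (B : LinearMap.BilinForm F V) (hB : B.IsAlt)
    (U : Submodule F V) (hU : NondegOn B U) {t : ℕ} (e : Fin t → ℕ) (he : ∀ j, Even (e j))
    (hsum : ∑ j, e j = finrank F U) :
    ∃ E : Fin t → Submodule F V, IsOrthFam B U E ∧ ∀ j, finrank F (E j) = e j := by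
  induction t generalizing U with
  | zero =>
    have hU0 : U = ⊥ := by
      rw [Finset.univ_eq_empty, Finset.sum_empty] at hsum
      exact Submodule.finrank_eq_zero.mp hsum.symm
    refine ⟨fun j => j.elim0, ?_, fun j => j.elim0⟩
    exact
      { indep := fun j => j.elim0
        sup := by rw [hU0]; simp
        nondeg := fun j => j.elim0
        orth := fun j => j.elim0 }
  | succ t ih =>
    obtain ⟨n, hn⟩ := he 0
    have hsum' := hsum
    rw [Fin.sum_univ_succ] at hsum'
    obtain ⟨E₀, hE₀U, hE₀d, hE₀nd⟩ := split_sub B hB U hU n (by omega)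
    obtain ⟨h1, h2, h3⟩ := Cfsg.Agent.Helper66.SPI.orth_compl_on B hB U E₀ hE₀U hE₀nd hU
    have hdim := Submodule.finrank_sup_add_finrank_inf_eq E₀ (U ⊓ B.orthogonal E₀)
    rw [h1, h2, finrank_bot, add_zero, hE₀d] at hdim
    obtain ⟨E', hE', hE'd⟩ := ih (U ⊓ B.orthogonal E₀) h3 (fun j => e j.succ)
      (fun j => he j.succ) (by omega)
    have hfam0 : IsOrthFam B E₀ (fun _ : Unit => E₀) :=
      { indep := by
          intro i
          rw [disjoint_iff]
          have : (⨆ (j : Unit) (_ : j ≠ i), E₀) = ⊥ := by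
            rw [eq_bot_iff]
            apply iSup_le
            intro j
            apply iSup_le
            intro hj
            exact absurd (Subsingleton.elim j i) hj
          rw [this, inf_bot_eq]
        sup := by simp
        nondeg := fun _ => hE₀nd
        orth := fun k k' hkk' => absurd (Subsingleton.elim k k') hkk' }
    have hjoin := Cfsg.Agent.Helper62.SPI.join_fam B hB E₀ (U ⊓ B.orthogonal E₀) U h1 h2
      (fun u hu w hw => (LinearMap.BilinForm.mem_orthogonal_iff.mp hw.2) u hu)
      (fun _ : Unit => E₀) E' hfam0 hE'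
    have hfam := split_transport B U _ hjoin (splitEquiv t)
    refine ⟨_, hfam, ?_⟩
    have h0 : (Sum.elim (fun _ : Unit => E₀) E' : Unit ⊕ Fin t → Submodule F V)
        (splitEquiv t 0) = E₀ := by
      simp [splitEquiv]
    have hs : ∀ i : Fin t, (Sum.elim (fun _ : Unit => E₀) E' : Unit ⊕ Fin t → Submodule F V)
        (splitEquiv t i.succ) = E' i := by
      intro i
      simp [splitEquiv]
    intro j
    refine Fin.cases ?_ ?_ j
    · show finrank F ↥((Sum.elim (fun _ : Unit => E₀) E' : Unit ⊕ Fin t → Submodule F V)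
        (splitEquiv t 0)) = e 0
      rw [h0, hE₀d, hn]
      ring
    · intro i
      show finrank F ↥((Sum.elim (fun _ : Unit => E₀) E' : Unit ⊕ Fin t → Submodule F V)
        (splitEquiv t i.succ)) = e i.succ
      rw [hs i]
      exact hE'd i

end

end Cfsg.Agent.Helper25.SPI
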