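import Mathlib
import Cfsg.Agent.Lib.Helper62.SUO0

/-!
# SUO server (S2282), block M: cores of M3 M4 M5 M6 in hypothesis form
(the facts A5 A7 M0 M1 M2 enter as explicit hypotheses; the verbatim wrappers import the landed pieces)
-/

set_option autoImplicit false
set_option linter.unusedSectionVars false
set_option linter.unusedVariables false
set_option quotPrecheck false

namespace Cfsg.Agent.Helper25.SUO

open Matrix Cfsg Cfsg.Agent.Helper13 Cfsg.Agent.Helper87.PsuA Cfsg.Agent.Helper62.SUO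

section M
variable {F : Type*} [Field F] [Fintype F] {q n : ℕ} (hF : Fintype.card F = q ^ 2)
  {Hs : Subgroup ↥(Cfsg.SU n F q)} {u l : ↥(Cfsg.SU n F q)} {e0 e1 p : Fin n → F} {c γ : F}

local notation "V" => Fin n → F
local notation "G" => ↥(Cfsg.SU n F q)
local notation "H" => Cfsg.hermForm n F q

include hF

/-- `H` is linear in the first variable (scalars). -/
theorem h25_H_smul_left (a : F) (x y : V) : H (a • x) y = a * H x y := by
  unfold Cfsg.hermForm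
  simp only [Pi.smul_apply, smul_eq_mul, Finset.mul_sum, mul_assoc]

/-- core of (M3) -/
theorem h25_to_p_core (hyp : Hyp hF Hs u l e0 e1 p c γ)
    (hA7 : ∀ {w y : V}, w ∈ QQ hF Hs e0 → y ∈ Orb Hs e0 → H e0 y = 0 → ∀ {c : F},
      c ∈ MM hF Hs e0 → (c * H w y) • y ∈ QQ hF Hs e0)
    (hpO : p ∈ Orb Hs e0) (h0p : H e0 p = 0)
    {a m : F} (ha : a • e1 ∈ QQ hF Hs e0) (hm : m ∈ MM hF Hs e0) :
    (m * a * γ) • p ∈ QQ hF Hs e0 := by
  have h := hA7 ha hpO h0p hm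
  rw [h25_H_smul_left hF, hyp.e1p] at h
  rwa [mul_assoc]

/-- core of (M4) -/
theorem h25_to_e1_core (hyp : Hyp hF Hs u l e0 e1 p c γ)
    (hA7 : ∀ {w y : V}, w ∈ QQ hF Hs e0 → y ∈ Orb Hs e0 → H e0 y = 0 → ∀ {c : F},
      c ∈ MM hF Hs e0 → (c * H w y) • y ∈ QQ hF Hs e0)
    (he1O : e1 ∈ Orb Hs e0) (hpe1 : H p e1 = γ ^ q)
    {a m : F} (ha : a • p ∈ QQ hF Hs e0) (hm : m ∈ MM hF Hs e0) :
    (m * a * γ ^ q) • e1 ∈ QQ hF Hs e0 := by
  have h := hA7 ha he1O hyp.e0e1 hm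
  rw [h25_H_smul_left hF, hpe1] at h
  rwa [mul_assoc]

/-- core of (M5) -/
theorem h25_S_top_core (hyp : Hyp hF Hs u l e0 e1 p c γ)
    (hA5 : ∃ S : AddSubgroup V, (S : Set V) = QQ hF Hs e0)
    (hM1 : ∀ {a : F}, a • e1 ∈ QQ hF Hs e0 → a - a ^ q ∈ MM hF Hs e0)
    (hM2 : ∀ {m : F}, m ∈ MM hF Hs e0 → m • e1 ∈ QQ hF Hs e0)
    (hM3 : ∀ {a m : F}, a • e1 ∈ QQ hF Hs e0 → m ∈ MM hF Hs e0 →
      (m * a * γ) • p ∈ QQ hF Hs e0)
    (hM4 : ∀ {a m : F}, a • p ∈ QQ hF Hs e0 → m ∈ MM hF Hs e0 →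
      (m * a * γ ^ q) • e1 ∈ QQ hF Hs e0) :
    ∀ a : F, a • e1 ∈ QQ hF Hs e0 := by
  obtain ⟨T, hT⟩ := hA5
  have hmemT : ∀ x : V, x ∈ T ↔ x ∈ QQ hF Hs e0 := fun x => by
    rw [← hT]; rfl
  let S : AddSubgroup F :=
    { carrier := {a | a • e1 ∈ QQ hF Hs e0}
      zero_mem' := by
        show (0 : F) • e1 ∈ QQ hF Hs e0
        rw [zero_smul, ← hmemT]; exact T.zero_mem
      add_mem' := by
        intro a b ha hb
        show (a + b) • e1 ∈ QQ hF Hs e0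
        rw [add_smul, ← hmemT]
        exact T.add_mem ((hmemT _).2 ha) ((hmemT _).2 hb)
      neg_mem' := by
        intro a ha
        show (-a) • e1 ∈ QQ hF Hs e0
        rw [neg_smul, ← hmemT]
        exact T.neg_mem ((hmemT _).2 ha) }
  have hκM : c - c ^ q ∈ MM hF Hs e0 := hM1 hyp.hc
  have hcS : c ∈ S := hyp.hc
  have hκS : c - c ^ q ∈ S := hM2 hκM
  have hstab : ∀ a ∈ S, (c - c ^ q) ^ 2 * (γ * γ ^ q) * a ∈ S := by
    intro a ha
    have h1 := hM3 (a := a) (m := c - c ^ q) ha hκM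
    have h2 := hM4 (a := (c - c ^ q) * a * γ) (m := c - c ^ q) h1 hκM
    show ((c - c ^ q) ^ 2 * (γ * γ ^ q) * a) • e1 ∈ QQ hF Hs e0
    have e : (c - c ^ q) ^ 2 * (γ * γ ^ q) * a = (c - c ^ q) * ((c - c ^ q) * a * γ) * γ ^ q := by
      ring
    rw [e]; exact h2
  have htop := hyp.gen S hcS hκS hstab
  intro a
  have : a ∈ S := by rw [htop]; exact AddSubgroup.mem_top a
  exact this

/-- core of (M6) -/
theorem h25_p_top_core (hyp : Hyp hF Hs u l e0 e1 p c γ)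
    (hM1 : ∀ {a : F}, a • e1 ∈ QQ hF Hs e0 → a - a ^ q ∈ MM hF Hs e0)
    (hM3 : ∀ {a m : F}, a • e1 ∈ QQ hF Hs e0 → m ∈ MM hF Hs e0 →
      (m * a * γ) • p ∈ QQ hF Hs e0)
    (hM5 : ∀ a : F, a • e1 ∈ QQ hF Hs e0) :
    ∀ a : F, a • p ∈ QQ hF Hs e0 := by
  intro a
  have hκM : c - c ^ q ∈ MM hF Hs e0 := hM1 hyp.hc
  have h := hM3 (a := a / ((c - c ^ q) * γ)) (m := c - c ^ q) (hM5 _) hκM
  have e : (c - c ^ q) * (a / ((c - c ^ q) * γ)) * γ = a := by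
    field_simp [hyp.κ0, hyp.γ0]
  rwa [e] at h

end M

end Cfsg.Agent.Helper25.SUO
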