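import Mathlib
import Cfsg.Agent.Lib.Helper62.SUO0
import Cfsg.Agent.Lib.Helper66.SUOA
import Cfsg.Agent.Lib.Helper25.SUOM5Core

/-!
# SUO server (S2282), pieces M3 `to_p` and M4 `to_e1` (verbatim), on helper66's block A.
-/

set_option autoImplicit false
set_option linter.unusedSectionVars false
set_option linter.unusedVariables false
set_option quotPrecheck false

namespace Cfsg.Agent.Helper25.SUO

open Matrix Cfsg Cfsg.Agent.Helper13 Cfsg.Agent.Helper87.PsuA Cfsg.Agent.Helper62.SUO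

section M
variable {F : Type*} [Field F] [Fintype F] {q n : ℕ} (hF : Fintype.card F = q ^ 2)
  {Hs : Subgroup ↥(Cfsg.SU n F q)} {u l : ↥(Cfsg.SU n F q)} {e0 e1 p : Fin n → F} {c γ : F}

local notation "V" => Fin n → F
local notation "G" => ↥(Cfsg.SU n F q)
local notation "H" => Cfsg.hermForm n F q

include hF

/-- the part of (M0) needed for M3 M4 -/
theorem h25_orb_facts (hyp : Hyp hF Hs u l e0 e1 p c γ) :
    e1 ∈ Orb Hs e0 ∧ p ∈ Orb Hs e0 ∧ H e0 p = 0 ∧ H p e1 = γ ^ q := by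
  have hp : actv l⁻¹ e0 = p := by
    rw [← hyp.lp]; exact actv_inv_actv l p
  have hpe0 : H p e0 = 0 := by
    have h1 : H (actv l p) (actv l e0) = H p e0 := H_actv l p e0
    rw [hyp.lp, hyp.le0, hyp.e0e1] at h1
    exact h1.symm
  refine ⟨⟨l, hyp.hl, hyp.le0⟩, ⟨l⁻¹, Hs.inv_mem hyp.hl, hp⟩, H_symm_zero hF hpe0, ?_⟩
  rw [← hermForm_conj hF e1 p, hyp.e1p]

/-- (M3) A7 with `w = a • e1`, `y = p` -/
theorem to_p (hyp : Hyp hF Hs u l e0 e1 p c γ) {a m : F} (ha : a • e1 ∈ QQ hF Hs e0)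
    (hm : m ∈ MM hF Hs e0) : (m * a * γ) • p ∈ QQ hF Hs e0 := by
  obtain ⟨_, hpO, h0p, _⟩ := h25_orb_facts hF hyp
  exact h25_to_p_core hF hyp
    (fun hw hy hy0 _ hc => Cfsg.Agent.Helper66.SUO.QQ_tv hF hyp.e0e0 hw hy hy0 hc) hpO h0p ha hm

/-- (M4) A7 with `w = a • p`, `y = e1` -/
theorem to_e1 (hyp : Hyp hF Hs u l e0 e1 p c γ) {a m : F} (ha : a • p ∈ QQ hF Hs e0)
    (hm : m ∈ MM hF Hs e0) : (m * a * γ ^ q) • e1 ∈ QQ hF Hs e0 := by
  obtain ⟨he1O, _, _, hpe1⟩ := h25_orb_facts hF hyp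
  exact h25_to_e1_core hF hyp
    (fun hw hy hy0 _ hc => Cfsg.Agent.Helper66.SUO.QQ_tv hF hyp.e0e0 hw hy hy0 hc) he1O hpe1 ha hm

end M

end Cfsg.Agent.Helper25.SUO
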