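import Mathlib
import Cfsg.Agent.Lib.Helper62.SUO0
import Cfsg.Agent.Lib.Helper66.SUOA
import Cfsg.Agent.Lib.Helper61.SUOM1
import Cfsg.Agent.Lib.Helper61.SUOM2
import Cfsg.Agent.Lib.Helper25.SUOM3

/-!
# SUO server (S2282), pieces M5 `S_top` and M6 `p_top` (verbatim).
-/

set_option autoImplicit false
set_option linter.unusedSectionVars false
set_option linter.unusedVariables false
set_option quotPrecheck false

namespace Cfsg.Agent.Helper25.SUO

open Matrix Cfsg Cfsg.Agent.Helper13 Cfsg.Agent.Helper87.PsuA Cfsg.Agent.Helper62.SUO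

section M
variable {F : Type*} [Field F] [Fintype F] {q n : ℕ} (hF : Fintype.card F = q ^ 2)
  {Hs : Subgroup ↥(Cfsg.SU n F q)} {u l : ↥(Cfsg.SU n F q)} {e0 e1 p : Fin n → F} {c γ : F}

local notation "V" => Fin n → F
local notation "G" => ↥(Cfsg.SU n F q)
local notation "H" => Cfsg.hermForm n F q

include hF

/-- (M5) `S = {a | a • e1 ∈ QQ}` is an additive subgroup (A5) containing `c` (`hyp.hc`) and
`κ = c - c^q` (M1 M2), stable under `κ^2 * (γ * γ^q)` (M3 then M4 with `m = κ`); `hyp.gen` -/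
theorem S_top (hyp : Hyp hF Hs u l e0 e1 p c γ) : ∀ a : F, a • e1 ∈ QQ hF Hs e0 :=
  h25_S_top_core hF hyp (Cfsg.Agent.Helper66.SUO.QQ_addsub hF hyp.e0e0)
    (fun ha => Cfsg.Agent.Helper61.SUO.MM_of_S hF hyp ha)
    (fun hm => Cfsg.Agent.Helper61.SUO.seed hF hyp hm)
    (fun ha hm => to_p hF hyp ha hm)
    (fun ha hm => to_e1 hF hyp ha hm)

/-- (M6) M3 with `a / (κ * γ)`, `m = κ` -/
theorem p_top (hyp : Hyp hF Hs u l e0 e1 p c γ) : ∀ a : F, a • p ∈ QQ hF Hs e0 :=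
  h25_p_top_core hF hyp
    (fun ha => Cfsg.Agent.Helper61.SUO.MM_of_S hF hyp ha)
    (fun ha hm => to_p hF hyp ha hm)
    (S_top hF hyp)

end M

end Cfsg.Agent.Helper25.SUO
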