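import Mathlib
import Cfsg.Agent.Lib.Helper62.SUO0
import Cfsg.Agent.Lib.Helper66.SUOA
import Cfsg.Agent.Lib.Helper61.SUOM1
import Cfsg.Agent.Lib.Helper74.SUOM8a
import Cfsg.Agent.Lib.Helper25.SUOM5

/-!
# SUO server (S2282), pieces M7 `QQ_full`, M8 `MM_top`, M9 `Q_le` (verbatim).
-/

set_option autoImplicit false
set_option linter.unusedSectionVars false
set_option linter.unusedVariables false
set_option quotPrecheck false

namespace Cfsg.Agent.Helper25.SUO

open Matrix Cfsg Cfsg.Agent.Helper13 Cfsg.Agent.Helper87.PsuA Cfsg.Agent.Helper62.SUO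

section M
variable {F : Type*} [Field F] [Fintype F] {q n : ℕ} (hF : Fintype.card F = q ^ 2)
  {Hs : Subgroup ↥(Cfsg.SU n F q)} {u l : ↥(Cfsg.SU n F q)} {e0 e1 p : Fin n → F} {c γ : F}

local notation "V" => Fin n → F
local notation "G" => ↥(Cfsg.SU n F q)
local notation "H" => Cfsg.hermForm n F q

include hF

/-- (M7) `{w | ∀ a, a • w ∈ QQ}` is a `u`-stable subspace (A5 A6) containing `p` (M6); `hyp.cyc` -/
theorem QQ_full (hyp : Hyp hF Hs u l e0 e1 p c γ) :
    ∀ w : V, H e0 w = 0 → w ∈ QQ hF Hs e0 := by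
  obtain ⟨T, hT⟩ := Cfsg.Agent.Helper66.SUO.QQ_addsub (Hs := Hs) hF hyp.e0e0
  have hmemT : ∀ x : V, x ∈ T ↔ x ∈ QQ hF Hs e0 := fun x => by
    rw [← hT]; rfl
  let W : Submodule F V :=
    { carrier := {w | ∀ a : F, a • w ∈ QQ hF Hs e0}
      zero_mem' := by
        intro a
        show a • (0 : V) ∈ QQ hF Hs e0
        rw [smul_zero, ← hmemT]; exact T.zero_mem
      add_mem' := by
        intro x y hx hy a
        show a • (x + y) ∈ QQ hF Hs e0
        rw [smul_add, ← hmemT]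
        exact T.add_mem ((hmemT _).2 (hx a)) ((hmemT _).2 (hy a))
      smul_mem' := by
        intro b x hx a
        show a • (b • x) ∈ QQ hF Hs e0
        rw [smul_smul]
        exact hx (a * b) }
  have hpW : p ∈ W := p_top hF hyp
  have hstab : ∀ x ∈ W, actv u x ∈ W := by
    intro x hx a
    show a • actv u x ∈ QQ hF Hs e0
    rw [← actv_smul]
    exact Cfsg.Agent.Helper66.SUO.QQ_stab hF hyp.e0e0 (hx a) hyp.hu hyp.ue0
  intro w hw
  have hwW : w ∈ W := hyp.cyc W hpW hstab w hw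
  have := hwW 1
  rwa [one_smul] at this

/-- (M8) M5 M1 M8a -/
theorem MM_top (hyp : Hyp hF Hs u l e0 e1 p c γ) :
    ∀ m : F, m + m ^ q = 0 → m ∈ MM hF Hs e0 := by
  intro m hm
  obtain ⟨a, ha⟩ := Cfsg.Agent.Helper74.SUO.exists_tau hF m hm
  rw [← ha]
  exact Cfsg.Agent.Helper61.SUO.MM_of_S hF hyp (S_top hF hyp a)

/-- (M9) M7 gives some `a'`; `eich e0 w a = eich e0 w a' * eich e0 0 (a - a')` (`eich_mul`), M8 -/
theorem Q_le (hyp : Hyp hF Hs u l e0 e1 p c γ) :
    ∀ (w : V) (a : F), H e0 w = 0 → a + a ^ q + H w w = 0 → eich hF e0 w a ∈ Hs := by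
  intro w a hw ha
  obtain ⟨_, a', ha', hmem⟩ := QQ_full hF hyp w hw
  have hd : (a - a') + (a - a') ^ q = 0 := by
    rw [frob_sub hF]; linear_combination ha - ha'
  have hd0 : (a - a') + (a - a') ^ q + H (0 : V) 0 = 0 := by
    rw [H_zero_right hF, add_zero, hd]
  have hM := (MM_top hF hyp (a - a') hd).2
  have hmul := eich_mul hF hyp.e0e0 hw ha' (H_zero_right hF e0) hd0
  rw [add_zero, H_zero_left hF, sub_zero] at hmul
  have e : a' + (a - a') = a := by ring
  rw [e] at hmul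
  rw [← hmul]
  exact Hs.mul_mem hmem hM

end M

end Cfsg.Agent.Helper25.SUO
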