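import Mathlib
import Cfsg.Prelude.Def_Local
import Cfsg.Agent.Lib.Helper89.TH1Defs
import Cfsg.Agent.Lib.Helper81.TH1BDefs

/-!
# TH1B sub-server (helper81, piece (COREB) of helper89's TH1 server, S3797): piece (PAIR) `exists_pair` (backup)
-/

set_option autoImplicit false
set_option linter.unusedVariables false
set_option linter.unusedSectionVars false

namespace Cfsg.Agent.Helper25.TH1B

open Cfsg Subgroup Cfsg.Agent.Helper89.TH1 Cfsg.Agent.Helper81.TH1B
open scoped commutatorElement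

universe u

variable {G : Type u} [Group G] [Finite G] {W Y K₁ E Q₀ N : Subgroup G}

/-- (PAIR) -/
theorem exists_pair (hC : Core G W Y K₁ E Q₀ N)
    (hcnt : ∀ P : Subgroup G, IsPGroup 2 P → (∀ g ∈ N, ∀ x ∈ P, g * x * g⁻¹ ∈ P) →
      (Nat.card W - 1) ∣ (Nat.card P - 1))
    (hne : ¬ E ≤ kerM W Y) :
    ∃ τ ∈ E, ∃ τ' ∈ E, τ ∉ kerM W Y ∧ τ' ∉ kerM W Y ∧ τ * τ' ∉ kerM W Y := by
  set C : Subgroup G := E ⊓ kerM W Y with hCdef
  have hCE : C ≤ E := inf_le_left
  have hC2 : IsPGroup 2 C := hC.E_two.to_le hCE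
  have hCN : ∀ g ∈ N, ∀ x ∈ C, g * x * g⁻¹ ∈ C := fun g hg x hx =>
    ⟨hC.N_E g hg x hx.1, conj_mem_kerM_of_mem_N hC hg hx.2⟩
  have hd1 := hcnt E hC.E_two hC.N_E
  have hd2 := hcnt C hC2 hCN
  obtain ⟨a, ha⟩ := IsPGroup.iff_card.mp hC.E_two
  obtain ⟨c, hc⟩ := IsPGroup.iff_card.mp hC2
  have hWc := hC.W_card
  -- `C ≠ E`
  have hlt : Nat.card C < Nat.card E := by
    by_contra hge
    push Not at hge
    have := Subgroup.eq_of_le_of_card_ge hCE hge
    apply hne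
    intro x hx
    have : x ∈ C := by rw [this]; exact hx
    exact this.2
  have hca : c < a := by
    rw [ha, hc] at hlt
    exact (Nat.pow_lt_pow_iff_right (by norm_num)).1 hlt
  -- `a ≥ c + 2`
  have hca2 : c + 2 ≤ a := by
    by_contra hlt2
    have hac : a = c + 1 := by omega
    rw [ha, hac] at hd1
    rw [hc] at hd2
    -- d ∣ 2^(c+1) - 1 and d ∣ 2^c - 1
    have hpos : 1 ≤ 2 ^ c := Nat.one_le_two_pow
    have h3 : (Nat.card W - 1) ∣ 2 * (2 ^ c - 1) := Dvd.dvd.mul_left hd2 2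
    have h4 : 2 ^ (c + 1) - 1 = 2 * (2 ^ c - 1) + 1 := by
      rw [pow_succ]; omega
    rw [h4] at hd1
    have h5 : (Nat.card W - 1) ∣ 1 := (Nat.dvd_add_right h3).1 hd1
    have := Nat.le_of_dvd (by norm_num) h5
    omega
  have h4C : 4 * Nat.card C ≤ Nat.card E := by
    rw [ha, hc]
    calc 4 * 2 ^ c = 2 ^ (c + 2) := by rw [pow_add]; ring
      _ ≤ 2 ^ a := Nat.pow_le_pow_right (by norm_num) hca2
  -- `τ`
  obtain ⟨τ, hτE, hτk⟩ : ∃ τ ∈ E, τ ∉ kerM W Y := by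
    by_contra hcon
    push Not at hcon
    exact hne hcon
  refine ⟨τ, hτE, ?_⟩
  by_contra hcon
  push Not at hcon
  -- then `E ⊆ C ∪ τ⁻¹ C`
  have hsub : (E : Set G) ⊆ (C : Set G) ∪ (fun x => τ⁻¹ * x) '' (C : Set G) := by
    intro x hx
    by_cases hxk : x ∈ kerM W Y
    · exact Or.inl ⟨hx, hxk⟩
    · have := hcon x hx hτk hxk
      refine Or.inr ⟨τ * x, ⟨E.mul_mem hτE hx, this⟩, ?_⟩
      simp
  have h1 : Nat.card E = Set.ncard (E : Set G) := Nat.card_coe_set_eq _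
  have h2 : Nat.card C = Set.ncard (C : Set G) := Nat.card_coe_set_eq _
  have h3 : Set.ncard (E : Set G) ≤ Set.ncard (C : Set G) + Set.ncard (C : Set G) :=
    calc Set.ncard (E : Set G) ≤ Set.ncard ((C : Set G) ∪ (fun x => τ⁻¹ * x) '' (C : Set G)) :=
          Set.ncard_le_ncard hsub (Set.toFinite _)
      _ ≤ Set.ncard (C : Set G) + Set.ncard ((fun x => τ⁻¹ * x) '' (C : Set G)) :=
          Set.ncard_union_le _ _
      _ ≤ Set.ncard (C : Set G) + Set.ncard (C : Set G) :=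
          Nat.add_le_add_left (Set.ncard_image_le (Set.toFinite _)) _
  have hCpos : 0 < Nat.card C := Nat.card_pos
  omega

end Cfsg.Agent.Helper25.TH1B
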