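import Mathlib
import Cfsg.Prelude.Def_Local
import Cfsg.Agent.Lib.Helper89.TH1Defs

/-!
# Sub-lemmas for piece (COREB) of helper89's TH1 server (S3797), part 2

Class-2 calculus in `Y` modulo `W` and (TRIV): an element `e ∈ E` whose square acts trivially on `M = Y / W`
and which commutes with `K₁` modulo the kernel of the action on `M` acts trivially on `M`.
"`g` acts trivially on `M`" is written `∀ y ∈ Y, g * y * g⁻¹ * y⁻¹ ∈ W`.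
-/

set_option autoImplicit false
set_option linter.unusedVariables false
set_option linter.unusedSectionVars false

namespace Cfsg.Agent.Helper25.TH1

open Cfsg Subgroup Cfsg.Agent.Helper89.TH1
open scoped commutatorElement

universe u

variable {G : Type u} [Group G] [Finite G]

/-- the hypotheses on `W ≤ Y` used in the class-2 calculus. -/
structure C2 (W Y : Subgroup G) : Prop where
  le : W ≤ Y
  cen : ∀ w ∈ W, ∀ y ∈ Y, w * y = y * w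
  wsq : ∀ w ∈ W, w * w = 1
  sq : ∀ y ∈ Y, y * y ∈ W
  comm : ∀ x ∈ Y, ∀ y ∈ Y, x * y * x⁻¹ * y⁻¹ ∈ W

theorem C2.of_core {W Y K₁ E Q₀ N : Subgroup G} (hC : Core G W Y K₁ E Q₀ N) : C2 W Y where
  le := hC.W_lt_Y.le
  cen := hC.W_central
  wsq := fun w hw => by have := hC.W_exp w hw; rwa [pow_two] at this
  sq := fun y hy => by have := hC.sq_mem y hy; rwa [pow_two] at this
  comm := fun x hx y hy => by
    have := hC.comm_mem x hx y hy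
    rwa [commutatorElement_def] at this

namespace C2

variable {W Y : Subgroup G} (h : C2 W Y)
include h

theorem winv {w : G} (hw : w ∈ W) : w⁻¹ = w := by
  have := h.wsq w hw
  exact inv_eq_of_mul_eq_one_left this

/-- `[x y, z] = [x, z] [y, z]`. -/
theorem bil_left {x y z : G} (hx : x ∈ Y) (hy : y ∈ Y) (hz : z ∈ Y) :
    (x * y) * z * (x * y)⁻¹ * z⁻¹ = (x * z * x⁻¹ * z⁻¹) * (y * z * y⁻¹ * z⁻¹) := by
  have e1 : (x * y) * z * (x * y)⁻¹ * z⁻¹ = x * (y * z * y⁻¹ * z⁻¹) * x⁻¹ * (x * z * x⁻¹ * z⁻¹) := by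
    group
  have hc := h.comm y hy z hz
  have e2 : x * (y * z * y⁻¹ * z⁻¹) = (y * z * y⁻¹ * z⁻¹) * x := (h.cen _ hc x hx).symm
  rw [e1, e2]
  have e3 : (y * z * y⁻¹ * z⁻¹) * x * x⁻¹ = y * z * y⁻¹ * z⁻¹ := by group
  rw [e3]
  exact h.cen _ hc _ (h.le (h.comm x hx z hz))

/-- `[x, y z] = [x, y] [x, z]`. -/
theorem bil_right {x y z : G} (hx : x ∈ Y) (hy : y ∈ Y) (hz : z ∈ Y) :
    x * (y * z) * x⁻¹ * (y * z)⁻¹ = (x * y * x⁻¹ * y⁻¹) * (x * z * x⁻¹ * z⁻¹) := by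
  have e1 : x * (y * z) * x⁻¹ * (y * z)⁻¹ = (x * y * x⁻¹ * y⁻¹) * (y * (x * z * x⁻¹ * z⁻¹) * y⁻¹) := by
    group
  have hc := h.comm x hx z hz
  have e2 : y * (x * z * x⁻¹ * z⁻¹) = (x * z * x⁻¹ * z⁻¹) * y := (h.cen _ hc y hy).symm
  rw [e1, e2]
  congr 1
  group

/-- `[y, x] = [x, y]`. -/
theorem symm {x y : G} (hx : x ∈ Y) (hy : y ∈ Y) :
    y * x * y⁻¹ * x⁻¹ = x * y * x⁻¹ * y⁻¹ := by
  have e : y * x * y⁻¹ * x⁻¹ = (x * y * x⁻¹ * y⁻¹)⁻¹ := by group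
  rw [e, h.winv (h.comm x hx y hy)]

/-- `[w x, y] = [x, y]` for `w ∈ W`. -/
theorem left_w {w x y : G} (hw : w ∈ W) (hx : x ∈ Y) (hy : y ∈ Y) :
    (w * x) * y * (w * x)⁻¹ * y⁻¹ = x * y * x⁻¹ * y⁻¹ := by
  rw [h.bil_left (h.le hw) hx hy]
  have : w * y * w⁻¹ * y⁻¹ = 1 := by rw [h.cen w hw y hy]; group
  rw [this, one_mul]

/-- `[x, w y] = [x, y]` for `w ∈ W`. -/
theorem right_w {w x y : G} (hw : w ∈ W) (hx : x ∈ Y) (hy : y ∈ Y) :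
    x * (w * y) * x⁻¹ * (w * y)⁻¹ = x * y * x⁻¹ * y⁻¹ := by
  rw [h.bil_right hx (h.le hw) hy]
  have : x * w * x⁻¹ * w⁻¹ = 1 := by rw [← h.cen w hw x hx]; group
  rw [this, one_mul]

/-- `[x⁻¹, y] = [x, y]`. -/
theorem left_inv {x y : G} (hx : x ∈ Y) (hy : y ∈ Y) :
    x⁻¹ * y * x⁻¹⁻¹ * y⁻¹ = x * y * x⁻¹ * y⁻¹ := by
  have h1 := h.bil_left (Y.inv_mem hx) hx hy
  have e : (x⁻¹ * x) * y * (x⁻¹ * x)⁻¹ * y⁻¹ = 1 := by group
  rw [e] at h1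
  have h2 : x⁻¹ * y * x⁻¹⁻¹ * y⁻¹ = (x * y * x⁻¹ * y⁻¹)⁻¹ := eq_inv_of_mul_eq_one_left h1.symm
  rw [h2, h.winv (h.comm x hx y hy)]

/-- `[x, y⁻¹] = [x, y]`. -/
theorem right_inv {x y : G} (hx : x ∈ Y) (hy : y ∈ Y) :
    x * y⁻¹ * x⁻¹ * y⁻¹⁻¹ = x * y * x⁻¹ * y⁻¹ := by
  rw [h.symm (Y.inv_mem hy) hx, h.left_inv hy hx, h.symm hx hy]

/-- `(x y)² = x² y² [y, x]`. -/
theorem sq_mul {x y : G} (hx : x ∈ Y) (hy : y ∈ Y) :
    (x * y) * (x * y) = (x * x) * (y * y) * (y * x * y⁻¹ * x⁻¹) := by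
  have e1 : (x * y) * (x * y) = x * (y * x * y⁻¹ * x⁻¹) * x * y * y := by group
  have hc := h.comm y hy x hx
  rw [e1, ← h.cen _ hc x hx]
  have e2 : y * x * y⁻¹ * x⁻¹ * x * x * y * y = (y * x * y⁻¹ * x⁻¹) * ((x * x) * (y * y)) := by group
  rw [e2]
  exact h.cen _ hc _ (Y.mul_mem (Y.mul_mem hx hx) (Y.mul_mem hy hy))

/-- `(w y)² = y²`. -/
theorem sq_w {w y : G} (hw : w ∈ W) (hy : y ∈ Y) : (w * y) * (w * y) = y * y := by
  have e1 : (w * y) * (w * y) = w * (y * w) * y := by group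
  rw [e1, ← h.cen w hw y hy]
  have e2 : w * (w * y) * y = (w * w) * (y * y) := by group
  rw [e2, h.wsq w hw, one_mul]

end C2

/-- elements normalizing `Y` and `W`, in elementwise form (both directions). -/
structure Stab (W Y : Subgroup G) (g : G) : Prop where
  Y1 : ∀ y ∈ Y, g * y * g⁻¹ ∈ Y
  Y2 : ∀ y ∈ Y, g⁻¹ * y * g ∈ Y
  W1 : ∀ w ∈ W, g * w * g⁻¹ ∈ W
  W2 : ∀ w ∈ W, g⁻¹ * w * g ∈ W

theorem Stab.of_subgroup {W Y X : Subgroup G} (hY : ∀ g ∈ X, ∀ y ∈ Y, g * y * g⁻¹ ∈ Y)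
    (hW : ∀ g ∈ X, ∀ w ∈ W, g * w * g⁻¹ ∈ W) {g : G} (hg : g ∈ X) : Stab W Y g where
  Y1 := hY g hg
  Y2 := fun y hy => by simpa using hY g⁻¹ (X.inv_mem hg) y hy
  W1 := hW g hg
  W2 := fun w hw => by simpa using hW g⁻¹ (X.inv_mem hg) w hw

theorem Stab.inv {W Y : Subgroup G} {g : G} (hg : Stab W Y g) : Stab W Y g⁻¹ where
  Y1 := fun y hy => by simpa using hg.Y2 y hy
  Y2 := fun y hy => by simpa using hg.Y1 y hy
  W1 := fun w hw => by simpa using hg.W2 w hw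
  W2 := fun w hw => by simpa using hg.W1 w hw

theorem Stab.mul {W Y : Subgroup G} {g g' : G} (hg : Stab W Y g) (hg' : Stab W Y g') :
    Stab W Y (g * g') where
  Y1 := fun y hy => by
    have := hg.Y1 _ (hg'.Y1 y hy)
    have e : g * g' * y * (g * g')⁻¹ = g * (g' * y * g'⁻¹) * g⁻¹ := by group
    rwa [e]
  Y2 := fun y hy => by
    have := hg'.Y2 _ (hg.Y2 y hy)
    have e : (g * g')⁻¹ * y * (g * g') = g'⁻¹ * (g⁻¹ * y * g) * g' := by group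
    rwa [e]
  W1 := fun y hy => by
    have := hg.W1 _ (hg'.W1 y hy)
    have e : g * g' * y * (g * g')⁻¹ = g * (g' * y * g'⁻¹) * g⁻¹ := by group
    rwa [e]
  W2 := fun y hy => by
    have := hg'.W2 _ (hg.W2 y hy)
    have e : (g * g')⁻¹ * y * (g * g') = g'⁻¹ * (g⁻¹ * y * g) * g' := by group
    rwa [e]

/-- `g` acts trivially on `M = Y / W`. -/
def TrivOn (W Y : Subgroup G) (g : G) : Prop := ∀ y ∈ Y, g * y * g⁻¹ * y⁻¹ ∈ W

theorem TrivOn.inv {W Y : Subgroup G} {g : G} (hs : Stab W Y g) (hg : TrivOn W Y g) :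
    TrivOn W Y g⁻¹ := by
  intro y hy
  have h1 := hg _ (hs.Y2 y hy)
  have e : g * (g⁻¹ * y * g) * g⁻¹ * (g⁻¹ * y * g)⁻¹ = (g⁻¹ * y * g⁻¹⁻¹ * y⁻¹)⁻¹ := by group
  rw [e] at h1
  simpa using W.inv_mem h1

theorem TrivOn.mul {W Y : Subgroup G} {g g' : G} (hs : Stab W Y g) (hg : TrivOn W Y g)
    (hg' : TrivOn W Y g') : TrivOn W Y (g * g') := by
  intro y hy
  have e : g * g' * y * (g * g')⁻¹ * y⁻¹ = g * (g' * y * g'⁻¹ * y⁻¹) * g⁻¹ * (g * y * g⁻¹ * y⁻¹) := by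
    group
  rw [e]
  exact W.mul_mem (hs.W1 _ (hg' y hy)) (hg y hy)

/-- `[c g, y] = [c, g y g⁻¹] [g, y]`: multiplying by an element acting trivially changes `[g, y]` by `W`. -/
theorem comm_mul_triv {W Y : Subgroup G} {c g : G} (hs : Stab W Y g) (hc : TrivOn W Y c)
    {y : G} (hy : y ∈ Y) :
    ∃ w ∈ W, (c * g) * y * (c * g)⁻¹ * y⁻¹ = w * (g * y * g⁻¹ * y⁻¹) := by
  refine ⟨c * (g * y * g⁻¹) * c⁻¹ * (g * y * g⁻¹)⁻¹, hc _ (hs.Y1 y hy), ?_⟩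
  group

/-- (TRIV) -/
theorem triv_of_sq_triv {W Y K₁ E Q₀ N : Subgroup G} (hC : Core G W Y K₁ E Q₀ N) {e : G} (he : e ∈ E)
    (he2 : ∀ y ∈ Y, ⁅e ^ 2, y⁆ ∈ W) (hek : ∀ k ∈ K₁, ∀ y ∈ Y, ⁅⁅e, k⁆, y⁆ ∈ W) :
    ∀ y ∈ Y, ⁅e, y⁆ ∈ W := by
  have h := C2.of_core hC
  have hse : Stab W Y e := Stab.of_subgroup hC.N_Y hC.N_W (hC.E_le_N he)
  have hKW' : ∀ g ∈ K₁, ∀ w ∈ W, g * w * g⁻¹ ∈ W := by
    intro g hg w hw
    rw [hC.K_W g hg w hw]; simpa using hw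
  have hsk : ∀ k ∈ K₁, Stab W Y k := fun k hk => Stab.of_subgroup hC.K_Y hKW' hk
  have heW : ∀ w ∈ W, e * w * e⁻¹ = w := by
    intro w hw
    rw [hC.E_W e he w hw]; group
  -- notation: `u y = [e, y]`
  have hu : ∀ y ∈ Y, e * y * e⁻¹ * y⁻¹ ∈ Y := fun y hy => Y.mul_mem (hse.Y1 y hy) (Y.inv_mem hy)
  -- `(y^e)^e = w y`
  have he2' : ∀ y ∈ Y, ∃ w ∈ W, e * (e * y * e⁻¹) * e⁻¹ = w * y := by
    intro y hy
    refine ⟨_, he2 y hy, ?_⟩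
    rw [commutatorElement_def, pow_two]; group
  -- isometry: `[x^e, y^e] = [x, y]`
  have hiso : ∀ x ∈ Y, ∀ y ∈ Y, (e * x * e⁻¹) * (e * y * e⁻¹) * (e * x * e⁻¹)⁻¹ * (e * y * e⁻¹)⁻¹ =
      x * y * x⁻¹ * y⁻¹ := by
    intro x hx y hy
    have e1 : (e * x * e⁻¹) * (e * y * e⁻¹) * (e * x * e⁻¹)⁻¹ * (e * y * e⁻¹)⁻¹ =
        e * (x * y * x⁻¹ * y⁻¹) * e⁻¹ := by group
    rw [e1, heW _ (h.comm x hx y hy)]
  -- Step 1: `[u x, u y] = 1`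
  have hstep1 : ∀ x ∈ Y, ∀ y ∈ Y,
      (e * x * e⁻¹ * x⁻¹) * (e * y * e⁻¹ * y⁻¹) * (e * x * e⁻¹ * x⁻¹)⁻¹ * (e * y * e⁻¹ * y⁻¹)⁻¹ = 1 := by
    intro x hx y hy
    have hxe := hse.Y1 x hx
    have hye := hse.Y1 y hy
    have hxi := Y.inv_mem hx
    have hyi := Y.inv_mem hy
    rw [h.bil_left hxe hxi (Y.mul_mem hye hyi), h.bil_right hxe hye hyi, h.bil_right hxi hye hyi,
      h.right_inv hxe hy, h.left_inv hx hye, h.left_inv hx hyi, h.right_inv hx hy, hiso x hx y hy]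
    -- `[x^e, y] = [x, y^e]`
    have hkey : (e * x * e⁻¹) * y * (e * x * e⁻¹)⁻¹ * y⁻¹ =
        x * (e * y * e⁻¹) * x⁻¹ * (e * y * e⁻¹)⁻¹ := by
      rw [← hiso _ hxe y hy]
      obtain ⟨w, hw, hwx⟩ := he2' x hx
      rw [hwx, h.left_w hw hx hye]
    rw [hkey]
    set a := x * y * x⁻¹ * y⁻¹ with ha
    set b := x * (e * y * e⁻¹) * x⁻¹ * (e * y * e⁻¹)⁻¹ with hb
    have haW : a ∈ W := h.comm x hx y hy
    have hbW : b ∈ W := h.comm x hx _ hye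
    have hab : a * b = b * a := h.cen a haW b (h.le hbW)
    calc a * b * (b * a) = a * (b * b) * a := by group
      _ = 1 := by rw [h.wsq b hbW, mul_one, h.wsq a haW]
  -- Step 3: `k (u y) k⁻¹ = w u(k y k⁻¹)`
  have hstep3 : ∀ k ∈ K₁, ∀ y ∈ Y, ∃ w ∈ W, k * (e * y * e⁻¹ * y⁻¹) * k⁻¹ =
      w * (e * (k * y * k⁻¹) * e⁻¹ * (k * y * k⁻¹)⁻¹) := by
    intro k hk y hy
    have hc : TrivOn W Y ⁅e, k⁆ := by
      intro z hz
      have := hek k hk z hz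
      rwa [commutatorElement_def ⁅e, k⁆ z] at this
    have hsc : Stab W Y ⁅e, k⁆ := by
      rw [commutatorElement_def]
      exact ((hse.mul (hsk k hk)).mul hse.inv).mul (hsk k hk).inv
    have hc' : TrivOn W Y ⁅e, k⁆⁻¹ := hc.inv hsc
    obtain ⟨w, hw, hwe⟩ := comm_mul_triv hse hc' (hC.K_Y k hk y hy)
    refine ⟨w, hw, ?_⟩
    rw [← hwe, commutatorElement_def]
    group
  -- conclusion
  intro y hy
  rw [commutatorElement_def]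
  apply hC.K_fpf _ (hu y hy)
  intro k hk
  rw [commutatorElement_def]
  set u := e * y * e⁻¹ * y⁻¹ with hudef
  have huY : u ∈ Y := hu y hy
  obtain ⟨w₁, hw₁, hv⟩ := hstep3 k hk y hy
  set y' := k * y * k⁻¹ with hy'def
  have hy' : y' ∈ Y := hC.K_Y k hk y hy
  set u' := e * y' * e⁻¹ * y'⁻¹ with hu'def
  have hu'Y : u' ∈ Y := hu y' hy'
  -- `u'² = u²`
  have hsq : u' * u' = u * u := by
    have h1 : (k * u * k⁻¹) * (k * u * k⁻¹) = u * u := by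
      have e1 : (k * u * k⁻¹) * (k * u * k⁻¹) = k * (u * u) * k⁻¹ := by group
      rw [e1, hC.K_W k hk _ (h.sq u huY)]; group
    rw [hv, h.sq_w hw₁ hu'Y] at h1
    exact h1
  -- `(u u')² = 1`
  have hprod : (u * u') * (u * u') = 1 := by
    rw [h.sq_mul huY hu'Y, hsq]
    have h1 := hstep1 y' hy' y hy
    rw [h1, mul_one]
    exact h.wsq _ (h.sq u huY)
  have hw₂ : u * u' ∈ W := hC.inv_mem _ (by rw [pow_two]; exact hprod)
  -- `u k u⁻¹ k⁻¹ = u (k u k⁻¹)⁻¹`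
  have e1 : u * k * u⁻¹ * k⁻¹ = u * (k * u * k⁻¹)⁻¹ := by group
  rw [e1, hv]
  have e2 : u * (w₁ * u')⁻¹ = (u * u) * (u * u')⁻¹ * w₁⁻¹ := by
    have : u * (w₁ * u')⁻¹ = u * u'⁻¹ * w₁⁻¹ := by group
    rw [this]
    have e3 : (u * u) * (u * u')⁻¹ = u * (u * u'⁻¹) * u⁻¹ := by group
    have hcomm : u * u'⁻¹ ∈ W := by
      have : u * u'⁻¹ = (u * u') * (u' * u')⁻¹ := by group
      rw [this]
      exact W.mul_mem hw₂ (W.inv_mem (h.sq u' hu'Y))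
    rw [e3, ← h.cen _ hcomm u huY]
    group
  rw [e2]
  exact W.mul_mem (W.mul_mem (h.sq u huY) (W.inv_mem hw₂)) (W.inv_mem hw₁)

end Cfsg.Agent.Helper25.TH1
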