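import Mathlib
import Cfsg.Prelude.Def_Local
import Cfsg.Agent.Lib.Helper89.TH1Defs
import Cfsg.Agent.Lib.Helper81.TH1BDefs
import Cfsg.Agent.Lib.Helper25.TH1CoreB2
import Cfsg.Agent.Lib.Helper25.RuZQUAD

/-!
# TH1B sub-server (helper81, piece (COREB) of helper89's TH1 server, S3797): piece (STAR) `star` (second seat)
-/

set_option autoImplicit false
set_option linter.unusedVariables false
set_option linter.unusedSectionVars false

namespace Cfsg.Agent.Helper25.TH1B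

open Cfsg Subgroup Cfsg.Agent.Helper89.TH1 Cfsg.Agent.Helper81.TH1B
open Cfsg.Agent.Helper25.TH1
open scoped commutatorElement

universe u

variable {G : Type u} [Group G] [Finite G] {W Y K₁ E Q₀ N : Subgroup G}

/-- `card A * A.relIndex M = card M`. -/
theorem card_mul_relIndex' {A M : Subgroup G} (hAM : A ≤ M) :
    Nat.card A * A.relIndex M = Nat.card M := by
  have := Subgroup.card_mul_index (A.subgroupOf M)
  rw [← this]
  congr 1
  exact (Nat.card_congr (Subgroup.subgroupOfEquivOfLe hAM).toEquiv).symm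

/-- a proper subgroup of an elementary abelian 2-group lies in a subgroup of index 2. -/
theorem exists_index_two {W R : Subgroup G} (hW2 : ∀ w ∈ W, w * w = 1)
    (hWc : ∀ a ∈ W, ∀ b ∈ W, a * b = b * a) (hRW : R ≤ W) (hne : R ≠ W) :
    ∃ W₀ : Subgroup G, R ≤ W₀ ∧ W₀ ≤ W ∧ W₀.relIndex W = 2 := by
  obtain ⟨W₀, ⟨hRW₀, hW₀W, hW₀ne⟩, hmax⟩ : ∃ H : Subgroup G, (R ≤ H ∧ H ≤ W ∧ H ≠ W) ∧
      ∀ H' : Subgroup G, (R ≤ H' ∧ H' ≤ W ∧ H' ≠ W) → Nat.card H' ≤ Nat.card H := by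
    have : Nonempty {H : Subgroup G // R ≤ H ∧ H ≤ W ∧ H ≠ W} := ⟨⟨R, le_refl _, hRW, hne⟩⟩
    obtain ⟨H, hH⟩ := Finite.exists_max
      (fun H : {H : Subgroup G // R ≤ H ∧ H ≤ W ∧ H ≠ W} => Nat.card H.1)
    exact ⟨H.1, H.2, fun H' hH' => hH ⟨H', hH'⟩⟩
  refine ⟨W₀, hRW₀, hW₀W, ?_⟩
  obtain ⟨x, hxW, hxW₀⟩ : ∃ x ∈ W, x ∉ W₀ := by
    by_contra hcon
    push Not at hcon
    exact hW₀ne (le_antisymm hW₀W hcon)
  have hx2 : x * x ∈ W₀ := by rw [hW2 x hxW]; exact W₀.one_mem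
  have hxn : ∀ a ∈ W₀, x * a * x⁻¹ ∈ W₀ := by
    intro a ha
    have : x * a * x⁻¹ = a := by rw [hWc x hxW a (hW₀W ha)]; group
    rw [this]; exact ha
  have hextW : Cfsg.Agent.Helper25.RuZ.ext W₀ x hx2 hxn ≤ W :=
    Cfsg.Agent.Helper25.RuZ.ext_le hW₀W hxW
  have h2le := Cfsg.Agent.Helper25.RuZ.two_mul_card_le_card_ext (hu2 := hx2) (hn := hxn) hxW₀
  have hle2 := Cfsg.Agent.Helper25.RuZ.card_ext_le (E := W₀) (u := x) (hu2 := hx2) (hn := hxn)
  have hpos : 0 < Nat.card W₀ := Nat.card_pos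
  have hext : Cfsg.Agent.Helper25.RuZ.ext W₀ x hx2 hxn = W := by
    by_contra hne'
    have := hmax _ ⟨hRW₀.trans Cfsg.Agent.Helper25.RuZ.le_ext, hextW, hne'⟩
    omega
  have hcard : Nat.card W = 2 * Nat.card W₀ := by
    rw [← hext]; omega
  have h3 := card_mul_relIndex' hW₀W
  rw [hcard] at h3
  have : Nat.card W₀ * W₀.relIndex W = Nat.card W₀ * 2 := by rw [h3]; ring
  exact Nat.eq_of_mul_eq_mul_left hpos this

/-- (STAR) -/
theorem star (hC : Core G W Y K₁ E Q₀ N) (hcard : Nat.card Y = Nat.card W ^ 3)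
    (hnd : ∀ W₀ : Subgroup G, W₀ ≤ W → W₀.relIndex W = 2 →
        ∀ y ∈ Y, (∀ x ∈ Y, ⁅x, y⁆ ∈ W₀) → y ∈ W)
    (hQ : Q₀ ≤ kerM W Y) (e : G) (he : e ∈ E) (hne : e ∉ kerM W Y)
    (C : Subgroup G) (hCm : ∀ y, y ∈ C ↔ y ∈ Y ∧ ⁅e, y⁆ ∈ W) :
    Nat.card C = Nat.card W ^ 2 ∧ ∀ y ∈ C, ∃ x ∈ Y, y * (x * (e * x * e⁻¹))⁻¹ ∈ W := by
  have h := C2.of_core hC
  have hse : Stab W Y e := Stab.of_subgroup hC.N_Y hC.N_W (hC.E_le_N he)
  have heW : ∀ w ∈ W, e * w * e⁻¹ = w := by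
    intro w hw
    rw [hC.E_W e he w hw]; group
  have hCY : C ≤ Y := fun y hy => ((hCm y).1 hy).1
  have hWC : W ≤ C := by
    intro w hw
    refine (hCm w).2 ⟨h.le hw, ?_⟩
    rw [commutatorElement_def, heW w hw]
    simp
  -- `(x^e)^e = w x`
  have he2' : ∀ x ∈ Y, ∃ w ∈ W, e * (e * x * e⁻¹) * e⁻¹ = w * x := by
    intro x hx
    refine ⟨_, (hQ (hC.E_sq e he)).2 x hx, ?_⟩
    rw [commutatorElement_def, pow_two]; group
  -- isometry
  have hiso : ∀ x ∈ Y, ∀ y ∈ Y, (e * x * e⁻¹) * (e * y * e⁻¹) * (e * x * e⁻¹)⁻¹ * (e * y * e⁻¹)⁻¹ =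
      x * y * x⁻¹ * y⁻¹ := by
    intro x hx y hy
    have e1 : (e * x * e⁻¹) * (e * y * e⁻¹) * (e * x * e⁻¹)⁻¹ * (e * y * e⁻¹)⁻¹ =
        e * (x * y * x⁻¹ * y⁻¹) * e⁻¹ := by group
    rw [e1, heW _ (h.comm x hx y hy)]
  -- the trace map
  have htY : ∀ x ∈ Y, x * (e * x * e⁻¹) ∈ Y := fun x hx => Y.mul_mem hx (hse.Y1 x hx)
  have htC : ∀ x ∈ Y, x * (e * x * e⁻¹) ∈ C := by
    intro x hx
    refine (hCm _).2 ⟨htY x hx, ?_⟩
    rw [commutatorElement_def]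
    obtain ⟨w, hw, hwx⟩ := he2' x hx
    have hxe := hse.Y1 x hx
    have e1 : e * (x * (e * x * e⁻¹)) * e⁻¹ * (x * (e * x * e⁻¹))⁻¹ =
        (e * x * e⁻¹) * (e * (e * x * e⁻¹) * e⁻¹) * (e * x * e⁻¹)⁻¹ * x⁻¹ := by group
    rw [e1, hwx]
    have e2 : (e * x * e⁻¹) * (w * x) * (e * x * e⁻¹)⁻¹ * x⁻¹ =
        ((e * x * e⁻¹) * w) * x * (e * x * e⁻¹)⁻¹ * x⁻¹ := by group
    rw [e2, ← h.cen w hw _ hxe]
    have e3 : w * (e * x * e⁻¹) * x * (e * x * e⁻¹)⁻¹ * x⁻¹ =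
        w * ((e * x * e⁻¹) * x * (e * x * e⁻¹)⁻¹ * x⁻¹) := by group
    rw [e3]
    exact W.mul_mem hw (h.comm _ hxe x hx)
  have htmul : ∀ x ∈ Y, ∀ y ∈ Y,
      ((x * (e * x * e⁻¹)) * (y * (e * y * e⁻¹)))⁻¹ * ((x * y) * (e * (x * y) * e⁻¹)) ∈ W := by
    intro x hx y hy
    have hxe := hse.Y1 x hx
    have hye := hse.Y1 y hy
    have e1 : ((x * (e * x * e⁻¹)) * (y * (e * y * e⁻¹)))⁻¹ * ((x * y) * (e * (x * y) * e⁻¹)) =
        (e * y * e⁻¹)⁻¹ * (y⁻¹ * (e * x * e⁻¹)⁻¹ * y⁻¹⁻¹ * (e * x * e⁻¹)⁻¹⁻¹) * (e * y * e⁻¹) := by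
      group
    have hc : y⁻¹ * (e * x * e⁻¹)⁻¹ * y⁻¹⁻¹ * (e * x * e⁻¹)⁻¹⁻¹ ∈ W :=
      h.comm _ (Y.inv_mem hy) _ (Y.inv_mem hxe)
    rw [e1, ← h.cen _ hc _ (Y.inv_mem hye)]
    have e2 : ∀ c : G, c * (e * y * e⁻¹)⁻¹ * (e * y * e⁻¹) = c := fun c => by group
    rw [e2]
    exact hc
  have htW : ∀ x ∈ Y, (x * (e * x * e⁻¹) ∈ W ↔ e * x * e⁻¹ * x⁻¹ ∈ W) := by
    intro x hx
    constructor
    · intro ht
      have e1 : e * x * e⁻¹ * x⁻¹ = x⁻¹ * (x * (e * x * e⁻¹)) * x⁻¹ := by group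
      rw [e1, ← h.cen _ ht _ (Y.inv_mem hx)]
      have e2 : x * (e * x * e⁻¹) * x⁻¹ * x⁻¹ = (x * (e * x * e⁻¹)) * (x * x)⁻¹ := by group
      rw [e2]
      exact W.mul_mem ht (W.inv_mem (h.sq x hx))
    · intro hc
      have e1 : x * (e * x * e⁻¹) = x * (e * x * e⁻¹ * x⁻¹) * x := by group
      rw [e1, ← h.cen _ hc x hx]
      have e2 : e * x * e⁻¹ * x⁻¹ * x * x = (e * x * e⁻¹ * x⁻¹) * (x * x) := by group
      rw [e2]
      exact W.mul_mem hc (h.sq x hx)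
  -- normality of `W` in `C`
  have hWn : (W.subgroupOf C).Normal := by
    constructor
    intro w hw c
    rw [Subgroup.mem_subgroupOf] at hw ⊢
    have : ((c * w * c⁻¹ : C) : G) = (w : G) := by
      push_cast
      rw [← h.cen _ hw _ (hCY c.2)]; group
    rw [this]; exact hw
  -- the homomorphism `θ : Y → C / W`
  let θ : ↥Y →* ↥C ⧸ W.subgroupOf C :=
    { toFun := fun x => QuotientGroup.mk ⟨(x : G) * (e * (x : G) * e⁻¹), htC x x.2⟩
      map_one' := by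
        have : (⟨((1 : ↥Y) : G) * (e * ((1 : ↥Y) : G) * e⁻¹), htC _ (1 : ↥Y).2⟩ : ↥C) = 1 := by
          apply Subtype.ext
          simp
        rw [this]; rfl
      map_mul' := by
        intro x y
        rw [← QuotientGroup.mk_mul]
        symm
        apply QuotientGroup.eq.2
        rw [Subgroup.mem_subgroupOf]
        exact htmul x x.2 y y.2 }
  have hθker : θ.ker = C.subgroupOf Y := by
    ext x
    rw [MonoidHom.mem_ker, Subgroup.mem_subgroupOf]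
    show (QuotientGroup.mk _ : ↥C ⧸ W.subgroupOf C) = 1 ↔ _
    rw [QuotientGroup.eq_one_iff, Subgroup.mem_subgroupOf]
    show (x : G) * (e * (x : G) * e⁻¹) ∈ W ↔ _
    rw [htW x x.2, hCm]
    constructor
    · intro hx; exact ⟨x.2, by rw [commutatorElement_def]; exact hx⟩
    · intro hx; have := hx.2; rwa [commutatorElement_def] at this
  have hcardker : Nat.card θ.ker = Nat.card C := by
    rw [hθker]
    exact Nat.card_congr (Subgroup.subgroupOfEquivOfLe hCY).toEquiv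
  have hY1 : Nat.card C * Nat.card θ.range = Nat.card Y := by
    have := Subgroup.card_mul_index θ.ker
    rw [Subgroup.index_ker, hcardker] at this
    exact this
  have hquot : Nat.card C = Nat.card (↥C ⧸ W.subgroupOf C) * Nat.card W := by
    have := Subgroup.card_eq_card_quotient_mul_card_subgroup (W.subgroupOf C)
    rw [this]
    congr 1
    exact Nat.card_congr (Subgroup.subgroupOfEquivOfLe hWC).toEquiv
  have hrange_le : Nat.card θ.range ≤ Nat.card (↥C ⧸ W.subgroupOf C) :=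
    Subgroup.card_le_card_group θ.range
  -- the element `v`
  obtain ⟨y₀, hy₀, hy₀W⟩ : ∃ y₀ ∈ Y, e * y₀ * e⁻¹ * y₀⁻¹ ∉ W := by
    by_contra hcon
    push Not at hcon
    apply hne
    refine ⟨E_le_actG hC he, fun y hy => ?_⟩
    rw [commutatorElement_def]; exact hcon y hy
  set v := y₀ * (e * y₀ * e⁻¹) with hv
  have hvY : v ∈ Y := htY y₀ hy₀
  have hvW : v ∉ W := fun hvw => hy₀W ((htW y₀ hy₀).1 hvw)
  -- the homomorphism `β : Y → W`
  let β : ↥Y →* ↥W :=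
    { toFun := fun x => ⟨v * (x : G) * v⁻¹ * (x : G)⁻¹, h.comm v hvY x x.2⟩
      map_one' := by apply Subtype.ext; simp
      map_mul' := by
        intro x y
        apply Subtype.ext
        exact h.bil_right hvY x.2 y.2 }
  have hβker : C.subgroupOf Y ≤ β.ker := by
    intro c hc
    rw [Subgroup.mem_subgroupOf] at hc
    rw [MonoidHom.mem_ker]
    apply Subtype.ext
    show v * (c : G) * v⁻¹ * (c : G)⁻¹ = 1
    have hcY : (c : G) ∈ Y := c.2
    have hce := hse.Y1 _ hcY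
    have hy₀e := hse.Y1 y₀ hy₀
    rw [hv, h.bil_left hy₀ hy₀e hcY]
    -- `[y₀^e, c] = [y₀, c]`
    have hcw : e * (c : G) * e⁻¹ * (c : G)⁻¹ ∈ W := by
      have := ((hCm _).1 hc).2
      rwa [commutatorElement_def] at this
    have hc' : (c : G) = (e * (c : G) * e⁻¹ * (c : G)⁻¹)⁻¹ * (e * (c : G) * e⁻¹) := by group
    have hkey : (e * y₀ * e⁻¹) * (c : G) * (e * y₀ * e⁻¹)⁻¹ * (c : G)⁻¹ =
        y₀ * (c : G) * y₀⁻¹ * (c : G)⁻¹ := by
      conv_lhs => rw [hc']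
      rw [h.right_w (W.inv_mem hcw) hy₀e hce, hiso y₀ hy₀ _ hcY]
    rw [hkey]
    exact h.wsq _ (h.comm y₀ hy₀ _ hcY)
  have hβsurj : β.range = ⊤ := by
    by_contra hnt
    set R : Subgroup G := β.range.map W.subtype with hR
    have hRW : R ≤ W := by
      rintro _ ⟨a, _, rfl⟩
      exact a.2
    have hRne : R ≠ W := by
      intro hRW'
      apply hnt
      rw [eq_top_iff]
      intro a _
      have : (a : G) ∈ R := by rw [hRW']; exact a.2
      obtain ⟨b, hb, hba⟩ := this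
      have : b = a := Subtype.ext hba
      rwa [← this]
    have hWc : ∀ a ∈ W, ∀ b ∈ W, a * b = b * a := fun a ha b hb => h.cen a ha b (h.le hb)
    obtain ⟨W₀, hRW₀, hW₀W, hidx⟩ := exists_index_two h.wsq hWc hRW hRne
    apply hvW
    apply hnd W₀ hW₀W hidx v hvY
    intro x hx
    apply hRW₀
    rw [commutatorElement_def]
    have e1 : x * v * x⁻¹ * v⁻¹ = (v * x * v⁻¹ * x⁻¹)⁻¹ := by group
    rw [e1]
    apply R.inv_mem
    exact ⟨β ⟨x, hx⟩, ⟨⟨x, hx⟩, rfl⟩, rfl⟩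
  have hY2 : Nat.card β.ker * Nat.card W = Nat.card Y := by
    have := Subgroup.card_mul_index β.ker
    rw [Subgroup.index_ker, hβsurj, Subgroup.card_top] at this
    exact this
  have hCker : Nat.card C ≤ Nat.card β.ker := by
    have := Subgroup.card_le_of_le hβker
    rwa [Nat.card_congr (Subgroup.subgroupOfEquivOfLe hCY).toEquiv] at this
  -- arithmetic
  set w := Nat.card W with hw
  set c := Nat.card C with hc
  set q := Nat.card (↥C ⧸ W.subgroupOf C) with hq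
  set r := Nat.card θ.range with hr
  have hwpos : 0 < w := Nat.card_pos
  have hcpos : 0 < c := Nat.card_pos
  have hc_le : c ≤ w ^ 2 := by
    have h1 : Nat.card β.ker * w = w ^ 3 := by rw [hY2, hcard]
    have h2 : Nat.card β.ker = w ^ 2 := by
      have : Nat.card β.ker * w = w ^ 2 * w := by rw [h1]; ring
      exact Nat.eq_of_mul_eq_mul_right hwpos this
    rw [← h2]; exact hCker
  have hc_ge : w ^ 2 ≤ c := by
    -- w^3 = c * r ≤ c * q, c = q * w, so w^4 ≤ c^2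
    have h1 : c * r = w ^ 3 := by rw [hY1, hcard]
    have h2 : w ^ 4 ≤ c ^ 2 := by
      calc w ^ 4 = (c * r) * w := by rw [h1]; ring
        _ ≤ (c * q) * w := Nat.mul_le_mul_right _ (Nat.mul_le_mul_left _ hrange_le)
        _ = c * (q * w) := by ring
        _ = c ^ 2 := by rw [← hquot]; ring
    by_contra hlt
    push Not at hlt
    have : c ^ 2 < (w ^ 2) ^ 2 := Nat.pow_lt_pow_left hlt (by norm_num)
    have e : (w ^ 2) ^ 2 = w ^ 4 := by ring
    omega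
  have hceq : c = w ^ 2 := le_antisymm hc_le hc_ge
  refine ⟨hceq, ?_⟩
  -- `θ` is surjective
  have hqw : q = w := by
    have : q * w = w * w := by rw [← hquot, hceq]; ring
    exact Nat.eq_of_mul_eq_mul_right hwpos this
  have hrw : r = w := by
    have h1 : c * r = w ^ 3 := by rw [hY1, hcard]
    rw [hceq] at h1
    have : w ^ 2 * r = w ^ 2 * w := by rw [h1]; ring
    exact Nat.eq_of_mul_eq_mul_left (by positivity) this
  have hθsurj : θ.range = ⊤ := by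
    apply (Subgroup.card_eq_iff_eq_top _).1
    rw [← hr, ← hq, hrw, hqw]
  intro y hy
  have : (QuotientGroup.mk ⟨y, hy⟩ : ↥C ⧸ W.subgroupOf C) ∈ θ.range := by rw [hθsurj]; trivial
  obtain ⟨x, hx⟩ := this
  refine ⟨x, x.2, ?_⟩
  have h1 : (QuotientGroup.mk ⟨(x : G) * (e * (x : G) * e⁻¹), htC x x.2⟩ : ↥C ⧸ W.subgroupOf C) =
      QuotientGroup.mk ⟨y, hy⟩ := hx
  have h2 := QuotientGroup.eq.1 h1
  rw [Subgroup.mem_subgroupOf] at h2
  have h3 : ((x : G) * (e * (x : G) * e⁻¹))⁻¹ * y ∈ W := h2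
  -- conjugate into the required form
  have h4 : y * ((x : G) * (e * (x : G) * e⁻¹))⁻¹ =
      y * (((x : G) * (e * (x : G) * e⁻¹))⁻¹ * y) * y⁻¹ := by group
  rw [h4, ← h.cen _ h3 y (hCY hy)]
  have e5 : ∀ a : G, a * y * y⁻¹ = a := fun a => by group
  rw [e5]
  exact h3

end Cfsg.Agent.Helper25.TH1B
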