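import Mathlib
import Cfsg.Prelude.Def_Local
import Cfsg.Agent.Lib.Helper89.TH1Defs

/-!
# Sub-lemmas for piece (COREB) of helper89's TH1 server (S3797)

* `card_sub_one_dvd` (CNT): every `N`-invariant 2-subgroup `P` has `(|W| - 1) ∣ (|P| - 1)`.
-/

set_option autoImplicit false
set_option linter.unusedVariables false
set_option linter.unusedSectionVars false

namespace Cfsg.Agent.Helper25.TH1

open Cfsg Subgroup Cfsg.Agent.Helper89.TH1
open scoped commutatorElement

universe u

variable {G : Type u} [Group G] [Finite G]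

/-- the involution of `⟨x⟩`. -/
noncomputable def invOf (x : G) : G := x ^ (orderOf x / 2)

theorem invOf_conj (g x : G) : invOf (g * x * g⁻¹) = g * invOf x * g⁻¹ := by
  unfold invOf
  have h1 : orderOf (g * x * g⁻¹) = orderOf x := by
    have : g * x * g⁻¹ = MulAut.conj g x := by simp [MulAut.conj_apply]
    rw [this, MulEquiv.orderOf_eq]
  rw [h1, conj_pow]

theorem invOf_spec {P : Subgroup G} (hP : IsPGroup 2 P) {x : G} (hx : x ∈ P) (hx1 : x ≠ 1) :
    invOf x ≠ 1 ∧ invOf x ^ 2 = 1 ∧ invOf x ∈ P := by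
  obtain ⟨k, hk⟩ := (IsPGroup.iff_orderOf.mp hP) ⟨x, hx⟩
  rw [Subgroup.orderOf_mk] at hk
  have hk0 : k ≠ 0 := by
    rintro rfl
    rw [pow_zero, orderOf_eq_one_iff] at hk
    exact hx1 hk
  obtain ⟨j, rfl⟩ := Nat.exists_eq_succ_of_ne_zero hk0
  have h2 : orderOf x / 2 = 2 ^ j := by
    rw [hk, pow_succ]; exact Nat.mul_div_cancel _ (by norm_num)
  unfold invOf
  rw [h2]
  refine ⟨?_, ?_, pow_mem hx _⟩
  · intro h
    have hd := orderOf_dvd_of_pow_eq_one h
    rw [hk, pow_succ] at hd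
    have hpos : 0 < 2 ^ j := by positivity
    have := Nat.le_of_dvd hpos hd
    omega
  · rw [← pow_mul, ← pow_succ, ← hk]; exact pow_orderOf_eq_one x

/-- (CNT) every `N`-invariant 2-subgroup `P` of `G` has `(|W| - 1) ∣ (|P| - 1)`. -/
theorem card_sub_one_dvd {W Y K₁ E Q₀ N : Subgroup G} (hC : Core G W Y K₁ E Q₀ N)
    (P : Subgroup G) (hP : IsPGroup 2 P) (hNP : ∀ g ∈ N, ∀ x ∈ P, g * x * g⁻¹ ∈ P) :
    (Nat.card W - 1) ∣ (Nat.card P - 1) := by
  classical
  have : Fintype G := Fintype.ofFinite G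
  set s : Finset G := Finset.univ.filter (fun x => x ∈ P ∧ x ≠ 1) with hs
  set t : Finset G := Finset.univ.filter (fun w => w ∈ W ∧ w ≠ 1) with ht
  have hcard : ∀ H : Subgroup G, (Finset.univ.filter (fun x => x ∈ H ∧ x ≠ 1)).card = Nat.card H - 1 := by
    intro H
    have h1 : Finset.univ.filter (fun x => x ∈ H ∧ x ≠ 1) =
        (Finset.univ.filter (fun x => x ∈ H)).erase 1 := by
      ext x; simp [and_comm]
    rw [h1, Finset.card_erase_of_mem (by simp [H.one_mem])]
    congr 1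
    rw [Nat.card_eq_fintype_card, Fintype.card_subtype]
  have hmap : ∀ x ∈ s, invOf x ∈ t := by
    intro x hx
    rw [hs, Finset.mem_filter] at hx
    obtain ⟨h1, h2, h3⟩ := invOf_spec hP hx.2.1 hx.2.2
    rw [ht, Finset.mem_filter]
    exact ⟨Finset.mem_univ _, hC.inv_mem _ h2, h1⟩
  have hfib := Finset.card_eq_sum_card_fiberwise hmap
  -- all fibres have the same size
  have hle : ∀ w ∈ t, ∀ w' ∈ t, (s.filter (fun a => invOf a = w)).card ≤
      (s.filter (fun a => invOf a = w')).card := by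
    intro w hw w' hw'
    rw [ht, Finset.mem_filter] at hw hw'
    obtain ⟨g, hg, hgw⟩ := hC.N_trans w hw.2.1 w' hw'.2.1 hw.2.2 hw'.2.2
    apply Finset.card_le_card_of_injOn (fun x => g * x * g⁻¹)
    · intro x hx
      rw [Finset.coe_filter] at hx ⊢
      obtain ⟨hxs, hxw⟩ := hx
      rw [hs, Finset.mem_filter] at hxs
      refine ⟨?_, ?_⟩
      · rw [hs, Finset.mem_filter]
        refine ⟨Finset.mem_univ _, hNP g hg x hxs.2.1, ?_⟩
        intro h
        apply hxs.2.2
        have h' : g * x * g⁻¹ = 1 := h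
        have : x = g⁻¹ * (g * x * g⁻¹) * g := by group
        rw [this, h']; group
      · show invOf (g * x * g⁻¹) = w'
        rw [invOf_conj, hxw, hgw]
    · intro x _ y _ hxy
      simpa using hxy
  have hW1 : 1 < Nat.card W := by have := hC.W_card; omega
  obtain ⟨w₀, hw₀, hw₀1⟩ : ∃ w ∈ W, w ≠ 1 := by
    by_contra hcon
    push Not at hcon
    have : W = ⊥ := (Subgroup.eq_bot_iff_forall _).2 hcon
    rw [this, Subgroup.card_bot] at hW1
    omega
  have hw₀t : w₀ ∈ t := by rw [ht, Finset.mem_filter]; exact ⟨Finset.mem_univ _, hw₀, hw₀1⟩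
  have hconst : ∀ w ∈ t, (s.filter (fun a => invOf a = w)).card =
      (s.filter (fun a => invOf a = w₀)).card :=
    fun w hw => le_antisymm (hle w hw w₀ hw₀t) (hle w₀ hw₀t w hw)
  rw [Finset.sum_congr rfl hconst, Finset.sum_const, smul_eq_mul] at hfib
  rw [← hcard P, ← hcard W]
  exact ⟨_, hfib⟩

end Cfsg.Agent.Helper25.TH1
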