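import Mathlib
import Cfsg.Agent.Lib.Helper93.U20

/-!
# U2 project (helper93 server, S2335): piece C3 `herm_eq_zero_of_hq`
(with private copies `c3_*` of the sesquilinearity identities of piece C2).
-/

set_option autoImplicit false

namespace Cfsg.Agent.Helper25.U2

open Matrix Cfsg.Agent.Helper13 Cfsg.Agent.Helper93.U2

section CNT

variable {F : Type*} [Field F] [Fintype F] {q : ℕ} (hF : Fintype.card F = q ^ 2) {m : ℕ}

theorem c3_hb_add_right (H : Matrix (Fin m) (Fin m) F) (x y z : Fin m → F) :
    hb q H x (y + z) = hb q H x y + hb q H x z := by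
  unfold hb
  rw [Matrix.mulVec_add, dotProduct_add]

theorem c3_hb_smul_right (H : Matrix (Fin m) (Fin m) F) (c : F) (x y : Fin m → F) :
    hb q H x (c • y) = c * hb q H x y := by
  unfold hb
  rw [Matrix.mulVec_smul, dotProduct_smul, smul_eq_mul]

include hF in
theorem c3_hb_add_left (H : Matrix (Fin m) (Fin m) F) (x y z : Fin m → F) :
    hb q H (x + y) z = hb q H x z + hb q H y z := by
  unfold hb
  rw [← add_dotProduct]
  congr 1
  ext i
  simp only [Pi.add_apply]
  exact map_add (frobQ hF) _ _

theorem c3_hb_smul_left (H : Matrix (Fin m) (Fin m) F) (c : F) (x y : Fin m → F) :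
    hb q H (c • x) y = c ^ q * hb q H x y := by
  unfold hb
  rw [← smul_eq_mul, ← smul_dotProduct]
  congr 1
  ext i
  simp only [Pi.smul_apply, smul_eq_mul, mul_pow]

theorem c3_hb_conj (H : Matrix (Fin m) (Fin m) F) (hH : cT hF H = H) (x y : Fin m → F) :
    (hb q H x y) ^ q = hb q H y x := by
  have hHij : ∀ i j, H i j ^ q = H j i := by
    intro i j
    rw [← cT_apply hF H j i, hH]
  unfold hb
  simp only [dotProduct, Matrix.mulVec]
  rw [← frobQ_apply hF, map_sum]
  simp only [map_mul, map_sum, frobQ_apply, frob_frob hF, hHij, Finset.mul_sum]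
  rw [Finset.sum_comm]
  apply Finset.sum_congr rfl
  intro j _
  apply Finset.sum_congr rfl
  intro i _
  ring

/-- piece C3 -/
theorem herm_eq_zero_of_hq (H : Matrix (Fin m) (Fin m) F) (hH : cT hF H = H)
    (h : ∀ x, hq q H x = 0) : H = 0 := by
  have hq0 : q ≠ 0 := (q_pos hF).ne'
  have hbb : ∀ x y, hb q H x y = 0 := by
    intro x y
    by_contra hb0
    set b := hb q H x y with hb_def
    have key : ∀ t : F, (t * b) ^ q + t * b = 0 := by
      intro t
      have h1 := h (x + t • y)
      change hb q H (x + t • y) (x + t • y) = 0 at h1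
      rw [c3_hb_add_left hF, c3_hb_add_right, c3_hb_add_right, c3_hb_smul_left, c3_hb_smul_right,
        c3_hb_smul_right, c3_hb_smul_left] at h1
      have hxx : hb q H x x = 0 := h x
      have hyy : hb q H y y = 0 := h y
      have hyx : hb q H y x = b ^ q := (c3_hb_conj hF H hH x y).symm
      rw [hxx, hyy, hyx, ← hb_def] at h1
      rw [mul_pow]
      linear_combination h1
    obtain ⟨z, hz⟩ := trace_surj_involution (frobQ hF) (frobQ_ne_id hF) (frobQ_frobQ hF) 1
      (map_one _)
    have h2 := key (z / b)
    rw [div_mul_cancel₀ _ hb0] at h2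
    rw [frobQ_apply] at hz
    have : (1 : F) = 0 := by
      rw [← hz, add_comm]
      exact h2
    exact one_ne_zero this
  ext i j
  have h3 := hbb (Pi.single i 1) (Pi.single j 1)
  have h4 : (fun k => (Pi.single i (1 : F) : Fin m → F) k ^ q) = Pi.single i 1 := by
    ext k
    by_cases hk : k = i
    · subst hk
      simp
    · simp [Pi.single_apply, hk, zero_pow hq0]
  unfold hb at h3
  rw [h4] at h3
  simpa using h3

end CNT

end Cfsg.Agent.Helper25.U2
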