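import Mathlib
import Cfsg.Agent.Lib.Helper93.U20
import Cfsg.Agent.Lib.Helper34.U2C4

/-!
# U2 project (helper93 server, S2335): pieces C5a `count_le_of_transvection`, C5 `count_const`
(with a private copy `c5_hq_cong` of piece C1 (2)).
-/

set_option autoImplicit false

namespace Cfsg.Agent.Helper25.U2

open Matrix Cfsg.Agent.Helper13 Cfsg.Agent.Helper93.U2

section CNT

variable {F : Type*} [Field F] [Fintype F] {q : ℕ} (hF : Fintype.card F = q ^ 2) {m : ℕ}

theorem c5_hq_cong (t H : Matrix (Fin m) (Fin m) F) (x : Fin m → F) :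
    hq q (cT hF t * H * t) x = hq q H (t *ᵥ x) := by
  unfold hq
  rw [← Matrix.mulVec_mulVec, ← Matrix.mulVec_mulVec, Matrix.dotProduct_mulVec]
  congr 1
  ext j
  simp only [Matrix.vecMul, dotProduct, cT_apply, Matrix.mulVec]
  rw [← frobQ_apply hF (∑ i, t j i * x i), map_sum]
  apply Finset.sum_congr rfl
  intro i _
  rw [map_mul, frobQ_apply, frobQ_apply, mul_comm]

/-- piece C5a -/
theorem count_le_of_transvection (O : Set (Matrix (Fin m) (Fin m) F))
    (hcl : ∀ E : Matrix (Fin m) (Fin m) F, E * E = 0 → ∀ H ∈ O, cT hF (1 + E) * H * (1 + E) ∈ O)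
    (E : Matrix (Fin m) (Fin m) F) (hE : E * E = 0) (c : F) (x : Fin m → F) :
    {H ∈ O | hq q H ((1 + E) *ᵥ x) = c}.ncard ≤ {H ∈ O | hq q H x = c}.ncard := by
  have hinv : (1 + E) * (1 - E) = 1 := by
    rw [mul_sub, mul_one, add_mul, one_mul, hE]
    abel
  have hinv' : cT hF (1 - E) * cT hF (1 + E) = 1 := by
    rw [← cT_mul, hinv, cT_one]
  apply Set.ncard_le_ncard_of_injOn (fun H => cT hF (1 + E) * H * (1 + E))
  · intro H hH
    obtain ⟨hHO, hHc⟩ := hH
    refine ⟨hcl E hE H hHO, ?_⟩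
    change hq q (cT hF (1 + E) * H * (1 + E)) x = c
    rw [c5_hq_cong hF]
    exact hHc
  · intro H _ H' _ hHH'
    have h1 : cT hF (1 - E) * (cT hF (1 + E) * H * (1 + E)) * (1 - E) =
        cT hF (1 - E) * (cT hF (1 + E) * H' * (1 + E)) * (1 - E) := by
      simp only at hHH'
      rw [hHH']
    have h2 : ∀ K : Matrix (Fin m) (Fin m) F,
        cT hF (1 - E) * (cT hF (1 + E) * K * (1 + E)) * (1 - E) = K := by
      intro K
      calc cT hF (1 - E) * (cT hF (1 + E) * K * (1 + E)) * (1 - E)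
          = (cT hF (1 - E) * cT hF (1 + E)) * K * ((1 + E) * (1 - E)) := by
            simp only [Matrix.mul_assoc]
        _ = K := by rw [hinv, hinv', Matrix.one_mul, Matrix.mul_one]
    rw [h2, h2] at h1
    exact h1

/-- piece C5 -/
theorem count_const (hm : 2 ≤ m) (O : Set (Matrix (Fin m) (Fin m) F))
    (hcl : ∀ E : Matrix (Fin m) (Fin m) F, E * E = 0 → ∀ H ∈ O, cT hF (1 + E) * H * (1 + E) ∈ O)
    (c : F) (x y : Fin m → F) (hx : x ≠ 0) (hy : y ≠ 0) :
    {H ∈ O | hq q H x = c}.ncard = {H ∈ O | hq q H y = c}.ncard := by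
  have key : ∀ x y : Fin m → F, x ≠ 0 → y ≠ 0 →
      {H ∈ O | hq q H y = c}.ncard ≤ {H ∈ O | hq q H x = c}.ncard := by
    intro x y hx hy
    obtain ⟨E₁, E₂, h1, h2, h12⟩ := Cfsg.Agent.Helper34.U2.exists_transvections hm x y hx hy
    rw [← h12]
    exact le_trans (count_le_of_transvection hF O hcl E₂ h2 c _)
      (count_le_of_transvection hF O hcl E₁ h1 c x)
  exact le_antisymm (key y x hy hx) (key x y hx hy)

end CNT

end Cfsg.Agent.Helper25.U2
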