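import Mathlib
import Cfsg.Agent.Lib.Helper93.U20
import Cfsg.Agent.Lib.Helper34.U2C0
import Cfsg.Agent.Lib.Helper79.U2C7a
import Cfsg.Agent.Lib.Helper25.U2C3

set_option autoImplicit false

namespace Cfsg.Agent.Helper25.U2

open Matrix Cfsg.Agent.Helper13 Cfsg.Agent.Helper93.U2

section CNT

variable {F : Type*} [Field F] [Fintype F] {q : ℕ} (hF : Fintype.card F = q ^ 2) {m : ℕ}

/-- piece C7 (uses C0, C2, C3, C7a) -/
theorem count_upper (H : Matrix (Fin m) (Fin m) F) (hH : cT hF H = H) (hH0 : H ≠ 0)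
    (c : F) (hc : c ≠ 0) :
    {x : Fin m → F | hq q H x = c}.ncard ≤ (q + 1) * q ^ (2 * (m - 1)) := by
  classical
  have hq0 : q ≠ 0 := (q_pos hF).ne'
  obtain ⟨x₁, hx₁⟩ : ∃ x₁, hq q H x₁ ≠ 0 := by
    by_contra hcon
    apply hH0
    apply herm_eq_zero_of_hq hF H hH
    intro x
    by_contra hx
    exact hcon ⟨x, hx⟩
  set a := hq q H x₁ with ha
  have haa : hb q H x₁ x₁ = a := rfl
  set x₀ : Fin m → F := Matrix.vecMul (fun i => x₁ i ^ q) H with hx₀
  have hbx : ∀ w, hb q H x₁ w = w ⬝ᵥ x₀ := by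
    intro w
    unfold hb
    rw [Matrix.dotProduct_mulVec, dotProduct_comm]
  have hx₀ne : x₀ ≠ 0 := by
    intro h0
    apply hx₁
    have := hbx x₁
    rw [h0, dotProduct_zero, haa] at this
    exact this
  have hW := Cfsg.Agent.Helper34.U2.ncard_dot_eq_zero hF x₀ hx₀ne
  let t : (Fin m → F) → F := fun x => hb q H x₁ x / a
  let w : (Fin m → F) → (Fin m → F) := fun x => x - t x • x₁
  have hwW : ∀ x, w x ⬝ᵥ x₀ = 0 := by
    intro x
    rw [← hbx]
    simp only [w]
    rw [sub_eq_add_neg, c3_hb_add_right, ← neg_smul, c3_hb_smul_right, haa]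
    simp only [t]
    field_simp
    ring
  have hdecomp : ∀ x, hq q H x = t x ^ (q + 1) * a + hq q H (w x) := by
    intro x
    have hx : x = t x • x₁ + w x := by simp [w]
    have h1 : hb q H x₁ (w x) = 0 := by rw [hbx]; exact hwW x
    have h2 : hb q H (w x) x₁ = 0 := by rw [← c3_hb_conj hF H hH, h1, zero_pow hq0]
    conv_lhs => rw [hx]
    change hb q H (t x • x₁ + w x) (t x • x₁ + w x) = _
    rw [c3_hb_add_left hF, c3_hb_add_right, c3_hb_add_right, c3_hb_smul_left, c3_hb_smul_right,
      c3_hb_smul_left,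
      c3_hb_smul_right, h1, h2, haa]
    change _ = t x ^ (q + 1) * a + hb q H (w x) (w x)
    ring
  -- counting
  set sF : Finset (Fin m → F) := Finset.univ.filter (fun x => hq q H x = c) with hsF
  have hS : {x : Fin m → F | hq q H x = c}.ncard = sF.card := by
    rw [Set.ncard_eq_toFinset_card']
    congr 1
    ext x
    simp [hsF]
  set WF : Finset (Fin m → F) := Finset.univ.filter (fun φ => φ ⬝ᵥ x₀ = 0) with hWF
  have hWc : WF.card = q ^ (2 * (m - 1)) := by
    rw [← hW, Set.ncard_eq_toFinset_card']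
    congr 1
    ext x
    simp [hWF]
  have himg : (sF.image w).card ≤ q ^ (2 * (m - 1)) := by
    rw [← hWc]
    apply Finset.card_le_card
    intro y hy
    rw [Finset.mem_image] at hy
    obtain ⟨x, -, rfl⟩ := hy
    simp [hWF, hwW x]
  have hfib : ∀ w₀ ∈ sF.image w, (sF.filter fun x => w x = w₀).card ≤ q + 1 := by
    intro w₀ _
    set d : F := (c - hq q H w₀) / a with hd
    set TF : Finset F := Finset.univ.filter (fun s => s ^ (q + 1) = d) with hTF
    have hTc : TF.card ≤ q + 1 := by
      have := Cfsg.Agent.Helper79.U2.ncard_norm_fibre_le (q := q) d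
      rw [Set.ncard_eq_toFinset_card'] at this
      refine le_trans (le_of_eq ?_) this
      congr 1
      ext s
      simp [hTF]
    refine le_trans (Finset.card_le_card_of_injOn t ?_ ?_) hTc
    · intro x hx
      rw [Finset.coe_filter] at hx
      obtain ⟨hxS, hxw⟩ := hx
      simp only [hsF, Finset.mem_filter, Finset.mem_univ, true_and] at hxS
      simp only [hTF, Finset.coe_filter, Finset.mem_univ, true_and]
      change t x ^ (q + 1) = d
      have := hdecomp x
      rw [hxS, hxw] at this
      rw [hd, this]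
      field_simp
      ring
    · intro x hx y hy hxy
      rw [Finset.coe_filter] at hx hy
      have hx' : x = t x • x₁ + w x := by simp [w]
      have hy' : y = t y • x₁ + w y := by simp [w]
      rw [hx', hy', hx.2, hy.2, hxy]
  rw [hS]
  calc sF.card ≤ (q + 1) * (sF.image w).card := Finset.card_le_mul_card_image sF (q + 1) hfib
    _ ≤ (q + 1) * q ^ (2 * (m - 1)) := Nat.mul_le_mul_left _ himg

end CNT

end Cfsg.Agent.Helper25.U2
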