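import Mathlib
import Cfsg.Agent.Lib.Helper93.U20
import Cfsg.Agent.Lib.Helper44.U2C6
import Cfsg.Agent.Lib.Helper25.U2C3
import Cfsg.Agent.Lib.Helper25.U2C5
import Cfsg.Agent.Lib.Helper25.U2C7

/-!
# U2 project (helper93 server, S2335): piece C8 `orbit_bound`
-/

set_option autoImplicit false

namespace Cfsg.Agent.Helper25.U2

open Matrix Cfsg.Agent.Helper13 Cfsg.Agent.Helper93.U2

section CNT

variable {F : Type*} [Field F] [Fintype F] {q : ℕ} (hF : Fintype.card F = q ^ 2) {m : ℕ}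

/-- piece C8 (uses C3, C5, C6, C7) -/
theorem orbit_bound (hm : 2 ≤ m) (O : Set (Matrix (Fin m) (Fin m) F))
    (hO : ∀ H ∈ O, cT hF H = H)
    (hcl : ∀ E : Matrix (Fin m) (Fin m) F, E * E = 0 → ∀ H ∈ O, cT hF (1 + E) * H * (1 + E) ∈ O)
    (H₀ : Matrix (Fin m) (Fin m) F) (hH₀ : H₀ ∈ O) (hne : H₀ ≠ 0) :
    q ^ (2 * m) - 1 ≤ (q + 1) * O.ncard := by
  classical
  have hq0 : 0 < q := q_pos hF
  obtain ⟨x₀, hx₀⟩ : ∃ x₀, hq q H₀ x₀ ≠ 0 := by
    by_contra hcon
    apply hne
    apply herm_eq_zero_of_hq hF H₀ (hO H₀ hH₀)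
    intro x
    by_contra hx
    exact hcon ⟨x, hx⟩
  set c := hq q H₀ x₀ with hc
  have hq_zero : ∀ H : Matrix (Fin m) (Fin m) F, hq q H 0 = 0 := by
    intro H
    unfold hq
    rw [Matrix.mulVec_zero, dotProduct_zero]
  have hq_zeroH : ∀ x : Fin m → F, hq q (0 : Matrix (Fin m) (Fin m) F) x = 0 := by
    intro x
    unfold hq
    rw [Matrix.zero_mulVec, dotProduct_zero]
  have hx₀ne : x₀ ≠ 0 := by
    rintro rfl
    exact hx₀ (hq_zero H₀)
  set K := q ^ (2 * (m - 1)) with hK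
  have hKpos : 0 < K := Nat.pos_of_ne_zero (pow_ne_zero _ hq0.ne')
  have hlow : ∀ x : Fin m → F, x ≠ 0 → K ≤ {H ∈ O | hq q H x = c}.ncard := by
    intro x hx
    rw [count_const hF hm O hcl c x x₀ hx hx₀ne]
    exact Cfsg.Agent.Helper44.U2.count_lower hF O hcl H₀ hH₀ x₀ c hx₀ rfl
  set OF : Finset (Matrix (Fin m) (Fin m) F) := O.toFinset with hOF
  have hOc : O.ncard = OF.card := Set.ncard_eq_toFinset_card' O
  set X : Finset (Fin m → F) := Finset.univ.filter (fun x => x ≠ 0) with hX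
  have hXc : X.card = q ^ (2 * m) - 1 := by
    rw [hX, Finset.filter_ne', Finset.card_erase_of_mem (Finset.mem_univ _), Finset.card_univ,
      Fintype.card_fun, hF, Fintype.card_fin, ← pow_mul]
  have hcomm : ∑ x ∈ X, ∑ H ∈ OF, (if hq q H x = c then 1 else 0) =
      ∑ H ∈ OF, ∑ x ∈ X, (if hq q H x = c then 1 else 0) := Finset.sum_comm
  have hL : X.card * K ≤ ∑ x ∈ X, ∑ H ∈ OF, (if hq q H x = c then 1 else 0) := by
    rw [← smul_eq_mul, ← Finset.sum_const]
    apply Finset.sum_le_sum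
    intro x hx
    have hx' : x ≠ 0 := by simpa [hX] using hx
    rw [← Finset.card_filter]
    refine le_trans (hlow x hx') (le_of_eq ?_)
    rw [← Set.ncard_coe_finset]
    congr 1
    ext H
    simp [hOF]
  have hR : ∑ H ∈ OF, ∑ x ∈ X, (if hq q H x = c then 1 else 0) ≤ OF.card * ((q + 1) * K) := by
    rw [← smul_eq_mul, ← Finset.sum_const]
    apply Finset.sum_le_sum
    intro H hH
    have hHO : H ∈ O := by simpa [hOF] using hH
    rw [← Finset.card_filter]
    by_cases hH0 : H = 0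
    · subst hH0
      have : X.filter (fun x => hq q (0 : Matrix (Fin m) (Fin m) F) x = c) = ∅ := by
        rw [Finset.filter_eq_empty_iff]
        intro x _ hxc
        rw [hq_zeroH] at hxc
        exact hx₀ hxc.symm
      rw [this]
      simp
    · refine le_trans ?_ (count_upper hF H (hO H hHO) hH0 c hx₀)
      rw [← Set.ncard_coe_finset]
      apply Set.ncard_le_ncard
      · intro x hx
        simp only [Finset.coe_filter] at hx
        exact hx.2
      · exact Set.toFinite _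
  have hfin : X.card * K ≤ OF.card * ((q + 1) * K) := by
    calc X.card * K ≤ _ := hL
      _ = _ := hcomm
      _ ≤ _ := hR
  rw [hXc, ← hOc] at hfin
  have : (q ^ (2 * m) - 1) * K ≤ ((q + 1) * O.ncard) * K := by
    calc (q ^ (2 * m) - 1) * K ≤ O.ncard * ((q + 1) * K) := hfin
      _ = ((q + 1) * O.ncard) * K := by ring
  exact Nat.le_of_mul_le_mul_right this hKpos

end CNT

end Cfsg.Agent.Helper25.U2
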