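import Mathlib
import Cfsg.Agent.Lib.Helper98.WR0

/-!
# WR server (helper98, S2347), piece W16: a nontrivial representation of minimal dimension is irreducible.
-/

set_option autoImplicit false
set_option linter.unusedSectionVars false
set_option linter.unusedVariables false
set_option linter.style.haveILetI false

namespace Cfsg.Agent.Helper25.WR

open Matrix Cfsg.Agent.Helper98.SPE Cfsg.Agent.Helper98.WR

universe u v

section GEN

/-- a nonzero subrepresentation has positive dimension -/
theorem w16_finrank_pos {G : Type u} [Group G] {V : Type v} [AddCommGroup V]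
    [Module ℂ V] [FiniteDimensional ℂ V] {ρ : Representation ℂ G V}
    (W : Subrepresentation ρ) (hW : W ≠ ⊥) :
    0 < Module.finrank ℂ ↥W.toSubmodule := by
  rw [Module.finrank_pos_iff, Submodule.nontrivial_iff_ne_bot]
  intro h0
  apply hW
  apply Subrepresentation.toSubmodule_injective
  exact h0

/-- piece W16 -/
theorem irreducible_of_min {G : Type u} [Group G] [Finite G] {V : Type v} [AddCommGroup V]
    [Module ℂ V] [FiniteDimensional ℂ V] (ρ : Representation ℂ G V) (hne : ∃ g : G, ρ g ≠ 1)
    (hmin : ∀ (W : Type v) [AddCommGroup W] [Module ℂ W] [FiniteDimensional ℂ W]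
      (σ : Representation ℂ G W), (∃ g : G, σ g ≠ 1) → Module.finrank ℂ V ≤ Module.finrank ℂ W) :
    ρ.IsIrreducible := by
  classical
  obtain ⟨g0, hg0⟩ := hne
  haveI : NeZero (Nat.card G : ℂ) := ⟨by exact_mod_cast (Nat.card_pos (α := G)).ne'⟩
  have hVnt : Nontrivial V := by
    by_contra hV
    rw [not_nontrivial_iff_subsingleton] at hV
    apply hg0
    exact Subsingleton.elim _ _
  have key : ∀ W : Subrepresentation ρ, W = ⊥ ∨ W = ⊤ := by
    intro W
    by_contra hcon
    push Not at hcon
    obtain ⟨hWb, hWt⟩ := hcon
    obtain ⟨W', hW'⟩ := exists_isCompl W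
    have hc : IsCompl W.toSubmodule W'.toSubmodule := by
      constructor
      · rw [disjoint_iff]
        exact congrArg Subrepresentation.toSubmodule hW'.inf_eq_bot
      · rw [codisjoint_iff]
        exact congrArg Subrepresentation.toSubmodule hW'.sup_eq_top
    have hsum := Submodule.finrank_add_eq_of_isCompl hc
    have hW'b : W' ≠ ⊥ := by
      intro h
      apply hWt
      have := hW'.sup_eq_top
      rwa [h, sup_bot_eq] at this
    have hWpos := w16_finrank_pos W hWb
    have hW'pos := w16_finrank_pos W' hW'b
    have htrivW : ∀ g, W.toRepresentation g = 1 := by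
      by_contra h
      push Not at h
      have := hmin ↥W.toSubmodule W.toRepresentation h
      omega
    have htrivW' : ∀ g, W'.toRepresentation g = 1 := by
      by_contra h
      push Not at h
      have := hmin ↥W'.toSubmodule W'.toRepresentation h
      omega
    apply hg0
    apply LinearMap.ext
    intro v
    have hv : v ∈ W.toSubmodule ⊔ W'.toSubmodule := by
      rw [hc.sup_eq_top]
      trivial
    obtain ⟨w, hw, w', hw', rfl⟩ := Submodule.mem_sup.mp hv
    have h1 : ρ g0 w = w := by
      have h : ((W.toRepresentation g0 ⟨w, hw⟩ : ↥W.toSubmodule) : V) = w := by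
        rw [htrivW g0]
        rfl
      exact h
    have h2 : ρ g0 w' = w' := by
      have h : ((W'.toRepresentation g0 ⟨w', hw'⟩ : ↥W'.toSubmodule) : V) = w' := by
        rw [htrivW' g0]
        rfl
      exact h
    rw [map_add, h1, h2]
    rfl
  haveI : Nontrivial (Subrepresentation ρ) := by
    refine ⟨⟨⊥, ⊤, ?_⟩⟩
    intro h
    obtain ⟨v, hv⟩ := exists_ne (0 : V)
    have : v ∈ (⊤ : Subrepresentation ρ) := trivial
    rw [← h] at this
    exact hv this
  exact ⟨key⟩

end GEN

end Cfsg.Agent.Helper25.WR
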