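import Mathlib
import Cfsg.Agent.Lib.Helper98.WR0

/-!
# WR server (helper98, S2347), piece W5: `2 * dim (odd functions) + 1 = q ^ n`.
-/

set_option autoImplicit false
set_option linter.unusedSectionVars false
set_option linter.unusedVariables false

namespace Cfsg.Agent.Helper25.WR

open Matrix Cfsg.Agent.Helper98.SPE Cfsg.Agent.Helper98.WR

universe u v

section WEYL

variable {F : Type*} [Field F] {n : ℕ} (ψ : AddChar F ℂ)

/-- `(2 : F) ≠ 0` in a finite field of odd order -/
theorem w5_two_ne_zero [Fintype F] (h : Odd (Fintype.card F)) : (2 : F) ≠ 0 := by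
  intro h2
  have h3 : ((2 : ℕ) : F) = 0 := by exact_mod_cast h2
  have h4 : ringChar F = 2 := CharP.ringChar_of_prime_eq_zero Nat.prime_two h3
  have h5 := FiniteField.even_card_iff_char_two.mp h4
  rcases h with ⟨k, hk⟩
  omega

variable [Fintype F]

/-- the projection `(1 - R)/2` onto the odd functions -/
theorem w5_isProj :
    LinearMap.IsProj (oddSub F n) ((1 / 2 : ℂ) • ((1 : Module.End ℂ ((Fin n → F) → ℂ)) - rOp F n)) := by
  constructor
  · intro f
    rw [mem_oddSub]
    intro x
    simp only [LinearMap.smul_apply, LinearMap.sub_apply, Module.End.one_apply, Pi.smul_apply,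
      Pi.sub_apply, rOp_apply, smul_eq_mul, neg_neg]
    ring
  · intro f hf
    rw [mem_oddSub] at hf
    funext x
    simp only [LinearMap.smul_apply, LinearMap.sub_apply, Module.End.one_apply, Pi.smul_apply,
      Pi.sub_apply, rOp_apply, smul_eq_mul, hf x]
    ring

/-- the trace of the reflection is the number of fixed points, `1` -/
theorem w5_trace_rOp (hodd : Odd (Fintype.card F)) :
    LinearMap.trace ℂ ((Fin n → F) → ℂ) (rOp F n) = 1 := by
  classical
  have h2 : (2 : F) ≠ 0 := w5_two_ne_zero hodd
  rw [LinearMap.trace_eq_matrix_trace ℂ (Pi.basisFun ℂ (Fin n → F)), Matrix.trace]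
  simp only [Matrix.diag_apply, LinearMap.toMatrix_apply, Pi.basisFun_apply, Pi.basisFun_repr,
    rOp_apply]
  rw [Finset.sum_eq_single (0 : Fin n → F)]
  · simp
  · intro x _ hx
    rw [Pi.single_apply, if_neg]
    intro h
    apply hx
    funext i
    have h3 : x i + x i = 0 := by
      have := congrFun h i
      simp only [Pi.neg_apply] at this
      linear_combination (-1 : F) * this
    have h4 : (2 : F) * x i = 0 := by rw [two_mul]; exact h3
    rcases mul_eq_zero.mp h4 with h5 | h5
    · exact absurd h5 h2
    · exact h5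
  · intro h
    exact absurd (Finset.mem_univ _) h

/-- piece W5 -/
theorem finrank_oddSub (hodd : Odd (Fintype.card F)) :
    2 * Module.finrank ℂ ↥(oddSub F n) + 1 = Fintype.card F ^ n := by
  classical
  have h1 := (w5_isProj (F := F) (n := n)).trace
  rw [map_smul, map_sub, w5_trace_rOp hodd, LinearMap.trace_one,
    Module.finrank_fintype_fun_eq_card, Fintype.card_fun, Fintype.card_fin] at h1
  have h2 : ((2 * Module.finrank ℂ ↥(oddSub F n) + 1 : ℕ) : ℂ) =
      ((Fintype.card F ^ n : ℕ) : ℂ) := by
    push_cast at h1 ⊢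
    rw [← h1]
    simp only [smul_eq_mul]
    ring
  exact_mod_cast h2

end WEYL

end Cfsg.Agent.Helper25.WR
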